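import Cfsg.Agent.CoThreeStd.OutAut

/-!
# Odd subgroups of the centralisers of involutions of `Aut(M₁₂)` (S1750; helper178)

`odd_cent`: a subgroup of odd order of `C(m)`, `m` an involution of `M₁₂`, normalised by `C(m)`, is trivial.
`odd_outer`: the same for the outer involutions `x ↦ m⁻¹ (alpha x) m`.  `fix_alpha`: the fixed points of `alpha`.
-/

set_option autoImplicit false

namespace Cfsg.Agent.CoThreeStd.OddCent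

open Cfsg.Agent.CoThreeStd.MTwelve hiding cj
open Cfsg.Agent.CoThreeStd.InvTwo Cfsg.Agent.CoThreeStd.OutAut
open Cfsg.Agent.CoThreeStd.DeltaData (mem_cbe cbe incS incS_pairwise be)
open Cfsg.Agent.SporRec.Co3 (P5)

/-- an element of a subgroup of odd order of `C` has order dividing the odd part of `|C|` -/
theorem pow_eq {X : Type*} [Group X] [Finite X] (Y C : Subgroup X) (hY : Odd (Nat.card Y)) (hYC : Y ≤ C)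
    (a o : ℕ) (hC : Nat.card C = 2 ^ a * o) {y : X} (hy : y ∈ Y) : y ^ o = 1 := by
  have h1 : orderOf y ∣ Nat.card Y := by
    have := orderOf_dvd_natCard (⟨y, hy⟩ : Y)
    rwa [Subgroup.orderOf_mk] at this
  have h2 : orderOf y ∣ 2 ^ a * o := by
    have := orderOf_dvd_natCard (⟨y, hYC hy⟩ : C)
    rwa [Subgroup.orderOf_mk, hC] at this
  have h3 : Nat.Coprime (orderOf y) (2 ^ a) := by
    apply Nat.Coprime.pow_right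
    exact (Nat.Coprime.coprime_dvd_left h1 hY.coprime_two_right)
  exact orderOf_dvd_iff_pow_eq_one.1 (h3.dvd_of_dvd_mul_left h2)

def g1 : P5 := Equiv.swap 2 3 * Equiv.swap 3 4
def g2 : P5 := Equiv.swap 1 2 * Equiv.swap 2 3
def g3 : P5 := Equiv.swap 1 2 * Equiv.swap 2 4

/-- the product has even order -/
def bad (σ g : P5) : Prop := (σ * (g * σ * g⁻¹)) ^ 15 ≠ 1 ∨ (σ * σ * (g * σ * g⁻¹)) ^ 15 ≠ 1

instance (σ g : P5) : Decidable (bad σ g) := by unfold bad; infer_instance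

set_option maxRecDepth 100000 in
theorem test_P5 : ∀ σ : P5, σ ^ 15 = 1 → σ ≠ 1 → bad σ g1 ∨ bad σ g2 ∨ bad σ g3 := by decide +kernel

theorem sign_g1 : Equiv.Perm.sign g1 = 1 := by decide +kernel
theorem sign_g2 : Equiv.Perm.sign g2 = 1 := by decide +kernel
theorem sign_g3 : Equiv.Perm.sign g3 = 1 := by decide +kernel
theorem sign_of_pow : ∀ σ : P5, σ ^ 15 = 1 → Equiv.Perm.sign σ = 1 := by
  intro σ h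
  have h1 : (Equiv.Perm.sign σ) ^ 15 = 1 := by rw [← map_pow, h, map_one]
  rcases Int.units_eq_one_or (Equiv.Perm.sign σ) with h2 | h2
  · exact h2
  · rw [h2] at h1
    exact absurd h1 (by decide)

theorem exists_bad (σ : P5) (h : σ ^ 15 = 1) (h1 : σ ≠ 1) : ∃ g, Equiv.Perm.sign g = 1 ∧ bad σ g := by
  rcases test_P5 σ h h1 with h2 | h2 | h2
  · exact ⟨g1, sign_g1, h2⟩
  · exact ⟨g2, sign_g2, h2⟩
  · exact ⟨g3, sign_g3, h2⟩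

/-- odd subgroups of `w(S₅)` normalised by `w(A₅)` -/
theorem eq_bot_of_w (Y : Subgroup H) (h : ∀ x ∈ Y, ∃ σ, x = w σ ∨ x = y * w σ) (he : ∀ x ∈ Y, x ^ 15 = 1)
    (hn : ∀ g : P5, Equiv.Perm.sign g = 1 → ∀ x ∈ Y, w g * x * (w g)⁻¹ ∈ Y) : Y = ⊥ := by
  rw [Subgroup.eq_bot_iff_forall]
  intro x hx
  by_contra hne
  obtain ⟨σ, hσ⟩ := h x hx
  have hx15 := he x hx
  have hxσ : x = w σ := by
    rcases hσ with hσ | hσ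
    · exact hσ
    · exfalso
      have h1 : Commute y (w σ) := y_comm σ
      rw [hσ, h1.mul_pow, ← map_pow] at hx15
      have h2 : y ^ 15 = y := by
        have : y ^ 15 = (y * y) ^ 7 * y := by rw [← pow_two, ← pow_mul, ← pow_succ]
        rw [this, y_sq, one_pow, one_mul]
      rw [h2] at hx15
      apply y_ne_w (σ ^ 15)⁻¹
      rw [map_inv]
      exact eq_inv_of_mul_eq_one_left hx15
  have hσ15 : σ ^ 15 = 1 := by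
    apply w_injective
    rw [map_pow, ← hxσ, hx15, map_one]
  have hσ1 : σ ≠ 1 := by
    rintro rfl
    exact hne (by rw [hxσ, map_one])
  obtain ⟨g, hg, hb⟩ := exists_bad σ hσ15 hσ1
  have h3 := hn g hg x hx
  rcases hb with hb | hb
  · apply hb
    apply w_injective
    have h4 := he _ (mul_mem hx h3)
    rw [map_pow, map_mul, map_mul, map_mul, map_inv, ← hxσ, map_one]
    exact h4
  · apply hb
    apply w_injective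
    have h4 := he _ (mul_mem (mul_mem hx hx) h3)
    rw [map_pow, map_mul, map_mul, map_mul, map_mul, map_inv, ← hxσ, map_one]
    exact h4

theorem odd_cent_y (Y : Subgroup H) (hY : Odd (Nat.card Y)) (hc : ∀ x ∈ Y, x * y = y * x)
    (hn : ∀ g, g * y = y * g → ∀ x ∈ Y, g * x * g⁻¹ ∈ Y) : Y = ⊥ := by
  have hYC : Y ≤ (Subgroup.centralizer {y} : Subgroup H) := by
    intro x hx
    rw [Subgroup.mem_centralizer_singleton_iff]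
    exact hc x hx
  apply eq_bot_of_w Y
  · intro x hx
    exact cent_y x (hc x hx)
  · intro x hx
    exact pow_eq Y _ hY hYC 4 15 (by rw [card_cent_y]; norm_num) hx
  · intro g _ x hx
    exact hn _ (y_comm g).symm x hx

/-- test on the centraliser of `be` -/
def testC (l : List ℕ) : Bool :=
  !(eqW (l ++ (l ++ l)) []) || eqW l [] ||
    !(eqW ((l ++ MTwelve.cj l [0, 5, 2, 4, 5]) ++ ((l ++ MTwelve.cj l [0, 5, 2, 4, 5]) ++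
      (l ++ MTwelve.cj l [0, 5, 2, 4, 5]))) [])

set_option maxRecDepth 100000 in
theorem testC_all : cbe.all testC = true := by decide +kernel

theorem wd_c : wd [0, 5, 2, 4, 5] * (p * r) = (p * r) * wd [0, 5, 2, 4, 5] := by
  have := wd_eq (l := [0, 5, 2, 4, 5] ++ [1, 3]) (l' := [1, 3] ++ [0, 5, 2, 4, 5]) (by decide +kernel)
  rwa [wd_append, wd_append, wd_pr] at this

theorem pow_three (x : H) : x ^ 3 = x * (x * x) := by rw [pow_succ', pow_two]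

theorem odd_cent_pr (Y : Subgroup H) (hY : Odd (Nat.card Y)) (hc : ∀ x ∈ Y, x * (p * r) = (p * r) * x)
    (hn : ∀ g, g * (p * r) = (p * r) * g → ∀ x ∈ Y, g * x * g⁻¹ ∈ Y) : Y = ⊥ := by
  have hYC : Y ≤ (Subgroup.centralizer {p * r} : Subgroup H) := by
    intro x hx
    rw [Subgroup.mem_centralizer_singleton_iff]
    exact hc x hx
  have he : ∀ x ∈ Y, x ^ 3 = 1 := fun x hx => pow_eq Y _ hY hYC 6 3 (by rw [card_cent_v]; norm_num) hx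
  rw [Subgroup.eq_bot_iff_forall]
  intro x hx
  by_contra hne
  have hx3 := he x hx
  obtain ⟨l, hl, rfl⟩ := mem_cbe x (by rw [be, wd_pr]; exact hc _ hx)
  have h3 := List.all_eq_true.mp testC_all l hl
  rw [testC, Bool.or_eq_true, Bool.or_eq_true] at h3
  rcases h3 with (h3 | h3) | h3
  · have h4 : eqW (l ++ (l ++ l)) [] = true := by
      apply eqW_of_wd
      rw [wd_append, wd_append, ← pow_three, hx3, wd_nil]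
    rw [h4] at h3
    exact Bool.noConfusion h3
  · exact hne (by rw [wd_eq h3, wd_nil])
  · obtain ⟨k, hk⟩ : ∃ k, k = wd [0, 5, 2, 4, 5] := ⟨_, rfl⟩
    have hkc : k⁻¹ * (p * r) = (p * r) * k⁻¹ := by
      have h5 := wd_c
      rw [← hk] at h5
      calc k⁻¹ * (p * r) = k⁻¹ * ((p * r) * k) * k⁻¹ := by group
        _ = k⁻¹ * (k * (p * r)) * k⁻¹ := by rw [h5]
        _ = _ := by group
    have h6 := hn k⁻¹ hkc _ hx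
    rw [inv_inv] at h6
    have h7 := he _ (mul_mem hx h6)
    have h4 : eqW ((l ++ MTwelve.cj l [0, 5, 2, 4, 5]) ++ ((l ++ MTwelve.cj l [0, 5, 2, 4, 5]) ++
      (l ++ MTwelve.cj l [0, 5, 2, 4, 5]))) [] = true := by
      apply eqW_of_wd
      have h8 : wd (l ++ MTwelve.cj l [0, 5, 2, 4, 5]) = wd l * (k⁻¹ * wd l * k) := by
        rw [wd_append, wd_cj, ← hk]
      rw [wd_append, wd_append (l ++ MTwelve.cj l [0, 5, 2, 4, 5]), h8, ← pow_three, h7, wd_nil]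
    rw [h4] at h3
    exact Bool.noConfusion h3

/-- transport by conjugation -/
theorem odd_conj {m : H} (k : H) (h : ∀ Y : Subgroup H, Odd (Nat.card Y) → (∀ x ∈ Y, x * m = m * x) →
    (∀ g, g * m = m * g → ∀ x ∈ Y, g * x * g⁻¹ ∈ Y) → Y = ⊥)
    (Y : Subgroup H) (hY : Odd (Nat.card Y)) (hc : ∀ x ∈ Y, x * (k⁻¹ * m * k) = (k⁻¹ * m * k) * x)
    (hn : ∀ g, g * (k⁻¹ * m * k) = (k⁻¹ * m * k) * g → ∀ x ∈ Y, g * x * g⁻¹ ∈ Y) : Y = ⊥ := by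
  have h1 : Y.map (MulAut.conj k).toMonoidHom = ⊥ := by
    apply h
    · rwa [Subgroup.card_map_of_injective (MulAut.conj k).injective]
    · rintro _ ⟨x, hx, rfl⟩
      have h2 := hc x hx
      show k * x * k⁻¹ * m = m * (k * x * k⁻¹)
      calc k * x * k⁻¹ * m = k * (x * (k⁻¹ * m * k)) * k⁻¹ := by group
        _ = k * ((k⁻¹ * m * k) * x) * k⁻¹ := by rw [h2]
        _ = _ := by group
    · rintro g hg _ ⟨x, hx, rfl⟩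
      have h3 : (k⁻¹ * g * k) * (k⁻¹ * m * k) = (k⁻¹ * m * k) * (k⁻¹ * g * k) := by
        calc (k⁻¹ * g * k) * (k⁻¹ * m * k) = k⁻¹ * (g * m) * k := by group
          _ = k⁻¹ * (m * g) * k := by rw [hg]
          _ = _ := by group
      refine ⟨_, hn _ h3 x hx, ?_⟩
      show k * ((k⁻¹ * g * k) * x * (k⁻¹ * g * k)⁻¹) * k⁻¹ = g * (k * x * k⁻¹) * g⁻¹
      group
  exact (Subgroup.map_eq_bot_iff_of_injective Y (MulAut.conj k).injective).1 h1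

/-- **Odd subgroups of `C(m)` normalised by `C(m)` are trivial.** -/
theorem odd_cent {m : H} (h1 : m * m = 1) (h2 : m ≠ 1) (Y : Subgroup H) (hY : Odd (Nat.card Y))
    (hc : ∀ x ∈ Y, x * m = m * x) (hn : ∀ g, g * m = m * g → ∀ x ∈ Y, g * x * g⁻¹ ∈ Y) : Y = ⊥ := by
  rcases inv2.cases m h1 h2 with ⟨k, rfl⟩ | ⟨k, rfl⟩
  · exact odd_conj k odd_cent_y Y hY hc hn
  · exact odd_conj k odd_cent_pr Y hY hc hn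

/-! ### the fixed points of `alpha` -/

/-- representatives of the outer involutions -/
def wordsO : List (List ℕ) :=
  [[], [1,5,0,1,3,5,1,3], [5,0,2,4,5,1], [1,5,0,1,3,5,2,4], [5,0,2,4,5,4], [5,0,1,3,5,2], [5,1,5,2,3,5,2],
  [5,1,3,5,1,2], [5,0,2,3], [5,0,2,1,3,4], [5,0,3,5,1,5,2], [5,0,2,1,5,4,3], [1,5,0,1,2,5,1,5], [5,0,2,3,5,1,3,2],
  [5,0,2,5,0], [5,0,1,3,5,1,5], [5,2,3,5,1], [5,0,1,2,5,2], [5,0,4,3,2,5,0], [5,1,5,0,2], [5,0,2,3,5,2],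
  [1,5,0,4,3,5,4], [5,0,3,5,0,5], [5,0,4,5,3], [5,2,1,3,2], [5,1,2,1,3,5,4], [5,0,3,4,3,2], [5,1,5,0,5,4],
  [5,4,5,0,1,5,3], [5,3,2,4,3,5], [1,5,0,5,0,3,5], [5,1,4], [1,5,4,5,0,5,3], [5,0,1,3,2,1], [5,0,3,4,5,2],
  [5,1,3,5,3,2], [1,5,0,5,0,2], [5,0,5,0,2,5,3], [1,5,1,5,0,5], [1,5,2,1,4,5,2], [5,2,4,5,0,2], [5,0,4,3,2,1],
  [5,1,2,4,5,4,3], [5,0,3,5,2,3], [1,5,0,4,3,5,1], [1,5,1,5,4,5,4], [5,3,2,5,3], [5,0,3,2,1,4,5], [5,0,1,2,5,1,3],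
  [5,0,2,5,0,5,3], [5,1,4,5], [1,5,4,5,0], [5,0,3,2,5], [5,0,2,5,3,2,5], [5,4,5,0,3,5], [5,0,1,2,1,3,5], [5],
  [1,5,1,3,5,0,1,3], [5,3,2,5,4,5], [5,0,1,3,2,4], [5,0,1,2,4,5,3], [5,1,3,2,1,5,4], [5,0,1,4,3,5,0], [5,1,4,5,1,4],
  [5,2,3,2,5,2], [5,4,5,1,5,0], [1], [1,5,0,1,3,5,3], [5,0,1,3,4,3,5], [5,0,1,3,5], [1,5,0,2,4,5,3], [5,0,2,4,5,1,3],
  [1,5,0,4,3,5,4,5], [5,0,3,2,5,2,4,3], [5,0,3,5,1], [5,0,3,5,4], [5,0,4,5,0,5], [5,0,5,4,5,1,3], [5,2,4,5,0,4,3],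
  [5,4,5,0,3,5,3], [5,3,2,4], [5,1,3,4,5,1,2], [5,3,2,1], [1,5,2,1,4,5,4,3], [1,5,0,5,3,4], [1,5,3,4,3,2,5],
  [5,4,5,0,5,0], [5,1,2,3], [1,5,1,3,4,5,3], [5,1,3,5,3,4], [5,0,1,2,3,5], [5,0,2,5,0,5], [1,5,4,5,3],
  [5,0,5,2,1,5,4], [1,5,4,5,1,5,0], [5,1,5,3,2], [5,0,5,4,5,2], [1,5,2,3,4,3,5], [5,0,1,2,4,5,1], [5,0,1,5,3,4],
  [1,5,1,5,4], [5,1,5,4,5,1], [1,5,1,4,3,5,2], [5,4,5,1,3], [1,5,0,3,2,5], [1,5,0,5,1,5], [5,0,2,5,2],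
  [5,0,2,1,3,4,5], [1,5,0,5,1,3], [5,1,2,1,3,5], [1,5,4,5,0,1,5,2], [5,1,5,0,4,5,2], [5,1,3,5,1,3], [5,1,2,1,3,4],
  [5,1,5,2,3,5], [1,5,0,2,1,5], [1,5,2,4,5,2], [5,2,1,4,5,1], [5,0,4], [5,2,1,3,4,3], [1,5,0,5,1,5,3], [5,1,3,2,1,5],
  [5,0,1,5,1,3], [1,5,1,5,1], [5,2,4,3,2,5], [5,1,5,4,5,4], [5,0,5,0,2,5], [5,0,1], [5,2,4,3], [5,0,5,1,2,5,4],
  [5,2,1,4,5,4], [1,5,0,5,1,3,5,3], [5,4,5,3,2,5,3], [5,2,4,5,4,3], [5,0,2,3,5,0,5], [5,0,3,2,1], [1,5,0,3,2,5,0,5],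
  [5,0,3,2,4], [5,1,3,4,3,5,2], [5,0,1,2,5,1,5], [5,0,5,1,5,2], [5,0,1,5,0,5,4], [5,0,2,5], [1,5,2,3,5],
  [5,0,1,3,5,3], [5,0,5,1,4,5], [5,0,2,5,1,3], [1,5,0,2,5,3], [5,1,2,3,5,0], [5,1,2,3,5], [5,1,4,3,5],
  [5,0,5,4,5,1,4], [5,3,2,4,5,1], [5,0,3,4,3], [5,1,5], [1,5,1], [1,5,0,5,1,3,5], [1,5,0,4,3,5,2], [1,5,3,4],
  [5,0,4,5,0], [5,2,3,2,1], [5,0,2,5,4,5,0], [5,1,3,5,0], [5,1,5,1,4,5,4], [1,5,0,2,1,4,5], [5,0,2,5,3,2],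
  [5,0,2,1,4], [1,5,1,3,2], [5,0,5,2,4,5], [5,0,1,2,5,3], [1,5,1,3], [5,2,3,2,4], [1,5,2,1,4,5], [5,4,5,2,4],
  [5,1,4,3,5,1], [5,1,5,1,4], [5,0,1,4,3], [1,5,4], [5,0,5,4,5], [1,5,1,2,3], [5,0,3,2,4,5], [5,2,1,3,2,1],
  [5,0,3,2,5,2], [1,5,0,1,2], [5,0,2,1,5,1,4], [1,5,4,5,0,5], [5,1,3,5,0,1], [5,4,5,0,1,5], [5,4,5,0,3],
  [1,5,1,3,2,1,4], [5,0,2], [5,1,5,1,4,5,1], [1,5,0,2,1,3,5], [5,2,1,3,2,4], [5,0,2,1,5], [5,1,2,1,4,5],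
  [1,5,0,1,2,1,4], [5,4,5,0,5,1], [5,0,4,3,5,4,5], [5,1,2,1,4,5,3], [1,5,0,5,4,5,3], [1,5,0,3,5], [5,0,4,3,5,1,3],
  [5,3,2,5], [5,1,5,0,2,5,2], [5,1,3,5,0,1,2], [5,0,3,5,1,5,0,2], [5,0,1,2,1,3,5,2], [5,2,1,3,4], [5,2,3],
  [5,0,2,3,2,5], [5,0,1,3,5,1,3], [5,0,3,5,0,2], [1,5,1,2,3,2], [5,0,3,5,2], [5,4,3,2,5,1], [5,0,5,2,4,5,4],
  [5,0,5,2,1,5,3], [1,5,0,5], [5,0,3,5,1,5,1], [1,5,0,2], [5,0,1,5,1], [1,5,1,2,4,5], [5,4,5,0,4], [5,1,2,1,4],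
  [5,0,1,2,5,1], [1,5,0], [5,2,1,3,5,0], [5,0,2,3,5,1,2], [5,0,3,2,4,3], [5,0,2,3,5,3], [1,5,3,4,3], [5,0,3,4,5,0,1],
  [1,5,1,5,0,4,5,3], [5,0,4,5,1,5], [5,0,1,2,5,4], [5,1,2], [5,4,5,0,1], [1,5,0,3,4,3,2], [1,5,0,1,4],
  [5,0,5,2,4,5,1], [5,0,5,4,5,2,1], [1,5,0,2,1,4], [5,0,1,5,4], [5,0,2,3,2], [5,0,3,5,1,5,4], [5,2,4,5],
  [1,5,2,4,3,2,5], [5,1,5,0,4,5], [5,1,5,2,4], [1,5,0,2,1,4,3], [5,3,4], [5,0,3,2,4,5,1], [1,5,0,5,3], [5,4,5,0,5,3],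
  [5,1,5,0,5,0], [5,1,3,4,3,5], [1,5,1,4,3], [5,2,4,5,4], [1,5,0,1,3,4,5], [5,0,4,3,5,2,3], [1,5,1,5,2], [5,1,3],
  [5,0,5,1,2,3], [5,1,4,5,4], [5,2,3,4,3,5], [1,5,0,5,4,5,2,3], [1,5,1,5,0,4], [5,0,2,3,5,4], [5,0,4,3,5,2],
  [5,0,1,4], [5,0,5,4,3,5], [5,1,3,4,5], [5,0,5,0,3,5], [1,5,1,3,5,3,4], [5,1,3,2,1], [5,0,2,3,5,0,3],
  [1,5,1,5,0,5,4], [5,0,2,1,3,5,4], [5,3,2,4,3], [1,5,0,3,4,3], [5,0,3,4,5,1], [1,5,4,5,0,1,5], [1,5,4,5,1,3],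
  [5,1,3,5], [1,5,0,1,3,2], [5,2,1,4], [5,0,1,2,3,5,3], [5,0,2,5,4,5,3], [1,5,0,3,2,5,4], [5,0,5,1,2],
  [1,5,0,2,3,5,3], [5,2,4], [5,1,4,5,1,5], [1,5,0,2,1], [5,0,1,2,1,4,5], [1,5,4,5,0,4], [1,5,4,5,4], [1,5,2,1],
  [1,5,0,2,4,5,1], [5,1,5,1,4,5], [5,3,2], [1,5,0,5,1,5,4], [1,5,0,1,3,2,4], [5,0,1,5,2], [1,5,2,1,3,4],
  [5,0,4,3,5,3], [5,0,3,4,5,0], [1,5,4,3], [5,2,3,5], [5,2,1,3,2,5], [5,0,1,2,3,4], [5,0,1,3,4,3], [1,5,0,3,4,5],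
  [5,0,5,1,5,1,4], [1,5,2,4,5,0], [5,0,5,0,1], [5,4,5,1,4], [1,5,0,3,5,2], [1,5,0,5,1,5,3,2], [5,1,2,3,2,5],
  [5,0,5,0,2], [5,0,5,2,1,4], [5,2,4,3,2], [5,0,5,4,5,1], [5,1,5,1], [1,5,0,2,1,5,4], [1,5,1,3,5,0], [5,0,1,2,1],
  [5,0,5,0], [5,1], [1,5,0,5,0,2,5], [1,5,1,5,0,5,2,4], [5,0,2,4,3], [1,5,3,2,4,3,5], [5,0,1,2,3,2,5], [1,5,2,3,2,5],
  [5,4,5,1,5], [5,2,3,4,3,5,1], [1,5,4,5,1,4], [5,0,1,4,3,5], [5,0,5,1,5,3,4], [1,5,1,5,0,4,5], [5,1,5,2,3],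
  [5,0,1,3], [5,2,4,5,0,4], [1,5,2,3,4,3], [5,0,5,4,5,2,3], [5,0,3,2,5,2,4], [5,4,5,0,1,5,2], [1,5,0,5,2,1],
  [1,5,1,2,1,4], [1,5,0,3,2,4,5], [5,0,2,1,5,0], [1,5,0,1,2,4,5], [5,0,2,3,4], [1,5,0,4,3,5,1,4], [1,5,2,1,3,4,3],
  [5,0,5,4,3], [5,0,3,5,3], [5,1,2,1], [5,0,5], [1,5,1,3,5], [5,0,3,4,3,2,5], [5,1,5,0,1], [5,0,4,3,5,1],
  [5,0,5,1,5,2,4], [5,0,2,1,5,4], [1,5,0,1,2,4], [1,5,3,2,5], [5,2,4,5,2,1], [5,3,4,3,2,1], [1,5,1,3,4,5,1,2],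
  [1,5,1,5,4,5], [5,0,1,3,4], [5,1,4,5,4,5], [1,5,3,2,1,4], [1,5,1,2,1,4,5], [5,0,2,5,0,3], [5,2,4,3,2,5,1],
  [5,0,5,3,4], [5,0,1,2,4,5,0], [5,1,2,3,2,1], [5,0,5,0,1,3], [5,4,5,0], [5,0,1,2,5], [1,5,1,3,5,0,1,5], [5,0,5,4],
  [1,5,2,4,5,4], [5,4,3], [1,5,3], [5,0,1,3,5,1], [1,5,1,5,1,4], [1,5,0,3], [5,2,3,2,5,3], [1,5,0,1,3,5],
  [5,4,5,0,5], [1,5,1,4,5,4,5], [5,0,1,2,3], [5,3,2,1,4,3], [1,5,1,3,5,3,2], [5,3,4,3,2,5], [5,1,5,2], [5,0,3,5,4,5],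
  [1,5,0,4,5], [5,0,4,3,2,5], [5,0,5,3,4,5], [5,0,2,4,3,5], [1,5,0,5,0], [5,0,4,3,5,2,4], [1,5,2], [5,0,5,1,3,5,4],
  [1,5,1,3,4,5,4], [5,0,1,5,0,1], [1,5,0,1], [5,3,4,3], [5,0,4,3,5,1,4], [5,1,5,0], [1,5,1,2,1,3,2], [5,0,1,5,4,5],
  [5,4,5,2], [1,5,0,2,4,5,1,3], [5,0,5,2,1], [1,5,0,1,2,1,4,5], [5,0,5,0,2,1], [5,0,4,5,1], [1,5,3,2,4,3,2],
  [5,0,1,3,2], [5,0,3,2,1,5,2], [1,5,2,4,5,0,2,4], [5,0,4,5,1,5,3], [1,5,1,4,5,1], [1,5,1,3,5,0,3], [5,0,2,1,5,3],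
  [5,0,2,1,4,3], [5,3,2,4,5,0], [5,2,3,2,5,0], [5,0,1,2,3,5,2], [5,1,2,3,5,4], [1,5,2,1,4,5,1], [5,0,2,3,5,0],
  [5,2,3,4,3,2], [5,1,5,4,5,0], [5,0,2,5,4,5,1], [5,3], [5,0,3,2,5,0,5], [1,5,0,3,2,5,0,2], [5,1,4,5,4,5,1],
  [1,5,0,3,2], [1,5,0,2,3,5], [5,0,2,5,1], [5,0,4,5,0,5,1], [5,1,3,5,3], [5,1,2,1,3], [5,0,3,2,1,5,1],
  [1,5,0,1,3,4,3], [5,2,3,4], [1,5,2,1,4,3,2], [5,0,3,5,0,3], [1,5,3,2,1], [5,4,5,1,4,5,4], [5,0,5,3,4,5,1], [5,4],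
  [5,2,3,2,4,5], [5,1,5,0,2,5], [5,0,2,1,5,1,3], [1,5,2,4,5,0,2], [5,2,1,4,3,2], [5,0,1,5,3], [5,0,2,5,1,5,3],
  [5,1,2,3,2,5,4], [1,5,4,5], [5,0,5,1,5,1,3], [5,0,3,2,5,0], [5,0,1,3,4,5], [5,1,5,0,2,4], [5,2,4,5,0],
  [1,5,2,1,4,3], [5,0,3,4], [5,4,5,1,4,5], [5,0,3,2,5,0,2], [1,5,4,5,0,5,0], [5,0,2,1,3,5], [5,1,5,0,5,2,4],
  [1,5,0,5,2,4], [1,5,1,2], [5,2,1,4,5,4,3], [1,5,0,2,3,5,0], [5,0,3], [1,5,0,3,2,5,2], [1,5,3,2], [5,1,3,4,5,1,3],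
  [5,0,1,5,0,5], [1,5,0,1,2,1], [5,0,2,1,5,1], [5,0,3,5], [5,4,3,2], [5,2,4,5,2,4], [5,0,1,2,5,1,4], [5,1,5,1,3,5],
  [5,2,3,2,1,5], [1,5,2,4,5], [5,0,5,1], [5,1,3,4,3], [5,0,4,3,2,5,2], [5,0,2,1,3], [1,5,0,4,3,5], [1,5,2,4,3],
  [5,4,5,2,3], [1,5,0,3,2,4], [1,5,1,3,4], [5,0,1,3,5,4], [1,5,1,5], [1,5,1,5,0], [1,5,0,1,3,4,3,5], [1,5,0,1,3,4],
  [5,1,2,4], [1,5,1,5,0,5,2], [1,5,1,3,5,1], [5,0,5,1,4], [5,0,4,3,5,4], [5,1,5,0,4], [5,0,2,5,3], [5,0,1,2,4,5],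
  [5,0,3,5,2,3,5], [5,0,5,0,3,4], [1,5,4,3,2,5], [5,0,5,1,3], [5,1,4,5,1], [1,5,1,3,2,1,5], [1,5,1,5,0,1],
  [1,5,4,5,1,4,5], [1,5,0,1,2,5,3], [5,0,2,3,5,1], [5,0], [5,4,5,3,2,5], [5,1,3,2,4], [1,5,1,3,5,1,3],
  [1,5,0,3,4,5,1], [5,1,3,4,5,1,4], [5,0,2,3,5,1,3], [5,1,5,0,5], [5,0,2,1,3,5,1], [5,0,3,2,1,5], [1,5,0,5,0,3],
  [1,5,0,1,4,3], [5,0,2,1,4,5], [5,4,5,3], [5,2], [1,5,0,1,4,3,5], [5,1,3,5,1], [1,5,1,3,2,4,3], [5,0,2,4,5,4,5],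
  [1,5,1,3,4,3], [5,1,3,5,0,1,5], [1,5,0,2,5], [5,0,1,2,1,3], [5,1,3,5,0,3], [5,0,5,1,5,3,2], [5,3,2,1,4],
  [5,0,5,2,1,5], [1,5,2,3], [5,0,5,4,3,2], [5,2,3,5,2], [5,0,3,5,2,4], [1,5,1,5,1,4,5], [5,0,1,4,3,5,4],
  [5,0,2,4,3,2], [5,0,5,2], [1,5,2,1,3,2], [5,0,3,4,5,1,2], [5,0,1,3,2,5], [5,2,1], [5,2,1,4,5,2,4], [1,5,1,3,4,3,5],
  [1,5,0,2,1,3], [5,1,5,4], [5,0,5,4,5,4], [5,0,5,1,2,5], [1,5,2,3,2], [1,5,1,3,5,0,1], [5,0,1,2,4], [1,5,0,2,4],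
  [5,0,2,4,5], [1,5,4,5,0,1], [1,5,4,5,1], [1,5,0,2,4,5,4], [1,5,2,4], [5,0,4,3], [5,0,5,0,4], [1,5,2,4,5,0,4],
  [5,4,5], [5,0,5,4,3,5,1], [5,0,5,1,5], [5,4,5,0,1,3], [5,0,2,5,0,5,1], [1,5,0,3,2,5,0], [5,0,1,5,2,1],
  [5,1,3,5,3,2,5], [1,5,0,1,2,5], [1,5,1,5,0,5,0], [1,5,1,4,5,1,5], [5,4,3,2,1], [1,5,0,5,2], [5,2,4,5,2],
  [5,0,5,0,3,5,2], [1,5,1,4], [5,4,5,1], [5,1,2,4,5], [5,0,5,1,5,4], [5,0,1,2], [1,5,3,4,3,2], [1,5,0,5,1],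
  [5,0,5,1,5,3], [1,5,0,1,3], [5,0,5,1,3,5], [5,0,4,5,1,4], [1,5,0,2,1,5,3], [5,3,2,4,5], [5,2,1,4,5], [5,2,1,4,3],
  [1,5,1,3,5,3], [5,2,3,2,5], [1,5,0,1,2,3,5], [5,4,3,2,5,0], [5,0,3,5,1,5], [5,0,3,2,5,1], [5,0,1,2,3,2],
  [5,4,5,1,5,1], [1,5,1,3,4,5], [5,0,3,2], [1,5,1,3,2,4], [1,5,0,1,5], [1,5,1,2,3,2,5], [5,0,5,1,2,1],
  [1,5,0,1,2,5,4], [5,0,1,5,1,4], [5,0,1,3,5,2,4], [1,5,0,1,3,5,4], [1,5,3,2,4,3], [5,0,5,1,3,4], [5,1,5,1,3],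
  [1,5,2,4,5,2,1], [5,1,3,2,1,4], [1,5,0,4,3,2,5], [5,0,3,5,3,2], [5,1,3,4,5,1], [1,5,4,3,2], [5,0,2,1],
  [5,0,3,4,3,2,5,3], [5,1,4,5,1,5,4], [1,5,2,1,3], [5,0,3,2,5,3], [1,5,0,2,3,5,1,3], [5,3,2,5,4], [5,0,1,2,5,2,4],
  [1,5,2,4,5,2,3], [5,3,2,4,3,2], [5,0,2,1,5,0,4], [1,5,1,2,4], [1,5,4,5,0,5,1], [5,0,1,3,4,5,2], [5,2,3,2,4,3],
  [5,1,3,5,0,1,3], [1,5,1,2,1,3,5], [5,1,2,1,3,2], [1,5,1,5,2,4], [5,0,3,5,0,5,4], [5,0,3,5,1,3], [1,5,0,2,3,5,1],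
  [1,5,1,2,4,5,3], [1,5,0,5,4,5,1], [5,2,3,2], [1,5,2,1,4], [5,0,5,1,3,5,1], [5,1,5,3], [1,5,1,3,4,5,1],
  [5,0,1,4,3,5,2], [1,5,0,4], [5,1,5,0,1,4], [5,0,4,3,5], [5,1,4,3], [1,5,1,4,3,5], [1,5,0,1,2,3], [1,5,2,4,3,2],
  [1,5,2,1,4,5,4], [5,1,5,4,5], [5,0,2,3,5], [5,0,2,5,4,5,4], [1,5,1,2,3,5], [1,5,2,1,3,2,5], [5,0,2,3,4,3],
  [5,2,3,5,1,5], [5,0,1,5,4,5,2], [1,5,1,4,5], [1,5,0,1,2,1,3], [5,0,2,5,4], [5,0,5,4,5,3], [5,1,2,3,4],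
  [5,0,5,2,4,5,2], [1,5,0,4,3], [5,0,3,4,5], [1,5,0,4,3,2], [5,0,2,4,3,2,5], [5,1,3,2,4,3], [5,2,4,5,2,3],
  [1,5,1,4,5,4], [5,0,4,3,2,5,3], [5,0,3,5,4,3], [5,0,2,4,5,3], [5,0,5,0,2,4], [5,0,4,5,4], [1,5,0,2,4,5],
  [5,0,5,2,4], [5,2,1,3], [1,5,0,2,4,3], [1,5,4,5,2], [5,1,5,0,2,4,5], [1,5,3,2,4], [1,5,0,5,4,5], [5,1,3,4],
  [1,5,0,2,3,5,0,5], [5,0,5,3,4,3], [5,1,3,4,5,3], [1,5,0,3,2,5,2,4], [1,5,1,5,4,5,0], [5,4,5,3,2], [5,0,2,5,1,5],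
  [1,5,1,5,3], [5,0,1,2,3,5,0], [1,5,0,1,2,5,1,4], [1,5,4,5,1,5], [5,1,5,0,4,5,3], [5,0,2,1,4,5,3], [5,0,2,1,3,2],
  [5,0,5,1,3,5,3], [5,3,4,3,2], [5,3,4,3,2,5,1], [1,5], [5,0,1,2,1,4], [5,0,5,1,5,1], [5,2,1,3,5], [5,4,5,4],
  [5,1,2,4,5,4], [1,5,0,5,4], [1,5,0,3,4], [1,5,0,5,4,5,2], [1,5,0,5,2,4,5], [5,0,2,5,4,5], [5,0,4,5],
  [1,5,2,4,5,2,4], [5,1,3,4,5,4], [5,2,1,3,5,4], [5,1,3,2], [5,0,2,5,2,3], [5,1,2,4,5,3], [5,0,1,5], [1,5,0,1,3,5,2],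
  [5,0,5,3], [5,0,5,0,3], [1,5,0,1,3,5,1], [5,0,1,5,0], [5,0,2,4], [5,0,2,5,4,5,0,3], [1,5,0,2,3,5,0,3], [1,5,2,3,4],
  [5,2,1,4,5,2], [1,5,4,5,1,5,1], [5,4,3,2,5], [1,5,0,3,4,5,2], [5,0,3,2,5,4], [5,4,5,1,5,4], [5,1,2,3,2],
  [5,0,3,5,1,5,0], [1,5,1,2,1,3], [5,2,3,4,3], [5,2,1,4,5,1,4], [5,1,4,3,5,2], [1,5,0,5,2,4,5,2], [1,5,0,1,5,3],
  [5,0,3,5,0], [1,5,0,5,1,5,2], [5,0,4,3,2], [5,2,4,5,0,2,4], [1,5,1,2,1], [5,1,5,0,5,2], [5,0,3,2,1,4],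
  [1,5,1,3,2,1], [5,0,2,5,2,4], [1,5,0,2,3], [1,5,0,1,2,5,1], [5,0,1,2,5,3,2]]

/-- the word of `(alpha n)⁻¹ n` -/
def tw (n : List ℕ) : List ℕ := (aw n).reverse ++ n

theorem wd_tw (n : List ℕ) : wd (tw n) = (alpha (wd n))⁻¹ * wd n := by
  rw [tw, wd_append, ← wd_reverse, ← alpha_wd]

set_option maxRecDepth 100000 in
theorem incO : incS 0 (wordsO.map tw) = true := by decide +kernel

theorem lenO : (wordsO.map tw).length = 792 := by decide +kernel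

/-- the fixed points -/
def F : Subgroup H where
  carrier := {x | alpha x = x}
  one_mem' := map_one _
  mul_mem' := by
    intro a b ha hb
    show alpha (a * b) = a * b
    rw [map_mul, ha, hb]
  inv_mem' := by
    intro a ha
    show alpha a⁻¹ = a⁻¹
    rw [map_inv, ha]

theorem mem_F {x : H} : x ∈ F ↔ alpha x = x := Iff.rfl

theorem card_T_le : Nat.card {m : H // ∃ n, m = (alpha n)⁻¹ * n} ≤ F.index := by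
  rw [Subgroup.index_eq_card]
  have : Finite (H ⧸ F) := inferInstance
  let φ : (H ⧸ F) → {m : H // ∃ n, m = (alpha n)⁻¹ * n} := fun c =>
    Quotient.liftOn' c (fun g => ⟨alpha g * g⁻¹, g⁻¹, by rw [map_inv, inv_inv]⟩) (by
      intro a b hab
      rw [QuotientGroup.leftRel_apply] at hab
      have h1 : alpha (a⁻¹ * b) = a⁻¹ * b := hab
      apply Subtype.ext
      show alpha a * a⁻¹ = alpha b * b⁻¹
      have h2 : b = a * (a⁻¹ * b) := by group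
      rw [h2, map_mul, h1]
      group)
  apply Nat.card_le_card_of_surjective φ
  rintro ⟨_, n, rfl⟩
  refine ⟨QuotientGroup.mk n⁻¹, ?_⟩
  apply Subtype.ext
  show alpha n⁻¹ * n⁻¹⁻¹ = _
  rw [map_inv, inv_inv]

theorem le_card_T : 792 ≤ Nat.card {m : H // ∃ n, m = (alpha n)⁻¹ * n} := by
  have hp := List.pairwise_iff_getElem.mp (incS_pairwise incO)
  have hm : ∀ l ∈ wordsO.map tw, ∃ n, wd l = (alpha n)⁻¹ * n := by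
    intro l hl
    obtain ⟨n, -, rfl⟩ := List.mem_map.mp hl
    exact ⟨wd n, wd_tw n⟩
  let f : Fin (wordsO.map tw).length → {m : H // ∃ n, m = (alpha n)⁻¹ * n} :=
    fun i => ⟨wd (wordsO.map tw)[i.1], hm _ (List.getElem_mem i.2)⟩
  have hinj : Function.Injective f := by
    intro i j hij
    have h4 : wd (wordsO.map tw)[i.1] = wd (wordsO.map tw)[j.1] := congrArg Subtype.val hij
    have h5 := sig_eq h4 24 le_rfl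
    by_contra hne
    rcases lt_or_gt_of_ne (fun h6 => hne (Fin.ext h6)) with h6 | h6
    · exact absurd h5 (hp i.1 j.1 i.2 j.2 h6).ne
    · exact absurd h5 (hp j.1 i.1 j.2 i.2 h6).ne'
  have h1 := Nat.card_le_card_of_injective f hinj
  rwa [Nat.card_eq_fintype_card, Fintype.card_fin, lenO] at h1

theorem card_F_le : Nat.card F ≤ 120 := by
  have h1 := le_card_T.trans card_T_le
  have h2 := F.card_mul_index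
  rw [card_H] at h2
  by_contra h3
  have h4 : 121 * 792 ≤ Nat.card F * F.index := Nat.mul_le_mul (by omega) h1
  omega

/-- `(e, σ) ↦ y^e w σ` for even `σ` -/
theorem card_alt : Nat.card (Bool × {σ : P5 // Equiv.Perm.sign σ = 1}) = 120 := by
  rw [Nat.card_prod]
  have h1 : Nat.card {σ : P5 // Equiv.Perm.sign σ = 1} = 60 := by
    rw [Nat.card_eq_fintype_card]; decide +kernel
  have h2 : Nat.card Bool = 2 := by rw [Nat.card_eq_fintype_card]; rfl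
  rw [h1, h2]

/-- **The fixed points of `alpha`.** -/
theorem fix_alpha (x : H) (hx : alpha x = x) : ∃ σ : P5, Equiv.Perm.sign σ = 1 ∧ (x = w σ ∨ x = y * w σ) := by
  have h1 : ∀ c : Bool × {σ : P5 // Equiv.Perm.sign σ = 1}, yw (c.1, c.2.1) ∈ F := by
    rintro ⟨a, σ, hσ⟩
    rw [mem_F]
    cases a
    · simp [yw, alpha_even hσ]
    · simp [yw, alpha_even hσ, alpha_y]
  have hinj : Function.Injective (fun c : Bool × {σ : P5 // Equiv.Perm.sign σ = 1} =>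
      (⟨yw (c.1, c.2.1), h1 c⟩ : F)) := by
    rintro ⟨a, σ⟩ ⟨b, τ⟩ h
    have h2 := yw_injective (congrArg Subtype.val h)
    rw [Prod.mk.injEq] at h2
    exact Prod.ext h2.1 (Subtype.ext h2.2)
  have h3 : Nat.card F = 120 := by
    apply le_antisymm card_F_le
    rw [← card_alt]
    exact Nat.card_le_card_of_injective _ hinj
  have hb := (Nat.bijective_iff_injective_and_card _).mpr ⟨hinj, card_alt.trans h3.symm⟩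
  obtain ⟨⟨a, σ, hσ⟩, hc⟩ := hb.2 ⟨x, hx⟩
  have hc' : yw (a, σ) = x := congrArg Subtype.val hc
  refine ⟨σ, hσ, ?_⟩
  rw [← hc']
  cases a
  · left; simp [yw]
  · right; simp [yw]

theorem card_F : Nat.card F = 120 := by
  apply le_antisymm card_F_le
  have h1 : ∀ c : Bool × {σ : P5 // Equiv.Perm.sign σ = 1}, yw (c.1, c.2.1) ∈ F := by
    rintro ⟨a, σ, hσ⟩
    rw [mem_F]
    cases a
    · simp [yw, alpha_even hσ]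
    · simp [yw, alpha_even hσ, alpha_y]
  rw [← card_alt]
  apply Nat.card_le_card_of_injective (fun c : Bool × {σ : P5 // Equiv.Perm.sign σ = 1} =>
      (⟨yw (c.1, c.2.1), h1 c⟩ : F))
  rintro ⟨a, σ⟩ ⟨b, τ⟩ h
  have h2 := yw_injective (congrArg Subtype.val h)
  rw [Prod.mk.injEq] at h2
  exact Prod.ext h2.1 (Subtype.ext h2.2)

theorem odd_alpha (Y : Subgroup H) (hY : Odd (Nat.card Y)) (hc : ∀ x ∈ Y, alpha x = x)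
    (hn : ∀ g, alpha g = g → ∀ x ∈ Y, g * x * g⁻¹ ∈ Y) : Y = ⊥ := by
  apply eq_bot_of_w Y
  · intro x hx
    obtain ⟨σ, -, h⟩ := fix_alpha x (hc x hx)
    exact ⟨σ, h⟩
  · intro x hx
    exact pow_eq Y F hY (fun z hz => hc z hz) 3 15 (by rw [card_F]; norm_num) hx
  · intro g hg x hx
    exact hn _ (alpha_even hg) x hx

/-- **The same for the outer involutions.** -/
theorem odd_outer {m : H} (hm : alpha m * m = 1) (Y : Subgroup H) (hY : Odd (Nat.card Y))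
    (hc : ∀ x ∈ Y, m⁻¹ * alpha x * m = x)
    (hn : ∀ g, m⁻¹ * alpha g * m = g → ∀ x ∈ Y, g * x * g⁻¹ ∈ Y) : Y = ⊥ := by
  obtain ⟨n, rfl⟩ := twisted m hm
  have key : ∀ x, ((alpha n)⁻¹ * n)⁻¹ * alpha x * ((alpha n)⁻¹ * n) = x ↔ alpha (n * x * n⁻¹) = n * x * n⁻¹ := by
    intro x
    rw [map_mul, map_mul, map_inv]
    constructor
    · intro h
      calc alpha n * alpha x * (alpha n)⁻¹ = n * (((alpha n)⁻¹ * n)⁻¹ * alpha x * ((alpha n)⁻¹ * n)) * n⁻¹ := by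
            group
        _ = _ := by rw [h]
    · intro h
      calc ((alpha n)⁻¹ * n)⁻¹ * alpha x * ((alpha n)⁻¹ * n) = n⁻¹ * (alpha n * alpha x * (alpha n)⁻¹) * n := by
            group
        _ = n⁻¹ * (n * x * n⁻¹) * n := by rw [h]
        _ = x := by group
  have h1 : Y.map (MulAut.conj n).toMonoidHom = ⊥ := by
    apply odd_alpha
    · rwa [Subgroup.card_map_of_injective (MulAut.conj n).injective]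
    · rintro _ ⟨x, hx, rfl⟩
      exact (key x).1 (hc x hx)
    · rintro g hg _ ⟨x, hx, rfl⟩
      have h3 : n * (n⁻¹ * g * n) * n⁻¹ = g := by group
      have h4 := (key (n⁻¹ * g * n)).2 (by rw [h3]; exact hg)
      refine ⟨_, hn _ h4 x hx, ?_⟩
      show n * ((n⁻¹ * g * n) * x * (n⁻¹ * g * n)⁻¹) * n⁻¹ = g * (n * x * n⁻¹) * g⁻¹
      group
  exact (Subgroup.map_eq_bot_iff_of_injective Y (MulAut.conj n).injective).1 h1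

end Cfsg.Agent.CoThreeStd.OddCent
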