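import Cfsg.Agent.SporRec.Co3.FiveHom

/-!
# Injective homomorphisms `A₅ → S₅` are conjugations (helper781)
-/

set_option autoImplicit false

namespace Cfsg.Agent.CoThreeStd.AltInner

open Equiv Cfsg.Agent.SporRec.Co3

def a : P5 := swap 0 1 * swap 1 2
def b : P5 := swap 2 3 * swap 3 4

/-- words in `a`, `b` -/
def ev (l : List Bool) : P5 := (l.map (fun k => if k then a else b)).prod

def words : List (List Bool) :=
  [[], [true], [false], [true,true], [true,false], [false,true], [false,false], [true,true,false],
   [true,false,true], [true,false,false], [false,true,true], [false,true,false], [false,false,true],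
   [true,true,false,true], [true,true,false,false], [true,false,true,true], [true,false,true,false],
   [true,false,false,true], [false,true,true,false], [false,true,false,true], [false,true,false,false],
   [false,false,true,true], [false,false,true,false], [true,true,false,true,true],
   [true,true,false,true,false], [true,true,false,false,true], [true,false,true,true,false],
   [true,false,true,false,true], [true,false,true,false,false], [true,false,false,true,true],
   [true,false,false,true,false], [false,true,true,false,true], [false,true,true,false,false],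
   [false,true,false,true,true], [false,true,false,false,true], [false,false,true,true,false],
   [false,false,true,false,true], [false,false,true,false,false], [true,true,false,true,true,false],
   [true,true,false,true,false,true], [true,true,false,true,false,false], [true,true,false,false,true,true],
   [true,true,false,false,true,false], [true,false,true,true,false,false], [true,false,true,false,true,true],
   [true,false,false,true,true,false], [true,false,false,true,false,false],
   [false,true,true,false,true,true], [false,true,true,false,false,true], [false,true,false,false,true,true],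
   [false,false,true,true,false,true], [false,false,true,true,false,false],
   [false,false,true,false,true,true], [false,false,true,false,false,true],
   [true,false,true,true,false,false,true], [true,false,false,true,true,false,true],
   [true,false,false,true,false,false,true], [false,true,true,false,false,true,false],
   [false,true,false,false,true,true,false], [true,false,true,true,false,false,true,false]]

theorem sign_a : Perm.sign a = 1 := by decide +kernel
theorem sign_b : Perm.sign b = 1 := by decide +kernel

theorem all_even : ∀ σ : P5, Perm.sign σ = 1 → ∃ l ∈ words, ev l = σ := by decide +kernel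

theorem a_three : a * a * a = 1 := by decide +kernel
theorem b_three : b * b * b = 1 := by decide +kernel
theorem a_ne : a ≠ 1 := by decide +kernel
theorem b_ne : b ≠ 1 := by decide +kernel
theorem ab_five : a * b * (a * b) * (a * b) * (a * b) * (a * b) = 1 := by decide +kernel
theorem ab_ne : a * b ≠ 1 := by decide +kernel

theorem three : ∀ x : P5, x * x * x = 1 → x ≠ 1 → ∃ κ, κ * a * κ⁻¹ = x := by decide +kernel

theorem pair : ∀ z : P5, z * z * z = 1 → z ≠ 1 → a * z * (a * z) * (a * z) * (a * z) * (a * z) = 1 →
    a * z ≠ 1 → ∃ κ, κ * a * κ⁻¹ = a ∧ κ * b * κ⁻¹ = z := by decide +kernel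

/-- **Injective homomorphisms `A₅ → S₅` are conjugations.** -/
theorem inner (θ : P5 → P5) (hθ : ∀ σ τ, Perm.sign σ = 1 → Perm.sign τ = 1 → θ (σ * τ) = θ σ * θ τ)
    (hinj : ∀ σ, Perm.sign σ = 1 → θ σ = 1 → σ = 1) :
    ∃ κ, ∀ σ, Perm.sign σ = 1 → θ σ = κ * σ * κ⁻¹ := by
  have h1 : θ 1 = 1 := by
    have := hθ 1 1 (map_one _) (map_one _)
    rw [mul_one] at this
    exact mul_eq_left.1 this.symm
  have sm : ∀ {σ τ : P5}, Perm.sign σ = 1 → Perm.sign τ = 1 → Perm.sign (σ * τ) = 1 := by
    intro σ τ hs ht
    rw [map_mul, hs, ht, one_mul]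
  have sab := sm sign_a sign_b
  have ha3 : θ a * θ a * θ a = 1 := by
    rw [← hθ _ _ sign_a sign_a, ← hθ _ _ (sm sign_a sign_a) sign_a, a_three, h1]
  have hb3 : θ b * θ b * θ b = 1 := by
    rw [← hθ _ _ sign_b sign_b, ← hθ _ _ (sm sign_b sign_b) sign_b, b_three, h1]
  have ha1 : θ a ≠ 1 := fun h => a_ne (hinj a sign_a h)
  have hb1 : θ b ≠ 1 := fun h => b_ne (hinj b sign_b h)
  have hab : θ a * θ b = θ (a * b) := (hθ _ _ sign_a sign_b).symm
  have hab5 : θ a * θ b * (θ a * θ b) * (θ a * θ b) * (θ a * θ b) * (θ a * θ b) = 1 := by
    rw [hab, ← hθ _ _ sab sab, ← hθ _ _ (sm sab sab) sab, ← hθ _ _ (sm (sm sab sab) sab) sab,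
      ← hθ _ _ (sm (sm (sm sab sab) sab) sab) sab, ab_five, h1]
  have hab1 : θ a * θ b ≠ 1 := by
    rw [hab]
    exact fun h => ab_ne (hinj _ sab h)
  obtain ⟨κ, hκ⟩ := three _ ha3 ha1
  obtain ⟨z, hz⟩ : ∃ z, z = κ⁻¹ * θ b * κ := ⟨_, rfl⟩
  have hbz : θ b = κ * z * κ⁻¹ := by rw [hz]; group
  have haz : θ a * θ b = κ * (a * z) * κ⁻¹ := by rw [hbz, ← hκ]; group
  obtain ⟨μ, hμa, hμb⟩ := pair z (by
      have e : κ * (z * z * z) * κ⁻¹ = 1 := by
        rw [← hb3, hbz]; group
      calc z * z * z = κ⁻¹ * (κ * (z * z * z) * κ⁻¹) * κ := by group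
        _ = 1 := by rw [e]; group) (by
      intro h
      apply hb1
      rw [hbz, h]; group) (by
      have e : κ * (a * z * (a * z) * (a * z) * (a * z) * (a * z)) * κ⁻¹ = 1 := by
        rw [← hab5, haz]; group
      calc a * z * (a * z) * (a * z) * (a * z) * (a * z)
          = κ⁻¹ * (κ * (a * z * (a * z) * (a * z) * (a * z) * (a * z)) * κ⁻¹) * κ := by group
        _ = 1 := by rw [e]; group) (by
      intro h
      apply hab1
      rw [haz, h]; group)
  have hA : θ a = κ * μ * a * (κ * μ)⁻¹ := by
    rw [← hκ]
    calc κ * a * κ⁻¹ = κ * (μ * a * μ⁻¹) * κ⁻¹ := by rw [hμa]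
      _ = _ := by group
  have hB : θ b = κ * μ * b * (κ * μ)⁻¹ := by
    rw [hbz, ← hμb]; group
  refine ⟨κ * μ, ?_⟩
  have key : ∀ l : List Bool, Perm.sign (ev l) = 1 ∧ θ (ev l) = κ * μ * ev l * (κ * μ)⁻¹ := by
    intro l
    induction l with
    | nil => exact ⟨map_one _, by rw [show ev [] = 1 from rfl, h1]; group⟩
    | cons k l ih =>
      have e : ev (k :: l) = (if k then a else b) * ev l := rfl
      rw [e]
      cases k
      · simp only [Bool.false_eq_true, if_false]
        exact ⟨sm sign_b ih.1, by rw [hθ _ _ sign_b ih.1, hB, ih.2]; group⟩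
      · simp only [if_true]
        exact ⟨sm sign_a ih.1, by rw [hθ _ _ sign_a ih.1, hA, ih.2]; group⟩
  intro σ hσ
  obtain ⟨l, -, rfl⟩ := all_even σ hσ
  exact (key l).2

end Cfsg.Agent.CoThreeStd.AltInner
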