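import Cfsg.Agent.SporRec.Closing

/-!
# The dihedral lemma and one step of the dihedral closing

`dihedral`: two involutions `a`, `b` of a finite group are conjugate, or there is an involution `c` in
`⟨a, b⟩` commuting with both such that `a ~ b c` or `c = u²` with `u ∈ ⟨a, b⟩` inverted by `a` and `b`.

`step`: the version for two points `x ≠ y` of `G ⧸ H` with `a ∈ D` fixing `x` and `b ∉ D` fixing `y`.
-/

set_option autoImplicit false

namespace Cfsg.Agent.CoThreeStd.DihStep

variable {G : Type*} [Group G]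

/-- The dihedral lemma. -/
theorem dihedral [Finite G] (a b : G) (ha : a * a = 1) (hb : b * b = 1) :
    IsConj a b ∨ ∃ c : G, (∀ C : Subgroup G, a ∈ C → b ∈ C → c ∈ C) ∧ c ≠ 1 ∧ c * c = 1 ∧
      a * c = c * a ∧ b * c = c * b ∧
      (IsConj a (b * c) ∨ ∃ u : G, (∀ C : Subgroup G, a ∈ C → b ∈ C → u ∈ C) ∧ u * u = c ∧
        a * u * a = u⁻¹ ∧ b * u * b = u⁻¹) := by
  have hai : a⁻¹ = a := inv_eq_of_mul_eq_one_left ha
  have hbi : b⁻¹ = b := inv_eq_of_mul_eq_one_left hb
  set r := a * b with hr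
  have har : a * r * a⁻¹ = r⁻¹ := by
    rw [hr, mul_inv_rev, hai, hbi, ← mul_assoc, ha, one_mul]
  have hbr : b * r * b⁻¹ = r⁻¹ := by
    rw [hr, mul_inv_rev, hai, hbi, mul_assoc b (a * b) b, mul_assoc a b b, hb, mul_one]
  have hpa : ∀ n : ℕ, a * r ^ n * a = (r ^ n)⁻¹ := by
    intro n
    have : a * r ^ n * a⁻¹ = (r ^ n)⁻¹ := by rw [← conj_pow, har, inv_pow]
    rwa [hai] at this
  have hpb : ∀ n : ℕ, b * r ^ n * b = (r ^ n)⁻¹ := by
    intro n
    have : b * r ^ n * b⁻¹ = (r ^ n)⁻¹ := by rw [← conj_pow, hbr, inv_pow]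
    rwa [hbi] at this
  have hmem : ∀ (n : ℕ) (C : Subgroup G), a ∈ C → b ∈ C → r ^ n ∈ C :=
    fun n C h1 h2 => C.pow_mem (C.mul_mem h1 h2) _
  -- conjugation of `b` by powers of `r`
  have hcb : ∀ n : ℕ, r ^ n * b * (r ^ n)⁻¹ = r ^ (2 * n) * b := by
    intro n
    rw [← hpb n, two_mul, pow_add]
    calc r ^ n * b * (b * r ^ n * b) = r ^ n * (b * b) * r ^ n * b := by group
      _ = r ^ n * r ^ n * b := by rw [hb, mul_one]
  rcases Nat.even_or_odd (orderOf r) with ⟨m, hm⟩ | ⟨m, hm⟩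
  · right
    have hpos : 0 < orderOf r := orderOf_pos _
    have hmpos : 0 < m := by omega
    have hc2 : r ^ m * r ^ m = 1 := by
      rw [← pow_add, ← hm]; exact pow_orderOf_eq_one _
    have hci : (r ^ m)⁻¹ = r ^ m := inv_eq_of_mul_eq_one_left hc2
    have hca : a * r ^ m = r ^ m * a := by
      calc a * r ^ m = a * r ^ m * (a * a) := by rw [ha, mul_one]
        _ = (a * r ^ m * a) * a := by group
        _ = r ^ m * a := by rw [hpa, hci]
    have hcb' : b * r ^ m = r ^ m * b := by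
      calc b * r ^ m = b * r ^ m * (b * b) := by rw [hb, mul_one]
        _ = (b * r ^ m * b) * b := by group
        _ = r ^ m * b := by rw [hpb, hci]
    refine ⟨r ^ m, hmem m, ?_, hc2, hca, hcb', ?_⟩
    · intro h
      have h1 := orderOf_dvd_of_pow_eq_one h
      have := Nat.le_of_dvd hmpos h1
      omega
    · rcases Nat.even_or_odd m with ⟨j, hj⟩ | ⟨j, hj⟩
      · right
        refine ⟨r ^ j, hmem j, ?_, hpa j, hpb j⟩
        rw [← pow_add, ← hj]
      · left
        -- `r ^ j b r ^ -j = r ^ (2 j) b`, `a = r b`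
        have h1 : r * b = a := by rw [hr, mul_assoc, hb, mul_one]
        have h2 : b * r ^ m = r ^ (2 * j) * a := by
          rw [hcb', hj, pow_succ, mul_assoc, h1]
        have hrc : ∀ n : ℕ, r ^ n * r = r * r ^ n := fun n => by rw [← pow_succ, ← pow_succ']
        have h3 : r ^ (2 * j) * a = r ^ j * a * (r ^ j)⁻¹ := by
          have h4 := hcb j
          calc r ^ (2 * j) * a = r ^ (2 * j) * (r * b) := by rw [h1]
            _ = (r ^ (2 * j) * r) * b := by group
            _ = r * (r ^ (2 * j) * b) := by rw [hrc]; group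
            _ = r * (r ^ j * b * (r ^ j)⁻¹) := by rw [h4]
            _ = (r * r ^ j) * b * (r ^ j)⁻¹ := by group
            _ = r ^ j * (r * b) * (r ^ j)⁻¹ := by rw [← hrc]; group
            _ = r ^ j * a * (r ^ j)⁻¹ := by rw [h1]
        rw [h2, h3]
        exact isConj_iff.2 ⟨r ^ j, rfl⟩
  · left
    -- `r ^ (2 m + 1) = 1`
    have h1 : r ^ (2 * m + 1) = 1 := by rw [← hm]; exact pow_orderOf_eq_one _
    -- `r^(m+1) b r^-(m+1) = r^(2m+2) b = r b = a`
    have h2 := hcb (m + 1)
    have h3 : r ^ (2 * (m + 1)) = r := by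
      rw [show 2 * (m + 1) = 2 * m + 1 + 1 by ring, pow_succ, h1, one_mul]
    rw [h3] at h2
    have h4 : r * b = a := by rw [hr, mul_assoc, hb, mul_one]
    rw [h4] at h2
    exact (isConj_iff.2 ⟨_, h2⟩).symm

section action

variable {Ω : Type*} [MulAction G Ω]

/-- One step: `a ∈ D` fixes `x`, the involution `b ∉ D` fixes `y`, and `B₀ ∪ {b}` has the unique
fixed point `y`; everything happens in a subgroup `C` centralising `B₀`. -/
theorem step [Finite G] {D : Set G} (hD : ∀ d ∈ D, ∀ e, IsConj d e → e ∈ D)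
    (one : ∀ d ∈ D, ∀ p q : Ω, d • p = p → d • q = q → p = q)
    (B : Set G) (C : Subgroup G) (hC : ∀ c ∈ C, ∀ s ∈ B, c * s = s * c) {a b : G} {x y : Ω}
    (haD : a ∈ D) (hbD : b ∉ D) (ha2 : a * a = 1) (hb2 : b * b = 1) (haC : a ∈ C) (hbC : b ∈ C)
    (hax : a • x = x) (hby : b • y = y) (hBy : ∀ s ∈ B, s • y = y)
    (hU : ∀ p : Ω, (∀ s ∈ B, s • p = p) → b • p = p → p = y) :
    ∃ c ∈ C, c ≠ 1 ∧ c * c = 1 ∧ c • x = x ∧ c • y = y ∧ b * c = c * b ∧
      (b * c ∈ D ∨ ∃ u ∈ C, u * u = c ∧ a * u * a = u⁻¹ ∧ b * u * b = u⁻¹ ∧ u • x = x ∧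
        u • y = y) := by
  rcases dihedral a b ha2 hb2 with h | ⟨c, hcC, hc1, hc2, hac, hbc, h⟩
  · exact absurd (hD a haD b h) hbD
  have hcC' := hcC C haC hbC
  have hcx : c • x = x := by
    apply one a haD _ _ _ hax
    rw [smul_smul, hac, mul_smul, hax]
  have hcy : c • y = y := by
    apply hU
    · intro s hs
      rw [smul_smul, ← hC c hcC' s hs, mul_smul, hBy s hs]
    · rw [smul_smul, hbc, mul_smul, hby]
  refine ⟨c, hcC', hc1, hc2, hcx, hcy, hbc, ?_⟩
  rcases h with h | ⟨u, huC, huu, hau, hbu⟩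
  · exact Or.inl (hD a haD _ h)
  · right
    have huC' := huC C haC hbC
    refine ⟨u, huC', huu, hau, hbu, ?_, ?_⟩
    · -- `u a u⁻¹ = c a ∈ D` fixes `x` and `u x`
      have h1 : u * a * u⁻¹ = a * c := by
        have h2 : a * u = u⁻¹ * a := by
          calc a * u = a * u * (a * a) := by rw [ha2, mul_one]
            _ = (a * u * a) * a := by group
            _ = _ := by rw [hau]
        have h3 : a * u⁻¹ = u * a := by
          calc a * u⁻¹ = u * (u⁻¹ * a) * u⁻¹ := by group
            _ = u * (a * u) * u⁻¹ := by rw [h2]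
            _ = u * a := by group
        calc u * a * u⁻¹ = u * (a * u⁻¹) := by group
          _ = u * u * a := by rw [h3]; group
          _ = a * c := by rw [huu, hac]
      have h2 : u * a * u⁻¹ ∈ D := hD a haD _ (isConj_iff.2 ⟨u, rfl⟩)
      apply one _ h2
      · rw [smul_smul, inv_mul_cancel_right, mul_smul, hax]
      · rw [h1, mul_smul, hcx, hax]
    · apply hU
      · intro s hs
        rw [smul_smul, ← hC u huC' s hs, mul_smul, hBy s hs]
      · have h2 : b * u = u⁻¹ * b := by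
          calc b * u = b * u * (b * b) := by rw [hb2, mul_one]
            _ = (b * u * b) * b := by group
            _ = _ := by rw [hbu]
        have h3 : u * (c⁻¹ * b) = b * u := by
          rw [h2, ← huu]; group
        rw [smul_smul, ← h3, mul_smul, mul_smul, hby]
        have h4 : c⁻¹ • y = y := by rw [inv_smul_eq_iff, hcy]
        rw [h4]

end action

end Cfsg.Agent.CoThreeStd.DihStep
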