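import Cfsg.Agent.CoThreeStd.Step
import Cfsg.Agent.Lib.CoprimeHyperplane

/-!
# Two special configurations in the closing of the `Co₃` recognition

* `IsStep.transvection`: `X` abelian, `|X : Y| = 2`: two involutions of `N_C(X)/X` act in the same
  way on `X`.
* `IsStep.homocyclic`: `X` abelian with `Y = Ω₁(X) = ℧¹(X)`, normalised by a `D`-pure four-group:
  impossible.
-/

set_option autoImplicit false

namespace Cfsg.Agent.CoThreeStd.Special

open Cfsg.Agent.SporRec.Closing Cfsg.Agent.CoThreeStd.Step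

variable {G : Type*} [Group G]

/-- If `|X : Y| ≤ 2`, two involutions of `N_C(X)/X` act in the same way on `X`. -/
theorem transvection {H : Subgroup G} {D : Set G} {Y P X : Subgroup G}
    (h : IsStep H D Y P X) (hXab : ∀ a ∈ X, ∀ b ∈ X, a * b = b * a) (e : G) (he : e ∈ X)
    (hX : ∀ x ∈ X, x ∈ Y ∨ e⁻¹ * x ∈ Y)
    {a a' : G} (haN : a ∈ Subgroup.normalizer (X : Set G)) (haC : ∀ b ∈ Y, a * b = b * a)
    (haX : a ∉ X) (haa : a * a ∈ X)
    (haN' : a' ∈ Subgroup.normalizer (X : Set G)) (haC' : ∀ b ∈ Y, a' * b = b * a')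
    (haX' : a' ∉ X) (haa' : a' * a' ∈ X) : a * e * a⁻¹ = a' * e * a'⁻¹ := by
  obtain ⟨n, hn, hnC, hs⟩ := h.conj a haN haC haX haa a' haN' haC' haX' haa'
  -- the transvection map
  have hy : ∀ m ∈ Subgroup.normalizer (X : Set G), (∀ b ∈ Y, m * b = b * m) →
      e⁻¹ * (m * e * m⁻¹) ∈ Y := by
    intro m hm hmC
    rcases hX _ ((Subgroup.mem_normalizer_iff.1 hm e).1 he) with h1 | h1
    · have h2 := hmC _ h1
      have h3 : m * e * m⁻¹ = e := by
        have : m * (m * e * m⁻¹) = m * e := by rw [h2]; group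
        exact mul_left_cancel this
      rw [h3, inv_mul_cancel]
      exact Y.one_mem
    · exact h1
  have hmul : ∀ m, m ∈ Subgroup.normalizer (X : Set G) → (∀ b ∈ Y, m * b = b * m) →
      ∀ k, k ∈ Subgroup.normalizer (X : Set G) → (∀ b ∈ Y, k * b = b * k) →
      e⁻¹ * (m * k * e * (m * k)⁻¹) = (e⁻¹ * (m * e * m⁻¹)) * (e⁻¹ * (k * e * k⁻¹)) := by
    intro m hm hmC k hk hkC
    have h1 := hmC _ (hy k hk hkC)
    calc e⁻¹ * (m * k * e * (m * k)⁻¹) = e⁻¹ * (m * e * (e⁻¹ * (k * e * k⁻¹)) * m⁻¹) := by group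
      _ = e⁻¹ * (m * e * (m⁻¹ * (m * (e⁻¹ * (k * e * k⁻¹)))) * m⁻¹) := by group
      _ = e⁻¹ * (m * e * (m⁻¹ * ((e⁻¹ * (k * e * k⁻¹)) * m)) * m⁻¹) := by rw [h1]
      _ = _ := by group
  -- compare `n a` and `s a' n`
  set s := n * a * n⁻¹ * a'⁻¹ with hsdef
  have hE : n * a = (s * a') * n := by rw [hsdef]; group
  have hsN : s ∈ Subgroup.normalizer (X : Set G) := Subgroup.le_normalizer hs
  have hsC : ∀ b ∈ Y, s * b = b * s := fun b hb => hXab s hs b (h.le hb)
  have hs0 : e⁻¹ * (s * e * s⁻¹) = 1 := by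
    rw [hXab s hs e he]
    group
  have hsa' : s * a' ∈ Subgroup.normalizer (X : Set G) := Subgroup.mul_mem _ hsN haN'
  have hsaC' : ∀ b ∈ Y, s * a' * b = b * (s * a') := by
    intro b hb
    rw [mul_assoc, haC' b hb, ← mul_assoc, hsC b hb, mul_assoc]
  have h1 := hmul n hn hnC a haN haC
  have h2 := hmul (s * a') hsa' hsaC' n hn hnC
  have h3 := hmul s hsN hsC a' haN' haC'
  rw [hs0, one_mul] at h3
  rw [hE, h2, h3] at h1
  have h4 : e⁻¹ * (a' * e * a'⁻¹) * (e⁻¹ * (n * e * n⁻¹)) =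
      e⁻¹ * (a * e * a⁻¹) * (e⁻¹ * (n * e * n⁻¹)) := by
    rw [h1]
    exact hXab _ (h.le (hy n hn hnC)) _ (h.le (hy a haN haC))
  have h5 := mul_right_cancel h4
  exact (mul_left_cancel h5).symm

/-- The homocyclic configuration is impossible. -/
theorem homocyclic [Finite G] {H : Subgroup G} {D : Set G} {Y P X : Subgroup G}
    (h : IsStep H D Y P X) (hPH : P ≤ H)
    (hone : ∀ d ∈ D, ∀ x y : G ⧸ H, d • x = x → d • y = y → x = y)
    (hXab : ∀ a ∈ X, ∀ b ∈ X, a * b = b * a)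
    (hsq : ∀ x ∈ X, x * x ∈ Y) (hker : ∀ x ∈ X, x * x = 1 → x ∈ Y)
    {a : G} (haN : a ∈ Subgroup.normalizer (X : Set G)) (haC : ∀ b ∈ Y, a * b = b * a)
    (haX : a ∉ X) (haa : a * a ∈ X) {x₀ : G} (hx₀ : x₀ ∈ X) (hax₀ : a * x₀ ≠ x₀ * a)
    {t y : G} (htD : t ∈ D) (hyD : y ∈ D) (htyD : t * y ∈ D) (htH : t ∈ H) (hyH : y ∈ H)
    (htN : t ∈ Subgroup.normalizer (X : Set G)) (hyN : y ∈ Subgroup.normalizer (X : Set G))
    (ht2 : t * t = 1) (hy2 : y * y = 1) (hty : t * y = y * t) : False := by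
  classical
  have hXH : X ≤ H := h.le'.trans hPH
  -- `Q = C_G(X)`
  let M : Subgroup G := Subgroup.normalizer (X : Set G)
  let Q : Subgroup G := Subgroup.centralizer (X : Set G)
  have hQmem : ∀ q, q ∈ Q ↔ ∀ x ∈ X, q * x = x * q := by
    intro q
    show q ∈ Subgroup.centralizer (X : Set G) ↔ _
    rw [Subgroup.mem_centralizer_iff]
    exact ⟨fun h b hb => (h b hb).symm, fun h b hb => (h b hb).symm⟩
  have hQM : Q ≤ M := Subgroup.centralizer_le_normalizer _
  have hXQ : X ≤ Q := fun x hx => (hQmem x).2 (fun b hb => hXab x hx b hb)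
  -- if `q` commutes modulo `X` with an element of `D ∩ H`, then it lies in `H`
  have hkey : ∀ d ∈ D, d ∈ H → ∀ q : G, d⁻¹ * q⁻¹ * d * q ∈ X → q ∈ H := by
    intro d hd hdH q hq
    have e1 : d • (QuotientGroup.mk 1 : G ⧸ H) = QuotientGroup.mk 1 := by
      rw [smul_mk_eq_iff]; simpa using hdH
    have e2 : d • (QuotientGroup.mk q : G ⧸ H) = QuotientGroup.mk q := by
      rw [smul_mk_eq_iff]
      have : q⁻¹ * d * q = d * (d⁻¹ * q⁻¹ * d * q) := by group
      rw [this]
      exact H.mul_mem hdH (hXH hq)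
    have := hone d hd _ _ e1 e2
    rw [QuotientGroup.eq] at this
    simpa using this
  -- the quotient
  let X' : Subgroup M := X.subgroupOf M
  have hX'n : X'.Normal := Subgroup.normal_in_normalizer
  let π : M →* M ⧸ X' := QuotientGroup.mk' X'
  have hπ : ∀ m : M, π m = 1 ↔ (m : G) ∈ X := by
    intro m
    rw [show π m = (m : M ⧸ X') from rfl, QuotientGroup.eq_one_iff, Subgroup.mem_subgroupOf]
  have hπeq : ∀ m k : M, π m = π k ↔ (m⁻¹ * k : G) ∈ X := by
    intro m k
    rw [show π m = (m : M ⧸ X') from rfl, show π k = (k : M ⧸ X') from rfl, QuotientGroup.eq,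
      Subgroup.mem_subgroupOf]
    rfl
  let Q' : Subgroup (M ⧸ X') := (Q.subgroupOf M).map π
  let T : M := ⟨t, htN⟩
  let U : M := ⟨y, hyN⟩
  have hT2 : π T * π T = 1 := by
    rw [← map_mul, hπ]
    show t * t ∈ X
    rw [ht2]; exact X.one_mem
  have hU2 : π U * π U = 1 := by
    rw [← map_mul, hπ]
    show y * y ∈ X
    rw [hy2]; exact X.one_mem
  have hTU : π T * π U = π U * π T := by
    rw [← map_mul, ← map_mul]
    congr 1
    exact Subtype.ext hty
  have hT1 : π T ≠ 1 := by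
    rw [Ne, hπ]
    exact fun hh => h.free t hh htD
  have hU1 : π U ≠ 1 := by
    rw [Ne, hπ]
    exact fun hh => h.free y hh hyD
  have hTU1 : π T * π U ≠ 1 := by
    rw [← map_mul, Ne, hπ]
    exact fun hh => h.free (t * y) hh htyD
  have hTneU : π T ≠ π U := by
    intro hh
    apply hTU1
    rw [← hh, hT2]
  have hTi : (π T)⁻¹ = π T := inv_eq_of_mul_eq_one_left hT2
  have hUi : (π U)⁻¹ = π U := inv_eq_of_mul_eq_one_left hU2
  let A : Subgroup (M ⧸ X') :=
    { carrier := {x | x = 1 ∨ x = π T ∨ x = π U ∨ x = π T * π U}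
      one_mem' := Or.inl rfl
      mul_mem' := by
        have e1 : π T * (π T * π U) = π U := by rw [← mul_assoc, hT2, one_mul]
        have e2 : π U * (π T * π U) = π T := by rw [hTU, ← mul_assoc, hU2, one_mul]
        have e3 : π T * π U * π T = π U := by rw [hTU, mul_assoc, hT2, mul_one]
        have e4 : π T * π U * π U = π T := by rw [mul_assoc, hU2, mul_one]
        have e5 : π T * π U * (π T * π U) = 1 := by rw [mul_assoc, e2, hT2]
        rintro a b (rfl | rfl | rfl | rfl) (rfl | rfl | rfl | rfl)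
        all_goals simp only [Set.mem_ofPred_eq, one_mul, mul_one, hT2, hU2, e1, e2, e3, e4, e5,
          ← hTU, true_or, or_true]
      inv_mem' := by
        rintro a (rfl | rfl | rfl | rfl)
        · left; simp
        · right; left; exact hTi
        · right; right; left; exact hUi
        · right; right; right
          rw [mul_inv_rev, hTi, hUi, hTU] }
  have hAmem : ∀ x, x ∈ A ↔ (x = 1 ∨ x = π T ∨ x = π U ∨ x = π T * π U) := fun x => Iff.rfl
  have hTA : π T ∈ A := (hAmem _).2 (Or.inr (Or.inl rfl))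
  have hUA : π U ∈ A := (hAmem _).2 (Or.inr (Or.inr (Or.inl rfl)))
  have hAel : Cfsg.IsElementaryAbelian 2 A := by
    have e1 : π T * (π T * π U) = π U := by rw [← mul_assoc, hT2, one_mul]
    have e2 : π U * (π T * π U) = π T := by rw [hTU, ← mul_assoc, hU2, one_mul]
    have e3 : π T * π U * π T = π U := by rw [hTU, mul_assoc, hT2, mul_one]
    have e4 : π T * π U * π U = π T := by rw [mul_assoc, hU2, mul_one]
    have e5 : π T * π U * (π T * π U) = 1 := by rw [mul_assoc, e2, hT2]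
    constructor
    · refine ⟨⟨?_⟩⟩
      rintro ⟨a, ha⟩ ⟨b, hb⟩
      apply Subtype.ext
      show a * b = b * a
      rcases ha with rfl | rfl | rfl | rfl <;> rcases hb with rfl | rfl | rfl | rfl
      all_goals simp only [one_mul, mul_one, e1, e2, e3, e4, ← hTU]
    · rintro a (rfl | rfl | rfl | rfl)
      · simp
      · rw [pow_two, hT2]
      · rw [pow_two, hU2]
      · rw [pow_two, e5]
  -- `Q'` has odd order
  have hodd : ¬ 2 ∣ Nat.card Q' := by
    intro h2
    obtain ⟨⟨q', hq'⟩, hord⟩ := exists_prime_orderOf_dvd_card' (G := Q') 2 h2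
    obtain ⟨q, hq, rfl⟩ := hq'
    have hq1 : π q ≠ 1 := by
      intro hh
      have : (⟨π q, ⟨q, hq, rfl⟩⟩ : Q') = 1 := Subtype.ext hh
      rw [this, orderOf_one] at hord
      omega
    have hq2 : π q * π q = 1 := by
      have := pow_orderOf_eq_one (⟨π q, ⟨q, hq, rfl⟩⟩ : Q')
      rw [hord, pow_two] at this
      exact congrArg Subtype.val this
    have hqQ : (q : G) ∈ Q := Subgroup.mem_subgroupOf.1 hq
    have hqX : (q : G) ∉ X := fun hh => hq1 ((hπ q).2 hh)
    have hqq : (q : G) * q ∈ X := by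
      rw [← map_mul, hπ] at hq2
      exact hq2
    obtain ⟨n, hn, -, hs⟩ := h.conj a haN haC haX haa q q.2
      (fun b hb => (hQmem _).1 hqQ b (h.le hb)) hqX hqq
    -- `n a n⁻¹` centralises `X`
    have h1 : n * a * n⁻¹ ∈ Q := by
      have : n * a * n⁻¹ = (n * a * n⁻¹ * (q : G)⁻¹) * q := by group
      rw [this]
      exact Q.mul_mem (hXQ hs) hqQ
    have h2 := (hQmem _).1 h1 (n * x₀ * n⁻¹) ((Subgroup.mem_normalizer_iff.1 hn x₀).1 hx₀)
    apply hax₀
    have h3 : n⁻¹ * (n * a * n⁻¹ * (n * x₀ * n⁻¹)) * n = n⁻¹ * (n * x₀ * n⁻¹ * (n * a * n⁻¹)) * n := by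
      rw [h2]
    have e1 : n⁻¹ * (n * a * n⁻¹ * (n * x₀ * n⁻¹)) * n = a * x₀ := by group
    have e2 : n⁻¹ * (n * x₀ * n⁻¹ * (n * a * n⁻¹)) * n = x₀ * a := by group
    rw [e1, e2] at h3
    exact h3
  -- `Q ≤ H`
  have hQnorm : ∀ m ∈ M, ∀ q ∈ Q, m * q * m⁻¹ ∈ Q := by
    intro m hm q hq
    rw [hQmem]
    intro x hx
    have hx' : m⁻¹ * x * m ∈ X := by
      have := (Subgroup.mem_normalizer_iff.1 (Subgroup.inv_mem _ hm) x).1 hx
      rwa [inv_inv] at this
    have h1 := (hQmem q).1 hq _ hx'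
    calc m * q * m⁻¹ * x = m * (q * (m⁻¹ * x * m)) * m⁻¹ := by group
      _ = x * (m * q * m⁻¹) := by rw [h1]; group
  have hAQ : A ≤ Subgroup.normalizer (Q' : Set (M ⧸ X')) := by
    have hnor : Q'.Normal := by
      constructor
      rintro _ ⟨q, hq, rfl⟩ g
      obtain ⟨m, rfl⟩ := QuotientGroup.mk'_surjective X' g
      refine ⟨m * q * m⁻¹, ?_, by simp [π]⟩
      exact Subgroup.mem_subgroupOf.2 (hQnorm m m.2 q (Subgroup.mem_subgroupOf.1 hq))
    rw [Subgroup.normalizer_eq_top]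
    exact le_top
  have hgen := Lib.CoprimeHyperplane.iSup_centralizer_hyperplane hAel (by
    intro hh
    exact hT1 (Subgroup.mem_bot.1 (hh ▸ hTA))) hodd hAQ
  have hQ'le : Q' ≤ ((Q ⊓ H).subgroupOf M).map π := by
    rw [← hgen]
    apply iSup_le
    rintro ⟨B, hBA, hB⟩ q' ⟨⟨q, hq, rfl⟩, hqB⟩
    have hqQ : (q : G) ∈ Q := Subgroup.mem_subgroupOf.1 hq
    -- a nontrivial element of `B`
    obtain ⟨b, hb, hb1⟩ : ∃ b ∈ B, b ≠ 1 := by
      by_contra hno
      push Not at hno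
      have hB0 : B = ⊥ := (Subgroup.eq_bot_iff_forall _).2 hno
      rw [hB0, Subgroup.relIndex_bot_left] at hB
      -- three distinct elements
      have : (3 : ℕ) ≤ Nat.card A := by
        have hc : Nat.card (Fin 3) ≤ Nat.card A := by
          apply Nat.card_le_card_of_injective
            (fun i : Fin 3 => (match i with
              | 0 => 1
              | 1 => ⟨π T, hTA⟩
              | 2 => ⟨π U, hUA⟩ : A))
          intro i j hij
          fin_cases i <;> fin_cases j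
          all_goals first
            | rfl
            | (exfalso
               have h1 := congrArg Subtype.val hij
               first
                | exact hT1 h1
                | exact hT1 h1.symm
                | exact hU1 h1
                | exact hU1 h1.symm
                | exact hTneU h1
                | exact hTneU h1.symm)
        simpa using hc
      omega
    refine ⟨q, ?_, rfl⟩
    refine Subgroup.mem_subgroupOf.2 ⟨hqQ, ?_⟩
    have hcomm : b * π q = π q * b := Subgroup.mem_centralizer_iff.1 hqB b hb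
    have hd : ∀ d : M, (d : G) ∈ D → (d : G) ∈ H → π d * π q = π q * π d → (q : G) ∈ H := by
      intro d hdD hdH hdq
      apply hkey d hdD hdH
      rw [← map_mul, ← map_mul, hπeq] at hdq
      have h3 : (((q * d : M)⁻¹ : G) * ((d * q : M) : G)) ∈ X := by
        have := X.inv_mem hdq
        simpa [mul_assoc] using this
      have e : (((q * d : M)⁻¹ : G) * ((d * q : M) : G)) =
        (d : G)⁻¹ * (q : G)⁻¹ * d * q := by
        push_cast
        group
      rw [e] at h3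
      exact h3
    rcases (hAmem b).1 (hBA hb) with rfl | rfl | rfl | rfl
    · exact absurd rfl hb1
    · exact hd T htD htH hcomm
    · exact hd U hyD hyH hcomm
    · exact hd (T * U) htyD (H.mul_mem htH hyH) (by rw [map_mul]; exact hcomm)
  have hQH : Q ≤ H := by
    intro q hq
    obtain ⟨r, hr, hrq⟩ := hQ'le ⟨⟨q, hQM hq⟩, Subgroup.mem_subgroupOf.2 hq, rfl⟩
    rw [hπeq] at hrq
    have h1 := (Subgroup.mem_subgroupOf.1 hr).2
    have h2 := H.mul_mem h1 (hXH hrq)
    simpa using h2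
  -- squares of elements of `N_C(X)` centralise `X`
  have hsqQ : ∀ n ∈ M, (∀ b ∈ Y, n * b = b * n) → n * n ∈ Q := by
    intro n hn hnC
    rw [hQmem]
    intro x hx
    have hx' : n * x * n⁻¹ ∈ X := (Subgroup.mem_normalizer_iff.1 hn x).1 hx
    -- `u = x⁻¹ (n x n⁻¹)`
    have hu : x⁻¹ * (n * x * n⁻¹) ∈ X := X.mul_mem (X.inv_mem hx) hx'
    have hu2 : x⁻¹ * (n * x * n⁻¹) * (x⁻¹ * (n * x * n⁻¹)) = 1 := by
      have h1 := hnC _ (hsq x hx)
      have h2 : n * x * n⁻¹ * (n * x * n⁻¹) = x * x := by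
        calc n * x * n⁻¹ * (n * x * n⁻¹) = n * (x * x) * n⁻¹ := by group
          _ = x * x := by rw [h1]; group
      calc x⁻¹ * (n * x * n⁻¹) * (x⁻¹ * (n * x * n⁻¹))
          = x⁻¹ * ((n * x * n⁻¹) * x⁻¹) * (n * x * n⁻¹) := by group
        _ = x⁻¹ * (x⁻¹ * (n * x * n⁻¹)) * (n * x * n⁻¹) := by
            rw [hXab _ hx' _ (X.inv_mem hx)]
        _ = x⁻¹ * (x⁻¹ * ((n * x * n⁻¹) * (n * x * n⁻¹))) := by group
        _ = 1 := by rw [h2]; group
    have huY := hker _ hu hu2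
    have h3 := hnC _ huY
    have h4 : n * n * x * (n * n)⁻¹ = x := by
      calc n * n * x * (n * n)⁻¹ = n * (x * (x⁻¹ * (n * x * n⁻¹))) * n⁻¹ := by group
        _ = n * x * (n⁻¹ * (n * (x⁻¹ * (n * x * n⁻¹)))) * n⁻¹ := by group
        _ = n * x * (n⁻¹ * ((x⁻¹ * (n * x * n⁻¹)) * n)) * n⁻¹ := by rw [h3]
        _ = x * ((x⁻¹ * (n * x * n⁻¹)) * (x⁻¹ * (n * x * n⁻¹))) := by group
        _ = x := by rw [hu2, mul_one]
    calc n * n * x = (n * n * x * (n * n)⁻¹) * (n * n) := by group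
      _ = x * (n * n) := by rw [h4]
  -- the base point
  have hbase : (QuotientGroup.mk 1 : G ⧸ H) ∈ Fix H X := by
    rw [mk_mem_Fix]
    intro s hs
    simpa using hXH hs
  -- `Q` fixes all points of `Fix H X`
  have hQfix : ∀ q ∈ Q, ∀ x ∈ Fix H X, q • x = x := by
    intro q hq x hx
    obtain ⟨n, hn, -, hnx⟩ := h.trans _ _ hbase hx
    rw [← hnx, MulAction.Quotient.smul_mk, smul_mk_eq_iff, smul_eq_mul, mul_one]
    apply hQH
    have := hQnorm n⁻¹ (M.inv_mem hn) q hq
    rwa [inv_inv] at this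
  have hn2 : ∀ n ∈ M, (∀ b ∈ Y, n * b = b * n) → ∀ x ∈ Fix H X, n • n • x = x := by
    intro n hn hnC x hx
    rw [smul_smul]
    exact hQfix _ (hsqQ n hn hnC) x hx
  obtain ⟨x, hx, hx1⟩ : ∃ y ∈ Fix H X, y ≠ (QuotientGroup.mk 1 : G ⧸ H) := by
    obtain ⟨x, y, hx, hy, hxy⟩ := h.two
    by_cases h : x = QuotientGroup.mk 1
    · exact ⟨y, hy, fun h' => hxy (h.trans h'.symm)⟩
    · exact ⟨x, hx, h⟩
  obtain ⟨n, hn, hnC, hnx⟩ := h.trans _ _ hbase hx
  -- `n` has a fixed point
  obtain ⟨z, hz, hnz⟩ : ∃ z ∈ Fix H X, n • z = z := by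
    let D' := {x : G ⧸ H // x ∈ Fix H X}
    have : Fintype D' := Fintype.ofFinite _
    let f : D' → D' := fun z => ⟨n • z.1, smul_mem_Fix H X n hn z.1 z.2⟩
    have hff : f^[2 ^ 1] = id := by
      funext z
      apply Subtype.ext
      exact hn2 n hn hnC z.1 z.2
    have hmod := Equiv.Perm.card_fixedPoints_modEq (f := f) (p := 2) (n := 1) hff
    have ho := h.odd
    rw [Nat.card_eq_fintype_card] at ho
    by_contra hno
    push Not at hno
    have h0 : Fintype.card (Function.fixedPoints f) = 0 := by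
      rw [Fintype.card_eq_zero_iff]
      exact ⟨fun z => hno z.1.1 z.1.2 (congrArg Subtype.val z.2)⟩
    rw [h0] at hmod
    have h3 : Fintype.card D' % 2 = 0 % 2 := hmod
    obtain ⟨k, hk⟩ := ho
    have hk' : Fintype.card D' = 2 * k + 1 := hk
    omega
  obtain ⟨m, hm, hmC, hmz⟩ := h.trans _ _ hbase hz
  -- `m n m • x₀ = n • x₀`
  have hmn : m * n ∈ M := M.mul_mem hm hn
  have hmnC : ∀ b ∈ Y, m * n * b = b * (m * n) := by
    intro b hb
    rw [mul_assoc, hnC b hb, ← mul_assoc, hmC b hb, mul_assoc]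
  have h1 := hn2 (m * n) hmn hmnC _ hbase
  -- `m n m n • x₀ = x₀`
  have h2 : n • (QuotientGroup.mk 1 : G ⧸ H) = QuotientGroup.mk 1 := by
    have hnb : n • (QuotientGroup.mk 1 : G ⧸ H) ∈ Fix H X := smul_mem_Fix H X n hn _ hbase
    -- `n x₀ = m n m x₀ = m n z = m z = m m x₀ = x₀`
    have e1 : m • n • m • (n • n • (QuotientGroup.mk 1 : G ⧸ H)) =
        n • (QuotientGroup.mk 1 : G ⧸ H) := by
      have h3 := hn2 (m * n) hmn hmnC _ hnb
      simpa [mul_smul] using h3
    rw [hn2 n hn hnC _ hbase, hmz, hnz, ← hmz, hn2 m hm hmC _ hbase] at e1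
    exact e1.symm
  exact hx1 (hnx.symm.trans h2)

end Cfsg.Agent.CoThreeStd.Special
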