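import Cfsg.Agent.CoThreeStd.HFacts
import Cfsg.Agent.CoThreeStd.Special
import Cfsg.Agent.CoThreeStd.DihStep

/-!
# The closing of S1750

`φ : K →* G` injective, `K` with `HFacts.Facts`, `C_G(φ t) ≤ φ(K)` and fusion of `t` controlled: then
`φ(K) = G` (`range_eq_top`).
-/

set_option autoImplicit false

namespace Cfsg.Agent.CoThreeStd.CloseH

open Cfsg.Agent.SporRec.Closing Cfsg.Agent.CoThreeStd.HFacts

variable {K G : Type*} [Group K] [Group G]

/-- the situation of the closing -/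
structure Ctx (F : Facts K) (φ : K →* G) : Prop where
  inj : Function.Injective φ
  cent : ∀ g : G, g * φ F.t = φ F.t * g → g ∈ φ.range
  fus : ∀ k : K, IsConj (φ F.t) (φ k) → IsConj F.t k

/-- the class of `t` in `G` -/
def D (F : Facts K) (φ : K →* G) : Set G := {d | IsConj (φ F.t) d}

/-- the embedding belonging to the point `g H` -/
def em (φ : K →* G) (g : G) : K →* G := (MulAut.conj g).toMonoidHom.comp φ

theorem em_apply (φ : K →* G) (g : G) (k : K) : em φ g k = g * φ k * g⁻¹ := rfl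

theorem em_mul (φ : K →* G) (g : G) (h k : K) : em φ (g * φ h) k = em φ g (h * k * h⁻¹) := by
  simp only [em_apply, map_mul, map_inv]
  group

section

variable {F : Facts K} {φ : K →* G}

theorem D_conj {d e : G} (hd : d ∈ D F φ) (h : IsConj d e) : e ∈ D F φ := IsConj.trans hd h

theorem Ctx.em_inj (h : Ctx F φ) (g : G) : Function.Injective (em φ g) := by
  intro a b hab
  rw [em_apply, em_apply] at hab
  exact h.inj (mul_left_cancel (mul_right_cancel hab))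

theorem em_isConj (g : G) (k : K) : IsConj (φ k) (em φ g k) := isConj_iff.2 ⟨g, rfl⟩

theorem Ctx.em_mem_D (h : Ctx F φ) (g : G) (k : K) : em φ g k ∈ D F φ ↔ IsConj F.t k := by
  constructor
  · intro hk
    exact h.fus k (IsConj.trans hk (em_isConj g k).symm)
  · intro hk
    obtain ⟨c, rfl⟩ := isConj_iff.1 hk
    refine IsConj.trans (isConj_iff.2 ⟨φ c, ?_⟩) (em_isConj g _)
    simp

theorem smul_iff (g s : G) :
    s • (QuotientGroup.mk g : G ⧸ φ.range) = QuotientGroup.mk g ↔ ∃ k, em φ g k = s := by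
  rw [smul_mk_eq_iff]
  constructor
  · rintro ⟨k, hk⟩
    refine ⟨k, ?_⟩
    rw [em_apply, hk]
    group
  · rintro ⟨k, rfl⟩
    refine ⟨k, ?_⟩
    rw [em_apply]
    group

theorem mk_mul_range (g : G) (h : K) :
    (QuotientGroup.mk (g * φ h) : G ⧸ φ.range) = QuotientGroup.mk g := by
  rw [QuotientGroup.eq]
  refine ⟨h⁻¹, ?_⟩
  simp

theorem Ctx.one (h : Ctx F φ) : ∀ d ∈ D F φ, ∀ p q : G ⧸ φ.range, d • p = p → d • q = q → p = q := by
  intro d hd p q hp hq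
  obtain ⟨g, rfl⟩ := isConj_iff.1 hd
  have hC : Subgroup.centralizer ({φ F.t} : Set G) ≤ φ.range := by
    intro g hg
    exact h.cent g (Subgroup.mem_centralizer_singleton_iff.1 hg)
  have hcl : ∀ g, g * φ F.t * g⁻¹ ∈ φ.range →
      ∃ h ∈ φ.range, h * φ F.t * h⁻¹ = g * φ F.t * g⁻¹ := by
    rintro g ⟨k, hk⟩
    obtain ⟨c, hc⟩ := isConj_iff.1 (h.fus k (isConj_iff.2 ⟨g, hk.symm⟩))
    refine ⟨φ c, ⟨c, rfl⟩, ?_⟩
    rw [← hk, ← hc]
    simp
  exact (z_fix _ _ hC hcl g p hp).trans (z_fix _ _ hC hcl g q hq).symm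

/-- `Nd` in `G` -/
def NG (F : Facts K) (φ : K →* G) (s : G) : Prop := s * s = 1 ∧ s ≠ 1 ∧ s ∉ D F φ

theorem Ctx.nd_iff (h : Ctx F φ) (g : G) (k : K) : NG F φ (em φ g k) ↔ Nd F.t k := by
  have h1 := h.em_inj g
  unfold NG Nd
  rw [h.em_mem_D, ← map_mul, ← map_one (em φ g), h1.eq_iff, h1.ne_iff]

theorem mem_W_v (F : Facts K) : F.v ∈ F.W := (F.mem_W _).2 (Or.inr (Or.inl rfl))

theorem mem_W_w (F : Facts K) : F.w ∈ F.W := (F.mem_W _).2 (Or.inr (Or.inr (Or.inl rfl)))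

theorem W_le (F : Facts K) : F.W ≤ F.Y3 := fun x hx => (F.mem_Y3 x).2 (Or.inl hx)

theorem mem_Y3_z (F : Facts K) : F.z ∈ F.Y3 :=
  (F.mem_Y3 _).2 (Or.inr (by rw [F.z_nd.1]; exact F.W.one_mem))

/-- `Fc` at a point -/
theorem Ctx.mulN (h : Ctx F φ) {a b : G} {x : G ⧸ φ.range} (ha : NG F φ a) (hb : NG F φ b)
    (hax : a • x = x) (hbx : b • x = x) (hab : a * b = b * a) (hne : a ≠ b) : NG F φ (a * b) := by
  induction x using QuotientGroup.induction_on with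
  | H g =>
    obtain ⟨k, rfl⟩ := (smul_iff g a).1 hax
    obtain ⟨l, rfl⟩ := (smul_iff g b).1 hbx
    rw [h.nd_iff] at ha hb
    rw [← map_mul, h.nd_iff]
    rw [← map_mul, ← map_mul] at hab
    exact F.Fc k l ha hb (h.em_inj g hab) (fun e => hne (by rw [e]))

/-- `F0` at a point: an embedding at `x` with `v ↦ z` -/
theorem Ctx.at_one (h : Ctx F φ) {z : G} {x : G ⧸ φ.range} (hz : NG F φ z) (hzx : z • x = x) :
    ∃ g : G, (QuotientGroup.mk g : G ⧸ φ.range) = x ∧ em φ g F.v = z := by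
  induction x using QuotientGroup.induction_on with
  | H g =>
    obtain ⟨k, rfl⟩ := (smul_iff g z).1 hzx
    rw [h.nd_iff] at hz
    obtain ⟨c, hc⟩ := F.F0 k hz
    refine ⟨g * φ c, mk_mul_range g c, ?_⟩
    rw [em_mul, ← hc]
    congr 1
    group

/-- elements of the closure of two commuting involutions -/
theorem mem_closure_two {L : Type*} [Group L] {a b : L} (ha : a * a = 1) (hb : b * b = 1)
    (hab : a * b = b * a) (x : L) :
    x ∈ Subgroup.closure ({a, b} : Set L) ↔ x = 1 ∨ x = a ∨ x = b ∨ x = a * b := by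
  have hai : a⁻¹ = a := inv_eq_of_mul_eq_one_left ha
  have hbi : b⁻¹ = b := inv_eq_of_mul_eq_one_left hb
  constructor
  · intro hx
    induction hx using Subgroup.closure_induction with
    | mem x hx =>
      rcases hx with rfl | hx
      · exact Or.inr (Or.inl rfl)
      · exact Or.inr (Or.inr (Or.inl hx))
    | one => exact Or.inl rfl
    | mul x y _ _ hx hy =>
      have e1 : a * (a * b) = b := by rw [← mul_assoc, ha, one_mul]
      have e2 : b * (a * b) = a := by rw [hab, ← mul_assoc, hb, one_mul]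
      have e3 : a * b * a = b := by rw [hab, mul_assoc, ha, mul_one]
      have e4 : a * b * b = a := by rw [mul_assoc, hb, mul_one]
      have e5 : a * b * (a * b) = 1 := by rw [mul_assoc, e2, ha]
      rcases hx with rfl | rfl | rfl | rfl <;> rcases hy with rfl | rfl | rfl | rfl
      all_goals simp only [one_mul, mul_one, e1, e2, e3, e4, e5, ha, hb, ← hab, true_or, or_true]
    | inv x _ hx =>
      rcases hx with rfl | rfl | rfl | rfl
      · left; simp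
      · right; left; exact hai
      · right; right; left; exact hbi
      · right; right; right; rw [mul_inv_rev, hai, hbi, hab]
  · rintro (rfl | rfl | rfl | rfl)
    · exact Subgroup.one_mem _
    · exact Subgroup.subset_closure (Or.inl rfl)
    · exact Subgroup.subset_closure (Or.inr rfl)
    · exact Subgroup.mul_mem _ (Subgroup.subset_closure (Or.inl rfl))
        (Subgroup.subset_closure (Or.inr rfl))

/-- `{1, z₁, z₂, z₁ z₂}` -/
def four (z₁ z₂ : G) : Set G := {s | s = 1 ∨ s = z₁ ∨ s = z₂ ∨ s = z₁ * z₂}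

/-- `F1` at a point: an embedding at `x` with `W ↦ {1, z₁, z₂, z₁ z₂}` -/
theorem Ctx.at_two (h : Ctx F φ) {z₁ z₂ : G} {x : G ⧸ φ.range} (h1 : NG F φ z₁) (h2 : NG F φ z₂)
    (hx1 : z₁ • x = x) (hx2 : z₂ • x = x) (h12 : z₁ * z₂ = z₂ * z₁) (hne : z₁ ≠ z₂) :
    ∃ g : G, (QuotientGroup.mk g : G ⧸ φ.range) = x ∧
      ∀ k, em φ g k ∈ four z₁ z₂ ↔ k ∈ F.W := by
  induction x using QuotientGroup.induction_on with
  | H g =>
    obtain ⟨a, rfl⟩ := (smul_iff g z₁).1 hx1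
    obtain ⟨b, rfl⟩ := (smul_iff g z₂).1 hx2
    rw [h.nd_iff] at h1 h2
    rw [← map_mul, ← map_mul] at h12
    have hab := h.em_inj g h12
    obtain ⟨c, hc⟩ := F.F1 a b h1 h2 hab (fun e => hne (by rw [e]))
    refine ⟨g * φ c, mk_mul_range g c, ?_⟩
    intro k
    rw [em_mul]
    have e1 : em φ g (c * k * c⁻¹) ∈ four (em φ g a) (em φ g b) ↔
        c * k * c⁻¹ ∈ Subgroup.closure ({a, b} : Set K) := by
      rw [mem_closure_two h1.1 h2.1 hab]
      unfold four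
      rw [Set.mem_ofPred_eq, ← map_mul, ← map_one (em φ g)]
      simp only [(h.em_inj g).eq_iff]
    rw [e1, hc]
    have : c⁻¹ * (c * k * c⁻¹) * c = k := by group
    rw [this]

/-- `F2` at a point -/
theorem Ctx.at_three (h : Ctx F φ) {z₁ z₂ z₃ : G} {x : G ⧸ φ.range} (h1 : NG F φ z₁)
    (h2 : NG F φ z₂) (h3 : NG F φ z₃) (hx1 : z₁ • x = x) (hx2 : z₂ • x = x) (hx3 : z₃ • x = x)
    (h12 : z₁ * z₂ = z₂ * z₁) (h13 : z₁ * z₃ = z₃ * z₁) (h23 : z₂ * z₃ = z₃ * z₂) (hne : z₁ ≠ z₂)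
    (hnot : z₃ ∉ four z₁ z₂) :
    ∃ g : G, (QuotientGroup.mk g : G ⧸ φ.range) = x ∧
      (∀ k ∈ F.Y3, em φ g k ∈ Subgroup.closure ({z₁, z₂, z₃} : Set G)) ∧
      ∃ a b c : K, a ∈ F.Y3 ∧ b ∈ F.Y3 ∧ c ∈ F.Y3 ∧ em φ g a = z₁ ∧ em φ g b = z₂ ∧
        em φ g c = z₃ := by
  induction x using QuotientGroup.induction_on with
  | H g =>
    obtain ⟨a, rfl⟩ := (smul_iff g z₁).1 hx1
    obtain ⟨b, rfl⟩ := (smul_iff g z₂).1 hx2
    obtain ⟨c, rfl⟩ := (smul_iff g z₃).1 hx3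
    have hi := h.em_inj g
    rw [h.nd_iff] at h1 h2 h3
    rw [← map_mul, ← map_mul] at h12 h13 h23
    obtain ⟨d, hd⟩ := F.F2 a b c h1 h2 h3 (hi h12) (hi h13) (hi h23) (fun e => hne (by rw [e]))
      (fun e => hnot (Or.inr (Or.inl (by rw [e])))) (fun e => hnot (Or.inr (Or.inr (Or.inl (by rw [e])))))
      (fun e => hnot (Or.inr (Or.inr (Or.inr (by rw [e, map_mul])))))
    have hmap : ∀ k ∈ Subgroup.closure ({a, b, c} : Set K),
        em φ g k ∈ Subgroup.closure ({em φ g a, em φ g b, em φ g c} : Set G) := by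
      intro k hk
      have h5 : (Subgroup.closure ({a, b, c} : Set K)) ≤
          (Subgroup.closure ({em φ g a, em φ g b, em φ g c} : Set G)).comap (em φ g) := by
        rw [Subgroup.closure_le]
        rintro y (rfl | rfl | rfl)
        · exact Subgroup.subset_closure (Or.inl rfl)
        · exact Subgroup.subset_closure (Or.inr (Or.inl rfl))
        · exact Subgroup.subset_closure (Or.inr (Or.inr rfl))
      exact h5 hk
    refine ⟨g * φ d, mk_mul_range g d, ?_, d⁻¹ * a * d, d⁻¹ * b * d, d⁻¹ * c * d, ?_, ?_, ?_, ?_,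
      ?_, ?_⟩
    · intro k hk
      rw [em_mul]
      apply hmap
      rw [hd]
      have : d⁻¹ * (d * k * d⁻¹) * d = k := by group
      rw [this]
      exact hk
    · exact (hd a).1 (Subgroup.subset_closure (Or.inl rfl))
    · exact (hd b).1 (Subgroup.subset_closure (Or.inr (Or.inl rfl)))
    · exact (hd c).1 (Subgroup.subset_closure (Or.inr (Or.inr rfl)))
    all_goals
      rw [em_mul]
      congr 1
      group

/-! ### Step 3 -/

/-- the image of `Y3` -/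
def YY (F : Facts K) (φ : K →* G) : Subgroup G := F.Y3.map φ

/-- `C_S(Y3)` in `G` -/
def PP (F : Facts K) (φ : K →* G) : Subgroup G :=
  F.S.map φ ⊓ Subgroup.centralizer ((YY F φ : Subgroup G) : Set G)

theorem map_mem_YY (h : Ctx F φ) (k : K) : φ k ∈ YY F φ ↔ k ∈ F.Y3 := by
  constructor
  · rintro ⟨l, hl, hkl⟩
    rwa [← h.inj hkl]
  · intro hk
    exact ⟨k, hk, rfl⟩

theorem mem_PP (h : Ctx F φ) (p : G) :
    p ∈ PP F φ ↔ ∃ s ∈ F.S, (∀ x ∈ F.Y3, s * x = x * s) ∧ φ s = p := by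
  constructor
  · rintro ⟨⟨s, hs, rfl⟩, hc⟩
    refine ⟨s, hs, ?_, rfl⟩
    intro x hx
    have h1 := Subgroup.mem_centralizer_iff.1 hc (φ x) ⟨x, hx, rfl⟩
    rw [← map_mul, ← map_mul] at h1
    exact (h.inj h1).symm
  · rintro ⟨s, hs, hc, rfl⟩
    refine ⟨⟨s, hs, rfl⟩, ?_⟩
    show φ s ∈ Subgroup.centralizer ((YY F φ : Subgroup G) : Set G)
    rw [Subgroup.mem_centralizer_iff]
    rintro _ ⟨x, hx, rfl⟩
    rw [← map_mul, ← map_mul, hc x hx]

theorem mem_Y3_iff_cases (F : Facts K) {x : K} (hx : x ∈ F.Y3) :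
    ∃ w ∈ F.W, x = w ∨ x = F.z * w := by
  rcases (F.mem_Y3 x).1 hx with hw | hw
  · exact ⟨x, hw, Or.inl rfl⟩
  · refine ⟨F.z * x, hw, Or.inr ?_⟩
    rw [← mul_assoc, F.z_nd.1, one_mul]

theorem Y3_le_closure (F : Facts K) :
    F.Y3 ≤ Subgroup.closure ({F.v, F.w, F.z} : Set K) := by
  intro x hx
  have hv : F.v ∈ Subgroup.closure ({F.v, F.w, F.z} : Set K) :=
    Subgroup.subset_closure (Or.inl rfl)
  have hw : F.w ∈ Subgroup.closure ({F.v, F.w, F.z} : Set K) :=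
    Subgroup.subset_closure (Or.inr (Or.inl rfl))
  have hz : F.z ∈ Subgroup.closure ({F.v, F.w, F.z} : Set K) :=
    Subgroup.subset_closure (Or.inr (Or.inr rfl))
  have hW : F.W ≤ Subgroup.closure ({F.v, F.w, F.z} : Set K) := by
    intro y hy
    rcases (F.mem_W y).1 hy with rfl | rfl | rfl | rfl
    · exact Subgroup.one_mem _
    · exact hv
    · exact hw
    · exact Subgroup.mul_mem _ hv hw
  obtain ⟨w, hw', rfl | rfl⟩ := mem_Y3_iff_cases F hx
  · exact hW hw'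
  · exact Subgroup.mul_mem _ hz (hW hw')

/-- the set-up of the relative step for `Y3` -/
theorem Ctx.setup [Finite G] (h : Ctx F φ) :
    Step.Setup φ.range (D F φ) (YY F φ) (PP F φ) where
  conjD := fun d hd g => D_conj hd (isConj_iff.2 ⟨g, rfl⟩)
  one := h.one
  comm := by
    rintro _ ⟨a, ha, rfl⟩ _ ⟨b, hb, rfl⟩
    rw [← map_mul, ← map_mul, F.comm_Y3 a ha b hb]
  leH := by
    rintro _ ⟨a, ha, rfl⟩
    exact ⟨a, rfl⟩
  fus := by
    intro g hg
    -- the images of `v, w, z`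
    obtain ⟨a, ha⟩ := hg (φ F.v) ⟨_, W_le F (mem_W_v F), rfl⟩
    obtain ⟨b, hb⟩ := hg (φ F.w) ⟨_, W_le F (mem_W_w F), rfl⟩
    obtain ⟨c, hc⟩ := hg (φ F.z) ⟨_, mem_Y3_z F, rfl⟩
    have key : ∀ k l : K, φ k = g⁻¹ * φ l * g → Nd F.t l → Nd F.t k := by
      intro k l hkl hl
      have h1 : em φ g k = φ l := by rw [em_apply, hkl]; group
      have h2 : em φ 1 l = φ l := by rw [em_apply]; group
      rw [← h.nd_iff g k, h1, ← h2, h.nd_iff 1 l]
      exact hl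
    have hcom : ∀ k l k' l' : K, φ k = g⁻¹ * φ l * g → φ k' = g⁻¹ * φ l' * g → l * l' = l' * l →
        k * k' = k' * k := by
      intro k l k' l' h1 h2 h3
      apply h.inj
      rw [map_mul, map_mul, h1, h2]
      have h4 : φ l * φ l' = φ l' * φ l := by rw [← map_mul, ← map_mul, h3]
      calc g⁻¹ * φ l * g * (g⁻¹ * φ l' * g) = g⁻¹ * (φ l * φ l') * g := by group
        _ = g⁻¹ * (φ l' * φ l) * g := by rw [h4]
        _ = _ := by group
    have hne : ∀ k l k' l' : K, φ k = g⁻¹ * φ l * g → φ k' = g⁻¹ * φ l' * g → k = k' → l = l' := by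
      intro k l k' l' h1 h2 h3
      apply h.inj
      rw [h3] at h1
      have h4 : g⁻¹ * φ l * g = g⁻¹ * φ l' * g := h1.symm.trans h2
      exact mul_left_cancel (mul_right_cancel h4)
    have hzW : ∀ x ∈ F.W, F.z ≠ x := by
      intro x hx e
      exact F.z_notin (e ▸ hx)
    obtain ⟨d, hd⟩ := F.F2 a b c (key a F.v ha F.v_nd) (key b F.w hb F.w_nd) (key c F.z hc F.z_nd)
      (hcom a F.v b F.w ha hb F.v_w) (hcom a F.v c F.z ha hc F.v_z) (hcom b F.w c F.z hb hc F.w_z)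
      (fun e => F.v_ne_w (hne a F.v b F.w ha hb e))
      (fun e => hzW _ (mem_W_v F) (hne c F.z a F.v hc ha e))
      (fun e => hzW _ (mem_W_w F) (hne c F.z b F.w hc hb e))
      (fun e => hzW _ (F.W.mul_mem (mem_W_v F) (mem_W_w F)) (hne c F.z (a * b) (F.v * F.w) hc (by
        rw [map_mul, map_mul, ha, hb]; group) e))
    refine ⟨φ d, ⟨d, rfl⟩, ?_⟩
    rintro _ ⟨y, hy, rfl⟩
    -- `g⁻¹ φ(y) g = φ y'` with `y' ∈ closure {a, b, c}`
    have hle : Subgroup.closure ({F.v, F.w, F.z} : Set K) ≤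
        ((Subgroup.closure ({a, b, c} : Set K)).map (em φ g)).comap φ := by
      rw [Subgroup.closure_le]
      rintro x (rfl | rfl | rfl)
      · exact ⟨a, Subgroup.subset_closure (Or.inl rfl), by rw [em_apply, ha]; group⟩
      · exact ⟨b, Subgroup.subset_closure (Or.inr (Or.inl rfl)), by rw [em_apply, hb]; group⟩
      · exact ⟨c, Subgroup.subset_closure (Or.inr (Or.inr rfl)), by rw [em_apply, hc]; group⟩
    obtain ⟨y', hy', hyy⟩ := hle (Y3_le_closure F hy)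
    have h1 := (hd y').1 hy'
    have h2 : (φ d)⁻¹ * (g⁻¹ * φ y * g) * φ d = φ (d⁻¹ * y' * d) := by
      rw [← hyy, em_apply, map_mul, map_mul, map_inv]
      group
    rw [h2]
    exact ⟨_, h1, rfl⟩
  two := by
    have h1 : IsPGroup 2 (F.S.map φ) := F.two_S.map φ
    exact h1.to_le inf_le_left
  PH := by
    rintro _ ⟨⟨s, hs, rfl⟩, -⟩
    exact ⟨s, rfl⟩
  PC := by
    intro a ha b hb
    exact (Subgroup.mem_centralizer_iff.1 ha.2 b hb).symm
  YP := by
    rintro _ ⟨a, ha, rfl⟩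
    rw [mem_PP h]
    exact ⟨a, F.Y3_S ha, fun x hx => F.comm_Y3 a ha x hx, rfl⟩
  syl := by
    intro R hR hRH hRC
    have hT : IsPGroup 2 (F.S.map φ) := F.two_S.map φ
    refine Step.syl_of_normal φ.range (F.S.map φ) (YY F φ) hT ?_ ?_ ?_ R hR hRH hRC
    · rintro _ ⟨s, hs, rfl⟩
      exact ⟨s, rfl⟩
    · rintro _ ⟨s, hs, rfl⟩
      have h1 := F.S_Y3 hs
      rw [Subgroup.mem_normalizer_iff] at h1 ⊢
      intro x
      constructor
      · rintro ⟨y, hy, rfl⟩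
        exact ⟨s * y * s⁻¹, (h1 y).1 hy, by simp⟩
      · rintro ⟨y, hy, hxy⟩
        refine ⟨s⁻¹ * y * s, ?_, ?_⟩
        · have h2 := (h1 (s⁻¹ * y * s)).2
          apply h2
          have : s * (s⁻¹ * y * s) * s⁻¹ = y := by group
          rw [this]
          exact hy
        · rw [map_mul, map_mul, map_inv, hxy]
          group
    · intro Q hQ hQH
      have h2 : IsPGroup 2 (Q.comap φ) := hQ.comap_of_injective φ h.inj
      obtain ⟨c, hc⟩ := F.syl _ h2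
      refine ⟨φ c, ⟨c, rfl⟩, ?_⟩
      intro r hr
      obtain ⟨k, rfl⟩ := hQH hr
      refine ⟨c⁻¹ * k * c, hc k hr, ?_⟩
      simp
  meet := by
    refine ⟨φ F.t, ?_, IsConj.refl _⟩
    rw [mem_PP h]
    exact ⟨F.t, F.t_S, F.Fa, rfl⟩

/-- STEP 3, core -/
theorem Ctx.not_two [Finite G] (h : Ctx F φ) : ¬ Step.Two φ.range (YY F φ) := by
  apply h.setup.not_two
  intro X hX
  have hDc : ∀ d ∈ D F φ, ∀ g : G, g * d * g⁻¹ ∈ D F φ := h.setup.conjD
  have hfree : ∀ k : K, φ k ∈ X → ¬ IsConj F.t k := by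
    intro k hk hc
    have h1 : em φ 1 k = φ k := by rw [em_apply]; group
    exact hX.free _ hk (by rw [← h1, h.em_mem_D]; exact hc)
  have hD : ∀ k : K, φ k ∈ D F φ ↔ IsConj F.t k := by
    intro k
    have h1 : em φ 1 k = φ k := by rw [em_apply]; group
    rw [← h1, h.em_mem_D]
  -- the elements of `X`
  have hXel : ∀ p ∈ X, ∃ s ∈ F.S, (∀ x ∈ F.Y3, s * x = x * s) ∧ φ s = p ∧
      (s ∈ F.K3 ∨ F.e0⁻¹ * s ∈ F.Y3) := by
    intro p hp
    obtain ⟨s, hs, hc, rfl⟩ := (mem_PP h p).1 (hX.le' hp)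
    refine ⟨s, hs, hc, rfl, ?_⟩
    rcases F.P3_cases s hs hc with h1 | h1 | h1
    · exact Or.inl h1
    · exact absurd h1 (hfree s hp)
    · exact Or.inr h1
  have hYX : ∀ x ∈ F.Y3, φ x ∈ X := fun x hx => hX.le ⟨x, hx, rfl⟩
  have htX : φ F.t ∉ X := fun hh => hfree _ hh (IsConj.refl _)
  have htC : ∀ b ∈ YY F φ, φ F.t * b = b * φ F.t := by
    rintro _ ⟨x, hx, rfl⟩
    rw [← map_mul, ← map_mul, F.Fa x hx]
  have htt : φ F.t * φ F.t = 1 := by rw [← map_mul, F.t_mul, map_one]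
  by_cases he0 : φ F.e0 ∈ X
  · -- `X = Y3 ∪ e0 Y3`
    have hXcases : ∀ p ∈ X, p ∈ YY F φ ∨ (φ F.e0)⁻¹ * p ∈ YY F φ := by
      intro p hp
      obtain ⟨s, hs, hc, rfl, h1 | h1⟩ := hXel p hp
      · left
        have h2 : φ (F.e0 * s) ∈ X := by rw [map_mul]; exact X.mul_mem he0 hp
        obtain ⟨s', hs', hc', hss, h3 | h3⟩ := hXel _ h2
        · exfalso
          have h4 := h.inj hss
          rw [h4] at h3
          apply F.e0_K3
          have h5 := F.K3.mul_mem h3 (F.K3.inv_mem h1)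
          rwa [mul_inv_cancel_right] at h5
        · have h4 := h.inj hss
          rw [h4, ← mul_assoc, inv_mul_cancel, one_mul] at h3
          exact ⟨s, h3, rfl⟩
      · right
        exact ⟨F.e0⁻¹ * s, h1, by simp⟩
    have hYab : ∀ a ∈ YY F φ, ∀ b ∈ YY F φ, a * b = b * a := h.setup.comm
    have he0Y : ∀ b ∈ YY F φ, φ F.e0 * b = b * φ F.e0 := by
      rintro _ ⟨x, hx, rfl⟩
      rw [← map_mul, ← map_mul, F.e0_Y3 x hx]
    have hXab : ∀ a ∈ X, ∀ b ∈ X, a * b = b * a := by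
      intro a ha b hb
      have key : ∀ p ∈ X, ∃ q ∈ YY F φ, p = q ∨ p = φ F.e0 * q := by
        intro p hp
        rcases hXcases p hp with h1 | h1
        · exact ⟨p, h1, Or.inl rfl⟩
        · exact ⟨_, h1, Or.inr (by group)⟩
      obtain ⟨a', ha', haa⟩ := key a ha
      obtain ⟨b', hb', hbb⟩ := key b hb
      have hab := hYab a' ha' b' hb'
      have ha0 := he0Y a' ha'
      have hb0 := he0Y b' hb'
      rcases haa with rfl | rfl <;> rcases hbb with rfl | rfl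
      · exact hab
      · rw [← mul_assoc, ← ha0, mul_assoc, hab, mul_assoc]
      · rw [mul_assoc, hab, ← mul_assoc, hb0, mul_assoc]
      · calc φ F.e0 * a' * (φ F.e0 * b') = φ F.e0 * (a' * φ F.e0) * b' := by group
          _ = φ F.e0 * φ F.e0 * (a' * b') := by rw [← ha0]; group
          _ = φ F.e0 * φ F.e0 * (b' * a') := by rw [hab]
          _ = φ F.e0 * (φ F.e0 * b') * a' := by group
          _ = φ F.e0 * (b' * φ F.e0) * a' := by rw [hb0]
          _ = _ := by group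
    -- elements of `S` centralising `Y3` normalise `X`
    have hnorm : ∀ s ∈ F.S, (∀ x ∈ F.Y3, s * x = x * s) → φ s ∈ Subgroup.normalizer (X : Set G) := by
      have h1 : ∀ s ∈ F.S, (∀ x ∈ F.Y3, s * x = x * s) → ∀ p ∈ X, φ s * p * (φ s)⁻¹ ∈ X := by
        intro s hs hc p hp
        -- `s e0 s⁻¹ ∈ e0 Y3`
        have h2 : F.e0⁻¹ * (s * F.e0 * s⁻¹) ∈ F.Y3 := by
          have h3 : s * F.e0 * s⁻¹ ∈ F.S := F.S.mul_mem (F.S.mul_mem hs F.e0_S) (F.S.inv_mem hs)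
          have hsi : ∀ x ∈ F.Y3, s⁻¹ * x = x * s⁻¹ := by
            intro x hx
            calc s⁻¹ * x = s⁻¹ * (x * s) * s⁻¹ := by group
              _ = s⁻¹ * (s * x) * s⁻¹ := by rw [hc x hx]
              _ = x * s⁻¹ := by group
          have h4 : ∀ x ∈ F.Y3, s * F.e0 * s⁻¹ * x = x * (s * F.e0 * s⁻¹) := by
            intro x hx
            calc s * F.e0 * s⁻¹ * x = s * F.e0 * (s⁻¹ * x) := by group
              _ = s * (F.e0 * x) * s⁻¹ := by rw [hsi x hx]; group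
              _ = (s * x) * F.e0 * s⁻¹ := by rw [F.e0_Y3 x hx]; group
              _ = x * (s * F.e0 * s⁻¹) := by rw [hc x hx]; group
          rcases F.P3_cases _ h3 h4 with h5 | h5 | h5
          · exfalso
            apply F.e0_K3
            exact (Subgroup.mem_normalizer_iff.1 (F.S_K3 hs) _).2 h5
          · exfalso
            have h6 := F.free_E 1 F.Y3.one_mem
            apply h6
            rw [mul_one]
            exact h5.trans (isConj_iff.2 ⟨s⁻¹, by group⟩)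
          · exact h5
        rcases hXcases p hp with h3 | h3
        · obtain ⟨x, hx, rfl⟩ := h3
          have : φ s * φ x * (φ s)⁻¹ = φ x := by
            rw [← map_mul, hc x hx, map_mul, mul_inv_cancel_right]
          rw [this]
          exact hYX x hx
        · obtain ⟨x, hx, hxp⟩ := h3
          have hp' : p = φ F.e0 * φ x := by rw [hxp]; group
          have h4 : φ s * p * (φ s)⁻¹ = φ F.e0 * φ (F.e0⁻¹ * (s * F.e0 * s⁻¹)) * φ x := by
            have h5 : s * x * s⁻¹ = x := by rw [hc x hx, mul_inv_cancel_right]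
            rw [hp']
            calc φ s * (φ F.e0 * φ x) * (φ s)⁻¹ = φ (s * F.e0 * s⁻¹) * φ (s * x * s⁻¹) := by
                  simp only [map_mul, map_inv]; group
              _ = φ (s * F.e0 * s⁻¹) * φ x := by rw [h5]
              _ = _ := by simp only [map_mul, map_inv]; group
          rw [h4]
          exact X.mul_mem (X.mul_mem he0 (hYX _ h2)) (hYX _ hx)
      intro s hs hc
      rw [Subgroup.mem_normalizer_iff]
      intro p
      constructor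
      · exact h1 s hs hc p
      · intro hp
        have hsi : ∀ x ∈ F.Y3, s⁻¹ * x = x * s⁻¹ := by
          intro x hx
          calc s⁻¹ * x = s⁻¹ * (x * s) * s⁻¹ := by group
            _ = s⁻¹ * (s * x) * s⁻¹ := by rw [hc x hx]
            _ = x * s⁻¹ := by group
        have h2 := h1 s⁻¹ (F.S.inv_mem hs) hsi _ hp
        have : φ s⁻¹ * (φ s * p * (φ s)⁻¹) * (φ s⁻¹)⁻¹ = p := by rw [map_inv]; group
        rwa [this] at h2
    obtain ⟨d, hdS, hdC, hdY, hdE, hne⟩ := F.H6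
    have hdX : φ d ∉ X := by
      intro hh
      rcases hXcases _ hh with h1 | h1
      · exact hdY ((map_mem_YY h d).1 h1)
      · apply hdE
        rw [← map_mem_YY h, map_mul, map_inv]
        exact h1
    have h1 := Special.transvection hX hXab (φ F.e0) he0 hXcases (hnorm F.t F.t_S F.Fa) htC htX
      (by rw [htt]; exact X.one_mem) (hnorm d hdS hdC) (by
        rintro _ ⟨x, hx, rfl⟩
        rw [← map_mul, ← map_mul, hdC x hx]) hdX (by
        rw [← map_mul]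
        exact hYX _ (F.H1 d hdS hdC))
    apply hne
    apply h.inj
    simp only [map_mul, map_inv]
    exact h1.symm
  · -- `X ≤ K3`
    have hXK : ∀ p ∈ X, ∃ k ∈ F.K3, φ k = p := by
      intro p hp
      obtain ⟨s, hs, hc, rfl, h1 | h1⟩ := hXel p hp
      · exact ⟨s, h1, rfl⟩
      · exfalso
        apply he0
        have h2 : φ F.e0 = φ s * (φ (F.e0⁻¹ * s))⁻¹ := by
          rw [map_mul, map_inv]; group
        rw [h2]
        exact X.mul_mem hp (X.inv_mem (hYX _ h1))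
    have hXab : ∀ a ∈ X, ∀ b ∈ X, a * b = b * a := by
      intro a ha b hb
      obtain ⟨k, hk, rfl⟩ := hXK a ha
      obtain ⟨l, hl, rfl⟩ := hXK b hb
      rw [← map_mul, ← map_mul, F.comm_K3 k hk l hl]
    have htN : φ F.t ∈ Subgroup.normalizer (X : Set G) := by
      have h1 : ∀ p ∈ X, φ F.t * p * (φ F.t)⁻¹ = p⁻¹ := by
        intro p hp
        obtain ⟨k, hk, rfl⟩ := hXK p hp
        have hti : (φ F.t)⁻¹ = φ F.t := inv_eq_of_mul_eq_one_left htt
        rw [hti, ← map_mul, ← map_mul, F.inv_K3 k hk, map_inv]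
      rw [Subgroup.mem_normalizer_iff]
      intro p
      constructor
      · intro hp
        rw [h1 p hp]
        exact X.inv_mem hp
      · intro hp
        have h2 := h1 _ hp
        have hti : (φ F.t)⁻¹ = φ F.t := inv_eq_of_mul_eq_one_left htt
        have h3 : φ F.t * (φ F.t * p * (φ F.t)⁻¹) * (φ F.t)⁻¹ = p := by
          rw [hti]
          calc φ F.t * (φ F.t * p * φ F.t) * φ F.t
              = (φ F.t * φ F.t) * p * (φ F.t * φ F.t) := by group
            _ = p := by rw [htt]; group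
        rw [h3] at h2
        rw [h2]
        exact X.inv_mem hp
    by_cases hK : ∀ k ∈ F.K3, φ k ∈ X
    · -- `X = K3`
      obtain ⟨k0, hk0, hk01⟩ := F.four_K3
      have hnot : φ F.t * φ k0 ≠ φ k0 * φ F.t := by
        intro hh
        rw [← map_mul, ← map_mul] at hh
        have h1 := h.inj hh
        have h2 := F.inv_K3 k0 hk0
        rw [h1, mul_assoc, F.t_mul, mul_one] at h2
        apply hk01
        nth_rewrite 1 [h2]
        exact inv_mul_cancel _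
      have hyy : F.y * F.y = 1 := by
        obtain ⟨c, hc⟩ := isConj_iff.1 F.y_conj
        rw [← hc]
        calc c * F.t * c⁻¹ * (c * F.t * c⁻¹) = c * (F.t * F.t) * c⁻¹ := by group
          _ = 1 := by rw [F.t_mul]; group
      refine Special.homocyclic hX h.setup.PH h.one hXab ?_ ?_ htN htC htX
        (by rw [htt]; exact X.one_mem) (hK k0 hk0) hnot ((hD F.t).2 (IsConj.refl _))
        ((hD F.y).2 F.y_conj) ?_ ⟨F.t, rfl⟩ ⟨F.y, rfl⟩ htN ?_ htt ?_ ?_
      · intro x hx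
        obtain ⟨k, hk, rfl⟩ := hXK x hx
        rw [← map_mul]
        exact ⟨_, F.sq_K3 k hk, rfl⟩
      · intro x hx hxx
        obtain ⟨k, hk, rfl⟩ := hXK x hx
        rw [← map_mul, ← map_one φ] at hxx
        exact ⟨_, F.ker_K3 k hk (h.inj hxx), rfl⟩
      · rw [← map_mul, hD]
        exact F.ty_conj
      · rw [Subgroup.mem_normalizer_iff]
        have h1 := Subgroup.mem_normalizer_iff.1 (F.S_K3 F.y_S)
        intro p
        constructor
        · intro hp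
          obtain ⟨k, hk, rfl⟩ := hXK p hp
          rw [← map_mul, ← map_inv, ← map_mul]
          exact hK _ ((h1 k).1 hk)
        · intro hp
          obtain ⟨k, hk, hkp⟩ := hXK _ hp
          have h2 : p = φ (F.y⁻¹ * k * F.y) := by
            rw [map_mul, map_mul, map_inv, hkp]; group
          rw [h2]
          apply hK
          have h3 := (h1 (F.y⁻¹ * k * F.y)).2
          apply h3
          have : F.y * (F.y⁻¹ * k * F.y) * F.y⁻¹ = k := by group
          rw [this]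
          exact hk
      · rw [← map_mul, hyy, map_one]
      · rw [← map_mul, ← map_mul, F.t_y]
    · -- `X < K3`
      push Not at hK
      obtain ⟨k, hk, hkX⟩ := hK
      have hkN : φ k ∈ Subgroup.normalizer (X : Set G) := by
        apply mem_normalizer_of_comm
        intro s hs
        obtain ⟨l, hl, rfl⟩ := hXK s hs
        rw [← map_mul, ← map_mul, F.comm_K3 k hk l hl]
      obtain ⟨x, hx, hxD⟩ := hX.exists_of hDc htN htC htX (by rw [htt]; exact X.one_mem) hkN (by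
          rintro _ ⟨x, hx, rfl⟩
          rw [← map_mul, ← map_mul, F.comm_K3 k hk x (F.Y3_K3 hx)]) hkX (by
          rw [← map_mul]
          exact hYX _ (F.sq_K3 k hk)) ⟨1, X.one_mem, by rw [mul_one, hD]⟩
      obtain ⟨l, hl, rfl⟩ := hXK x hx
      rw [← map_mul, hD] at hxD
      exact F.free_K3 _ (F.K3.mul_mem hk hl) hxD

/-- STEP 3 -/
theorem Ctx.three [Finite G] (h : Ctx F φ) {z₁ z₂ z₃ : G} {x y : G ⧸ φ.range} (h1 : NG F φ z₁)
    (h2 : NG F φ z₂) (h3 : NG F φ z₃) (h12 : z₁ * z₂ = z₂ * z₁) (h13 : z₁ * z₃ = z₃ * z₁)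
    (h23 : z₂ * z₃ = z₃ * z₂) (hne : z₁ ≠ z₂) (hnot : z₃ ∉ four z₁ z₂)
    (hx1 : z₁ • x = x) (hx2 : z₂ • x = x) (hx3 : z₃ • x = x)
    (hy1 : z₁ • y = y) (hy2 : z₂ • y = y) (hy3 : z₃ • y = y) : x = y := by
  by_contra hxy
  obtain ⟨g, hg, hcl, -⟩ := h.at_three h1 h2 h3 hx1 hx2 hx3 h12 h13 h23 hne hnot
  apply h.not_two
  have hfix : ∀ p : G ⧸ φ.range, z₁ • p = p → z₂ • p = p → z₃ • p = p →
      p ∈ Fix φ.range (Subgroup.closure ({z₁, z₂, z₃} : Set G)) := by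
    intro p p1 p2 p3 s hs
    have : Subgroup.closure ({z₁, z₂, z₃} : Set G) ≤ MulAction.stabilizer G p := by
      rw [Subgroup.closure_le]
      rintro y (rfl | rfl | rfl)
      · exact p1
      · exact p2
      · exact p3
    exact this hs
  have h5 : Step.Two φ.range (Subgroup.closure ({z₁, z₂, z₃} : Set G)) :=
    ⟨x, y, hfix x hx1 hx2 hx3, hfix y hy1 hy2 hy3, hxy⟩
  refine h5.conj g⁻¹ ?_
  rintro _ ⟨k, hk, rfl⟩
  have := hcl k hk
  rw [em_apply] at this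
  rwa [inv_inv]

/-! ### Step 2 -/

theorem D_sq {d : G} (hd : d ∈ D F φ) : d * d = 1 := by
  obtain ⟨c, rfl⟩ := isConj_iff.1 hd
  have h1 : φ F.t * φ F.t = 1 := by rw [← map_mul, F.t_mul, map_one]
  calc c * φ F.t * c⁻¹ * (c * φ F.t * c⁻¹) = c * (φ F.t * φ F.t) * c⁻¹ := by group
    _ = 1 := by rw [h1]; group

theorem Ctx.ng_of_two (h : Ctx F φ) {s : G} {x y : G ⧸ φ.range} (hxy : x ≠ y) (hss : s * s = 1)
    (hs1 : s ≠ 1) (hx : s • x = x) (hy : s • y = y) : NG F φ s :=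
  ⟨hss, hs1, fun hD => hxy (h.one s hD x y hx hy)⟩

/-- a pair of commuting involutions outside `D` fixing the point `x` -/
structure Pr (F : Facts K) (φ : K →* G) (z₁ z₂ : G) (x : G ⧸ φ.range) : Prop where
  n1 : NG F φ z₁
  n2 : NG F φ z₂
  comm : z₁ * z₂ = z₂ * z₁
  ne : z₁ ≠ z₂
  f1 : z₁ • x = x
  f2 : z₂ • x = x

theorem comm_of_mem_four {z₁ z₂ a s : G} (h1 : a * z₁ = z₁ * a) (h2 : a * z₂ = z₂ * a)
    (hs : s ∈ four z₁ z₂) : a * s = s * a := by
  rcases hs with rfl | rfl | rfl | rfl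
  · simp
  · exact h1
  · exact h2
  · rw [← mul_assoc, h1, mul_assoc, h2, mul_assoc]

theorem Pr.mem_four [Finite G] (h : Ctx F φ) {z₁ z₂ s : G} {x y : G ⧸ φ.range}
    (Px : Pr F φ z₁ z₂ x) (Py : Pr F φ z₁ z₂ y) (hxy : x ≠ y) (hss : s * s = 1)
    (h1 : s * z₁ = z₁ * s) (h2 : s * z₂ = z₂ * s) (hx : s • x = x) (hy : s • y = y) :
    s ∈ four z₁ z₂ := by
  by_contra hno
  have hs1 : s ≠ 1 := fun e => hno (Or.inl e)
  exact hxy (h.three Px.n1 Px.n2 (h.ng_of_two hxy hss hs1 hx hy) Px.comm h1.symm h2.symm Px.ne hno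
    Px.f1 Px.f2 hx Py.f1 Py.f2 hy)

theorem Pr.step [Finite G] (h : Ctx F φ) {z₁ z₂ : G} {x y : G ⧸ φ.range}
    (Px : Pr F φ z₁ z₂ x) (Py : Pr F φ z₁ z₂ y) (hxy : x ≠ y) (C : Subgroup G)
    (hC : ∀ c ∈ C, c * z₁ = z₁ * c ∧ c * z₂ = z₂ * c) {a b : G} (ha : a ∈ D F φ)
    (hb : NG F φ b) (haC : a ∈ C) (hbC : b ∈ C) (hax : a • x = x) (hby : b • y = y)
    (hb4 : b ∉ four z₁ z₂) :
    ∃ u ∈ C, u • x = x ∧ u • y = y ∧ u * u ∈ four z₁ z₂ ∧ u * u ≠ 1 ∧ a * u * a = u⁻¹ ∧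
      b * u * b = u⁻¹ := by
  obtain ⟨c, hcC, hc1, hcc, hcx, hcy, hbc, hcase⟩ := DihStep.step (D := D F φ)
    (fun d hd e he => D_conj hd he) h.one ({z₁, z₂} : Set G) C (by
      rintro c hc s (rfl | rfl)
      · exact (hC c hc).1
      · exact (hC c hc).2) ha hb.2.2 (D_sq ha) hb.1 haC hbC hax hby (by
      rintro s (rfl | rfl)
      · exact Py.f1
      · exact Py.f2) (by
      intro p hp hbp
      exact h.three Px.n1 Px.n2 hb Px.comm (hC b hbC).1.symm (hC b hbC).2.symm Px.ne hb4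
        (hp _ (Or.inl rfl)) (hp _ (Or.inr rfl)) hbp Py.f1 Py.f2 hby)
  have hc4 : c ∈ four z₁ z₂ := Px.mem_four h Py hxy hcc (hC c hcC).1 (hC c hcC).2 hcx hcy
  rcases hcase with hD | ⟨u, huC, huu, hau, hbu, hux, huy⟩
  · exfalso
    have hcN := h.ng_of_two hxy hcc hc1 hcx hcy
    exact (h.mulN hb hcN hby hcy hbc (fun e => hb4 (e ▸ hc4))).2.2 hD
  · exact ⟨u, huC, hux, huy, by rw [huu]; exact hc4, by rw [huu]; exact hc1, hau, hbu⟩

theorem Pr.last [Finite G] (h : Ctx F φ) {z₁ z₂ a s u : G} {x y : G ⧸ φ.range}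
    (Px : Pr F φ z₁ z₂ x) (Py : Pr F φ z₁ z₂ y) (hxy : x ≠ y) (haa : a * a = 1)
    (ha1 : a * z₁ = z₁ * a) (ha2 : a * z₂ = z₂ * a) (has : a * s = s * a)
    (hs1 : s * z₁ = z₁ * s) (hs2 : s * z₂ = z₂ * s) (hu1 : u * z₁ = z₁ * u)
    (hu2 : u * z₂ = z₂ * u) (hsu : s * u = u * s) (hsx : s • x = x) (hsy : s • y = y)
    (hux : u • x = x) (huy : u • y = y) (hsq : s * s = u * u) (hu4 : u * u ∈ four z₁ z₂)
    (hne : u * u ≠ 1) (hau : a * u * a = u⁻¹) : False := by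
  have huuuu : u * u * (u * u) = 1 := by
    have e1 : z₁ * (z₁ * z₂) = z₂ := by rw [← mul_assoc, Px.n1.1, one_mul]
    have e2 : z₁ * z₂ * (z₁ * z₂) = 1 := by
      rw [mul_assoc, Px.comm, ← mul_assoc z₂ z₂, Px.n2.1, one_mul, Px.n1.1]
    rcases hu4 with e | e | e | e
    · rw [e, one_mul]
    · rw [e]; exact Px.n1.1
    · rw [e]; exact Px.n2.1
    · rw [e]; exact e2
  have h1 : s * u * (s * u) = 1 := by
    calc s * u * (s * u) = s * (u * s) * u := by group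
      _ = (s * s) * (u * u) := by rw [← hsu]; group
      _ = 1 := by rw [hsq, huuuu]
  have h2 : s * u ∈ four z₁ z₂ := by
    apply Px.mem_four h Py hxy h1
    · rw [mul_assoc, hu1, ← mul_assoc, hs1, mul_assoc]
    · rw [mul_assoc, hu2, ← mul_assoc, hs2, mul_assoc]
    · rw [mul_smul, hux, hsx]
    · rw [mul_smul, huy, hsy]
  have h3 := comm_of_mem_four ha1 ha2 h2
  have h4 : a * u = u * a := by
    have : s * (a * u) = s * (u * a) := by
      calc s * (a * u) = (s * a) * u := by group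
        _ = a * (s * u) := by rw [← has]; group
        _ = s * (u * a) := by rw [h3]; group
    exact mul_left_cancel this
  have h5 : u = u⁻¹ := by
    calc u = u * (a * a) := by rw [haa, mul_one]
      _ = a * u * a := by rw [h4]; group
      _ = u⁻¹ := hau
  apply hne
  nth_rewrite 1 [h5]
  exact inv_mul_cancel _

/-- the elements of `Stab x` commuting with `z₁`, `z₂` -/
theorem em_comm (h : Ctx F φ) (g : G) {k l : K} (hkl : em φ g k * em φ g l = em φ g l * em φ g k) :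
    k * l = l * k := by
  rw [← map_mul, ← map_mul] at hkl
  exact h.em_inj g hkl

theorem Pr.local_zero (h : Ctx F φ) {z₁ z₂ : G} {x : G ⧸ φ.range} (Px : Pr F φ z₁ z₂ x) :
    ∃ a b : G, (a ∈ D F φ ∧ a • x = x ∧ a * z₁ = z₁ * a ∧ a * z₂ = z₂ * a) ∧
      (NG F φ b ∧ b ∉ four z₁ z₂ ∧ b • x = x ∧ b * z₁ = z₁ * b ∧ b * z₂ = z₂ * b) := by
  obtain ⟨g, rfl, hW⟩ := h.at_two Px.n1 Px.n2 Px.f1 Px.f2 Px.comm Px.ne
  obtain ⟨k₁, hk₁⟩ := (smul_iff g z₁).1 Px.f1
  obtain ⟨k₂, hk₂⟩ := (smul_iff g z₂).1 Px.f2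
  have hk₁W : k₁ ∈ F.W := (hW k₁).1 (by rw [hk₁]; exact Or.inr (Or.inl rfl))
  have hk₂W : k₂ ∈ F.W := (hW k₂).1 (by rw [hk₂]; exact Or.inr (Or.inr (Or.inl rfl)))
  refine ⟨em φ g F.t, em φ g F.z, ⟨?_, (smul_iff g _).2 ⟨_, rfl⟩, ?_, ?_⟩,
    ⟨?_, ?_, (smul_iff g _).2 ⟨_, rfl⟩, ?_, ?_⟩⟩
  · rw [h.em_mem_D]
  · rw [← hk₁, ← map_mul, ← map_mul, F.Fa _ (W_le F hk₁W)]
  · rw [← hk₂, ← map_mul, ← map_mul, F.Fa _ (W_le F hk₂W)]
  · rw [h.nd_iff]; exact F.z_nd
  · rw [hW]; exact F.z_notin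
  · rw [← hk₁, ← map_mul, ← map_mul, F.comm_Y3 _ (mem_Y3_z F) _ (W_le F hk₁W)]
  · rw [← hk₂, ← map_mul, ← map_mul, F.comm_Y3 _ (mem_Y3_z F) _ (W_le F hk₂W)]

theorem Pr.local_one (h : Ctx F φ) {z₁ z₂ u : G} {x : G ⧸ φ.range} (Px : Pr F φ z₁ z₂ x)
    (hux : u • x = x) (hu1 : u * z₁ = z₁ * u) (hu2 : u * z₂ = z₂ * u) (hu4 : u * u ∈ four z₁ z₂)
    (hne : u * u ≠ 1) :
    ∃ a b : G, (a ∈ D F φ ∧ a • x = x ∧ a * z₁ = z₁ * a ∧ a * z₂ = z₂ * a ∧ a * u = u * a) ∧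
      (NG F φ b ∧ b ∉ four z₁ z₂ ∧ b • x = x ∧ b * z₁ = z₁ * b ∧ b * z₂ = z₂ * b ∧
        b * u = u * b) := by
  obtain ⟨g, rfl, hW⟩ := h.at_two Px.n1 Px.n2 Px.f1 Px.f2 Px.comm Px.ne
  obtain ⟨k₁, hk₁⟩ := (smul_iff g z₁).1 Px.f1
  obtain ⟨k₂, hk₂⟩ := (smul_iff g z₂).1 Px.f2
  obtain ⟨m, rfl⟩ := (smul_iff g u).1 hux
  have hk₁W : k₁ ∈ F.W := (hW k₁).1 (by rw [hk₁]; exact Or.inr (Or.inl rfl))
  have hk₂W : k₂ ∈ F.W := (hW k₂).1 (by rw [hk₂]; exact Or.inr (Or.inr (Or.inl rfl)))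
  have hmW : ∀ k ∈ F.W, m * k = k * m := by
    intro k hk
    exact em_comm h g (comm_of_mem_four hu1 hu2 ((hW k).2 hk))
  rw [← map_mul, hW] at hu4
  obtain ⟨a, b, ha, haW, ham, hb, hbW, hbcW, hbm⟩ := F.Gb m hmW hu4 (fun e => hne (by
    rw [← map_mul, e, map_one]))
  refine ⟨em φ g a, em φ g b, ⟨?_, (smul_iff g _).2 ⟨_, rfl⟩, ?_, ?_, ?_⟩,
    ⟨?_, ?_, (smul_iff g _).2 ⟨_, rfl⟩, ?_, ?_, ?_⟩⟩
  · rw [h.em_mem_D]; exact ha
  · rw [← hk₁, ← map_mul, ← map_mul, haW _ hk₁W]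
  · rw [← hk₂, ← map_mul, ← map_mul, haW _ hk₂W]
  · rw [← map_mul, ← map_mul, ham]
  · rw [h.nd_iff]; exact hb
  · rw [hW]; exact hbW
  · rw [← hk₁, ← map_mul, ← map_mul, hbcW _ hk₁W]
  · rw [← hk₂, ← map_mul, ← map_mul, hbcW _ hk₂W]
  · rw [← map_mul, ← map_mul, hbm]

theorem Pr.local_two (h : Ctx F φ) {z₁ z₂ u u' s : G} {x : G ⧸ φ.range} (Px : Pr F φ z₁ z₂ x)
    (hux : u • x = x) (hu1 : u * z₁ = z₁ * u) (hu2 : u * z₂ = z₂ * u) (hu4 : u * u ∈ four z₁ z₂)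
    (hne : u * u ≠ 1) (hux' : u' • x = x) (hu1' : u' * z₁ = z₁ * u') (hu2' : u' * z₂ = z₂ * u')
    (hu4' : u' * u' ∈ four z₁ z₂) (hne' : u' * u' ≠ 1) (huu : u * u' = u' * u)
    (hdif : u * u ≠ u' * u') (hsx : s • x = x) (hs1 : s * z₁ = z₁ * s) (hs2 : s * z₂ = z₂ * s)
    (hss : s * s = 1) (hs4 : s ∉ four z₁ z₂) (hsu : s * u = u * s) (hsu' : s * u' * s = u'⁻¹) :
    ∃ a b : G, (a ∈ D F φ ∧ a • x = x ∧ a * z₁ = z₁ * a ∧ a * z₂ = z₂ * a ∧ a * u = u * a ∧
      a * u' = u' * a) ∧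
      (NG F φ b ∧ b ∉ four z₁ z₂ ∧ b • x = x ∧ b * z₁ = z₁ * b ∧ b * z₂ = z₂ * b ∧
        b * u = u * b ∧ b * u' = u' * b) := by
  obtain ⟨g, rfl, hW⟩ := h.at_two Px.n1 Px.n2 Px.f1 Px.f2 Px.comm Px.ne
  obtain ⟨k₁, hk₁⟩ := (smul_iff g z₁).1 Px.f1
  obtain ⟨k₂, hk₂⟩ := (smul_iff g z₂).1 Px.f2
  obtain ⟨m, rfl⟩ := (smul_iff g u).1 hux
  obtain ⟨m', rfl⟩ := (smul_iff g u').1 hux'
  obtain ⟨n, rfl⟩ := (smul_iff g s).1 hsx
  have hk₁W : k₁ ∈ F.W := (hW k₁).1 (by rw [hk₁]; exact Or.inr (Or.inl rfl))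
  have hk₂W : k₂ ∈ F.W := (hW k₂).1 (by rw [hk₂]; exact Or.inr (Or.inr (Or.inl rfl)))
  have hi := h.em_inj g
  have hmW : ∀ k ∈ F.W, m * k = k * m := fun k hk =>
    em_comm h g (comm_of_mem_four hu1 hu2 ((hW k).2 hk))
  have hmW' : ∀ k ∈ F.W, m' * k = k * m' := fun k hk =>
    em_comm h g (comm_of_mem_four hu1' hu2' ((hW k).2 hk))
  have hnW : ∀ k ∈ F.W, n * k = k * n := fun k hk =>
    em_comm h g (comm_of_mem_four hs1 hs2 ((hW k).2 hk))
  rw [← map_mul, hW] at hu4 hu4'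
  rw [hW] at hs4
  obtain ⟨a, b, ha, haW, ham, ham', hb, hbW, hbcW, hbm, hbm'⟩ := F.Gc m m' n hmW hmW' hnW
    (em_comm h g huu) hu4 (fun e => hne (by rw [← map_mul, e, map_one])) hu4'
    (fun e => hne' (by rw [← map_mul, e, map_one]))
    (fun e => hdif (by rw [← map_mul, e, map_mul]))
    (hi (by rw [map_mul, hss, map_one])) hs4 (em_comm h g hsu)
    (hi (by rw [map_mul, map_mul, hsu', map_inv]))
  refine ⟨em φ g a, em φ g b, ⟨?_, (smul_iff g _).2 ⟨_, rfl⟩, ?_, ?_, ?_, ?_⟩,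
    ⟨?_, ?_, (smul_iff g _).2 ⟨_, rfl⟩, ?_, ?_, ?_, ?_⟩⟩
  · rw [h.em_mem_D]; exact ha
  · rw [← hk₁, ← map_mul, ← map_mul, haW _ hk₁W]
  · rw [← hk₂, ← map_mul, ← map_mul, haW _ hk₂W]
  · rw [← map_mul, ← map_mul, ham]
  · rw [← map_mul, ← map_mul, ham']
  · rw [h.nd_iff]; exact hb
  · rw [hW]; exact hbW
  · rw [← hk₁, ← map_mul, ← map_mul, hbcW _ hk₁W]
  · rw [← hk₂, ← map_mul, ← map_mul, hbcW _ hk₂W]
  · rw [← map_mul, ← map_mul, hbm]
  · rw [← map_mul, ← map_mul, hbm']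

theorem four_third {z₁ z₂ p q r : G} (h1 : z₁ * z₁ = 1) (h2 : z₂ * z₂ = 1)
    (h12 : z₁ * z₂ = z₂ * z₁) (hp : p ∈ four z₁ z₂) (hp1 : p ≠ 1) (hq : q ∈ four z₁ z₂)
    (hq1 : q ≠ 1) (hr : r ∈ four z₁ z₂) (hr1 : r ≠ 1) (hpq : p ≠ q) :
    r = p ∨ r = q ∨ r = p * q := by
  have e1 : z₁ * (z₁ * z₂) = z₂ := by rw [← mul_assoc, h1, one_mul]
  have e2 : z₂ * (z₁ * z₂) = z₁ := by rw [h12, ← mul_assoc, h2, one_mul]
  have e3 : z₁ * z₂ * z₁ = z₂ := by rw [h12, mul_assoc, h1, mul_one]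
  have e4 : z₁ * z₂ * z₂ = z₁ := by rw [mul_assoc, h2, mul_one]
  rcases hp with rfl | rfl | rfl | rfl
  · exact absurd rfl hp1
  all_goals
    rcases hq with rfl | rfl | rfl | rfl
    · exact absurd rfl hq1
  all_goals
    rcases hr with rfl | rfl | rfl | rfl
    · exact absurd rfl hr1
  all_goals first
    | exact absurd rfl hpq
    | exact Or.inl rfl
    | exact Or.inr (Or.inl rfl)
    | exact Or.inr (Or.inr rfl)
    | exact Or.inr (Or.inr h12)
    | exact Or.inr (Or.inr e1.symm)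
    | exact Or.inr (Or.inr e2.symm)
    | exact Or.inr (Or.inr e3.symm)
    | exact Or.inr (Or.inr e4.symm)

/-- STEP 2 -/
theorem Ctx.two [Finite G] (h : Ctx F φ) {z₁ z₂ : G} {x y : G ⧸ φ.range}
    (Px : Pr F φ z₁ z₂ x) (Py : Pr F φ z₁ z₂ y) : x = y := by
  by_contra hxy
  have hcc : ∀ (T : Set G) (c : G), c ∈ Subgroup.centralizer T ↔ ∀ s ∈ T, c * s = s * c := by
    intro T c
    rw [Subgroup.mem_centralizer_iff]
    exact ⟨fun h s hs => (h s hs).symm, fun h s hs => (h s hs).symm⟩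
  -- (1)
  obtain ⟨a, -, ⟨ha, hax, ha1, ha2⟩, -⟩ := Px.local_zero h
  obtain ⟨-, b, -, ⟨hb, hb4, hby, hb1, hb2⟩⟩ := Py.local_zero h
  obtain ⟨u, huC, hux, huy, hu4, hune, -, -⟩ := Px.step h Py hxy
    (Subgroup.centralizer ({z₁, z₂} : Set G)) (fun c hc => ⟨(hcc _ c).1 hc _ (Or.inl rfl),
      (hcc _ c).1 hc _ (Or.inr rfl)⟩) ha hb
    ((hcc _ a).2 (by rintro s (rfl | rfl); exacts [ha1, ha2]))
    ((hcc _ b).2 (by rintro s (rfl | rfl); exacts [hb1, hb2])) hax hby hb4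
  have hu1 := (hcc _ u).1 huC z₁ (Or.inl rfl)
  have hu2 := (hcc _ u).1 huC z₂ (Or.inr rfl)
  -- (2)
  obtain ⟨a', -, ⟨ha', hax', ha1', ha2', hau'⟩, -⟩ := Px.local_one h hux hu1 hu2 hu4 hune
  obtain ⟨-, b', -, ⟨hb', hb4', hby', hb1', hb2', hbu'⟩⟩ := Py.local_one h huy hu1 hu2 hu4 hune
  obtain ⟨v, hvC, hvx, hvy, hv4, hvne, hav, hbv⟩ := Px.step h Py hxy
    (Subgroup.centralizer ({z₁, z₂, u} : Set G)) (fun c hc => ⟨(hcc _ c).1 hc _ (Or.inl rfl),
      (hcc _ c).1 hc _ (Or.inr (Or.inl rfl))⟩) ha' hb'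
    ((hcc _ a').2 (by rintro s (rfl | rfl | rfl); exacts [ha1', ha2', hau']))
    ((hcc _ b').2 (by rintro s (rfl | rfl | rfl); exacts [hb1', hb2', hbu'])) hax' hby' hb4'
  have hv1 := (hcc _ v).1 hvC z₁ (Or.inl rfl)
  have hv2 := (hcc _ v).1 hvC z₂ (Or.inr (Or.inl rfl))
  have hvu := (hcc _ v).1 hvC u (Or.inr (Or.inr rfl))
  have hdif : u * u ≠ v * v := fun e =>
    Px.last h Py hxy (D_sq ha') ha1' ha2' hau' hu1 hu2 hv1 hv2 hvu.symm hux huy hvx hvy e hv4 hvne hav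
  have ha4' : a' ∉ four z₁ z₂ := by
    intro hh
    rcases hh with e | e | e | e
    · apply F.t_ne
      have h1 := ha'
      rw [e] at h1
      obtain ⟨c, hc⟩ := isConj_iff.1 h1
      apply h.inj
      rw [map_one]
      calc φ F.t = c⁻¹ * (c * φ F.t * c⁻¹) * c := by group
        _ = 1 := by rw [hc]; group
    · exact Px.n1.2.2 (e ▸ ha')
    · exact Px.n2.2.2 (e ▸ ha')
    · exact (h.mulN Px.n1 Px.n2 Px.f1 Px.f2 Px.comm Px.ne).2.2 (e ▸ ha')
  -- (3)
  obtain ⟨a₂, -, ⟨ha₂, hax₂, ha1₂, ha2₂, hau₂, hav₂⟩, -⟩ := Px.local_two h hux hu1 hu2 hu4 hune hvx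
    hv1 hv2 hv4 hvne hvu.symm hdif hax' ha1' ha2' (D_sq ha') ha4' hau' hav
  obtain ⟨-, b₂, -, ⟨hb₂, hb4₂, hby₂, hb1₂, hb2₂, hbu₂, hbv₂⟩⟩ := Py.local_two h huy hu1 hu2 hu4
    hune hvy hv1 hv2 hv4 hvne hvu.symm hdif hby' hb1' hb2' hb'.1 hb4' hbu' hbv
  obtain ⟨w, hwC, hwx, hwy, hw4, hwne, haw, -⟩ := Px.step h Py hxy
    (Subgroup.centralizer ({z₁, z₂, u, v} : Set G)) (fun c hc => ⟨(hcc _ c).1 hc _ (Or.inl rfl),
      (hcc _ c).1 hc _ (Or.inr (Or.inl rfl))⟩) ha₂ hb₂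
    ((hcc _ a₂).2 (by rintro s (rfl | rfl | rfl | rfl); exacts [ha1₂, ha2₂, hau₂, hav₂]))
    ((hcc _ b₂).2 (by rintro s (rfl | rfl | rfl | rfl); exacts [hb1₂, hb2₂, hbu₂, hbv₂]))
    hax₂ hby₂ hb4₂
  have hw1 := (hcc _ w).1 hwC z₁ (Or.inl rfl)
  have hw2 := (hcc _ w).1 hwC z₂ (Or.inr (Or.inl rfl))
  have hwu := (hcc _ w).1 hwC u (Or.inr (Or.inr (Or.inl rfl)))
  have hwv := (hcc _ w).1 hwC v (Or.inr (Or.inr (Or.inr rfl)))
  rcases four_third Px.n1.1 Px.n2.1 Px.comm hu4 hune hv4 hvne hw4 hwne hdif with e | e | e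
  · exact Px.last h Py hxy (D_sq ha₂) ha1₂ ha2₂ hau₂ hu1 hu2 hw1 hw2 hwu.symm hux huy hwx hwy e.symm
      hw4 hwne haw
  · exact Px.last h Py hxy (D_sq ha₂) ha1₂ ha2₂ hav₂ hv1 hv2 hw1 hw2 hwv.symm hvx hvy hwx hwy e.symm
      hw4 hwne haw
  · refine Px.last (s := u * v) h Py hxy (D_sq ha₂) ha1₂ ha2₂ ?_ ?_ ?_ hw1 hw2 ?_ ?_ ?_ hwx hwy ?_
      hw4 hwne haw
    · rw [← mul_assoc, hau₂, mul_assoc, hav₂, mul_assoc]
    · rw [mul_assoc, hv1, ← mul_assoc, hu1, mul_assoc]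
    · rw [mul_assoc, hv2, ← mul_assoc, hu2, mul_assoc]
    · rw [mul_assoc, ← hwv, ← mul_assoc, ← hwu, mul_assoc]
    · rw [mul_smul, hvx, hux]
    · rw [mul_smul, hvy, huy]
    · rw [e]
      calc u * v * (u * v) = u * (v * u) * v := by group
        _ = u * (u * v) * v := by rw [hvu]
        _ = u * u * (v * v) := by group

/-! ### Step 1 -/

theorem Ctx.eq_of_one [Finite G] (h : Ctx F φ) {z s : G} {x y : G ⧸ φ.range} (hxy : x ≠ y)
    (hz : NG F φ z) (hzx : z • x = x) (hzy : z • y = y) (hss : s * s = 1) (hs1 : s ≠ 1)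
    (hsz : s * z = z * s) (hsx : s • x = x) (hsy : s • y = y) : s = z := by
  by_contra hne
  have hs := h.ng_of_two hxy hss hs1 hsx hsy
  exact hxy (h.two (z₁ := s) (z₂ := z) ⟨hs, hz, hsz, hne, hsx, hzx⟩ ⟨hs, hz, hsz, hne, hsy, hzy⟩)

theorem Ctx.step_one [Finite G] (h : Ctx F φ) {z : G} {x y : G ⧸ φ.range} (hxy : x ≠ y)
    (hz : NG F φ z) (hzx : z • x = x) (hzy : z • y = y) (C : Subgroup G)
    (hC : ∀ c ∈ C, c * z = z * c) {a b : G} (ha : a ∈ D F φ) (hb : NG F φ b) (haC : a ∈ C)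
    (hbC : b ∈ C) (hax : a • x = x) (hby : b • y = y) (hbz : b ≠ z) :
    ∃ u ∈ C, u • x = x ∧ u • y = y ∧ u * u = z ∧ a * u * a = u⁻¹ := by
  obtain ⟨c, hcC, hc1, hcc, hcx, hcy, hbc, hcase⟩ := DihStep.step (D := D F φ)
    (fun d hd e he => D_conj hd he) h.one ({z} : Set G) C (by
      rintro c hc s rfl
      exact hC c hc) ha hb.2.2 (D_sq ha) hb.1 haC hbC hax hby (by
      rintro s rfl
      exact hzy) (by
      intro p hp hbp
      exact h.two (z₁ := b) (z₂ := z) ⟨hb, hz, hC b hbC, hbz, hbp, hp z rfl⟩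
        ⟨hb, hz, hC b hbC, hbz, hby, hzy⟩)
  have hcz : c = z := h.eq_of_one hxy hz hzx hzy hcc hc1 (hC c hcC) hcx hcy
  rcases hcase with hD | ⟨u, huC, huu, hau, -, hux, huy⟩
  · exfalso
    rw [hcz] at hD hbc
    exact (h.mulN hb hz hby hzy hbc hbz).2.2 hD
  · exact ⟨u, huC, hux, huy, by rw [huu, hcz], hau⟩

theorem Ctx.local_one (h : Ctx F φ) {z : G} {x : G ⧸ φ.range} (hz : NG F φ z) (hzx : z • x = x) :
    ∃ a b : G, (a ∈ D F φ ∧ a • x = x ∧ a * z = z * a) ∧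
      (NG F φ b ∧ b ≠ z ∧ b • x = x ∧ b * z = z * b) := by
  obtain ⟨g, rfl, rfl⟩ := h.at_one hz hzx
  refine ⟨em φ g F.t, em φ g F.w, ⟨?_, (smul_iff g _).2 ⟨_, rfl⟩, ?_⟩,
    ⟨?_, ?_, (smul_iff g _).2 ⟨_, rfl⟩, ?_⟩⟩
  · rw [h.em_mem_D]
  · rw [← map_mul, ← map_mul, F.Fa _ (W_le F (mem_W_v F))]
  · rw [h.nd_iff]; exact F.w_nd
  · intro e
    exact F.v_ne_w (h.em_inj g e).symm
  · rw [← map_mul, ← map_mul, F.v_w]

theorem Ctx.local_four (h : Ctx F φ) {u : G} {x : G ⧸ φ.range} (hux : u • x = x)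
    (hu4 : u * u * (u * u) = 1) (hne : u * u ≠ 1) :
    ∃ a b : G, (a ∈ D F φ ∧ a • x = x ∧ a * u = u * a) ∧
      (NG F φ b ∧ b ≠ u * u ∧ b • x = x ∧ b * u = u * b) := by
  induction x using QuotientGroup.induction_on with
  | H g =>
    obtain ⟨m, rfl⟩ := (smul_iff g u).1 hux
    have hi := h.em_inj g
    obtain ⟨-, ⟨a, ha, ham⟩, b, hb, hbne, hbm⟩ := F.Fd m (hi (by
      rw [map_mul, map_mul, hu4, map_one])) (fun e => hne (by rw [← map_mul, e, map_one]))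
    refine ⟨em φ g a, em φ g b, ⟨?_, (smul_iff g _).2 ⟨_, rfl⟩, ?_⟩,
      ⟨?_, ?_, (smul_iff g _).2 ⟨_, rfl⟩, ?_⟩⟩
    · rw [h.em_mem_D]; exact ha
    · rw [← map_mul, ← map_mul, ham]
    · rw [h.nd_iff]; exact hb
    · rw [← map_mul]
      intro e
      exact hbne (hi e)
    · rw [← map_mul, ← map_mul, hbm]

/-- STEP 1 -/
theorem Ctx.one' [Finite G] (h : Ctx F φ) {z : G} {x y : G ⧸ φ.range} (hz : NG F φ z)
    (hzx : z • x = x) (hzy : z • y = y) : x = y := by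
  by_contra hxy
  have hcc : ∀ (T : Set G) (c : G), c ∈ Subgroup.centralizer T ↔ ∀ s ∈ T, c * s = s * c := by
    intro T c
    rw [Subgroup.mem_centralizer_iff]
    exact ⟨fun h s hs => (h s hs).symm, fun h s hs => (h s hs).symm⟩
  obtain ⟨a, -, ⟨ha, hax, haz⟩, -⟩ := h.local_one hz hzx
  obtain ⟨-, b, -, ⟨hb, hbz, hby, hbz'⟩⟩ := h.local_one hz hzy
  obtain ⟨u, -, hux, huy, huu, -⟩ := h.step_one hxy hz hzx hzy (Subgroup.centralizer ({z} : Set G))
    (fun c hc => (hcc _ c).1 hc _ rfl) ha hb ((hcc _ a).2 (by rintro s rfl; exact haz))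
    ((hcc _ b).2 (by rintro s rfl; exact hbz')) hax hby hbz
  have hu4 : u * u * (u * u) = 1 := by rw [huu, hz.1]
  have hune : u * u ≠ 1 := by rw [huu]; exact hz.2.1
  obtain ⟨a', -, ⟨ha', hax', hau'⟩, -⟩ := h.local_four hux hu4 hune
  obtain ⟨-, b', -, ⟨hb', hbu', hby', hbc'⟩⟩ := h.local_four huy hu4 hune
  have hCz : ∀ c ∈ Subgroup.centralizer ({u} : Set G), c * z = z * c := by
    intro c hc
    have h1 := (hcc _ c).1 hc u rfl
    rw [← huu, ← mul_assoc, h1, mul_assoc, h1, mul_assoc]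
  obtain ⟨v, hvC, hvx, hvy, hvv, hav⟩ := h.step_one hxy hz hzx hzy
    (Subgroup.centralizer ({u} : Set G)) hCz ha' hb' ((hcc _ a').2 (by rintro s rfl; exact hau'))
    ((hcc _ b').2 (by rintro s rfl; exact hbc')) hax' hby' (by rw [← huu]; exact hbu')
  have hvu := (hcc _ v).1 hvC u rfl
  have haz' := hCz a' ((hcc _ a').2 (by rintro s rfl; exact hau'))
  have haa := D_sq ha'
  -- `(u v)² = 1`
  have huv : u * v * (u * v) = 1 := by
    calc u * v * (u * v) = u * (v * u) * v := by group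
      _ = u * (u * v) * v := by rw [hvu]
      _ = u * u * (v * v) := by group
      _ = 1 := by rw [huu, hvv, hz.1]
  have hcase : u * v = 1 ∨ u * v = z := by
    by_cases h1 : u * v = 1
    · exact Or.inl h1
    · right
      refine h.eq_of_one hxy hz hzx hzy huv h1 ?_ ?_ ?_
      · rw [← huu]
        calc u * v * (u * u) = u * (v * u) * u := by group
          _ = u * (u * v) * u := by rw [hvu]
          _ = u * u * (v * u) := by group
          _ = u * u * (u * v) := by rw [hvu]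
      · rw [mul_smul, hvx, hux]
      · rw [mul_smul, hvy, huy]
  have hauv : a' * (u * v) = u * v * a' := by
    rcases hcase with e | e
    · rw [e, mul_one, one_mul]
    · rw [e, haz']
  have h4 : a' * v = v * a' := by
    have : u * (a' * v) = u * (v * a') := by
      calc u * (a' * v) = (u * a') * v := by group
        _ = a' * (u * v) := by rw [← hau']; group
        _ = u * (v * a') := by rw [hauv]; group
    exact mul_left_cancel this
  have h5 : v = v⁻¹ := by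
    calc v = v * (a' * a') := by rw [haa, mul_one]
      _ = a' * v * a' := by rw [h4]; group
      _ = v⁻¹ := hav
  apply hz.2.1
  rw [← hvv]
  nth_rewrite 1 [h5]
  exact inv_mul_cancel _

/-! ### Step 0 -/

theorem Ctx.all [Finite G] (h : Ctx F φ) (x y : G ⧸ φ.range) : x = y := by
  by_contra hxy
  induction x using QuotientGroup.induction_on with
  | H g =>
    induction y using QuotientGroup.induction_on with
    | H k =>
      have ha : em φ g F.t ∈ D F φ := by rw [h.em_mem_D]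
      have hb : NG F φ (em φ k F.v) := by rw [h.nd_iff]; exact F.v_nd
      have hax : em φ g F.t • (QuotientGroup.mk g : G ⧸ φ.range) = QuotientGroup.mk g :=
        (smul_iff g _).2 ⟨_, rfl⟩
      have hby : em φ k F.v • (QuotientGroup.mk k : G ⧸ φ.range) = QuotientGroup.mk k :=
        (smul_iff k _).2 ⟨_, rfl⟩
      obtain ⟨c, -, hc1, hcc, hcx, hcy, -, -⟩ := DihStep.step (D := D F φ)
        (fun d hd e he => D_conj hd he) h.one (∅ : Set G) (⊤ : Subgroup G) (by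
          rintro c - s hs
          exact absurd hs (Set.notMem_empty s)) ha hb.2.2 (D_sq ha) hb.1 (Subgroup.mem_top _)
        (Subgroup.mem_top _) hax hby (by
          rintro s hs
          exact absurd hs (Set.notMem_empty s)) (by
          intro p _ hbp
          exact h.one' hb hbp hby)
      exact hxy (h.one' (h.ng_of_two hxy hcc hc1 hcx hcy) hcx hcy)

end

/-- THE CLOSING. -/
theorem range_eq_top [Finite G] (F : Facts K) (φ : K →* G) (inj : Function.Injective φ)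
    (cent : ∀ g : G, g * φ F.t = φ F.t * g → g ∈ φ.range)
    (fus : ∀ k : K, IsConj (φ F.t) (φ k) → IsConj F.t k) : φ.range = ⊤ := by
  have h : Ctx F φ := ⟨inj, cent, fus⟩
  rw [Subgroup.eq_top_iff']
  intro g
  have h1 := h.all (QuotientGroup.mk g) (QuotientGroup.mk 1)
  rw [QuotientGroup.eq] at h1
  have h2 := φ.range.inv_mem h1
  simpa using h2

end Cfsg.Agent.CoThreeStd.CloseH
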