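import Cfsg.Agent.CoThreeStd.GammaCx

/-!
# S1750, pattern γ: `C(t) = ⟨t⟩ × f(M₁₂)` is not the centraliser in a group without subgroups of index two when
`f(M₁₂)` is contained in a central product `A₁ A₁^t` (helper781)
-/

set_option autoImplicit false

namespace Cfsg.Agent.CoThreeStd.Gamma

open Cfsg.Agent.CoThreeStd.MTwelve Cfsg.Agent.CoThreeStd.Fusion Cfsg.Agent.CoThreeStd.Parity

variable {G : Type*} [Group G] {t : G} {f : H →* G}

theorem center_trivial (n : H) (h : ∀ m : H, n * m = m * n) : n = 1 := by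
  obtain ⟨σ, hσ⟩ := cent_y n (h y)
  have hσ1 : σ = 1 := by
    apply perm5_central
    intro τ
    apply w_injective
    rw [map_mul, map_mul]
    have h1 := h (w τ)
    rcases hσ with rfl | rfl
    · exact h1
    · apply mul_left_cancel (a := y)
      rw [← mul_assoc, h1, ← mul_assoc, ← mul_assoc, y_comm]
  rw [hσ1, map_one, mul_one] at hσ
  rcases hσ with h1 | h1
  · exact h1
  · exfalso
    have h2 := h b
    rw [h1, ← wd_y, ← wd_b, ← wd_append, ← wd_append] at h2
    exact absurd (eqW_of_wd h2) (by decide +kernel)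

/-- `A₁ A₁^t` -/
def prodT (c : Cx t f) (A1 : Subgroup G) (hcomm : ∀ a ∈ A1, ∀ b ∈ A1, Commute a (t * b * t)) : Subgroup G where
  carrier := {g | ∃ a ∈ A1, ∃ b ∈ A1, g = a * (t * b * t)}
  one_mem' := ⟨1, A1.one_mem, 1, A1.one_mem, by rw [mul_one, one_mul, c.tt]⟩
  mul_mem' := by
    rintro _ _ ⟨a, ha, b, hb, rfl⟩ ⟨a', ha', b', hb', rfl⟩
    refine ⟨a * a', A1.mul_mem ha ha', b * b', A1.mul_mem hb hb', ?_⟩
    have h1 := (hcomm a' ha' b hb).eq
    calc a * (t * b * t) * (a' * (t * b' * t)) = a * ((t * b * t) * a') * (t * b' * t) := by group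
      _ = a * (a' * (t * b * t)) * (t * b' * t) := by rw [h1]
      _ = a * a' * (t * b * (t * t) * b' * t) := by group
      _ = _ := by rw [c.tt]; group
  inv_mem' := by
    rintro _ ⟨a, ha, b, hb, rfl⟩
    refine ⟨a⁻¹, A1.inv_mem ha, b⁻¹, A1.inv_mem hb, ?_⟩
    have h1 := (hcomm _ (A1.inv_mem ha) _ (A1.inv_mem hb)).eq
    rw [h1, mul_inv_rev]
    simp only [mul_inv_rev, c.inv_t, mul_assoc]

theorem mem_prodT (c : Cx t f) {A1 : Subgroup G} (hcomm : ∀ a ∈ A1, ∀ b ∈ A1, Commute a (t * b * t)) {g : G} :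
    g ∈ prodT c A1 hcomm ↔ ∃ a ∈ A1, ∃ b ∈ A1, g = a * (t * b * t) := Iff.rfl

theorem final_kill [Finite G] (hG : ∀ K : Subgroup G, K.index ≠ 2) (c : Ctx t f) (A1 : Subgroup G)
    (hcomm : ∀ a ∈ A1, ∀ b ∈ A1, Commute a (t * b * t))
    (hf : ∀ m, ∃ a ∈ A1, ∃ b ∈ A1, f m = a * (t * b * t)) : False := by
  classical
  have tt := c.tt
  have it := c.inv_t
  set B := prodT (toCx c) A1 hcomm with hB
  have hmemB : ∀ g, g ∈ B ↔ ∃ a ∈ A1, ∃ b ∈ A1, g = a * (t * b * t) := fun g => Iff.rfl
  have hA1B : ∀ a ∈ A1, a ∈ B := fun a ha => ⟨a, ha, 1, A1.one_mem, by rw [mul_one, tt, mul_one]⟩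
  have hA2B : ∀ a ∈ A1, t * a * t ∈ B := fun a ha => ⟨1, A1.one_mem, a, ha, by rw [one_mul]⟩
  have hfB : ∀ m, f m ∈ B := fun m => hf m
  -- `t` is not in `B`
  have htB : t ∉ B := by
    rintro ⟨a, ha, b, hb, hab⟩
    have h1 : ∀ x ∈ A1, t * x * t ∈ A1 := by
      intro x hx
      have h2 : t * x * t = a * x * a⁻¹ := by
        have h3 := (hcomm x hx b hb).eq
        calc t * x * t = t * x * t⁻¹ := by rw [it]
          _ = (a * (t * b * t)) * x * (a * (t * b * t))⁻¹ := by rw [← hab]
          _ = a * ((t * b * t) * x) * (t * b * t)⁻¹ * a⁻¹ := by group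
          _ = a * (x * (t * b * t)) * (t * b * t)⁻¹ * a⁻¹ := by rw [h3]
          _ = _ := by group
      rw [h2]
      exact A1.mul_mem (A1.mul_mem ha hx) (A1.inv_mem ha)
    have h2 : ∀ x ∈ A1, ∀ z ∈ A1, Commute x z := by
      intro x hx z hz
      have h3 := hcomm x hx _ (h1 z hz)
      have h4 : t * (t * z * t) * t = z := by
        calc t * (t * z * t) * t = (t * t) * z * (t * t) := by group
          _ = z := by rw [tt]; group
      rwa [h4] at h3
    have h3 : ∀ m, f m ∈ A1 := by
      intro m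
      obtain ⟨x, hx, z, hz, h4⟩ := hf m
      rw [h4]
      exact A1.mul_mem hx (h1 z hz)
    have h4 := (h2 _ (h3 p) _ (h3 q)).eq
    rw [← map_mul, ← map_mul] at h4
    have h5 := c.inj h4
    rw [← wd_p, ← wd_q, ← wd_append, ← wd_append] at h5
    exact absurd (eqW_of_wd h5) (by decide +kernel)
  -- `B` is normalised by `t`
  have htn : ∀ g ∈ B, t * g * t ∈ B := by
    rintro _ ⟨a, ha, b, hb, rfl⟩
    refine ⟨b, hb, a, ha, ?_⟩
    have h1 := (hcomm b hb a ha).eq
    calc t * (a * (t * b * t)) * t = (t * a * t) * (b * (t * t)) := by group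
      _ = _ := by rw [tt, mul_one, h1]
  let G0 : Subgroup G :=
    { carrier := {g | g ∈ B ∨ t * g ∈ B}
      one_mem' := Or.inl B.one_mem
      mul_mem' := by
        rintro g g' (h | h) (h' | h')
        · exact Or.inl (B.mul_mem h h')
        · right
          have := B.mul_mem (htn g h) h'
          have e : t * g * t * (t * g') = t * (g * g') := by
            calc t * g * t * (t * g') = t * g * (t * t) * g' := by group
              _ = _ := by rw [tt]; group
          rwa [e] at this
        · right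
          have := B.mul_mem h h'
          rwa [mul_assoc] at this
        · left
          have := B.mul_mem (htn _ h) h'
          have e : t * (t * g) * t * (t * g') = g * g' := by
            calc t * (t * g) * t * (t * g') = (t * t) * g * (t * t) * g' := by group
              _ = _ := by rw [tt]; group
          rwa [e] at this
      inv_mem' := by
        rintro g (h | h)
        · exact Or.inl (B.inv_mem h)
        · right
          have := htn _ (B.inv_mem h)
          have e : t * (t * g)⁻¹ * t = t * g⁻¹ := by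
            rw [mul_inv_rev, it]
            calc t * (g⁻¹ * t) * t = t * g⁻¹ * (t * t) := by group
              _ = _ := by rw [tt]; group
          rwa [e] at this }
  have hG0 : ∀ g, g ∈ G0 ↔ g ∈ B ∨ t * g ∈ B := fun g => Iff.rfl
  have hle : B ≤ G0 := fun g hg => Or.inl hg
  have htG0 : t ∈ G0 := Or.inr (by rw [tt]; exact B.one_mem)
  have hrel : B.relIndex G0 = 2 := by
    rw [Subgroup.relIndex, Subgroup.index_eq_two_iff]
    refine ⟨⟨t, htG0⟩, ?_⟩
    rintro ⟨g, hg⟩
    rw [Subgroup.mem_subgroupOf, Subgroup.mem_subgroupOf]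
    show Xor (g * t ∈ B) (g ∈ B)
    rcases hg with h | h
    · right
      refine ⟨h, fun h1 => htB ?_⟩
      have := B.mul_mem (B.inv_mem h) h1
      rwa [inv_mul_cancel_left] at this
    · left
      constructor
      · have := htn _ h
        have e : t * (t * g) * t = g * t := by
          calc t * (t * g) * t = (t * t) * g * t := by group
            _ = _ := by rw [tt, one_mul]
        rwa [e] at this
      · intro h1
        apply htB
        have := B.mul_mem h (B.inv_mem h1)
        rwa [mul_inv_cancel_right] at this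
  have hcent : ∀ g, g * t = t * g → g ∈ G0 := by
    intro g hg
    obtain ⟨m, rfl | rfl⟩ := c.cent g hg
    · exact Or.inl (hfB m)
    · right
      rw [← mul_assoc, tt, one_mul]
      exact hfB m
  -- elements of `A₁` inverted by `t`
  have hz : ∀ z ∈ A1, t * z * t = z⁻¹ → ∃ ω ∈ A1, ω⁻¹ * t * ω = t * z := by
    intro z hzA hzt
    have hpow : ∀ k : ℕ, t * z ^ k * t = (z ^ k)⁻¹ := by
      intro k
      induction k with
      | zero => rw [pow_zero, mul_one, tt, inv_one]
      | succ k ih =>
        calc t * z ^ (k + 1) * t = t * (z ^ k * z) * t := by rw [pow_succ]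
          _ = t * z ^ k * (t * t) * z * t := by rw [tt]; group
          _ = (t * z ^ k * t) * (t * z * t) := by group
          _ = (z ^ (k + 1))⁻¹ := by rw [ih, hzt]; group
    have hodd : Odd (orderOf z) := by
      rw [← Nat.not_even_iff_odd]
      intro hev
      obtain ⟨k, hk⟩ := hev
      have hpos : 0 < orderOf z := orderOf_pos z
      have hk0 : 0 < k := by omega
      set i := z ^ k with hi
      have hii : i * i = 1 := by rw [hi, ← pow_add, ← hk, pow_orderOf_eq_one]
      have hi1 : i ≠ 1 := pow_ne_one_of_lt_orderOf (by omega) (by omega)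
      have hiA : i ∈ A1 := A1.pow_mem hzA k
      have hit : t * i * t = i := by rw [hpow k, ← hi]; exact inv_eq_of_mul_eq_one_left hii
      have hic : i * t = t * i := by
        calc i * t = (t * i * t) * t := by rw [hit]
          _ = t * i * (t * t) := by group
          _ = _ := by rw [tt, mul_one]
      have hcom : ∀ g ∈ B, g * i = i * g := by
        rintro _ ⟨a, ha, b, hb, rfl⟩
        have h1 : a * i = i * a := by
          have := (hcomm a ha i hiA).eq
          rwa [hit] at this
        have h2 : (t * b * t) * i = i * (t * b * t) := (hcomm i hiA b hb).eq.symm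
        calc a * (t * b * t) * i = a * ((t * b * t) * i) := by group
          _ = (a * i) * (t * b * t) := by rw [h2]; group
          _ = _ := by rw [h1]; group
      obtain ⟨n, hn⟩ := c.cent i hic
      have hn1 : n = 1 := by
        apply center_trivial
        intro m
        apply c.inj
        rw [map_mul, map_mul]
        have h3 := hcom _ (hfB m)
        rcases hn with hn | hn
        · rw [← hn]; exact h3.symm
        · apply mul_left_cancel (a := t)
          calc t * (f n * f m) = i * f m := by rw [hn]; group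
            _ = f m * i := h3.symm
            _ = (f m * t) * f n := by rw [hn]; group
            _ = _ := by rw [c.comm]; group
      rw [hn1, map_one, mul_one] at hn
      rcases hn with hn | hn
      · exact hi1 hn
      · exact htB (by rw [← hn]; exact hA1B i hiA)
    obtain ⟨k, hk⟩ := hodd
    refine ⟨z ^ (k + 1), A1.pow_mem hzA _, ?_⟩
    have h1 : z ^ (k + 1) * z ^ (k + 1) = z := by
      rw [← pow_add, show k + 1 + (k + 1) = (2 * k + 1) + 1 by ring, pow_succ, ← hk, pow_orderOf_eq_one,
        one_mul]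
    have h2 := hpow (k + 1)
    calc (z ^ (k + 1))⁻¹ * t * z ^ (k + 1) = (z ^ (k + 1))⁻¹ * (t * z ^ (k + 1) * t) * t⁻¹ := by group
      _ = (z ^ (k + 1) * z ^ (k + 1))⁻¹ * t⁻¹ := by rw [h2]; group
      _ = (t * z * t) * t := by rw [h1, it, hzt]
      _ = t * z * (t * t) := by group
      _ = _ := by rw [tt, mul_one]
  -- every conjugate of `t` in `G₀ ∖ B` is `B`-conjugate to `t`
  have hfus : ∀ h, h ∈ G0 → h ∉ B → IsConj t h → ∃ x ∈ B, x⁻¹ * t * x = h := by
    intro h hh hhB hcj
    have h1 : t * h ∈ B := by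
      rcases hh with h1 | h1
      · exact absurd h1 hhB
      · exact h1
    obtain ⟨a, ha, b, hb, hab⟩ := h1
    have hh2 : h * h = 1 := by
      obtain ⟨k, hk⟩ := isConj_iff.1 hcj
      rw [← hk]
      calc k * t * k⁻¹ * (k * t * k⁻¹) = k * (t * t) * k⁻¹ := by group
        _ = 1 := by rw [tt]; group
    have hhe : h = t * (a * (t * b * t)) := by rw [← hab, ← mul_assoc, tt, one_mul]
    set x := t * b * t with hx
    have hxh : x * h * x⁻¹ = t * (b * a) := by
      calc x * h * x⁻¹ = x * t * a := by rw [hhe]; group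
        _ = t * b * (t * t) * a := by rw [hx]; group
        _ = _ := by rw [tt]; group
    have hsq : (t * (b * a)) * (t * (b * a)) = 1 := by
      rw [← hxh]
      calc x * h * x⁻¹ * (x * h * x⁻¹) = x * (h * h) * x⁻¹ := by group
        _ = 1 := by rw [hh2]; group
    obtain ⟨ω, hω, hω2⟩ := hz (b * a) (A1.mul_mem hb ha)
      (eq_inv_of_mul_eq_one_left (by rw [← hsq]; group))
    refine ⟨ω * x, B.mul_mem (hA1B _ hω) (hA2B _ hb), ?_⟩
    calc (ω * x)⁻¹ * t * (ω * x) = x⁻¹ * (ω⁻¹ * t * ω) * x := by group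
      _ = x⁻¹ * (x * h * x⁻¹) * x := by rw [hω2, hxh]
      _ = h := by group
  -- the count
  have hN : ∀ g ∈ G0, g⁻¹ * t * g ∉ B := by
    intro g hg h1
    apply htB
    rcases hg with h2 | h2
    · have := B.mul_mem (B.mul_mem h2 h1) (B.inv_mem h2)
      have e : g * (g⁻¹ * t * g) * g⁻¹ = t := by group
      rwa [e] at this
    · have h3 := B.mul_mem (B.mul_mem h2 h1) (B.inv_mem h2)
      have e : t * g * (g⁻¹ * t * g) * (t * g)⁻¹ = t := by group
      rwa [e] at h3
  have hdvd := two_mul_card_dvd hG hle hrel t tt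
  rw [← card_conj_eq t (fun h => h ∈ G0 ∧ h ∉ B)] at hdvd
  have hcard : Nat.card {g : G // g⁻¹ * t * g ∈ G0 ∧ g⁻¹ * t * g ∉ B} = Nat.card G0 := by
    apply Nat.card_congr
    refine Equiv.subtypeEquivRight (fun g => ?_)
    constructor
    · rintro ⟨h1, h2⟩
      obtain ⟨x, hx, h3⟩ := hfus _ h1 h2 (isConj_iff.2 ⟨g⁻¹, by group⟩)
      have h4 : g * x⁻¹ ∈ G0 := by
        apply hcent
        have h5 : (g * x⁻¹)⁻¹ * t * (g * x⁻¹) = t := by
          calc (g * x⁻¹)⁻¹ * t * (g * x⁻¹) = x * (g⁻¹ * t * g) * x⁻¹ := by group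
            _ = t := by rw [← h3]; group
        calc g * x⁻¹ * t = g * x⁻¹ * ((g * x⁻¹)⁻¹ * t * (g * x⁻¹)) := by rw [h5]
          _ = _ := by group
      have := G0.mul_mem h4 (hle hx)
      rwa [inv_mul_cancel_right] at this
    · intro hg
      exact ⟨G0.mul_mem (G0.mul_mem (G0.inv_mem hg) htG0) hg, hN g hg⟩
  rw [hcard] at hdvd
  have hpos : 0 < Nat.card G0 := Nat.card_pos
  have := Nat.le_of_dvd hpos hdvd
  omega

end Cfsg.Agent.CoThreeStd.Gamma
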