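import Cfsg.Agent.CoThreeStd.GammaGood
import Cfsg.Agent.CoThreeStd.GammaEnd

/-!
# S1750, pattern γ is dead (helper781)
-/

set_option autoImplicit false

namespace Cfsg.Agent.CoThreeStd.Gamma

open Cfsg.Agent.CoThreeStd.MTwelve Cfsg.Agent.CoThreeStd.Fusion Cfsg.Agent.SporRec.Co3

variable {G : Type*} [Group G] {t : G} {f : H →* G} {L : H → G}

/-- `L e` commutes with `(L e')^t` -/
def Th (t : G) (L : H → G) (e e' : List ℕ) : Prop := Commute (Lw L e) (t * Lw L e' * t)

theorem Th_base (c : Cx t f) (S : Sys t f L) : Th t L [1] wB := by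
  have hg := good c S
  have h := facts c S
  have tY := h.tY
  have tX := h.tX
  have cZX := h.cZX
  have ZZ := h.ZZ
  have cYP := h.cYP
  have yP := h.yP
  have yX := h.yX
  have dP := h.dP
  have PP := h.PP
  have YY := h.YY
  have YX : Lw L wB = Lw L [0] * (Lw L [0] * Lw L wB) := by rw [← mul_assoc, YY, one_mul]
  rw [Th]
  have hRP : Lw L [3] = Lw L [1] * (Lw L [1] * Lw L [3]) := by rw [← mul_assoc, PP, one_mul]
  have tB : t * Lw L wB * t = Lw L [0] * (Lw L [0] * Lw L wB) * F f [0] * F f [2, 1, 3, 2] := by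
    calc t * Lw L wB * t = t * (Lw L [0] * (Lw L [0] * Lw L wB)) * t := by rw [← YX]
      _ = t * Lw L [0] * (t * t) * (Lw L [0] * Lw L wB) * t := by rw [c.tt]; group
      _ = (t * Lw L [0] * t) * (t * (Lw L [0] * Lw L wB) * t) := by group
      _ = Lw L [0] * (F f [0] * (Lw L [0] * Lw L wB)) * F f [2, 1, 3, 2] := by rw [tY, tX]; group
      _ = _ := by rw [yX.eq]; group
  have cZP := h.cZP
  rw [tB]
  set Y := Lw L [0]
  set P := Lw L [1]
  set R := Lw L [3]
  set B := Lw L wB
  obtain ⟨Z, hZ⟩ : ∃ Z, Z = P * R := ⟨_, rfl⟩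
  obtain ⟨X, hX⟩ : ∃ X, X = Y * B := ⟨_, rfl⟩
  rw [← hX] at hg yX cZX ⊢
  rw [← hZ] at hg hRP ZZ cZP cZX
  have e1 : P * X * P = Z * X := by
    have hXX : X * X = 1 := by rw [hX]; exact h.XX
    calc P * X * P = (P * X * P * X) * X⁻¹ := by group
      _ = _ := by rw [hg, inv_of_sq hXX]
  set y' := F f [0]
  set d' := F f [2, 1, 3, 2]
  show P * (Y * X * y' * d') = Y * X * y' * d' * P
  symm
  calc Y * X * y' * d' * P = Y * X * y' * (d' * P) := by group
    _ = Y * X * y' * R * d' := by rw [dP]; group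
    _ = Y * X * (y' * P) * Z * d' := by rw [hRP]; group
    _ = Y * (P * P) * X * P * (y' * Z) * d' := by rw [yP.eq, PP]; group
    _ = (Y * P) * (P * X * P) * (y' * Z) * d' := by group
    _ = P * Y * (Z * X) * (Z * y') * d' := by
      have yZ : y' * Z = Z * y' := by rw [hZ]; exact (h.yZ).eq
      rw [e1, cYP.eq, yZ]
    _ = P * Y * X * (Z * Z) * y' * d' := by rw [cZX.eq]; group
    _ = _ := by rw [ZZ]; group

theorem Th_conj (c : Cx t f) (S : Sys t f L) {e e' e1 e1' : List ℕ} (h : Th t L e e') (m : List ℕ)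
    (h1 : eqW (cj e m) e1 = true) (h2 : eqW (cj e' m) e1' = true) : Th t L e1 e1' := by
  apply conj_comm h (S.cjw m h1)
  have k1 := F_t c m
  have k2 : (F f m)⁻¹ * t = t * (F f m)⁻¹ := k1.symm.inv_left.eq
  rw [← S.cjw m h2]
  calc (F f m)⁻¹ * (t * Lw L e' * t) * F f m = ((F f m)⁻¹ * t) * Lw L e' * (t * F f m) := by group
    _ = _ := by rw [k2, k1.eq]; group

theorem Th_symm (c : Cx t f) {e e' : List ℕ} (h : Th t L e e') : Th t L e' e := by
  show Lw L e' * (t * Lw L e * t) = (t * Lw L e * t) * Lw L e'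
  have h1 : Lw L e * (t * Lw L e' * t) = (t * Lw L e' * t) * Lw L e := h
  have tt := c.tt
  calc Lw L e' * (t * Lw L e * t) = (t * t) * Lw L e' * (t * Lw L e * t) := by rw [tt, one_mul]
    _ = t * ((t * Lw L e' * t) * Lw L e) * t := by group
    _ = t * (Lw L e * (t * Lw L e' * t)) * t := by rw [h1]
    _ = (t * Lw L e * t) * Lw L e' * (t * t) := by group
    _ = _ := by rw [tt, mul_one]

theorem F_LL (S : Sys t f L) {e : List ℕ} (m : List ℕ) (h : eqW (cj [0] m) e = true) :
    F f e = Lw L e * (t * Lw L e * t) := by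
  rw [S.tw e m h, ← mul_assoc, S.sqw, one_mul]

theorem Th_self (S : Sys t f L) {e : List ℕ} (m : List ℕ) (h : eqW (cj [0] m) e = true) : Th t L e e := by
  rw [Th, S.tw e m h]
  apply (Commute.refl _).mul_right
  apply Commute.symm
  exact S.comm rfl

theorem Th_closure (c : Cx t f) (S : Sys t f L) {e e' e'' : List ℕ} (m : List ℕ)
    (hm : eqW (cj [0] m) e'' = true) (h1 : Th t L e e') (h2 : Th t L e e'') (h3 : Th t L e'' e') :
    Th t L e (cj e' e'') := by
  have k1 := F_t c e''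
  have k2 : t * (F f e'')⁻¹ = (F f e'')⁻¹ * t := k1.inv_right.eq
  have e1 : t * Lw L (cj e' e'') * t = (F f e'')⁻¹ * (t * Lw L e' * t) * F f e'' := by
    have e2 : Lw L (cj e' e'') = (F f e'')⁻¹ * Lw L e' * F f e'' := by
      rw [Lw, wd_cj, ← S.conj]; rfl
    rw [e2]
    calc t * ((F f e'')⁻¹ * Lw L e' * F f e'') * t = (t * (F f e'')⁻¹) * Lw L e' * (F f e'' * t) := by group
      _ = _ := by rw [k2, ← k1.eq]; group
  have e3 : t * Lw L (cj e' e'') * t =
      (t * Lw L e'' * t)⁻¹ * (t * Lw L e' * t) * (t * Lw L e'' * t) := by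
    rw [e1, F_LL S m hm]
    have h4 : (Lw L e'')⁻¹ * (t * Lw L e' * t) = (t * Lw L e' * t) * (Lw L e'')⁻¹ := (Commute.inv_left h3).eq
    calc (Lw L e'' * (t * Lw L e'' * t))⁻¹ * (t * Lw L e' * t) * (Lw L e'' * (t * Lw L e'' * t))
        = (t * Lw L e'' * t)⁻¹ * ((Lw L e'')⁻¹ * (t * Lw L e' * t)) * (Lw L e'' * (t * Lw L e'' * t)) := by group
      _ = _ := by rw [h4]; group
  rw [Th, e3]
  exact (h2.inv_right.mul_right h1).mul_right h2

/-- words -/
def w5 : List ℕ := [0, 1, 3, 5, 0, 5, 0, 1, 3]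
def w3 : List ℕ := [4, 5, 4]
def wa : List ℕ := [5, 0, 1, 3, 4, 3, 5]
def wc : List ℕ := [5, 1, 2, 3, 4, 3, 2, 1, 5]

theorem Th_y_w5 (c : Cx t f) (S : Sys t f L) : Th t L [0] w5 := by
  have h0 := Th_base c S
  have h1 : Th t L [0] wa := Th_conj c S h0 [2, 4, 5, 0, 2, 5, 1, 5] (by decide +kernel) (by decide +kernel)
  have h2 : Th t L [0] wc := Th_conj c S h0 [5, 2, 1, 5, 0, 5, 1, 5] (by decide +kernel) (by decide +kernel)
  have h3 : Th t L wc wa := Th_conj c S h0 [2, 3, 4, 5] (by decide +kernel) (by decide +kernel)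
  have h4 := Th_closure c S [5, 1, 2, 1, 3, 5, 4, 5] (e := [0]) (e' := wa) (e'' := wc) (by decide +kernel) h1 h2 h3
  rw [Th, Sys.eqw (L := L) (x := cj wa wc) (x' := w5) (by decide +kernel)] at h4
  exact h4

theorem Th_y_w3 (c : Cx t f) (S : Sys t f L) : Th t L [0] w3 :=
  Th_conj c S (Th_y_w5 c S) [0, 1, 2, 1, 3] (by decide +kernel) (by decide +kernel)

theorem Th_w5_w3 (c : Cx t f) (S : Sys t f L) : Th t L w5 w3 :=
  Th_conj c S (Th_base c S) [1, 5, 2, 4, 3, 5, 4] (by decide +kernel) (by decide +kernel)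

/-- letters `y, y₅, e₃` -/
def trip (i : ℕ) : List ℕ := if i = 0 then [0] else if i = 1 then w5 else w3

/-- words in the three elements -/
def wtrip (l : List ℕ) : List ℕ := (l.map trip).flatten

theorem Th_trip (c : Cx t f) (S : Sys t f L) : ∀ i < 3, ∀ j < 3, Th t L (trip i) (trip j) := by
  have h1 := Th_y_w5 c S
  have h2 := Th_y_w3 c S
  have h3 := Th_w5_w3 c S
  have k1 : Th t L [0] [0] := Th_self S [] (by decide +kernel)
  have k2 : Th t L w5 w5 := Th_self S [5, 0, 1, 3] (by decide +kernel)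
  have k3 : Th t L w3 w3 := Th_self S [5, 2, 3, 2, 1] (by decide +kernel)
  intro i hi j hj
  interval_cases i <;> interval_cases j
  · exact k1
  · exact h1
  · exact h2
  · exact Th_symm c h1
  · exact k2
  · exact h3
  · exact Th_symm c h2
  · exact Th_symm c h3
  · exact k3

/-- every element of `H` is a product of the three -/
theorem trip_gen (K : Subgroup H) (h : ∀ i < 3, wd (trip i) ∈ K) (m : H) : m ∈ K := by
  have h1 : ∀ l : List ℕ, (∀ i ∈ l, i < 3) → wd (wtrip l) ∈ K := by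
    intro l
    induction l with
    | nil => intro _; exact K.one_mem
    | cons i l ih =>
      intro hl
      have e : wtrip (i :: l) = trip i ++ wtrip l := rfl
      rw [e, wd_append]
      exact K.mul_mem (h i (hl i List.mem_cons_self)) (ih (fun j hj => hl j (List.mem_cons_of_mem _ hj)))
  have h2 : (Subgroup.closure {y, p, q, r, s, b} : Subgroup H) ≤ K := by
    rw [Subgroup.closure_le]
    intro x hx
    simp only [Set.mem_insert_iff, Set.mem_singleton_iff] at hx
    rcases hx with rfl | rfl | rfl | rfl | rfl | rfl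
    · rw [← wd_y]; exact h 0 (by norm_num)
    · rw [← wd_p, wd_eq (l := [1]) (l' := wtrip [0, 2, 1, 2, 0, 2, 1, 2, 0, 2, 1, 2]) (by decide +kernel)]
      exact h1 _ (by decide)
    · rw [← wd_q, wd_eq (l := [2]) (l' := wtrip [2, 1, 2, 0, 2, 0, 1, 2, 1, 0, 2, 0, 2, 1, 2]) (by decide +kernel)]
      exact h1 _ (by decide)
    · rw [← wd_r, wd_eq (l := [3]) (l' := wtrip [1, 2, 0, 1, 0, 1, 2, 1, 0, 2, 1, 2, 0, 2, 0, 1, 2])
        (by decide +kernel)]
      exact h1 _ (by decide)
    · rw [← wd_s, wd_eq (l := [4]) (l' := wtrip [1, 2, 1, 0, 1, 0, 2, 1, 2, 0, 1, 0, 1, 2, 1]) (by decide +kernel)]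
      exact h1 _ (by decide)
    · rw [← wd_b, wd_eq (l := [5]) (l' := wtrip [2, 1, 0, 2, 0, 2, 1, 0, 1, 2, 0, 2, 0, 1, 2]) (by decide +kernel)]
      exact h1 _ (by decide)
  rw [closure_gen] at h2
  exact h2 (Subgroup.mem_top m)

/-- **Pattern γ is dead.** -/
theorem gamma_false [Finite G] (hG : ∀ K : Subgroup G, K.index ≠ 2) (c : Ctx t f)
    (h1 : IsConj t (t * f y)) (h2 : ¬ IsConj t (f y)) (h3 : ¬ IsConj t (f (p * r))) : False := by
  obtain ⟨g, g1, g2, g3⟩ := exists_g c h1 h2 h3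
  have cx := toCx c
  obtain ⟨L, S⟩ := exists_L cx g1 g2 g3
  have hT := Th_trip cx S
  have tt := c.tt
  set gens : Set G := {a | ∃ i < 3, a = Lw L (trip i)} with hgens
  set A1 := Subgroup.closure gens with hA1
  have hcomm : ∀ a ∈ A1, ∀ b ∈ A1, Commute a (t * b * t) := by
    have k1 : ∀ a ∈ gens, ∀ b ∈ A1, Commute a (t * b * t) := by
      rintro _ ⟨i, hi, rfl⟩ b hb
      induction hb using Subgroup.closure_induction with
      | mem b hb =>
        obtain ⟨j, hj, rfl⟩ := hb
        exact hT i hi j hj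
      | one => rw [mul_one, tt]; exact Commute.one_right _
      | mul b b' _ _ ih ih' =>
        have e : t * (b * b') * t = (t * b * t) * (t * b' * t) := by
          calc t * (b * b') * t = t * b * 1 * b' * t := by group
            _ = t * b * (t * t) * b' * t := by rw [tt]
            _ = _ := by group
        rw [e]
        exact ih.mul_right ih'
      | inv b _ ih =>
        have e : t * b⁻¹ * t = (t * b * t)⁻¹ := by
          rw [mul_inv_rev, mul_inv_rev, c.inv_t, mul_assoc]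
        rw [e]
        exact ih.inv_right
    intro a ha b hb
    induction ha using Subgroup.closure_induction with
    | mem a ha => exact k1 a ha b hb
    | one => exact Commute.one_left _
    | mul a a' _ _ ih ih' => exact ih.mul_left ih'
    | inv a _ ih => exact ih.inv_left
  refine final_kill hG c A1 hcomm ?_
  intro m
  have h4 : m ∈ (prodT cx A1 hcomm).comap f := by
    apply trip_gen
    intro i hi
    rw [Subgroup.mem_comap, mem_prodT]
    have hLA : Lw L (trip i) ∈ A1 := Subgroup.subset_closure ⟨i, hi, rfl⟩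
    refine ⟨_, hLA, _, hLA, ?_⟩
    have hk : ∃ m, eqW (cj [0] m) (trip i) = true := by
      interval_cases i
      · exact ⟨[], by decide +kernel⟩
      · exact ⟨[5, 0, 1, 3], by decide +kernel⟩
      · exact ⟨[5, 2, 3, 2, 1], by decide +kernel⟩
    obtain ⟨k, hk⟩ := hk
    exact F_LL S k hk
  exact h4

end Cfsg.Agent.CoThreeStd.Gamma
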