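import Cfsg.Agent.CoThreeStd.MTwelveWords

/-!
# Involutions and centralisers in the Mathieu group of degree 12

* `cent_y`: the centraliser of `y` is `⟨y⟩ × S5`, the second factor being the image of `w : Perm (Fin 5) →* M12`;
* `inv_class`: every involution is conjugate to `y` or to `p * r`;
* `card_cent_y = 240`, `card_cent_v = 192`; `closure_gen`: the six generators generate.
-/

set_option autoImplicit false
open scoped Pointwise
open Cfsg

namespace Cfsg.Agent.CoThreeStd.MTwelve

open Cfsg.Agent.MTwelveType.SylowModel (card_M12)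
open Cfsg.Agent.SporRec.Co3.FiveHom (exists_hom injective_of)

/-- the Mathieu group of degree 12 -/
abbrev H : Type := ↥Spor.M12

theorem card_H : Nat.card H = 95040 := card_M12

instance : Finite H := Nat.finite_of_card_ne_zero (by rw [card_H]; norm_num)

theorem incr_lt {x : List ℕ} : ∀ {ls : List (List ℕ)} {a : ℕ}, incr x a ls = true →
    ∀ m ∈ ls, a < sig (cj x m) 24
  | [], _, _, m, hm => by simp at hm
  | m' :: ls, a, h, m, hm => by
    rw [incr, Bool.and_eq_true] at h
    have h1 : a < sig (cj x m') 24 := by simpa [Nat.blt] using h.1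
    rcases List.mem_cons.mp hm with rfl | hm
    · exact h1
    · exact h1.trans (incr_lt h.2 m hm)

theorem incr_pairwise {x : List ℕ} : ∀ {ls : List (List ℕ)} {a : ℕ}, incr x a ls = true →
    ls.Pairwise (fun m m' => sig (cj x m) 24 < sig (cj x m') 24)
  | [], _, _ => List.Pairwise.nil
  | m :: ls, a, h => by
    rw [incr, Bool.and_eq_true] at h
    exact List.Pairwise.cons (fun m' hm' => incr_lt h.2 m' hm') (incr_pairwise h.2)

theorem card_le (K : Subgroup H) (hK : ∀ l, wd l ∈ K) (x : List ℕ) (ls : List (List ℕ)) (a : ℕ)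
    (h : incr x a ls = true) :
    ls.length * Nat.card ((Subgroup.centralizer {wd x} : Subgroup H) ⊓ K : Subgroup H) ≤ Nat.card K := by
  have hp := List.pairwise_iff_getElem.mp (incr_pairwise h)
  set C : Subgroup K := (Subgroup.centralizer {wd x} : Subgroup H).subgroupOf K with hC
  let f : Fin ls.length → K ⧸ C := fun i => ((⟨(wd ls[i.1])⁻¹, inv_mem (hK _)⟩ : K) : K ⧸ C)
  have hinj : Function.Injective f := by
    intro i j hij
    have h1 := QuotientGroup.eq.mp hij
    rw [hC, Subgroup.mem_subgroupOf] at h1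
    have h2 : wd ls[i.1] * (wd ls[j.1])⁻¹ ∈ (Subgroup.centralizer {wd x} : Subgroup H) := by
      simpa using h1
    have h3 := Subgroup.mem_centralizer_iff.mp h2 (wd x) rfl
    have h4 : wd (cj x ls[i.1]) = wd (cj x ls[j.1]) := by
      rw [wd_cj, wd_cj]
      calc (wd ls[i.1])⁻¹ * wd x * wd ls[i.1]
          = (wd ls[i.1])⁻¹ * (wd x * (wd ls[i.1] * (wd ls[j.1])⁻¹)) * wd ls[j.1] := by group
        _ = (wd ls[j.1])⁻¹ * wd x * wd ls[j.1] := by rw [h3]; group
    have h5 := sig_eq h4 24 le_rfl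
    by_contra hne
    rcases lt_or_gt_of_ne (fun h6 => hne (Fin.ext h6)) with h6 | h6
    · exact absurd h5 (hp i.1 j.1 i.2 j.2 h6).ne
    · exact absurd h5 (hp j.1 i.1 j.2 i.2 h6).ne'
  have h1 : ls.length ≤ Nat.card (K ⧸ C) := by
    have := Nat.card_le_card_of_injective f hinj
    simpa using this
  have h2 : Nat.card ((Subgroup.centralizer {wd x} : Subgroup H) ⊓ K : Subgroup H) = Nat.card C := by
    rw [hC, ← Subgroup.inf_subgroupOf_right]
    exact (Nat.card_congr (Subgroup.subgroupOfEquivOfLe inf_le_right).toEquiv).symm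
  rw [h2, Subgroup.card_eq_card_quotient_mul_card_subgroup C]
  exact Nat.mul_le_mul_right _ h1

theorem wd_y : wd [0] = y := by simp [wd, gen]
theorem wd_p : wd [1] = p := by simp [wd, gen]
theorem wd_q : wd [2] = q := by simp [wd, gen]
theorem wd_r : wd [3] = r := by simp [wd, gen]
theorem wd_s : wd [4] = s := by simp [wd, gen]
theorem wd_b : wd [5] = b := by simp [wd, gen]
theorem wd_pr : wd [1, 3] = p * r := by simp [wd, gen]

/-- the four Coxeter generators -/
def cox (i : Fin 4) : H := gen (i.1 + 1)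

theorem exists_w : ∃ f : Equiv.Perm (Fin 5) →* H, (∀ i, f (Cfsg.Agent.SporRec.Co3.FiveHom.tp i) = cox i) ∧
    f.range = Subgroup.closure (Set.range cox) := by
  apply exists_hom
  · intro i
    exact gen_sq _
  · have h : ∀ i j : Fin 4, i.val + 1 < j.val →
        eqW [i.1 + 1, j.1 + 1] [j.1 + 1, i.1 + 1] = true := by decide +kernel
    intro i j hij
    simpa [wd, cox] using wd_eq (h i j hij)
  · have h : ∀ i j : Fin 4, i.val + 1 = j.val →
        eqW [i.1 + 1, j.1 + 1, i.1 + 1] [j.1 + 1, i.1 + 1, j.1 + 1] = true := by decide +kernel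
    intro i j hij
    simpa [wd, cox, mul_assoc] using wd_eq (h i j hij)

/-- the homomorphism from the symmetric group of degree 5 -/
noncomputable def w : Equiv.Perm (Fin 5) →* H := exists_w.choose

theorem w_tp (i : Fin 4) : w (Cfsg.Agent.SporRec.Co3.FiveHom.tp i) = cox i := exists_w.choose_spec.1 i

theorem w_range : w.range = Subgroup.closure (Set.range cox) := exists_w.choose_spec.2

theorem tp0 : Cfsg.Agent.SporRec.Co3.FiveHom.tp 0 = Equiv.swap 0 1 := by decide +kernel
theorem tp1 : Cfsg.Agent.SporRec.Co3.FiveHom.tp 1 = Equiv.swap 1 2 := by decide +kernel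
theorem tp2 : Cfsg.Agent.SporRec.Co3.FiveHom.tp 2 = Equiv.swap 2 3 := by decide +kernel
theorem tp3 : Cfsg.Agent.SporRec.Co3.FiveHom.tp 3 = Equiv.swap 3 4 := by decide +kernel

theorem w_p : w (Equiv.swap 0 1) = p := by rw [← tp0]; exact w_tp 0
theorem w_q : w (Equiv.swap 1 2) = q := by rw [← tp1]; exact w_tp 1
theorem w_r : w (Equiv.swap 2 3) = r := by rw [← tp2]; exact w_tp 2
theorem w_s : w (Equiv.swap 3 4) = s := by rw [← tp3]; exact w_tp 3

theorem w_injective : Function.Injective w := by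
  apply injective_of
  rw [← Cfsg.Agent.SporRec.Co3.FiveHom.tp_dbl, map_mul, w_tp, w_tp]
  have h : act [1, 3] 0 ≠ act [] 0 := by decide +kernel
  have := wd_ne 0 (by norm_num) h
  simpa [wd, cox] using this

theorem y_sq : y * y = 1 := gen_sq 0

theorem y_ne_one : y ≠ 1 := by
  have h : act [0] 0 ≠ act [] 0 := by decide +kernel
  have := wd_ne 0 (by norm_num) h
  simpa [wd, gen] using this

theorem y_comm (σ : Equiv.Perm (Fin 5)) : y * w σ = w σ * y := by
  have h1 : w σ ∈ w.range := ⟨σ, rfl⟩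
  rw [w_range] at h1
  have hle : Subgroup.closure (Set.range cox) ≤ Subgroup.centralizer {y} := by
    rw [Subgroup.closure_le]
    rintro _ ⟨i, rfl⟩
    rw [SetLike.mem_coe, Subgroup.mem_centralizer_iff]
    rintro _ rfl
    have h : ∀ i : Fin 4, eqW [0, i.1 + 1] [i.1 + 1, 0] = true := by decide +kernel
    have h1 := wd_eq (h i)
    rw [wd_cons, wd_cons, wd_cons, wd_cons, wd_nil, mul_one, mul_one] at h1
    exact h1
  exact Subgroup.mem_centralizer_iff.mp (hle h1) y rfl

theorem perm5_central (σ : Equiv.Perm (Fin 5)) (h : ∀ τ, σ * τ = τ * σ) : σ = 1 :=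
  Cfsg.Agent.SporRec.Co3.central_eq_one σ (fun τ => (h τ).symm)

theorem y_ne_w (σ : Equiv.Perm (Fin 5)) : y ≠ w σ := by
  intro h
  have h1 : σ = 1 := by
    apply perm5_central
    intro τ
    apply w_injective
    rw [map_mul, map_mul, ← h, y_comm]
  apply y_ne_one
  rw [h, h1, map_one]

theorem w_mem (K : Subgroup H) (hK : ∀ l, wd l ∈ K) (σ : Equiv.Perm (Fin 5)) : w σ ∈ K := by
  have h1 : w σ ∈ w.range := ⟨σ, rfl⟩
  rw [w_range] at h1
  have hle : Subgroup.closure (Set.range cox) ≤ K := by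
    rw [Subgroup.closure_le]
    rintro _ ⟨i, rfl⟩
    have := hK [i.1 + 1]
    rw [wd_cons, wd_nil, mul_one] at this
    exact this
  exact hle h1

/-- the elements `y ^ a * w σ` -/
noncomputable def yw (c : Bool × Equiv.Perm (Fin 5)) : H := (if c.1 then y else 1) * w c.2

theorem yw_comm (c : Bool × Equiv.Perm (Fin 5)) : y * yw c = yw c * y := by
  obtain ⟨a, σ⟩ := c
  have h := y_comm σ
  cases a
  · simp only [yw, Bool.false_eq_true, if_false, one_mul]; exact h
  · simp only [yw, if_true]; rw [mul_assoc y, h]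

theorem yw_injective : Function.Injective yw := by
  rintro ⟨a, σ⟩ ⟨c, τ⟩ h
  have key : ∀ σ τ, y * w σ ≠ w τ := by
    intro σ τ h
    apply y_ne_w (τ * σ⁻¹)
    rw [map_mul, map_inv, ← h, mul_inv_cancel_right]
  cases a <;> cases c <;> simp only [yw, if_true, one_mul, Bool.false_eq_true, if_false] at h
  · rw [w_injective h]
  · exact absurd h.symm (key _ _)
  · exact absurd h (key _ _)
  · rw [w_injective (mul_left_cancel h)]

theorem card_ge (K : Subgroup H) (hK : ∀ l, wd l ∈ K) :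
    240 ≤ Nat.card ((Subgroup.centralizer {wd [0]} : Subgroup H) ⊓ K : Subgroup H) := by
  have h1 : ∀ c, yw c ∈ ((Subgroup.centralizer {wd [0]} : Subgroup H) ⊓ K : Subgroup H) := by
    rintro ⟨a, σ⟩
    rw [Subgroup.mem_inf, wd_y]
    have hy : y ∈ K := by rw [← wd_y]; exact hK _
    constructor
    · rw [Subgroup.mem_centralizer_iff]
      rintro _ rfl
      exact yw_comm _
    · cases a
      · simpa [yw] using w_mem K hK σ
      · simpa [yw] using mul_mem hy (w_mem K hK σ)
  have h2 := Nat.card_le_card_of_injective (fun c => (⟨yw c, h1 c⟩ :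
    ((Subgroup.centralizer {wd [0]} : Subgroup H) ⊓ K : Subgroup H)))
    (fun c d h => yw_injective (congrArg Subtype.val h))
  have h3 : Nat.card (Bool × Equiv.Perm (Fin 5)) = 240 := by
    rw [Nat.card_prod, Nat.card_eq_fintype_card, Nat.card_eq_fintype_card, Fintype.card_perm]
    decide
  rwa [h3] at h2

theorem card_cent_y : Nat.card (Subgroup.centralizer {y} : Subgroup H) = 240 := by
  have h1 := card_le ⊤ (fun _ => Subgroup.mem_top _) [0] wordsY 0 incrY
  have h2 := card_ge ⊤ (fun _ => Subgroup.mem_top _)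
  rw [lenY, Subgroup.card_top, card_H, inf_top_eq, wd_y] at h1
  rw [inf_top_eq, wd_y] at h2
  omega

/-- **The centraliser of `y`.** -/
theorem cent_y (h : H) (hh : h * y = y * h) : ∃ σ, h = w σ ∨ h = y * w σ := by
  have h1 : ∀ c, yw c ∈ (Subgroup.centralizer {y} : Subgroup H) := by
    rintro ⟨a, σ⟩
    rw [Subgroup.mem_centralizer_iff]
    rintro _ rfl
    exact yw_comm _
  have hinj : Function.Injective (fun c => (⟨yw c, h1 c⟩ : (Subgroup.centralizer {y} : Subgroup H))) :=
    fun c d h => yw_injective (congrArg Subtype.val h)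
  have h3 : Nat.card (Bool × Equiv.Perm (Fin 5)) = 240 := by
    rw [Nat.card_prod, Nat.card_eq_fintype_card, Nat.card_eq_fintype_card, Fintype.card_perm]
    decide
  have hb := (Nat.bijective_iff_injective_and_card _).mpr ⟨hinj, h3.trans card_cent_y.symm⟩
  obtain ⟨⟨a, σ⟩, hc⟩ := hb.2 ⟨h, Subgroup.mem_centralizer_iff.mpr (by rintro _ rfl; exact hh.symm)⟩
  have hc' : yw (a, σ) = h := congrArg Subtype.val hc
  refine ⟨σ, ?_⟩
  rw [← hc']
  cases a
  · left; simp [yw]
  · right; simp [yw]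

/-- the generators generate -/
theorem closure_gen : Subgroup.closure {y, p, q, r, s, b} = (⊤ : Subgroup H) := by
  set K : Subgroup H := Subgroup.closure {y, p, q, r, s, b} with hKd
  have hg : ∀ i, gen i ∈ K := by
    intro i
    rcases Nat.lt_or_ge i 6 with hi | hi
    · have : ∀ i : Fin 6, gen i.1 ∈ K := by
        intro i
        fin_cases i <;> exact Subgroup.subset_closure (by simp [gen])
      exact this ⟨i, hi⟩
    · have h6 : gen i = 1 := by
        obtain ⟨k, rfl⟩ := Nat.exists_eq_add_of_le hi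
        rw [Nat.add_comm]; rfl
      rw [h6]; exact one_mem _
  have hK : ∀ l, wd l ∈ K := by
    intro l
    induction l with
    | nil => exact one_mem _
    | cons i l ih => rw [wd_cons]; exact mul_mem (hg i) ih
  have h1 := card_le K hK [0] wordsY 0 incrY
  have h2 := card_ge K hK
  rw [lenY] at h1
  apply Subgroup.eq_top_of_le_card
  rw [card_H]
  calc 95040 = 396 * 240 := by norm_num
    _ ≤ _ := (Nat.mul_le_mul_left 396 h2).trans h1

theorem mem_wd (h : H) : ∃ l, wd l = h := by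
  have hh : h ∈ Subgroup.closure {y, p, q, r, s, b} := by rw [closure_gen]; trivial
  induction hh using Subgroup.closure_induction with
  | mem x hx =>
    rcases hx with rfl | rfl | rfl | rfl | rfl | rfl
    exacts [⟨_, wd_y⟩, ⟨_, wd_p⟩, ⟨_, wd_q⟩, ⟨_, wd_r⟩, ⟨_, wd_s⟩, ⟨_, wd_b⟩]
  | one => exact ⟨[], rfl⟩
  | mul u v _ _ hu hv =>
    obtain ⟨l, rfl⟩ := hu
    obtain ⟨l', rfl⟩ := hv
    exact ⟨l ++ l', wd_append _ _⟩
  | inv u _ hu =>
    obtain ⟨l, rfl⟩ := hu
    exact ⟨l.reverse, (wd_reverse l).symm⟩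

/-! ### the Sylow 2-subgroup and the classes of involutions -/

open Cfsg.Agent.MTwelveType.SylowModel (A B C D hom hom_apply bp card_range_hom)

/-- words for the generators of the Sylow 2-subgroup -/
def wA : List ℕ := [5, 0, 2, 5, 0, 2, 5, 3]
/-- words for the generators of the Sylow 2-subgroup -/
def wB : List ℕ := [5, 0, 2, 3, 5, 0, 1]
/-- words for the generators of the Sylow 2-subgroup -/
def wC : List ℕ := [1, 4, 3, 5, 1, 5, 1, 3, 4]
/-- words for the generators of the Sylow 2-subgroup -/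
def wD : List ℕ := [0, 1, 3, 5, 0, 2, 5, 3]

theorem eqA : A = wd wA := Cfsg.Agent.MTwelveType.SylowModel.ext_M12 (by decide +kernel)
theorem eqB : B = wd wB := Cfsg.Agent.MTwelveType.SylowModel.ext_M12 (by decide +kernel)
theorem eqC : C = wd wC := Cfsg.Agent.MTwelveType.SylowModel.ext_M12 (by decide +kernel)
theorem eqD : D = wd wD := Cfsg.Agent.MTwelveType.SylowModel.ext_M12 (by decide +kernel)

/-- power of a word -/
def wpow (l : List ℕ) : ℕ → List ℕ
  | 0 => []
  | n + 1 => wpow l n ++ l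

theorem wd_wpow (l : List ℕ) (n : ℕ) : wd (wpow l n) = wd l ^ n := by
  induction n with
  | zero => rfl
  | succ n ih => rw [wpow, wd_append, ih, pow_succ]

/-- the word of an element of the Sylow 2-subgroup -/
def wS (i j : ℕ) (e d : Bool) : List ℕ :=
  wpow wA i ++ (wpow wB j ++ ((if e then wC else []) ++ (if d then wD else [])))

theorem wd_wS (x : Cfsg.Agent.ClassificationK.GTwoModel.T (2 * 2)) :
    wd (wS x.i.val x.j.val x.e x.d) = hom x := by
  rw [hom_apply, wS, wd_append, wd_append, wd_append, wd_wpow, wd_wpow, ← eqA, ← eqB]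
  cases x.e <;> cases x.d <;> simp [bp, eqC, eqD, wd_nil, mul_assoc]

/-- conjugating words for the involutions of class 2A of the Sylow 2-subgroup -/
def msA : List (List ℕ) := [[5, 1, 4, 3, 5], [5, 2, 1, 4, 5, 4], [5, 1, 2, 3, 4], [5, 1, 5, 1, 3, 5], [5, 0, 2, 1, 3, 5], [5, 0, 5, 1], [5, 2, 1, 4, 5, 4, 3], [5, 0, 4, 3], [5, 0, 2, 5, 4], [5, 0, 3, 2, 5, 2, 4], [5, 0, 1, 2, 4, 5], [5, 1, 3, 4, 3]]
/-- conjugating words for the involutions of class 2B of the Sylow 2-subgroup -/
def msB : List (List ℕ) := [[2, 4, 5, 0, 4], [4, 5, 1, 3, 4], [4, 5, 0, 4], [2, 1, 4, 5, 2, 3, 5], [2, 4, 5, 0, 4, 3], [2, 1, 5, 0, 5], [4, 5, 0, 1, 5], [2, 1, 5, 2, 3, 5, 1], [5, 0, 3, 5, 1], [2, 5, 2, 3, 5, 1], [2, 1, 4, 3, 5], [2, 1, 4, 3, 2, 1], [5, 1, 5, 4, 5], [2, 1, 5, 0, 5, 3], [4, 5, 0, 4, 3]]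

/-- the test for one element of the Sylow 2-subgroup -/
def testS (l : List ℕ) : Bool :=
  eqW l [] || (!(eqW (l ++ l) [])) || msA.any (fun m => eqW l (cj [0] m)) ||
    msB.any (fun m => eqW l (cj [1, 3] m))

set_option maxRecDepth 100000 in
theorem testS_all : ∀ i j : Fin 4, ∀ e d : Bool, testS (wS i.1 j.1 e d) = true := by decide +kernel

theorem eqW_of_wd {l l' : List ℕ} (h : wd l = wd l') : eqW l l' = true := by
  have key : ∀ n ≤ 24, allB (fun x => Nat.beq (act l x) (act l' x)) n = true := by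
    intro n
    induction n with
    | zero => intro _; rfl
    | succ n ih =>
      intro hn
      rw [allB, ih (by omega), Bool.and_true, ← (act_spec l n (by omega)).1,
        ← (act_spec l' n (by omega)).1, h]
      exact Nat.beq_refl _
  exact key 24 le_rfl

theorem testS_spec {l : List ℕ} (h : testS l = true) (h1 : wd l ≠ 1) (h2 : wd l * wd l = 1) :
    (∃ m, m⁻¹ * y * m = wd l) ∨ ∃ m, m⁻¹ * (p * r) * m = wd l := by
  rw [testS, Bool.or_eq_true, Bool.or_eq_true, Bool.or_eq_true] at h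
  rcases h with ((h | h) | h) | h
  · exact absurd (wd_eq h) h1
  · rw [← wd_append] at h2
    rw [eqW_of_wd (l := l ++ l) (l' := []) h2] at h
    simp at h
  · obtain ⟨m, -, hm⟩ := List.any_eq_true.mp h
    left
    exact ⟨wd m, by rw [← wd_y, ← wd_cj, wd_eq hm]⟩
  · obtain ⟨m, -, hm⟩ := List.any_eq_true.mp h
    right
    exact ⟨wd m, by rw [← wd_pr, ← wd_cj, wd_eq hm]⟩

theorem exists_sylow : ∃ P : Sylow 2 H, hom.range = (P : Subgroup H) := by
  have h1 : IsPGroup 2 hom.range := IsPGroup.of_card (n := 6) (by rw [card_range_hom]; norm_num)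
  obtain ⟨Q, hQ⟩ := h1.exists_le_sylow
  refine ⟨Q, ?_⟩
  apply Subgroup.eq_of_le_of_card_ge hQ
  rw [card_range_hom]
  exact (Cfsg.Agent.MTwelveType.SylowModel.card_sylow Q).le

/-- **The two classes of involutions.** -/
theorem inv_class (g : H) (h1 : g ≠ 1) (h2 : g * g = 1) :
    (∃ m, m⁻¹ * y * m = g) ∨ ∃ m, m⁻¹ * (p * r) * m = g := by
  obtain ⟨P, hP⟩ := exists_sylow
  have hz : IsPGroup 2 (Subgroup.zpowers g) := by
    intro x
    obtain ⟨k, hk⟩ := Subgroup.mem_zpowers_iff.mp x.2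
    refine ⟨1, Subtype.ext ?_⟩
    show (x : H) ^ (2 ^ 1) = 1
    rw [← hk, pow_one, ← zpow_natCast, ← zpow_mul, mul_comm, zpow_mul, zpow_natCast, pow_two, h2, one_zpow]
  obtain ⟨Q, hQ⟩ := hz.exists_le_sylow
  obtain ⟨c, hc⟩ := MulAction.exists_smul_eq H Q P
  have hg : c * g * c⁻¹ ∈ hom.range := by
    rw [hP, ← hc]
    have h3 : g ∈ (Q : Subgroup H) := hQ (Subgroup.mem_zpowers g)
    exact Sylow.smul_def (g := c) (P := Q) ▸ Subgroup.smul_mem_pointwise_smul g (MulAut.conj c) _ h3
  obtain ⟨x, hx⟩ := hg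
  have h3 := testS_all ⟨x.i.val, ZMod.val_lt x.i⟩ ⟨x.j.val, ZMod.val_lt x.j⟩ x.e x.d
  have h4 : wd (wS x.i.val x.j.val x.e x.d) = c * g * c⁻¹ := by rw [wd_wS, hx]
  have h5 := testS_spec h3 (by
    show wd (wS x.i.val x.j.val x.e x.d) ≠ 1
    rw [h4]
    intro h6
    apply h1
    calc g = c⁻¹ * (c * g * c⁻¹) * c := by group
      _ = 1 := by rw [h6]; group) (by
    show wd (wS x.i.val x.j.val x.e x.d) * wd (wS x.i.val x.j.val x.e x.d) = 1
    rw [h4]
    calc c * g * c⁻¹ * (c * g * c⁻¹) = c * (g * g) * c⁻¹ := by group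
      _ = 1 := by rw [h2]; group)
  have h6 : ∀ u m : H, m⁻¹ * u * m = c * g * c⁻¹ → (m * c)⁻¹ * u * (m * c) = g := by
    intro u m hm
    calc (m * c)⁻¹ * u * (m * c) = c⁻¹ * (m⁻¹ * u * m) * c := by group
      _ = g := by rw [hm]; group
  rcases h5 with ⟨m, hm⟩ | ⟨m, hm⟩
  · left
    exact ⟨m * c, h6 _ _ (hm.trans h4)⟩
  · right
    exact ⟨m * c, h6 _ _ (hm.trans h4)⟩

theorem card_cent_v : Nat.card (Subgroup.centralizer {p * r} : Subgroup H) = 192 := by
  have h1 := card_le ⊤ (fun _ => Subgroup.mem_top _) [1, 3] wordsV 0 incrV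
  rw [lenV, Subgroup.card_top, card_H, inf_top_eq, wd_pr] at h1
  have hpos : 0 < Nat.card (Subgroup.centralizer {p * r} : Subgroup H) := Nat.card_pos
  -- an element of order 3
  have h3 : 3 ∣ Nat.card (Subgroup.centralizer {p * r} : Subgroup H) := by
    let ρ : List ℕ := [5, 0, 2, 1, 3, 4, 5, 2]
    have hc : wd ρ ∈ (Subgroup.centralizer {p * r} : Subgroup H) := by
      rw [Subgroup.mem_centralizer_iff]
      rintro _ rfl
      have h : eqW ([1, 3] ++ ρ) (ρ ++ [1, 3]) = true := by decide +kernel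
      have := wd_eq h
      rwa [wd_append, wd_append, wd_pr] at this
    have ho : orderOf (⟨wd ρ, hc⟩ : (Subgroup.centralizer {p * r} : Subgroup H)) = 3 := by
      have : Fact (Nat.Prime 3) := ⟨Nat.prime_three⟩
      apply orderOf_eq_prime
      · apply Subtype.ext
        show (wd ρ) ^ 3 = 1
        rw [← wd_wpow]
        exact wd_eq (l' := []) (by decide +kernel)
      · intro h
        have h' : wd ρ = wd [] := congrArg Subtype.val h
        exact wd_ne 0 (by norm_num) (by decide +kernel) h'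
    rw [← ho]
    exact orderOf_dvd_natCard _
  -- a Sylow 2-subgroup
  have h64 : 64 ∣ Nat.card (Subgroup.centralizer {p * r} : Subgroup H) := by
    obtain ⟨P, hP⟩ := exists_sylow
    let m : List ℕ := [2, 5, 2, 3, 5, 1]
    have hm : (wd m)⁻¹ * (p * r) * wd m = A ^ 2 * B ^ 2 := by
      rw [← wd_pr, ← wd_cj, eqA, eqB, ← wd_wpow, ← wd_wpow, ← wd_append]
      exact wd_eq (by decide +kernel)
    have hle : (hom.range).map (MulAut.conj (wd m)).toMonoidHom ≤
        (Subgroup.centralizer {p * r} : Subgroup H) := by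
      rintro _ ⟨_, ⟨x, rfl⟩, rfl⟩
      rw [Subgroup.mem_centralizer_iff]
      rintro _ rfl
      have hz : (A ^ 2 * B ^ 2) * hom x = hom x * (A ^ 2 * B ^ 2) := by
        rw [← wd_wS, eqA, eqB, ← wd_wpow, ← wd_wpow, ← wd_append, ← wd_append, ← wd_append]
        have h : ∀ i j : Fin 4, ∀ e d : Bool, eqW ((wpow wA 2 ++ wpow wB 2) ++ wS i.1 j.1 e d)
            (wS i.1 j.1 e d ++ (wpow wA 2 ++ wpow wB 2)) = true := by decide +kernel
        exact wd_eq (h ⟨x.i.val, ZMod.val_lt x.i⟩ ⟨x.j.val, ZMod.val_lt x.j⟩ x.e x.d)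
      show p * r * (wd m * hom x * (wd m)⁻¹) = wd m * hom x * (wd m)⁻¹ * (p * r)
      have h7 : p * r = wd m * (A ^ 2 * B ^ 2) * (wd m)⁻¹ := by rw [← hm]; group
      rw [h7]
      calc wd m * (A ^ 2 * B ^ 2) * (wd m)⁻¹ * (wd m * hom x * (wd m)⁻¹)
          = wd m * ((A ^ 2 * B ^ 2) * hom x) * (wd m)⁻¹ := by group
        _ = wd m * (hom x * (A ^ 2 * B ^ 2)) * (wd m)⁻¹ := by rw [hz]
        _ = wd m * hom x * (wd m)⁻¹ * (wd m * (A ^ 2 * B ^ 2) * (wd m)⁻¹) := by group
    have h8 := Subgroup.card_dvd_of_le hle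
    rwa [Subgroup.card_map_of_injective (MulAut.conj (wd m)).injective, card_range_hom] at h8
  have h192 : 192 ∣ Nat.card (Subgroup.centralizer {p * r} : Subgroup H) := by
    have : (192 : ℕ) = 3 * 64 := by norm_num
    rw [this]
    exact Nat.Coprime.mul_dvd_of_dvd_of_dvd (by norm_num) h3 h64
  obtain ⟨k, hk⟩ := h192
  omega

theorem conj_of_card (m : H) (h1 : m ≠ 1) (h2 : m * m = 1)
    (h3 : Nat.card (Subgroup.centralizer {m} : Subgroup H) = 240) : ∃ c, c⁻¹ * y * c = m := by
  rcases inv_class m h1 h2 with h | ⟨c, hc⟩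
  · exact h
  · exfalso
    have h4 : Nat.card (Subgroup.centralizer {m} : Subgroup H) =
        Nat.card (Subgroup.centralizer {p * r} : Subgroup H) := by
      apply Nat.card_congr
      refine ⟨fun x => ⟨c * x.1 * c⁻¹, ?_⟩, fun x => ⟨c⁻¹ * x.1 * c, ?_⟩, ?_, ?_⟩
      · rw [Subgroup.mem_centralizer_iff]
        rintro _ rfl
        have h5 := Subgroup.mem_centralizer_iff.mp x.2 m rfl
        have h6 : p * r = c * m * c⁻¹ := by rw [← hc]; group
        rw [h6]
        calc c * m * c⁻¹ * (c * x.1 * c⁻¹) = c * (m * x.1) * c⁻¹ := by group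
          _ = c * (x.1 * m) * c⁻¹ := by rw [h5]
          _ = _ := by group
      · rw [Subgroup.mem_centralizer_iff]
        rintro _ rfl
        have h5 := Subgroup.mem_centralizer_iff.mp x.2 (p * r) rfl
        rw [← hc]
        calc c⁻¹ * (p * r) * c * (c⁻¹ * x.1 * c) = c⁻¹ * (p * r * x.1) * c := by group
          _ = c⁻¹ * (x.1 * (p * r)) * c := by rw [h5]
          _ = _ := by group
      · intro x
        apply Subtype.ext
        show c⁻¹ * (c * x.1 * c⁻¹) * c = x.1
        group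
      · intro x
        apply Subtype.ext
        show c * (c⁻¹ * x.1 * c) * c⁻¹ = x.1
        group
    rw [h3, card_cent_v] at h4
    norm_num at h4

end Cfsg.Agent.CoThreeStd.MTwelve
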