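import Cfsg.Agent.CoThreeStd.Fusion
import Cfsg.Agent.CoThreeStd.MTwelveCent

/-!
# The two classes of involutions of `Spor.M12` (S1750; helper178)

`IsA m`: `m` is conjugate to `y` (class 2A); `IsB m`: `m` is conjugate to `p r` (class 2B). `inv2 : Inv2 IsA IsB`.
`IsA` elements have no fixed point on the 24 points, `IsB` elements have one.
-/

set_option autoImplicit false

namespace Cfsg.Agent.CoThreeStd.InvTwo

open Cfsg.Agent.CoThreeStd.MTwelve Cfsg.Agent.CoThreeStd.Fusion Cfsg.Agent.CoThreeStd.Parity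
open Cfsg.Agent.SporadicStructure.M11InvPerms

/-- class 2A -/
def IsA (m : H) : Prop := ∃ c, c⁻¹ * y * c = m
/-- class 2B -/
def IsB (m : H) : Prop := ∃ c, c⁻¹ * (p * r) * c = m

theorem isA_y : IsA y := ⟨1, by rw [inv_one, one_mul, mul_one]⟩
theorem isB_pr : IsB (p * r) := ⟨1, by rw [inv_one, one_mul, mul_one]⟩

theorem IsA.conj {m : H} (h : IsA m) (c : H) : IsA (c⁻¹ * m * c) := by
  obtain ⟨k, rfl⟩ := h
  exact ⟨k * c, by group⟩

theorem IsB.conj {m : H} (h : IsB m) (c : H) : IsB (c⁻¹ * m * c) := by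
  obtain ⟨k, rfl⟩ := h
  exact ⟨k * c, by group⟩

/-- a word conjugate to `y` -/
theorem isA_wd {l m : List ℕ} (h : eqW (cj [0] m) l = true) : IsA (wd l) :=
  ⟨wd m, by rw [← wd_eq h, wd_cj, wd_y]⟩

/-- a word conjugate to `p r` -/
theorem isB_wd {l m : List ℕ} (h : eqW (cj [1, 3] m) l = true) : IsB (wd l) :=
  ⟨wd m, by rw [← wd_eq h, wd_cj, wd_pr]⟩

theorem pr_sq : (p * r) * (p * r) = 1 := by
  have h : eqW [1, 3, 1, 3] [] = true := by decide +kernel
  have := wd_eq h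
  simpa [wd, gen, mul_assoc] using this

theorem pr_ne : p * r ≠ 1 := by
  have h := wd_ne (l := [1, 3]) (l' := []) 0 (by norm_num) (by decide +kernel)
  rwa [wd_pr, wd_nil] at h

theorem y_ne : y ≠ 1 := by
  have h := wd_ne (l := [0]) (l' := []) 0 (by norm_num) (by decide +kernel)
  rwa [wd_y, wd_nil] at h

/-- elements of 2A have no fixed point on the 24 points -/
theorem IsA.no_fix {m : H} (h : IsA m) (x : GolayPt) : m.1 x ≠ x := by
  obtain ⟨c, rfl⟩ := h
  intro h1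
  have h2 : ∀ z : Fin 24, act [0] z.1 ≠ z.1 := by decide +kernel
  have h3 : y.1 (c.1 x) = c.1 x := by
    have : c.1 ((c⁻¹ * y * c).1 x) = y.1 (c.1 x) := by
      show c.1 (c.1⁻¹ (y.1 (c.1 x))) = _
      exact Equiv.apply_symm_apply _ _
    rw [← this, h1]
  apply h2 ⟨enc (c.1 x), enc_lt _⟩
  have h4 := (act_spec [0] (enc (c.1 x)) (enc_lt _)).1
  rw [dec_enc, wd_y, h3] at h4
  exact h4.symm

/-- elements of 2B have a fixed point on the 24 points -/
theorem IsB.fix {m : H} (h : IsB m) : ∃ x : GolayPt, m.1 x = x := by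
  obtain ⟨c, rfl⟩ := h
  have h2 : ∃ z : Fin 24, act [1, 3] z.1 = z.1 := by decide +kernel
  obtain ⟨z, hz⟩ := h2
  have h4 := (act_spec [1, 3] z.1 z.2).1
  rw [wd_pr, hz] at h4
  have h5 : (p * r).1 (dec z.1) = dec z.1 := by
    rw [← dec_enc ((p * r).1 (dec z.1)), h4]
  refine ⟨c.1⁻¹ (dec z.1), ?_⟩
  show c.1⁻¹ ((p * r).1 (c.1 (c.1⁻¹ (dec z.1)))) = _
  have h6 : c.1 (c.1⁻¹ (dec z.1)) = dec z.1 := Equiv.apply_symm_apply _ _
  rw [h6, h5]

theorem not_isA_and_isB {m : H} (h : IsA m) (h' : IsB m) : False := by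
  obtain ⟨x, hx⟩ := h'.fix
  exact h.no_fix x hx

/-- test: the word has a fixed point -/
def hasFix (l : List ℕ) : Bool := !(allB (fun x => !(Nat.beq (act l x) x)) 24)

theorem not_isA_of_hasFix {l : List ℕ} (h : hasFix l = true) : ¬ IsA (wd l) := by
  intro hA
  rw [hasFix, Bool.not_eq_true'] at h
  have h1 : allB (fun x => !(Nat.beq (act l x) x)) 24 = true := by
    have key : ∀ n ≤ 24, allB (fun x => !(Nat.beq (act l x) x)) n = true := by
      intro n
      induction n with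
      | zero => intro _; rfl
      | succ n ih =>
        intro hn
        rw [allB, ih (by omega), Bool.and_true, Bool.not_eq_true']
        rw [Bool.eq_false_iff]
        intro h2
        have h3 := Nat.eq_of_beq_eq_true h2
        have h4 := (act_spec l n (by omega)).1
        rw [h3] at h4
        apply hA.no_fix (dec n)
        rw [← dec_enc ((wd l).1 (dec n)), h4]
    exact key 24 le_rfl
  rw [h1] at h
  exact Bool.noConfusion h

theorem not_isB_of_noFix {l : List ℕ} (h : hasFix l = false) : ¬ IsB (wd l) := by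
  intro hB
  rw [hasFix, Bool.not_eq_false'] at h
  obtain ⟨x, hx⟩ := hB.fix
  have h1 := allB_spec _ _ h (enc x) (enc_lt x)
  rw [Bool.not_eq_true'] at h1
  have h2 := (act_spec l (enc x) (enc_lt x)).1
  rw [dec_enc, hx] at h2
  rw [← h2] at h1
  rw [Nat.beq_refl] at h1
  exact Bool.noConfusion h1

theorem inv2 : Inv2 IsA IsB where
  invA := by
    rintro a ⟨c, rfl⟩
    refine ⟨?_, fun h => y_ne ?_⟩
    · calc c⁻¹ * y * c * (c⁻¹ * y * c) = c⁻¹ * (y * y) * c := by group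
        _ = 1 := by rw [y_sq]; group
    · calc y = c * (c⁻¹ * y * c) * c⁻¹ := by group
        _ = 1 := by rw [h]; group
  invB := by
    rintro a ⟨c, rfl⟩
    refine ⟨?_, fun h => pr_ne ?_⟩
    · calc c⁻¹ * (p * r) * c * (c⁻¹ * (p * r) * c) = c⁻¹ * ((p * r) * (p * r)) * c := by group
        _ = 1 := by rw [pr_sq]; group
    · calc p * r = c * (c⁻¹ * (p * r) * c) * c⁻¹ := by group
        _ = 1 := by rw [h]; group
  cases := fun m h1 h2 => inv_class m h2 h1
  conjA := by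
    rintro _ _ ⟨c, rfl⟩ ⟨k, rfl⟩
    exact ⟨k⁻¹ * c, by group⟩
  conjB := by
    rintro _ _ ⟨c, rfl⟩ ⟨k, rfl⟩
    exact ⟨k⁻¹ * c, by group⟩
  commB := by
    rintro _ ⟨c, rfl⟩
    have e1 : eqW ([1] ++ [1, 3]) ([1, 3] ++ [1]) = true := by decide +kernel
    have e2 : eqW ([2, 1, 3, 2] ++ [1, 3]) ([1, 3] ++ [2, 1, 3, 2]) = true := by decide +kernel
    have e3 : eqW ([1] ++ [2, 1, 3, 2] ++ [1] ++ [2, 3, 1, 2]) [1, 3] = true := by decide +kernel
    have h1 := wd_eq e1
    have h2 := wd_eq e2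
    have h3 := wd_eq e3
    simp only [wd_append] at h1 h2 h3
    rw [wd_pr] at h1 h2 h3
    have i1 : (wd [1])⁻¹ = wd [1] := wd_reverse [1]
    have i2 : (wd [2, 1, 3, 2])⁻¹ = wd [2, 3, 1, 2] := wd_reverse _
    refine ⟨c⁻¹ * wd [1] * c, c⁻¹ * wd [2, 1, 3, 2] * c, ?_, ?_, ?_⟩
    · calc c⁻¹ * wd [1] * c * (c⁻¹ * (p * r) * c) = c⁻¹ * (wd [1] * (p * r)) * c := by group
        _ = c⁻¹ * ((p * r) * wd [1]) * c := by rw [h1]
        _ = _ := by group
    · calc c⁻¹ * wd [2, 1, 3, 2] * c * (c⁻¹ * (p * r) * c) = c⁻¹ * (wd [2, 1, 3, 2] * (p * r)) * c := by group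
        _ = c⁻¹ * ((p * r) * wd [2, 1, 3, 2]) * c := by rw [h2]
        _ = _ := by group
    · calc c⁻¹ * wd [1] * c * (c⁻¹ * wd [2, 1, 3, 2] * c) * (c⁻¹ * wd [1] * c)⁻¹ *
          (c⁻¹ * wd [2, 1, 3, 2] * c)⁻¹ =
          c⁻¹ * (wd [1] * wd [2, 1, 3, 2] * (wd [1])⁻¹ * (wd [2, 1, 3, 2])⁻¹) * c := by group
        _ = _ := by rw [i1, i2, h3]
  four := by
    refine ⟨wd [0], wd [1], ?_, ?_, ?_, ?_⟩
    · rw [wd_y]; exact isA_y
    · exact isA_wd (m := [5, 1, 5, 0, 2, 5, 2]) (by decide +kernel)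
    · rw [← wd_append, ← wd_append]
      exact wd_eq (by decide +kernel)
    · rw [← wd_append]
      exact isA_wd (m := [5, 0, 1, 2, 5, 1, 5]) (by decide +kernel)
  evenA := by
    have h1 := card_conj_eq y (fun _ => True)
    have h2 : Nat.card {g : H // True} = 95040 := by
      rw [← card_H]
      exact Nat.card_congr (Equiv.subtypeUnivEquiv (fun _ => trivial))
    have h3 : Nat.card {h : H // True ∧ IsConj y h} = Nat.card {m : H // IsA m} := by
      apply Nat.card_congr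
      apply Equiv.subtypeEquivRight
      intro m
      rw [true_and, isConj_iff]
      constructor
      · rintro ⟨c, hc⟩
        exact ⟨c⁻¹, by rw [inv_inv]; exact hc⟩
      · rintro ⟨c, hc⟩
        exact ⟨c⁻¹, by rw [inv_inv]; exact hc⟩
    rw [h2, h3, card_cent_y] at h1
    have h4 : Nat.card {m : H // IsA m} = 396 := by omega
    rw [h4]
    exact ⟨198, rfl⟩

end Cfsg.Agent.CoThreeStd.InvTwo
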