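import Cfsg.Agent.CoThreeStd.GlueB
import Cfsg.Agent.CoThreeStd.InvTwo
import Cfsg.Agent.CoThreeStd.GammaMain
import Cfsg.Agent.CoThreeStd.CloseH

/-!
# S1750: from `C_G(t) = ⟨t⟩ × M₁₂` to `G = Co₃`

`main2`, with the elimination of pattern δ (`DeltaDead`), the bound of part [A] (`GlueB.Bound`) and the facts about
`Co₃` (`HFacts.Facts G3`) as hypotheses.
-/

set_option autoImplicit false

namespace Cfsg.Agent.CoThreeStd.Assemble

open Cfsg Cfsg.Agent.CoThreeStd.MTwelve Cfsg.Agent.CoThreeStd.Fusion Cfsg.Agent.CoThreeStd.InvTwo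
  Cfsg.Agent.CoThreeStd.RelMain Cfsg.Agent.LeechPack.X552 Cfsg.Agent.CoThreeStd.Model

universe u

/-- The pattern δ (`D ∩ C(t) = {t} ∪ tB`) does not occur. -/
def DeltaDead : Prop :=
  ∀ {G : Type u} [Group G] [Finite G] (_ : ∀ K : Subgroup G, K.index ≠ 2) {t : G} {f : H →* G} (_ : Ctx t f)
    (_ : ¬ IsConj t (f y)) (_ : ¬ IsConj t (t * f y)), False

variable {G : Type u} [Group G] {t : G} {ι : H →* G}

/-- The 2A-involutions of `M₁₂` are conjugate to `t`. -/
theorem conj_y [Finite G] (hG : ∀ K : Subgroup G, K.index ≠ 2) (hd : DeltaDead.{u}) (c : Ctx t ι) :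
    IsConj t (ι y) := by
  by_contra h2
  by_cases h1 : IsConj t (t * ι y)
  · exact Gamma.gamma_false hG c h1 h2 (not_conj_b c inv2 isB_pr)
  · exact hd hG c h2 h1

/-- The letters `s₁ s₃` of the model give the 2B-involution `p r`. -/
theorem letters_pr {g0 : G} {h : Fin 8 → G} (ho : Out t ι g0 h) : h 2 * h 4 = ι (p * r) := by
  obtain ⟨s, hs, hk⟩ := ho.sub
  rw [hk 2 (by decide) (by decide), hk 4 (by decide) (by decide), ← map_mul, ← wd_append, ← wd_pr]
  congr 1
  rcases hs with rfl | rfl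
  · exact wd_eq (by decide +kernel)
  · exact wd_eq (by decide +kernel)

/-- Fusion of `t` is controlled by the image of `G3`. -/
theorem fus_of (c : Ctx t ι) {g0 : G} {h : Fin 8 → G} (ho : Out t ι g0 h)
    {φ : G3 →* G} (hφ : Function.Injective φ) (hm : ∀ i, φ (m i) = h i)
    (F0 : ∀ a b : G3, HFacts.Nd (m 0) a → HFacts.Nd (m 0) b → IsConj a b) (k : G3)
    (hk : IsConj (φ (m 0)) (φ k)) : IsConj (m 0) k := by
  by_contra hne
  have h0 : φ (m 0) = t := by rw [hm, ho.zero]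
  have hkk : k * k = 1 := by
    apply hφ
    obtain ⟨g, hg⟩ := isConj_iff.1 hk
    rw [map_mul, map_one, ← hg, h0]
    calc g * t * g⁻¹ * (g * t * g⁻¹) = g * (t * t) * g⁻¹ := by group
      _ = 1 := by rw [c.tt]; group
  have hk1 : k ≠ 1 := by
    rintro rfl
    rw [map_one, isConj_one_left, h0] at hk
    exact c.t_ne hk
  have hpr : φ (m 2 * m 4) = ι (p * r) := by rw [map_mul, hm, hm, letters_pr ho]
  have hnd : HFacts.Nd (m 0) (m 2 * m 4) := by
    refine ⟨?_, ?_, ?_⟩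
    · apply hφ
      rw [map_mul, hpr, ← map_mul, pr_sq, map_one, map_one]
    · intro h1
      rw [h1, map_one] at hpr
      exact pr_ne (c.inj (by rw [← hpr, map_one]))
    · intro h1
      have h2 := MonoidHom.map_isConj φ h1
      rw [hpr, h0] at h2
      exact not_conj_b c inv2 isB_pr h2
  have h3 := MonoidHom.map_isConj φ (F0 k (m 2 * m 4) ⟨hkk, hk1, hne⟩ hnd)
  have h4 := hk.trans h3
  rw [hpr, h0] at h4
  exact not_conj_b c inv2 isB_pr h4

/-- **S1750 when `C_G(t) = ⟨t⟩ × M₁₂`**. -/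
theorem main2 [Finite G] [IsSimpleGroup G] (hna : ∃ a b : G, a * b ≠ b * a) (hd : DeltaDead.{u})
    (c : Ctx t ι) (R : List (List (Fin 8))) (hR1 : R.all GlueB.okA = true) (hR2 : R.all idCheck = true)
    (hbound : GlueB.Bound.{u} R) (F : HFacts.Facts G3) (hFt : F.t = m 0) : Spor.IsoCo3 G := by
  have hG : ∀ K : Subgroup G, K.index ≠ 2 := Parity.index_ne_two_of_noncomm hna
  have hB : ∀ x, InvTwo.IsB x → IsConj t (t * ι x) := fun b hb => conj_t_mul_b hG c inv2 hb
  obtain ⟨g0, h1, h2⟩ := exists_three c inv2 hB isA_y (conj_y hG hd c)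
  obtain ⟨h, ho⟩ := RelMain.main c h1 h2
  obtain ⟨φ, hφ, hm, hr⟩ := GlueB.exists_phi c ho R hR1 hR2 hbound
  have hft : φ F.t = t := by rw [hFt, hm, ho.zero]
  have htop : φ.range = ⊤ := by
    apply CloseH.range_eq_top F φ hφ
    · intro g hg
      rw [hr]
      apply Subgroup.subset_closure
      right
      rw [hft] at hg
      exact hg
    · intro k hk
      rw [hFt] at hk ⊢
      refine fus_of c ho hφ hm ?_ k hk
      intro a b ha hb
      rw [← hFt] at ha hb
      obtain ⟨u, hu⟩ := F.F0 a ha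
      obtain ⟨w, hw⟩ := F.F0 b hb
      refine (isConj_iff.2 ⟨u⁻¹, by rw [inv_inv]; exact hu⟩ : IsConj a F.v).trans ?_
      exact (isConj_iff.2 ⟨w⁻¹, by rw [inv_inv]; exact hw⟩ : IsConj b F.v).symm
  obtain ⟨e⟩ := isoCo3_G3
  exact ⟨(MulEquiv.ofBijective φ ⟨hφ, MonoidHom.range_eq_top.1 htop⟩).symm.trans e⟩

end Cfsg.Agent.CoThreeStd.Assemble
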