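import Cfsg.Agent.CoThreeStd.AutClass
import Cfsg.Agent.CoThreeStd.OutAut

/-!
# Every automorphism of `M12` is inner or inner followed by `alpha`
-/

set_option autoImplicit false
open Cfsg

namespace Cfsg.Agent.CoThreeStd.AutAlpha

open Cfsg.Agent.CoThreeStd.MTwelve (H)
open Cfsg.Agent.CoThreeStd.OutAut (alpha)

/-- the two outer automorphisms are the same -/
theorem c_eq (x : H) : AutGamma.c x = alpha x := by
  apply Subtype.ext
  rw [AutGamma.c, AutGamma.au_apply, AutGamma.wg_six]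
  rfl

/-- **`Out(M12)` has order two.** -/
theorem exists_conj (φ : MulAut H) : ∃ h : H, (∀ x, φ x = h * x * h⁻¹) ∨ (∀ x, φ x = h * alpha x * h⁻¹) := by
  obtain ⟨h, hh | hh⟩ := AutClass.exists_conj φ
  · exact ⟨h, Or.inl fun x => by rw [hh, MulAut.conj_apply]⟩
  · exact ⟨h, Or.inr fun x => by rw [hh, MulAut.mul_apply, MulAut.conj_apply, c_eq]⟩

end Cfsg.Agent.CoThreeStd.AutAlpha
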