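import Cfsg.Agent.CoThreeStd.AutMain

/-!
# The automorphism group of the Mathieu group of degree 12 and its involutions
-/

set_option autoImplicit false
open Cfsg

namespace Cfsg.Agent.CoThreeStd.AutClass

open Cfsg.Agent.CoThreeStd.MTwelve (H y p q r s b card_H closure_gen card_cent_y card_cent_v w w_p w_q w_r w_s
  w_tp w_injective y_comm y_ne_w y_sq y_ne_one cent_y cox conj_of_card inv_class)
open Cfsg.Agent.CoThreeStd.AutWord Cfsg.Agent.CoThreeStd.AutGamma Cfsg.Agent.CoThreeStd.AutTab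
open Cfsg.Agent.CoThreeStd.AutStruct Cfsg.Agent.CoThreeStd.AutMain
open Cfsg.Agent.SporRec.Co3.FiveHom (tp)
open Equiv

theorem conj_fix {k : H} (hk : k * y = y * k) : MulAut.conj k y = y := by
  rw [MulAut.conj_apply, hk, mul_inv_cancel_right]

/-- an automorphism fixing `y` acts on the symmetric group of degree five as an inner automorphism modulo `y` -/
theorem exists_inner {φ : MulAut H} (hy : φ y = y) : ∃ σ : Perm (Fin 5), ∀ τ,
    φ (w τ) = w (σ * τ * σ⁻¹) ∨ φ (w τ) = y * w (σ * τ * σ⁻¹) := by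
  have h1 : ∀ τ, ∃ σ, φ (w τ) = w σ ∨ φ (w τ) = y * w σ := by
    intro τ
    apply cent_y
    have h2 : φ (w τ) * φ y = φ y * φ (w τ) := by rw [← map_mul, ← y_comm, map_mul]
    rwa [hy] at h2
  choose α hα using h1
  have huniq : ∀ (h : H) (σ τ : Perm (Fin 5)), (h = w σ ∨ h = y * w σ) → (h = w τ ∨ h = y * w τ) → σ = τ := by
    have key : ∀ σ τ, y * w σ ≠ w τ := by
      intro σ τ h
      apply y_ne_w (τ * σ⁻¹)
      rw [map_mul, map_inv, ← h, mul_inv_cancel_right]
    rintro h σ τ (h1 | h1) (h2 | h2)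
    · exact w_injective (h1.symm.trans h2)
    · exact absurd (h2.symm.trans h1) (key _ _)
    · exact absurd (h1.symm.trans h2) (key _ _)
    · exact w_injective (mul_left_cancel (h1.symm.trans h2))
  have hmul : ∀ σ τ, α (σ * τ) = α σ * α τ := by
    intro σ τ
    apply huniq (φ (w (σ * τ))) _ _ (hα _)
    have h1 := hα σ
    have h2 := hα τ
    rw [map_mul, map_mul, map_mul]
    rcases h1 with h1 | h1 <;> rcases h2 with h2 | h2 <;> rw [h1, h2]
    · exact Or.inl rfl
    · right; rw [← mul_assoc, ← y_comm, mul_assoc]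
    · right; rw [mul_assoc]
    · left
      calc y * w (α σ) * (y * w (α τ)) = y * (w (α σ) * y) * w (α τ) := by group
        _ = (y * y) * (w (α σ) * w (α τ)) := by rw [← y_comm]; group
        _ = _ := by rw [y_sq, one_mul]
  have hinj : Function.Injective α := by
    intro σ τ h
    have h1 := hα σ
    have h2 := hα τ
    rw [h] at h1
    have key : φ (w σ) = φ (w τ) ∨ φ (w σ) = φ y * φ (w τ) := by
      rw [hy]
      rcases h1 with h1 | h1 <;> rcases h2 with h2 | h2 <;> rw [h1, h2]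
      · exact Or.inl rfl
      · right; rw [← mul_assoc, y_sq, one_mul]
      · exact Or.inr rfl
      · exact Or.inl rfl
    rcases key with h3 | h3
    · exact w_injective (φ.injective h3)
    · rw [← map_mul] at h3
      exfalso
      apply y_ne_w (σ * τ⁻¹)
      rw [map_mul, map_inv, φ.injective h3, mul_inv_cancel_right]
  obtain ⟨σ, hσ⟩ := Cfsg.Agent.CoThreeStd.SymFive.inner (MonoidHom.mk' α hmul) hinj
  refine ⟨σ, fun τ => ?_⟩
  have h := hσ τ
  rw [MonoidHom.mk'_apply] at h
  rw [← h]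
  exact hα τ

theorem q_eq : q = p * q * p * (p * q)⁻¹ := by
  have h : eqH [2] [1, 2, 1, 2, 1] = true := by decide +kernel
  have h1 := wh_eq h
  have h2 : wh [1, 2, 1, 2, 1] = p * q * p * q * p := by
    simp only [wh_cons, wh_nil, mul_one, mul_assoc]; rfl
  rw [wh_q, h2] at h1
  rw [mul_inv_rev, p_inv, q_inv]
  simpa only [mul_assoc] using h1

theorem r_eq : r = q * r * q * (q * r)⁻¹ := by
  have h : eqH [3] [2, 3, 2, 3, 2] = true := by decide +kernel
  have h1 := wh_eq h
  have h2 : wh [2, 3, 2, 3, 2] = q * r * q * r * q := by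
    simp only [wh_cons, wh_nil, mul_one, mul_assoc]; rfl
  rw [wh_r, h2] at h1
  rw [mul_inv_rev, q_inv, r_inv]
  simpa only [mul_assoc] using h1

theorem s_inv : s⁻¹ = s := inv_eq_of_mul_eq_one_left s_sq

theorem s_eq : s = r * s * r * (r * s)⁻¹ := by
  have h : eqH [4] [3, 4, 3, 4, 3] = true := by decide +kernel
  have h1 := wh_eq h
  have h2 : wh [3, 4, 3, 4, 3] = r * s * r * s * r := by
    simp only [wh_cons, wh_nil, mul_one, mul_assoc]; rfl
  rw [wh_s, h2] at h1
  rw [mul_inv_rev, r_inv, s_inv]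
  simpa only [mul_assoc] using h1

/-- **The automorphism group of `M12`.** -/
theorem exists_conj (φ : MulAut H) : ∃ h : H, φ = MulAut.conj h ∨ φ = MulAut.conj h * c := by
  -- reduction to an automorphism fixing `y`
  obtain ⟨m, hm⟩ := conj_of_card (φ y) (fun h => y_ne_one (φ.injective (h.trans (map_one φ).symm)))
    (by rw [← map_mul, y_sq, map_one]) (by rw [card_map, card_cent_y])
  set φ1 := MulAut.conj m * φ with hφ1
  have h1 : φ1 y = y := by
    rw [hφ1, MulAut.mul_apply, MulAut.conj_apply, ← hm]; group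
  obtain ⟨σ, hσ⟩ := exists_inner h1
  set φ2 := MulAut.conj (w σ)⁻¹ * φ1 with hφ2
  have h2 : φ2 y = y := by
    rw [hφ2, MulAut.mul_apply, h1]
    apply conj_fix
    rw [← map_inv, y_comm]
  have hτ : ∀ τ, φ2 (w τ) = w τ ∨ φ2 (w τ) = y * w τ := by
    intro τ
    rw [hφ2, MulAut.mul_apply, MulAut.conj_apply, inv_inv]
    rcases hσ τ with h | h <;> rw [h]
    · left
      rw [← map_inv, ← map_mul, ← map_mul]
      congr 1; group
    · right
      calc (w σ)⁻¹ * (y * w (σ * τ * σ⁻¹)) * w σ = ((w σ)⁻¹ * y) * (w (σ * τ * σ⁻¹) * w σ) := by group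
        _ = (y * (w σ)⁻¹) * (w (σ * τ * σ⁻¹) * w σ) := by
          rw [← map_inv, ← y_comm]
        _ = y * (w σ⁻¹ * w (σ * τ * σ⁻¹) * w σ) := by rw [map_inv]; group
        _ = y * w τ := by
          rw [← map_mul, ← map_mul]
          congr 2; group
  -- an automorphism fixing `p`
  have key : ∀ ψ : MulAut H, ψ y = y → (∀ τ, ψ (w τ) = w τ ∨ ψ (w τ) = y * w τ) → ψ p = p →
      ψ = 1 ∨ ψ = MulAut.conj y := by
    intro ψ hy hw hp
    have step : ∀ (τ : Perm (Fin 5)) (z u : H), ψ z = z → y * z = z * y → u = w τ * z * (w τ)⁻¹ → ψ u = u := by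
      rintro τ z u hz hyz rfl
      rw [map_mul, map_mul, map_inv, hz]
      rcases hw τ with hx | hx <;> rw [hx]
      have h1 := y_comm τ
      have h2 := y_comm τ⁻¹
      rw [map_inv] at h2
      calc y * w τ * z * (y * w τ)⁻¹ = y * w τ * z * (w τ)⁻¹ * y⁻¹ := by group
        _ = w τ * (y * z) * (w τ)⁻¹ * y⁻¹ := by rw [h1]; group
        _ = w τ * z * (y * (w τ)⁻¹) * y⁻¹ := by rw [hyz]; group
        _ = w τ * z * (w τ)⁻¹ := by rw [h2]; group
    have hyp : y * p = p * y := yp_comm
    have hyq : y * q = q * y := by rw [← w_q]; exact y_comm _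
    have hyr : y * r = r * y := by rw [← w_r]; exact y_comm _
    have hq : ψ q = q := step (swap 0 1 * swap 1 2) p q hp hyp (by rw [map_mul, w_p, w_q]; exact q_eq)
    have hr : ψ r = r := step (swap 1 2 * swap 2 3) q r hq hyq (by rw [map_mul, w_q, w_r]; exact r_eq)
    have hs : ψ s = s := step (swap 2 3 * swap 3 4) r s hr hyr (by rw [map_mul, w_r, w_s]; exact s_eq)
    exact rigid_aut hy hp hq hr hs
  have hfin : ∃ h : H, φ2 = MulAut.conj h ∨ φ2 = MulAut.conj h * c := by
    have hp := hτ (swap 0 1)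
    rw [w_p] at hp
    rcases hp with hp | hp
    · rcases key φ2 h2 hτ hp with h | h
      · exact ⟨1, Or.inl (by rw [h, map_one])⟩
      · exact ⟨y, Or.inl h⟩
    · have h3 : (c * φ2) y = y := by rw [MulAut.mul_apply, h2, c_y]
      have h4 : (c * φ2) p = p := by
        rw [MulAut.mul_apply, hp, map_mul, c_y, c_p, ← mul_assoc, y_sq, one_mul]
      have h5 : ∀ τ, (c * φ2) (w τ) = w τ ∨ (c * φ2) (w τ) = y * w τ := by
        intro τ
        have hc : c (w τ) = w τ ∨ c (w τ) = y * w τ := by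
          rcases Int.units_eq_one_or (Perm.sign τ) with h | h
          · exact Or.inl (c_w_even h)
          · exact Or.inr (c_w_odd h)
        rw [MulAut.mul_apply]
        rcases hτ τ with h | h <;> rw [h]
        · exact hc
        · rw [map_mul, c_y]
          rcases hc with hc | hc <;> rw [hc]
          · exact Or.inr rfl
          · left; rw [← mul_assoc, y_sq, one_mul]
      have hcc : φ2 = c * (c * φ2) := by rw [← mul_assoc, c_sq, one_mul]
      rcases key (c * φ2) h3 h5 h4 with h | h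
      · refine ⟨1, Or.inr ?_⟩
        rw [hcc, h, mul_one, map_one, one_mul]
      · refine ⟨y, Or.inr ?_⟩
        rw [hcc, h, c_conj, c_y]
  obtain ⟨h, hh⟩ := hfin
  refine ⟨m⁻¹ * (w σ * h), ?_⟩
  have h5 : φ = MulAut.conj (m⁻¹ * w σ) * φ2 := by
    rw [hφ2, hφ1, ← mul_assoc, ← mul_assoc, ← map_mul, ← map_mul]
    rw [show m⁻¹ * w σ * (w σ)⁻¹ * m = 1 by group, map_one, one_mul]
  rw [← mul_assoc, map_mul]
  rcases hh with hh | hh
  · left; rw [h5, hh]
  · right; rw [h5, hh, mul_assoc]

/-- the inner automorphisms -/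
abbrev Inn : Subgroup (MulAut H) := (MulAut.conj : H →* MulAut H).range

theorem c_not_mem : c ∉ Inn := fun ⟨h, hh⟩ => conj_ne_c h hh

theorem conj_mem (h : H) : MulAut.conj h ∈ Inn := ⟨h, rfl⟩

theorem conj_mul_c_not_mem (h : H) : MulAut.conj h * c ∉ Inn := fun h1 =>
  c_not_mem ((Subgroup.mul_mem_cancel_left Inn (conj_mem h)).1 h1)

theorem outer_eq {φ : MulAut H} (h : φ ∉ Inn) : ∃ m, φ = MulAut.conj m * c := by
  obtain ⟨m, hm | hm⟩ := exists_conj φ
  · exact absurd ⟨m, hm.symm⟩ h
  · exact ⟨m, hm⟩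

/-- the outer automorphism group has order at most two -/
theorem out {φ ψ : MulAut H} (h1 : φ ∉ Inn) (h2 : ψ ∉ Inn) : φ * ψ ∈ Inn := by
  obtain ⟨m, rfl⟩ := outer_eq h1
  obtain ⟨n, rfl⟩ := outer_eq h2
  refine ⟨m * c n, ?_⟩
  calc MulAut.conj (m * c n) = MulAut.conj m * MulAut.conj (c n) * (c * c) := by rw [c_sq, mul_one, map_mul]
    _ = MulAut.conj m * (MulAut.conj (c n) * c) * c := by group
    _ = _ := by rw [← c_conj]; group

/-! ### the centre -/

theorem center_trivial {h : H} (hh : ∀ x, h * x = x * h) : h = 1 := by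
  rcases cent_F0 (m := h) (fun f _ => hh f) with h1 | h1
  · exact h1
  · exfalso
    rw [h1] at hh
    exact e_not_comm (hh _).symm

theorem conj_inj {g h : H} (he : MulAut.conj g = MulAut.conj h) : g = h := by
  rw [← inv_mul_eq_one]
  apply center_trivial
  intro x
  have h1 := congrArg (fun φ : MulAut H => φ x) he
  simp only [MulAut.conj_apply] at h1
  calc g⁻¹ * h * x = g⁻¹ * (h * x * h⁻¹) * h := by group
    _ = g⁻¹ * (g * x * g⁻¹) * h := by rw [h1]
    _ = _ := by group

theorem mul_conj (φ : MulAut H) (h : H) : φ * MulAut.conj h * φ⁻¹ = MulAut.conj (φ h) := by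
  ext x : 1
  simp only [MulAut.mul_apply, MulAut.conj_apply, map_mul, map_inv]
  rw [MulAut.apply_inv_self]

end Cfsg.Agent.CoThreeStd.AutClass
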