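import Cfsg.Agent.CoThreeStd.AutPB
import Cfsg.Agent.S0383

/-!
# The facts about `M12` used in the reduction of S1750

`facts : Facts IsA IsB` for `S = ↥Spor.M12`.
-/

set_option autoImplicit false
open Cfsg

namespace Cfsg.Agent.CoThreeStd.AutFacts

open Cfsg.Agent.CoThreeStd.MTwelve (H y p q r s b card_H closure_gen card_cent_y card_cent_v w w_p w_q w_r w_s
  w_tp w_injective y_comm y_ne_w y_sq y_ne_one cent_y cox conj_of_card inv_class)
open Cfsg.Agent.CoThreeStd.AutGamma
open Cfsg.Agent.CoThreeStd.AutStruct Cfsg.Agent.CoThreeStd.AutMain Cfsg.Agent.CoThreeStd.AutClass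
open Cfsg.Agent.CoThreeStd.AutInv Cfsg.Agent.CoThreeStd.AutCent Cfsg.Agent.CoThreeStd.AutPB
open Cfsg.Agent.CoThreeStd.FactsDef (FA PB Facts)
open Equiv
open scoped commutatorElement Pointwise

/-- The two descriptions of `M12`. -/
def stabEquiv : ↥(MulAction.stabilizer Cfsg.M24 Cfsg.Spor.squareDodecad) ≃* Cfsg.Spor.M12 where
  toFun g := ⟨((g : Cfsg.M24) : Equiv.Perm GolayPt), (g : Cfsg.M24).2, g.2⟩
  invFun g := ⟨⟨(g : Equiv.Perm GolayPt), g.2.1⟩, g.2.2⟩
  left_inv _ := rfl
  right_inv _ := rfl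
  map_mul' _ _ := rfl

theorem isSimpleGroup : IsSimpleGroup H :=
  have := Cfsg.Agent.S0383.result _ Cfsg.Agent.CoThreeStd.M12.dodecad_mem
  stabEquiv.isSimpleGroup_congr.1 this

/-- hypotheses on the pair `(X, K)` -/
structure Hyp (X : Subgroup (MulAut H)) (K : Subgroup H) : Prop where
  norm : ∀ h ∈ K, ∀ x ∈ X, MulAut.conj h * x * (MulAut.conj h)⁻¹ ∈ X
  cent : ∀ v ∈ X, v * v = 1 → v ≠ 1 → ∀ s, v s = s → s ∈ K
  ne : K ≠ ⊤

/-- the conclusion -/
def Concl (X : Subgroup (MulAut H)) (K : Subgroup H) : Prop :=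
  (∃ a, IsA a ∧ MulAut.conj a ∈ X ∧ (∀ s, s ∈ K ↔ s * a = a * s) ∧ ∀ x ∈ X, ∀ f ∈ FA a, x f = f) ∨
    (∃ b, AutInv.IsB b ∧ MulAut.conj b ∈ X ∧ (∀ s, s ∈ K ↔ s * b = b * s) ∧
      (∀ x ∈ X, x * x = 1 → x = 1 ∨ x = MulAut.conj b) ∧ (∀ x ∈ X, ∃ n : ℕ, x ^ 2 ^ n = 1) ∧
      ∀ s, MulAut.conj s ∈ X → s ∈ PB b) ∨
    (∃ c, c ∉ Inn ∧ c * c = 1 ∧ (∀ x, x ∈ X ↔ x = 1 ∨ x = c) ∧ ∀ s, s ∈ K ↔ c s = s)

variable {X : Subgroup (MulAut H)} {K : Subgroup H}

/-! ### transport -/

/-- the transported subgroup of the automorphism group -/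
def tX (θ : MulAut H) (X : Subgroup (MulAut H)) : Subgroup (MulAut H) := X.comap (MulAut.conj θ).toMonoidHom

/-- the transported subgroup -/
def tK (θ : MulAut H) (K : Subgroup H) : Subgroup H := K.comap θ.toMonoidHom

theorem mem_tX {θ x : MulAut H} : x ∈ tX θ X ↔ θ * x * θ⁻¹ ∈ X := Iff.rfl
theorem mem_tK {θ : MulAut H} {x : H} : x ∈ tK θ K ↔ θ x ∈ K := Iff.rfl

theorem mem_tX' {θ x : MulAut H} (h : x ∈ X) : θ⁻¹ * x * θ ∈ tX θ X := by
  rw [mem_tX]
  have : θ * (θ⁻¹ * x * θ) * θ⁻¹ = x := by group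
  rwa [this]

theorem sq_conj {θ x : MulAut H} (h : x * x = 1) : θ * x * θ⁻¹ * (θ * x * θ⁻¹) = 1 := by
  calc θ * x * θ⁻¹ * (θ * x * θ⁻¹) = θ * (x * x) * θ⁻¹ := by group
    _ = 1 := by rw [h]; group

theorem conj_ne_one {θ x : MulAut H} (h : x ≠ 1) : θ * x * θ⁻¹ ≠ 1 := by
  intro h1
  apply h
  calc x = θ⁻¹ * (θ * x * θ⁻¹) * θ := by group
    _ = 1 := by rw [h1]; group

theorem Hyp.transport (h : Hyp X K) (θ : MulAut H) : Hyp (tX θ X) (tK θ K) where
  norm g hg x hx := by
    rw [mem_tX]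
    have h1 := h.norm (θ g) hg _ hx
    have h2 : θ * (MulAut.conj g * x * (MulAut.conj g)⁻¹) * θ⁻¹ =
        MulAut.conj (θ g) * (θ * x * θ⁻¹) * (MulAut.conj (θ g))⁻¹ := by
      rw [← mul_conj]; group
    rwa [h2]
  cent v hv h1 h2 z hz := by
    rw [mem_tK]
    apply h.cent _ hv (sq_conj h1) (conj_ne_one h2)
    show (θ * v * θ⁻¹) (θ z) = θ z
    rw [MulAut.mul_apply, MulAut.mul_apply, MulAut.inv_apply_self, hz]
  ne hK := h.ne (by
    rw [eq_top_iff]
    intro z _
    have h1 : θ⁻¹ z ∈ tK θ K := by rw [hK]; trivial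
    rwa [mem_tK, MulAut.apply_inv_self] at h1)

theorem eq_of_tX (θ x : MulAut H) : x = θ * (θ⁻¹ * x * θ) * θ⁻¹ := by group

theorem Concl.transport (θ : MulAut H) (h : Concl (tX θ X) (tK θ K)) : Concl X K := by
  have hK : ∀ z, z ∈ K ↔ θ⁻¹ z ∈ tK θ K := fun z => by rw [mem_tK, MulAut.apply_inv_self]
  rcases h with ⟨a, h1, h2, h3, h4⟩ | ⟨a, h1, h2, h3, h4, h5, h6⟩ | ⟨a, h1, h2, h3, h4⟩
  · refine Or.inl ⟨θ a, h1.map θ, ?_, ?_, ?_⟩
    · rw [← mul_conj]; exact h2
    · intro z
      rw [hK, h3]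
      constructor
      · intro h
        have := congrArg θ h
        rwa [map_mul, map_mul, MulAut.apply_inv_self] at this
      · intro h
        apply θ.injective
        rwa [map_mul, map_mul, MulAut.apply_inv_self]
    · intro x hx f hf
      rw [mem_FA_map] at hf
      have h5 := h4 _ (mem_tX' hx) _ hf
      rw [eq_of_tX θ x, MulAut.mul_apply, MulAut.mul_apply, h5, MulAut.apply_inv_self]
  · refine Or.inr (Or.inl ⟨θ a, h1.map θ, ?_, ?_, ?_, ?_, ?_⟩)
    · rw [← mul_conj]; exact h2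
    · intro z
      rw [hK, h3]
      constructor
      · intro h
        have := congrArg θ h
        rwa [map_mul, map_mul, MulAut.apply_inv_self] at this
      · intro h
        apply θ.injective
        rwa [map_mul, map_mul, MulAut.apply_inv_self]
    · intro x hx hxx
      have h7 : θ⁻¹ * x * θ * (θ⁻¹ * x * θ) = 1 := by
        have := sq_conj (θ := θ⁻¹) hxx
        rwa [inv_inv] at this
      rcases h4 _ (mem_tX' hx) h7 with h8 | h8
      · left
        rw [eq_of_tX θ x, h8]; group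
      · right
        rw [eq_of_tX θ x, h8, mul_conj]
    · intro x hx
      obtain ⟨n, hn⟩ := h5 _ (mem_tX' hx)
      refine ⟨n, ?_⟩
      have h7 : (θ⁻¹ * x * θ) ^ 2 ^ n = θ⁻¹ * x ^ 2 ^ n * θ := by
        have := conj_pow (a := θ⁻¹) (b := x) (i := 2 ^ n)
        rwa [inv_inv] at this
      rw [h7] at hn
      calc x ^ 2 ^ n = θ * (θ⁻¹ * x ^ 2 ^ n * θ) * θ⁻¹ := by group
        _ = 1 := by rw [hn]; group
    · intro z hz
      rw [mem_PB_map]
      apply h6
      rw [mem_tX, mul_conj, MulAut.apply_inv_self]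
      exact hz
  · refine Or.inr (Or.inr ⟨θ * a * θ⁻¹, ?_, sq_conj h2, ?_, ?_⟩)
    · intro h5
      apply h1
      obtain ⟨g, hg⟩ := h5
      refine ⟨θ⁻¹ g, ?_⟩
      have h6 := mul_conj θ⁻¹ g
      rw [← h6, hg]; group
    · intro x
      constructor
      · intro hx
        rcases (h3 _).1 (mem_tX' hx) with h5 | h5
        · left
          rw [eq_of_tX θ x, h5]; group
        · right
          rw [eq_of_tX θ x, h5]
      · rintro (rfl | rfl)
        · exact one_mem _
        · exact (h3 a).2 (Or.inr rfl)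
    · intro z
      rw [hK, h4, MulAut.mul_apply, MulAut.mul_apply]
      constructor
      · intro h
        rw [h, MulAut.apply_inv_self]
      · intro h
        have := congrArg (fun u => θ⁻¹ u) h
        simpa only [MulAut.inv_apply_self] using this

/-! ### the three cases -/

theorem card_dvd {n : ℕ} {D : Subgroup H} {v : H} (hn : Nat.card D = n)
    (h : ∀ z ∈ D, z * v = v * z) : n ∣ Nat.card (Subgroup.centralizer {v} : Subgroup H) := by
  rw [← hn]
  apply Subgroup.card_dvd_of_le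
  intro z hz
  rw [Subgroup.mem_centralizer_iff]
  rintro _ rfl
  exact (h z hz).symm

theorem cent_le_dvd {u v : H} (h : ∀ z, z * u = u * z → z * v = v * z) :
    Nat.card (Subgroup.centralizer {u} : Subgroup H) ∣ Nat.card (Subgroup.centralizer {v} : Subgroup H) :=
  card_dvd rfl fun z hz => h z (Subgroup.mem_centralizer_iff.1 hz u rfl).symm

theorem cent_le_eq {u v : H} (h : ∀ z, z * u = u * z → z * v = v * z)
    (hc : Nat.card (Subgroup.centralizer {u} : Subgroup H) = Nat.card (Subgroup.centralizer {v} : Subgroup H)) :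
    ∀ z, z * v = v * z → z * u = u * z := by
  have hle : (Subgroup.centralizer {u} : Subgroup H) ≤ Subgroup.centralizer {v} := by
    intro z hz
    rw [Subgroup.mem_centralizer_iff]
    rintro _ rfl
    exact (h z (Subgroup.mem_centralizer_iff.1 hz u rfl).symm).symm
  have heq := Subgroup.eq_of_le_of_card_ge hle hc.ge
  intro z hz
  have h1 : z ∈ (Subgroup.centralizer {v} : Subgroup H) := by
    rw [Subgroup.mem_centralizer_iff]
    rintro _ rfl
    exact hz.symm
  rw [← heq] at h1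
  exact (Subgroup.mem_centralizer_iff.1 h1 u rfl).symm

theorem conj_apply_iff {a z : H} : MulAut.conj a z = z ↔ z * a = a * z := by
  rw [MulAut.conj_apply, mul_inv_eq_iff_eq_mul]
  exact eq_comm

theorem conj_sq {a : H} (h : a * a = 1) : MulAut.conj a * MulAut.conj a = 1 := by rw [← map_mul, h, map_one]

theorem conj_ne {a : H} (h : a ≠ 1) : MulAut.conj a ≠ 1 := by
  intro h1
  apply h
  apply conj_inj
  rw [h1, map_one]

/-- a normal subgroup of `F0` -/
theorem normal_F0 (hn : ∀ f ∈ F0, ∀ x ∈ X, MulAut.conj f * x * (MulAut.conj f)⁻¹ ∈ X)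
    (hpr : MulAut.conj (p * r) ∉ X) {f : H} (hf : f ∈ F0) (hfX : MulAut.conj f ∈ X) : f = 1 := by
  let ι : alternatingGroup (Fin 5) →* MulAut H := (MulAut.conj : H →* MulAut H).comp (w.comp (Subgroup.subtype _))
  let N : Subgroup (alternatingGroup (Fin 5)) := X.comap ι
  have hN : N.Normal := by
    constructor
    intro n hn' g
    show ι (g * n * g⁻¹) ∈ X
    rw [map_mul, map_mul, map_inv]
    exact hn _ (w_mem_F0 (Perm.mem_alternatingGroup.1 g.2)) _ hn'
  have hs : IsSimpleGroup (alternatingGroup (Fin 5)) := (alternatingGroup.isSimpleGroup (by rw [Nat.card_fin]))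
  rcases hs.eq_bot_or_eq_top_of_normal N hN with h | h
  · obtain ⟨σ, hσ, rfl⟩ := mem_F0.1 hf
    have h1 : (⟨σ, Perm.mem_alternatingGroup.2 hσ⟩ : alternatingGroup (Fin 5)) ∈ N := hfX
    rw [h, Subgroup.mem_bot] at h1
    have h2 : σ = 1 := congrArg Subtype.val h1
    rw [h2, map_one]
  · exfalso
    obtain ⟨σ, hσ, hw⟩ := mem_F0.1 pr_mem
    have h1 : (⟨σ, Perm.mem_alternatingGroup.2 hσ⟩ : alternatingGroup (Fin 5)) ∈ N := by rw [h]; trivial
    have h2 : MulAut.conj (w σ) ∈ X := h1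
    rw [hw] at h2
    exact hpr h2

theorem pr_ne_y : p * r ≠ y := by
  intro h
  have h1 := isB_pr.2.2
  rw [h, card_cent_y] at h1
  norm_num at h1

theorem mainA (h : Hyp X K) (hy : MulAut.conj y ∈ X) : Concl X K := by
  have hK1 : ∀ z, z * y = y * z → z ∈ K := fun z hz =>
    h.cent _ hy (conj_sq y_sq) (conj_ne y_ne_one) z (conj_apply_iff.2 hz)
  have hF : F0 ≤ K := fun f hf => hK1 f (comm_y_F0 hf).symm
  have hyK : y ∈ K := hK1 y rfl
  have hK : ∀ z, z ∈ K ↔ z * y = y * z := fun z => ⟨fun hz => over_D hyK hF h.ne hz, hK1 z⟩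
  have hinv : ∀ a, a * a = 1 → a ≠ 1 → MulAut.conj a ∈ X → a = y := by
    intro a h1 h2 h3
    have h4 : ∀ z, z * a = a * z → z * y = y * z := fun z hz =>
      (hK z).1 (h.cent _ h3 (conj_sq h1) (conj_ne h2) z (conj_apply_iff.2 hz))
    rcases isA_or_isB h1 h2 with h5 | h5
    · have h6 := cent_le_eq h4 (by rw [h5.2.2, card_cent_y])
      rcases cent_F0 (m := a) (fun f hf => (h6 f (comm_y_F0 hf).symm).symm) with h7 | h7
      · exact absurd h7 h2
      · exact h7
    · exfalso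
      have h6 := cent_le_dvd h4
      rw [h5.2.2, card_cent_y] at h6
      norm_num at h6
  have hxy : ∀ x ∈ X, x y = y := by
    intro x hx
    have h1 := mul_mem (mul_mem hx hy) (inv_mem hx)
    rw [mul_conj] at h1
    have h2 := isA_y.map x
    exact hinv _ h2.1 h2.2.1 h1
  refine Or.inl ⟨y, isA_y, hy, hK, fun x hx f hf => ?_⟩
  rw [FA_y] at hf
  have h1 : x f ∈ F0 := by
    have h2 : x f ∈ FA (x y) := by rw [mem_FA_map, FA_y, MulAut.inv_apply_self]; exact hf
    rwa [hxy x hx, FA_y] at h2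
  have h2 : MulAut.conj (x f * f⁻¹) ∈ X := by
    have h3 : MulAut.conj (x f * f⁻¹) = x * (MulAut.conj f * x⁻¹ * (MulAut.conj f)⁻¹) := by
      rw [map_mul, ← mul_conj, map_inv]; group
    rw [h3]
    exact mul_mem hx (h.norm f (hF hf) _ (inv_mem hx))
  have h3 := normal_F0 (fun f hf x hx => h.norm f (hF hf) x hx)
    (fun h4 => pr_ne_y (hinv _ pr_sq pr_ne h4)) (mul_mem h1 (inv_mem hf)) h2
  exact mul_inv_eq_one.1 h3

theorem mainB (h : Hyp X K) (hb : MulAut.conj (p * r) ∈ X) : Concl X K := by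
  have hK1 : ∀ z, z * (p * r) = p * r * z → z ∈ K := fun z hz =>
    h.cent _ hb (conj_sq pr_sq) (conj_ne pr_ne) z (conj_apply_iff.2 hz)
  have hK : ∀ z, z ∈ K ↔ z * (p * r) = p * r * z := fun z => ⟨fun hz => over_B hK1 h.ne hz, hK1 z⟩
  have hinv : ∀ a, a * a = 1 → a ≠ 1 → MulAut.conj a ∈ X → a = p * r := by
    intro a h1 h2 h3
    have h4 : ∀ z, z * a = a * z → z * (p * r) = p * r * z := fun z hz =>
      (hK z).1 (h.cent _ h3 (conj_sq h1) (conj_ne h2) z (conj_apply_iff.2 hz))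
    rcases isA_or_isB h1 h2 with h5 | h5
    · exfalso
      have h6 := cent_le_dvd h4
      rw [h5.2.2, card_cent_v] at h6
      norm_num at h6
    · have h6 := cent_le_eq h4 (by rw [h5.2.2, card_cent_v])
      rcases center_pr (x := a) (fun z hz => (h6 z hz).symm) with h7 | h7
      · exact absurd h7 h2
      · exact h7
  have hout : ∀ v ∈ X, v * v = 1 → v ≠ 1 → v ∈ Inn := by
    intro v hv h1 h2
    by_contra h3
    obtain ⟨m, hm⟩ := outer_conj h3 h1
    have h4 : ∀ z ∈ F0.map (MulAut.conj m).toMonoidHom, z * (p * r) = p * r * z := by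
      rintro _ ⟨f, hf, rfl⟩
      apply (hK _).1
      apply h.cent v hv h1 h2
      rw [hm]
      show (MulAut.conj m * c * (MulAut.conj m)⁻¹) (MulAut.conj m f) = MulAut.conj m f
      rw [MulAut.mul_apply, MulAut.mul_apply, MulAut.inv_apply_self, c_F0 hf]
    have h5 := card_dvd (n := 60) (by
      rw [Subgroup.card_map_of_injective (MulAut.conj m).injective, card_F0]) h4
    rw [card_cent_v] at h5
    norm_num at h5
  have hxb : ∀ x ∈ X, x (p * r) = p * r := by
    intro x hx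
    have h1 := mul_mem (mul_mem hx hb) (inv_mem hx)
    rw [mul_conj] at h1
    have h2 := isB_pr.map x
    exact hinv _ h2.1 h2.2.1 h1
  have hin : ∀ z, MulAut.conj z ∈ X → z ∈ PB (p * r) ∧ z ^ 4 = 1 := by
    intro z hz
    have h1 : z * (p * r) = p * r * z := by
      have := hxb _ hz
      rw [MulAut.conj_apply] at this
      exact mul_inv_eq_iff_eq_mul.1 this
    rcases normal_pr h1 with h2 | ⟨k, hk, h2, h3, h4⟩
    · exact h2
    · exfalso
      apply h4
      apply hinv _ h2 h3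
      have h5 := h.norm k (hK1 k hk) _ hz
      rw [← map_inv, ← map_mul, ← map_mul] at h5
      rw [map_mul]
      exact mul_mem hz h5
  refine Or.inr (Or.inl ⟨p * r, isB_pr, hb, hK, ?_, ?_, fun z hz => (hin z hz).1⟩)
  · intro x hx hxx
    by_cases h1 : x = 1
    · exact Or.inl h1
    · right
      obtain ⟨a, rfl⟩ := hout x hx hxx h1
      have h2 : a * a = 1 := conj_inj (by rw [map_mul, hxx, map_one])
      have h3 : a ≠ 1 := fun h3 => h1 (by rw [h3, map_one])
      rw [hinv a h2 h3 hx]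
  · intro x hx
    refine ⟨3, ?_⟩
    have h1 : x * x ∈ Inn := by
      by_cases h2 : x ∈ Inn
      · exact mul_mem h2 h2
      · exact out h2 h2
    obtain ⟨z, hz⟩ := h1
    have h2 := (hin z (by rw [hz]; exact mul_mem hx hx)).2
    have h3 : x ^ 2 ^ 3 = (x * x) ^ 4 := by rw [← pow_two, ← pow_mul]; rfl
    rw [h3, ← hz, ← map_pow, h2, map_one]

theorem mainC (h : Hyp X K) (hc : c ∈ X) (hno : ∀ a, a * a = 1 → a ≠ 1 → MulAut.conj a ∉ X) : Concl X K := by
  have c_ne : c ≠ 1 := fun h1 => c_not_mem (h1 ▸ one_mem _)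
  have hK1 : ∀ z, c z = z → z ∈ K := h.cent _ hc c_sq c_ne
  have hF : F0 ≤ K := fun f hf => hK1 f (c_F0 hf)
  have hyK : y ∈ K := hK1 y c_y
  have hpK : p ∉ K := by
    intro hp
    apply hno y y_sq y_ne_one
    have h1 := h.norm p hp _ hc
    rw [conj_p_c] at h1
    have h2 := mul_mem h1 hc
    rwa [mul_assoc, c_sq, mul_one] at h2
  have hK : ∀ z, z ∈ K ↔ c z = z := by
    intro z
    refine ⟨fun hz => ?_, hK1 z⟩
    obtain ⟨σ, hσ | hσ⟩ := cent_y z (over_D hyK hF h.ne hz)
    · rcases Int.units_eq_one_or (Perm.sign σ) with h2 | h2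
      · rw [hσ]; exact c_w_even h2
      · exfalso
        apply hpK
        have h3 := mul_mem (inv_mem hz) (hF (odd_mul_p h2).1)
        rwa [hσ, inv_mul_cancel_left] at h3
    · rcases Int.units_eq_one_or (Perm.sign σ) with h2 | h2
      · rw [hσ, map_mul, c_y, c_w_even h2]
      · exfalso
        apply hpK
        have h4 : w σ ∈ K := by
          have := mul_mem (inv_mem hyK) hz
          rwa [hσ, inv_mul_cancel_left] at this
        have h3 := mul_mem (inv_mem h4) (hF (odd_mul_p h2).1)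
        rwa [inv_mul_cancel_left] at h3
  have hinv : ∀ v ∈ X, v * v = 1 → v ≠ 1 → v = c := by
    intro v hv h1 h2
    have h3 : v ∉ Inn := by
      rintro ⟨a, rfl⟩
      have h2' : a * a = 1 := conj_inj (by rw [map_mul, h1, map_one])
      exact hno a h2' (fun h3 => h2 (by rw [h3, map_one])) hv
    obtain ⟨m, hm⟩ := outer_conj h3 h1
    -- the conjugate of `K` contains the centraliser of `c`
    have h4 := h.transport (MulAut.conj m)
    have hcX : c ∈ tX (MulAut.conj m) X := by rw [mem_tX, ← hm]; exact hv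
    have hK1' := h4.cent _ hcX c_sq c_ne
    have hF' : F0 ≤ tK (MulAut.conj m) K := fun f hf => hK1' f (c_F0 hf)
    have hy' : y ∈ tK (MulAut.conj m) K := hK1' y c_y
    have h5 : ∀ z ∈ K, z * (m * y * m⁻¹) = (m * y * m⁻¹) * z := by
      intro z hz
      have h6 : m⁻¹ * z * m ∈ tK (MulAut.conj m) K := by
        rw [mem_tK, MulAut.conj_apply]
        have : m * (m⁻¹ * z * m) * m⁻¹ = z := by group
        rwa [this]
      have h7 := over_D hy' hF' h4.ne h6
      calc z * (m * y * m⁻¹) = m * (m⁻¹ * z * m * y) * m⁻¹ := by group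
        _ = m * (y * (m⁻¹ * z * m)) * m⁻¹ := by rw [h7]
        _ = _ := by group
    have h6 : m * y * m⁻¹ = 1 ∨ m * y * m⁻¹ = y := cent_F0 (fun f hf => (h5 f (hF hf)).symm)
    have h7 : m * y = y * m := by
      rcases h6 with h6 | h6
      · exfalso
        apply y_ne_one
        calc y = m⁻¹ * (m * y * m⁻¹) * m := by group
          _ = 1 := by rw [h6]; group
      · exact mul_inv_eq_iff_eq_mul.1 h6
    have h8 : v = MulAut.conj (m * (c m)⁻¹) * c := by
      rw [hm, ← map_inv (MulAut.conj : H →* MulAut H), mul_assoc, c_conj, map_inv, ← mul_assoc, ← map_mul]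
    have h9 : m * (c m)⁻¹ = 1 ∨ m * (c m)⁻¹ = y := by
      obtain ⟨σ, hσ | hσ⟩ := cent_y m h7
      · rcases Int.units_eq_one_or (Perm.sign σ) with h2 | h2
        · left; rw [hσ, c_w_even h2, mul_inv_cancel]
        · right; rw [hσ, c_w_odd h2, mul_inv_rev, mul_inv_cancel_left, y_inv]
      · rcases Int.units_eq_one_or (Perm.sign σ) with h2 | h2
        · left; rw [hσ, map_mul, c_y, c_w_even h2, mul_inv_cancel]
        · right
          rw [hσ, map_mul, c_y, c_w_odd h2]
          calc y * w σ * (y * (y * w σ))⁻¹ = y * (w σ * (w σ)⁻¹) * y⁻¹ * y⁻¹ := by group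
            _ = y := by rw [mul_inv_cancel, y_inv, mul_one, mul_assoc, y_sq, mul_one]
    rcases h9 with h9 | h9
    · rw [h8, h9, map_one, one_mul]
    · exfalso
      apply hno y y_sq y_ne_one
      have h10 := mul_mem hv hc
      rwa [h8, h9, mul_assoc, c_sq, mul_one] at h10
  have hxc : ∀ x ∈ X, x * c = c * x := by
    intro x hx
    have h1 := hinv _ (mul_mem (mul_mem hx hc) (inv_mem hx)) (sq_conj c_sq) (conj_ne_one c_ne)
    exact mul_inv_eq_iff_eq_mul.1 h1
  have hinn : ∀ z, MulAut.conj z ∈ X → z = 1 := by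
    intro z hz
    have h1 : c z = z := by
      apply conj_inj
      rw [← mul_conj, ← hxc _ hz, mul_inv_cancel_right]
    -- the elements of `F0` in `X` are trivial
    have h2 : ∀ f ∈ F0, MulAut.conj f ∈ X → f = 1 := fun f hf hfX =>
      normal_F0 (fun f hf x hx => h.norm f (hF hf) x hx) (hno _ pr_sq pr_ne) hf hfX
    have hcomm : ∀ f ∈ F0, z * f = f * z := by
      intro f hf
      have h3 : z * f * z⁻¹ * f⁻¹ ∈ F0 := by
        rcases c_fix.1 h1 with h4 | h4
        · exact mul_mem (mul_mem (mul_mem h4 hf) (inv_mem h4)) (inv_mem hf)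
        · have h5 : z * f * z⁻¹ * f⁻¹ = (z * y) * f * (z * y)⁻¹ * f⁻¹ := by
            rw [mul_inv_rev, y_inv]
            calc z * f * z⁻¹ * f⁻¹ = z * ((y * y) * f) * z⁻¹ * f⁻¹ := by rw [y_sq, one_mul]
              _ = z * (y * (y * f)) * z⁻¹ * f⁻¹ := by group
              _ = z * (y * (f * y)) * z⁻¹ * f⁻¹ := by rw [comm_y_F0 hf]
              _ = _ := by group
          rw [h5]
          exact mul_mem (mul_mem (mul_mem h4 hf) (inv_mem h4)) (inv_mem hf)
      have h4 : MulAut.conj (z * f * z⁻¹ * f⁻¹) ∈ X := by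
        have h5 := h.norm f (hF hf) _ (inv_mem hz)
        rw [← map_inv, ← map_inv, ← map_mul, ← map_mul] at h5
        have h6 := mul_mem hz h5
        rw [← map_mul] at h6
        have h7 : z * (f * z⁻¹ * f⁻¹) = z * f * z⁻¹ * f⁻¹ := by group
        rwa [h7] at h6
      have h5 := h2 _ h3 h4
      rw [mul_inv_eq_one, mul_inv_eq_iff_eq_mul] at h5
      exact h5
    rcases cent_F0 hcomm with h3 | h3
    · exact h3
    · exfalso
      rw [h3] at hz
      exact hno y y_sq y_ne_one hz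
  refine Or.inr (Or.inr ⟨c, c_not_mem, c_sq, fun x => ⟨fun hx => ?_, ?_⟩, hK⟩)
  · by_cases h1 : x ∈ Inn
    · left
      obtain ⟨z, rfl⟩ := h1
      rw [hinn z hx, map_one]
    · right
      obtain ⟨z, hz⟩ := out h1 c_not_mem
      have h2 := hinn z (by rw [hz]; exact mul_mem hx hc)
      rw [h2, map_one] at hz
      rw [← mul_one x, ← c_sq, ← mul_assoc, ← hz, one_mul]
  · rintro (rfl | rfl)
    · exact one_mem _
    · exact hc

theorem main (h : Hyp X K) (hv : ∃ v ∈ X, v * v = 1 ∧ v ≠ 1) : Concl X K := by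
  by_cases h1 : ∃ a, a * a = 1 ∧ a ≠ 1 ∧ MulAut.conj a ∈ X
  · obtain ⟨a, h2, h3, h4⟩ := h1
    rcases isA_or_isB h2 h3 with h5 | h5
    · obtain ⟨m, hm⟩ := isA_aut h5
      apply Concl.transport (MulAut.conj m)
      apply mainA (h.transport _)
      rw [mem_tX, mul_conj, hm]; exact h4
    · obtain ⟨m, hm⟩ := isB_aut h5
      apply Concl.transport (MulAut.conj m)
      apply mainB (h.transport _)
      rw [mem_tX, mul_conj, hm]; exact h4
  · push Not at h1
    obtain ⟨v, hvX, h2, h3⟩ := hv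
    have h4 : v ∉ Inn := by
      rintro ⟨a, rfl⟩
      have h2' : a * a = 1 := conj_inj (by rw [map_mul, h2, map_one])
      exact h1 a h2' (fun h5 => h3 (by rw [h5, map_one])) hvX
    obtain ⟨m, hm⟩ := outer_conj h4 h2
    apply Concl.transport (MulAut.conj m)
    apply mainC (h.transport _)
    · rw [mem_tX, ← hm]; exact hvX
    · intro a ha ha' h5
      rw [mem_tX, mul_conj] at h5
      refine h1 (MulAut.conj m a) ?_ ?_ h5
      · rw [← map_mul, ha, map_one]
      · intro h6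
        exact ha' ((MulAut.conj m).injective (h6.trans (map_one _).symm))

/-- **The facts about `M12`.** -/
theorem facts : Facts AutInv.IsA AutInv.IsB where
  simple := isSimpleGroup
  nonab := ⟨Cfsg.Agent.CoThreeStd.AutWord.wh [7], y, e_not_comm⟩
  out _ _ h1 h2 := out h1 h2
  invA _ h := ⟨h.1, h.2.1⟩
  invB _ h := ⟨h.1, h.2.1⟩
  cardB _ h := h.2.2
  conjB a b ha hb := by
    obtain ⟨m, rfl⟩ := isB_aut ha
    obtain ⟨n, rfl⟩ := isB_aut hb
    refine ⟨n * m⁻¹, ?_⟩
    rw [MulAut.conj_apply, MulAut.conj_apply]; group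
  main X K hv h1 h2 h3 := main ⟨h1, h2, h3⟩ hv
  altFA a ha := by
    obtain ⟨m, rfl⟩ := isA_aut ha
    obtain ⟨e⟩ := exists_equiv_F0
    rw [FA_map, FA_y]
    exact ⟨(F0.equivMapOfInjective (MulAut.conj m).toMonoidHom (MulAut.conj m).injective).symm.trans e⟩
  centFA _ ha φ h := centFA ha φ h
  outFA _ ha := outFA ha
  innFA _ ha c' φ h1 h2 h3 := innFA ha c' φ h1 h2 h3
  centC _ h1 h2 := centC h1 h2
  mem_PB b hb := by
    obtain ⟨m, rfl⟩ := isB_aut hb
    rw [mem_PB_map, MulAut.inv_apply_self]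
    exact mem_PB
  centPB b hb x hx h := by
    obtain ⟨m, rfl⟩ := isB_aut hb
    rw [mem_PB_map] at hx
    have h1 := centPB hx fun z hz => by
      have h2 := h (MulAut.conj m z) (by rw [mem_PB_map, MulAut.inv_apply_self]; exact hz)
      apply (MulAut.conj m).injective
      rw [map_mul, map_mul, MulAut.apply_inv_self, h2]
    rcases h1 with h1 | h1
    · left
      rw [← MulAut.apply_inv_self H (MulAut.conj m) x, h1, map_one]
    · right
      rw [← h1, MulAut.apply_inv_self]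
  sylow := sylow

end Cfsg.Agent.CoThreeStd.AutFacts
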