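import Cfsg.Agent.CoThreeStd.AutWord
import Cfsg.Agent.CoThreeStd.M12.Model

/-!
# The outer automorphism of the Mathieu group of degree 12

`au l : MulAut H` is the automorphism induced by the word `l`; `au [6] = c` is an outer automorphism of order 2,
which fixes `y` and multiplies `p, q, r, s` by `y`.
-/

set_option autoImplicit false
open scoped Pointwise
open Cfsg

namespace Cfsg.Agent.CoThreeStd.AutGamma

open Cfsg.Agent.SporadicStructure.M11InvPerms (tabFun enc dec)
open Cfsg.Agent.MTwelveType.SylowModel (mem_M12 card_M12 ext_M12)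
open Cfsg.Agent.CoThreeStd.MTwelve (H y p q r s b enc_dec dec_enc enc_lt closure_gen)
open Cfsg.Agent.CoThreeStd.AutWord

theorem gn_six : gn 6 = pC := rfl
theorem wg_six : wg [6] = pC := by rw [wg_cons, wg_nil, mul_one, gn_six]

theorem pC_sq : pC * pC = 1 := by
  have h : eqG [6, 6] [] = true := by decide +kernel
  have h1 := wg_eq h
  simpa [wg, gn_six] using h1

theorem pC_inv : pC⁻¹ = pC := inv_eq_of_mul_eq_one_left pC_sq

/-- the images of the letters under conjugation by `γ` -/
def cl : ℕ → List ℕ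
  | 0 => [0]
  | 1 => [1, 0]
  | 2 => [2, 0]
  | 3 => [3, 0]
  | 4 => [4, 0]
  | 5 => [1, 4, 5, 1, 4]
  | _ => []

theorem cl_spec (i : ℕ) (hi : i < 6) : pC * gn i * pC⁻¹ = wg (cl i) ∧ ∀ j ∈ cl i, j < 6 := by
  have h : ∀ i : Fin 6, eqG [6, i, 6] (cl i) = true ∧ ∀ j ∈ cl i, j < 6 := by decide +kernel
  obtain ⟨h1, h2⟩ := h ⟨i, hi⟩
  refine ⟨?_, h2⟩
  rw [← wg_eq h1, pC_inv, wg_cons, wg_cons, wg_cons, wg_nil, gn_six, mul_one, mul_assoc]

theorem conj_mem {g : Equiv.Perm GolayPt} (hg : g ∈ Spor.M12) : pC * g * pC⁻¹ ∈ Spor.M12 := by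
  obtain ⟨l, hl, hw⟩ := exists_wh ⟨g, hg⟩
  have h1 : wg l = g := by rw [wg_pur (pur_of_small hl), hw]
  rw [← h1]
  clear h1 hw hg
  induction l with
  | nil =>
    have : pC * wg [] * pC⁻¹ = 1 := by rw [wg_nil, mul_one, mul_inv_cancel]
    rw [this]
    exact one_mem _
  | cons i l ih =>
    have h1 := ih fun j hj => hl j (by simp [hj])
    obtain ⟨h2, h3⟩ := cl_spec i (hl i (by simp))
    have h4 : pC * wg (i :: l) * pC⁻¹ = (pC * gn i * pC⁻¹) * (pC * wg l * pC⁻¹) := by
      rw [wg_cons]; group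
    rw [h4, h2, wg_pur (pur_of_small h3)]
    exact mul_mem (wh _).2 h1

/-- the normaliser of `M12` in the symmetric group -/
abbrev NN : Subgroup (Equiv.Perm GolayPt) := Subgroup.normalizer (Spor.M12 : Set (Equiv.Perm GolayPt))

theorem pC_mem : pC ∈ NN := by
  rw [Subgroup.mem_normalizer_iff]
  intro g
  constructor
  · exact conj_mem
  · intro h
    have h1 := conj_mem h
    have h2 : pC * (pC * g * pC⁻¹) * pC⁻¹ = (pC * pC) * g * (pC * pC)⁻¹ := by group
    rw [h2, pC_sq, one_mul, inv_one, mul_one] at h1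
    exact h1

theorem gn_mem (i : ℕ) : gn i ∈ NN := by
  unfold gn
  split_ifs
  · exact pC_mem
  · exact Subgroup.le_normalizer (gh i).2

theorem wg_mem (l : List ℕ) : wg l ∈ NN := by
  induction l with
  | nil => exact one_mem _
  | cons i l ih => rw [wg_cons]; exact mul_mem (gn_mem i) ih

/-- the automorphism induced by a word -/
noncomputable def au (l : List ℕ) : MulAut H := Subgroup.normalizerMonoidHom Spor.M12 ⟨wg l, wg_mem l⟩

theorem au_apply (l : List ℕ) (h : H) : (au l h : Equiv.Perm GolayPt) = wg l * h.1 * (wg l)⁻¹ := rfl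

theorem au_append (l l' : List ℕ) : au (l ++ l') = au l * au l' := by
  unfold au
  rw [← map_mul]
  congr 1
  exact Subtype.ext (wg_append l l')

theorem au_nil : au [] = 1 := by
  unfold au
  rw [← map_one (Subgroup.normalizerMonoidHom Spor.M12)]
  rfl

theorem au_pur {l : List ℕ} (h : pur l = true) : au l = MulAut.conj (wh l) := by
  ext x : 1
  apply Subtype.ext
  rw [au_apply, wg_pur h, MulAut.conj_apply]
  rfl

theorem au_congr {l l' : List ℕ} (h : eqG l l' = true) : au l = au l' := by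
  have h1 := wg_eq h
  unfold au
  congr 1
  exact Subtype.ext h1

/-- words separating points -/
def seps : List (List ℕ) := [[1, 3], [1, 4], [1, 3, 4, 3], [5, 1, 3, 5], [5, 1, 4, 5], [5, 2, 4, 5], [0, 1, 5, 3], [0, 5, 3], [2, 5, 2, 3], [0, 5, 2], [0, 1, 5, 0], [2, 1, 5, 2], [3, 4, 5, 3], [1, 5]]

theorem seps_small : ∀ l ∈ seps, ∀ i ∈ l, i < 6 := by decide +kernel

set_option maxRecDepth 100000 in
theorem seps_test : ∀ z k : Fin 24,
    (Nat.beq z k || seps.any (fun l => Nat.beq (act l z) z && !(Nat.beq (act l k) k))) = true := by decide +kernel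

/-- the centraliser of `M12` in the symmetric group is trivial -/
theorem cent_trivial {x : Equiv.Perm GolayPt} (hx : ∀ h : H, x * h.1 = h.1 * x) : x = 1 := by
  apply Equiv.ext
  intro z
  rw [Equiv.Perm.one_apply]
  by_contra hne
  have h1 := seps_test ⟨enc z, enc_lt z⟩ ⟨enc (x z), enc_lt (x z)⟩
  have h2 : Nat.beq (enc z) (enc (x z)) = false := by
    cases h : Nat.beq (enc z) (enc (x z))
    · rfl
    · exfalso
      apply hne
      rw [← dec_enc (x z), ← Nat.eq_of_beq_eq_true h, dec_enc]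
  rw [show Nat.beq (⟨enc z, enc_lt z⟩ : Fin 24) (⟨enc (x z), enc_lt (x z)⟩ : Fin 24) = false from h2,
    Bool.false_or, List.any_eq_true] at h1
  obtain ⟨l, hl, h3⟩ := h1
  rw [Bool.and_eq_true] at h3
  have h4 : wg l z = z := by
    rw [← dec_enc (wg l z), ← dec_enc z, (act_spec l _ (enc_lt z)).1]
    congr 1
    exact Nat.eq_of_beq_eq_true h3.1
  have h5 : wg l (x z) = x z := by
    have := congrArg (fun u : Equiv.Perm GolayPt => u z) (hx (wh l))
    simp only [Equiv.Perm.mul_apply] at this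
    rw [wg_pur (pur_of_small (seps_small l hl))] at h4 ⊢
    rw [← this, h4]
  have h6 : act l (enc (x z)) = enc (x z) := by
    rw [← (act_spec l _ (enc_lt (x z))).1, dec_enc, h5]
  have h7 := h3.2
  rw [show ((⟨enc (x z), enc_lt (x z)⟩ : Fin 24) : ℕ) = enc (x z) from rfl, h6, Nat.beq_refl] at h7
  exact absurd h7 (by decide)

theorem au_inj {l l' : List ℕ} (h : au l = au l') : eqG l l' = true := by
  apply eqG_of
  rw [← inv_mul_eq_one]
  apply cent_trivial
  intro x
  have h1 := congrArg (fun φ : MulAut H => (φ x : Equiv.Perm GolayPt)) h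
  simp only [au_apply] at h1
  calc (wg l)⁻¹ * wg l' * x.1 = (wg l)⁻¹ * (wg l' * x.1 * (wg l')⁻¹) * wg l' := by group
    _ = x.1 * ((wg l)⁻¹ * wg l') := by rw [← h1]; group

/-- the outer automorphism -/
noncomputable def c : MulAut H := au [6]

theorem c_sq : c * c = 1 := by
  rw [c, ← au_append, ← au_nil]
  exact au_congr (by decide +kernel)

theorem c_wh {l l' : List ℕ} (h1 : pur l = true) (h2 : pur l' = true)
    (h : eqG (6 :: (l ++ [6])) l' = true) : c (wh l) = wh l' := by
  apply Subtype.ext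
  rw [c, au_apply, wg_six, pC_inv, ← wg_pur h1, ← wg_pur h2, ← wg_eq h, wg_cons, wg_append, wg_six, gn_six,
    mul_assoc]

theorem wh_y : wh [0] = y := by simp [wh, gh, gh']
theorem wh_p : wh [1] = p := by simp [wh, gh, gh']
theorem wh_q : wh [2] = q := by simp [wh, gh, gh']
theorem wh_r : wh [3] = r := by simp [wh, gh, gh']
theorem wh_s : wh [4] = s := by simp [wh, gh, gh']
theorem wh_b : wh [5] = b := by simp [wh, gh, gh']

theorem c_y : c y = y := by
  rw [← wh_y]; exact c_wh rfl rfl (by decide +kernel)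

theorem c_p : c p = y * p := by
  rw [← wh_p, ← wh_y, ← wh_append]; exact c_wh rfl rfl (by decide +kernel)
theorem c_q : c q = y * q := by
  rw [← wh_q, ← wh_y, ← wh_append]; exact c_wh rfl rfl (by decide +kernel)
theorem c_r : c r = y * r := by
  rw [← wh_r, ← wh_y, ← wh_append]; exact c_wh rfl rfl (by decide +kernel)
theorem c_s : c s = y * s := by
  rw [← wh_s, ← wh_y, ← wh_append]; exact c_wh rfl rfl (by decide +kernel)
theorem c_pr : c (p * r) = p * r := by
  rw [← wh_p, ← wh_r, ← wh_append]; exact c_wh rfl rfl (by decide +kernel)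

/-- `c` is not an inner automorphism -/
theorem conj_ne_c (h : H) : MulAut.conj h ≠ c := by
  intro h1
  obtain ⟨l, hl, rfl⟩ := exists_wh h
  rw [← au_pur (pur_of_small hl), c] at h1
  have h2 := wg_eq (au_inj h1)
  rw [wg_six] at h2
  have h3 : (dec 0) ∈ Spor.squareDodecad := by decide +kernel
  have h4 : pC (dec 0) ∉ Spor.squareDodecad := by decide +kernel
  rw [← h2, wg_pur (pur_of_small hl)] at h4
  exact h4 (Cfsg.Agent.CoThreeStd.M12.smul_mem' (wh l).2 h3)

end Cfsg.Agent.CoThreeStd.AutGamma
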