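import Cfsg.Agent.CoThreeStd.AutClass

/-!
# Involutions of the automorphism group of the Mathieu group of degree 12
-/

set_option autoImplicit false
open Cfsg

namespace Cfsg.Agent.CoThreeStd.AutInv

open Cfsg.Agent.CoThreeStd.MTwelve (H y p q r s b card_H closure_gen card_cent_y card_cent_v w w_p w_q w_r w_s
  w_tp w_injective y_comm y_ne_w y_sq y_ne_one cent_y cox conj_of_card inv_class)
open Cfsg.Agent.CoThreeStd.AutWord Cfsg.Agent.CoThreeStd.AutGamma Cfsg.Agent.CoThreeStd.AutTab
open Cfsg.Agent.CoThreeStd.AutStruct Cfsg.Agent.CoThreeStd.AutMain Cfsg.Agent.CoThreeStd.AutClass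

/-- the class 2A -/
def IsA (a : H) : Prop := a * a = 1 ∧ a ≠ 1 ∧ Nat.card (Subgroup.centralizer {a} : Subgroup H) = 240

/-- the class 2B -/
def IsB (a : H) : Prop := a * a = 1 ∧ a ≠ 1 ∧ Nat.card (Subgroup.centralizer {a} : Subgroup H) = 192

theorem card_conj (m x : H) : Nat.card (Subgroup.centralizer {m⁻¹ * x * m} : Subgroup H) =
    Nat.card (Subgroup.centralizer {x} : Subgroup H) := by
  have := card_map (MulAut.conj m⁻¹) x
  rwa [MulAut.conj_apply, inv_inv] at this

theorem IsA.map {a : H} (h : IsA a) (φ : MulAut H) : IsA (φ a) :=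
  ⟨by rw [← map_mul, h.1, map_one], fun h1 => h.2.1 (φ.injective (h1.trans (map_one φ).symm)),
    by rw [card_map, h.2.2]⟩

theorem IsB.map {a : H} (h : IsB a) (φ : MulAut H) : IsB (φ a) :=
  ⟨by rw [← map_mul, h.1, map_one], fun h1 => h.2.1 (φ.injective (h1.trans (map_one φ).symm)),
    by rw [card_map, h.2.2]⟩

theorem pr_sq : p * r * (p * r) = 1 := by
  have h : eqH ([1, 3] ++ [1, 3]) [] = true := by decide +kernel
  have h1 := wh_eq h
  rwa [wh_append, wh_pr] at h1

theorem pr_ne : p * r ≠ 1 := by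
  intro h
  have h1 := eqG_of_wh (l := [1, 3]) (l' := []) rfl rfl (by rw [wh_pr, h, wh_nil])
  exact absurd h1 (by decide +kernel)

theorem isA_y : IsA y := ⟨y_sq, y_ne_one, card_cent_y⟩
theorem isB_pr : IsB (p * r) := ⟨pr_sq, pr_ne, card_cent_v⟩

theorem IsA.exists {a : H} (h : IsA a) : ∃ m, m⁻¹ * y * m = a := conj_of_card a h.2.1 h.1 h.2.2

theorem IsB.exists {a : H} (h : IsB a) : ∃ m, m⁻¹ * (p * r) * m = a := by
  rcases inv_class a h.2.1 h.1 with ⟨m, rfl⟩ | h1
  · exfalso
    have h2 := h.2.2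
    rw [card_conj, card_cent_y] at h2
    norm_num at h2
  · exact h1

theorem isA_conj (m : H) : IsA (m⁻¹ * y * m) := by
  have := isA_y.map (MulAut.conj m⁻¹)
  rwa [MulAut.conj_apply, inv_inv] at this

theorem isB_conj (m : H) : IsB (m⁻¹ * (p * r) * m) := by
  have := isB_pr.map (MulAut.conj m⁻¹)
  rwa [MulAut.conj_apply, inv_inv] at this

/-- every involution is in one of the two classes -/
theorem isA_or_isB {a : H} (h1 : a * a = 1) (h2 : a ≠ 1) : IsA a ∨ IsB a := by
  rcases inv_class a h2 h1 with ⟨m, rfl⟩ | ⟨m, rfl⟩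
  · exact Or.inl (isA_conj m)
  · exact Or.inr (isB_conj m)

/-- the class 2B has 495 elements -/
theorem card_isB : Nat.card {x : H // IsB x} = 495 := by
  have hp : ∀ it ∈ itB, pur (wB it) = true := fun it hit => wB_pur hit
  have hp' := List.pairwise_iff_getElem.mp (inc_pairwise itB_inc).1
  have hlen : (itB.map wB).length = itB.length := List.length_map _
  let F : Fin itB.length → {x : H // IsB x} := fun i => ⟨(wh (wB itB[i.1]))⁻¹ * (p * r) * wh (wB itB[i.1]),
    isB_conj _⟩
  have hF : ∀ i : Fin itB.length, (F i).1 = wh (cw [1, 3] (wB itB[i.1])) := by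
    intro i
    rw [wh_cw (hp _ (List.getElem_mem i.2)), wh_pr]
  have hinj : Function.Injective F := by
    intro i j he
    have h1 : wh (cw [1, 3] (wB itB[i.1])) = wh (cw [1, 3] (wB itB[j.1])) := by rw [← hF, ← hF, he]
    have hpp : ∀ i : Fin itB.length, pur (cw [1, 3] (wB itB[i.1])) = true := fun i =>
      pur_append (pur_wi (hp _ (List.getElem_mem i.2))) (pur_append rfl (hp _ (List.getElem_mem i.2)))
    have h3 : wg (cw [1, 3] (wB itB[i.1])) = wg (cw [1, 3] (wB itB[j.1])) := by
      rw [wg_pur (hpp i), wg_pur (hpp j), h1]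
    have h5 := sg_eq h3 5 (by norm_num)
    by_contra hne
    rcases lt_or_gt_of_ne (fun h6 => hne (Fin.ext h6)) with h6 | h6
    · have := hp' i.1 j.1 (by rw [hlen]; exact i.2) (by rw [hlen]; exact j.2) h6
      simp only [List.getElem_map] at this
      exact absurd h5 this.ne
    · have := hp' j.1 i.1 (by rw [hlen]; exact j.2) (by rw [hlen]; exact i.2) h6
      simp only [List.getElem_map] at this
      exact absurd h5 this.ne'
  have hsurj : Function.Surjective F := by
    rintro ⟨x, hx⟩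
    obtain ⟨m, rfl⟩ := hx.exists
    obtain ⟨it, hit, k, hk, rfl⟩ := exists_itB m
    obtain ⟨i, hi, rfl⟩ := List.getElem_of_mem hit
    refine ⟨⟨i, hi⟩, Subtype.ext ?_⟩
    show (wh (wB itB[i]))⁻¹ * (p * r) * wh (wB itB[i]) = (k * wh (wB itB[i]))⁻¹ * (p * r) * (k * wh (wB itB[i]))
    calc (wh (wB itB[i]))⁻¹ * (p * r) * wh (wB itB[i])
        = (wh (wB itB[i]))⁻¹ * k⁻¹ * (k * (p * r)) * wh (wB itB[i]) := by group
      _ = _ := by rw [hk]; group
  rw [← Nat.card_eq_of_bijective F ⟨hinj, hsurj⟩, Nat.card_fin, itB_len]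

/-- an automorphism of order two fixes an involution of the class 2B -/
theorem exists_fixed {v : MulAut H} (hv : v * v = 1) : ∃ x, IsB x ∧ v x = x := by
  classical
  have : Finite {x : H // IsB x} := Nat.finite_of_card_ne_zero (by rw [card_isB]; norm_num)
  have := Fintype.ofFinite {x : H // IsB x}
  have hvv : ∀ x, v (v x) = x := fun x => by rw [← MulAut.mul_apply, hv]; rfl
  let σ : Equiv.Perm {x : H // IsB x} :=
    { toFun := fun x => ⟨v x.1, x.2.map v⟩
      invFun := fun x => ⟨v x.1, x.2.map v⟩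
      left_inv := fun x => Subtype.ext (hvv _)
      right_inv := fun x => Subtype.ext (hvv _) }
  have hσ : σ ^ 2 ^ 1 = 1 := by
    rw [pow_one, pow_two]
    exact Equiv.ext fun x => Subtype.ext (hvv _)
  obtain ⟨x, hx⟩ := Equiv.Perm.exists_fixed_point_of_prime (p := 2) (n := 1) (by
    rw [← Nat.card_eq_fintype_card, card_isB]; norm_num) hσ
  exact ⟨x.1, x.2, congrArg Subtype.val hx⟩

theorem c_apply_c (h : H) : c (c h) = h := by rw [← MulAut.mul_apply, c_sq]; rfl

/-- **The outer involutions form one class.** -/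
theorem outer_conj {v : MulAut H} (hv : v ∉ Inn) (hv2 : v * v = 1) :
    ∃ m : H, v = MulAut.conj m * c * (MulAut.conj m)⁻¹ := by
  obtain ⟨x, hx, hvx⟩ := exists_fixed hv2
  obtain ⟨m, rfl⟩ := hx.exists
  set v' := MulAut.conj m * v * (MulAut.conj m)⁻¹ with hv'
  have h1 : v' (p * r) = p * r := by
    rw [hv', MulAut.mul_apply, MulAut.mul_apply, ← map_inv, MulAut.conj_apply m⁻¹, inv_inv, hvx,
      MulAut.conj_apply]
    group
  have h2 : v' ∉ Inn := by
    rw [hv']
    intro h
    apply hv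
    have h3 := (Subgroup.mul_mem_cancel_right Inn (inv_mem (conj_mem m))).1 h
    exact (Subgroup.mul_mem_cancel_left Inn (conj_mem m)).1 h3
  have h3 : v' * v' = 1 := by
    rw [hv']
    calc MulAut.conj m * v * (MulAut.conj m)⁻¹ * (MulAut.conj m * v * (MulAut.conj m)⁻¹)
        = MulAut.conj m * (v * v) * (MulAut.conj m)⁻¹ := by group
      _ = 1 := by rw [hv2]; group
  obtain ⟨n, hn⟩ := outer_eq h2
  have h4 : v' = c * MulAut.conj (c n) := by rw [c_conj, c_apply_c, hn]
  have h5 : n * (p * r) = p * r * n := by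
    rw [hn, MulAut.mul_apply, c_pr, MulAut.conj_apply] at h1
    exact mul_inv_eq_iff_eq_mul.1 h1
  have h6 : c n * (p * r) = p * r * c n := by
    have := congrArg c h5
    rwa [map_mul, map_mul c (p * r), c_pr] at this
  obtain ⟨l, hl, hle⟩ := exists_LB h6
  have hpl := pur_LB hl
  have h7 : v' = au (6 :: l) := by
    rw [h4, ← hle, ← au_pur hpl, show 6 :: l = [6] ++ l from rfl, au_append]
    rfl
  have h8 : eqG (6 :: (l ++ 6 :: l)) [] = true := by
    apply au_inj
    rw [show 6 :: (l ++ 6 :: l) = (6 :: l) ++ (6 :: l) from rfl, au_append, ← h7, h3, au_nil]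
  have h9 := List.all_eq_true.1 outer_inv l hl
  rw [h8, Bool.not_true, Bool.false_or, List.any_eq_true] at h9
  obtain ⟨u, hu, h10⟩ := h9
  have hpu : pur u = true := pur_of_lets rfl (List.all_eq_true.1 CM_lets u hu)
  have h11 : v' = (MulAut.conj (wh u))⁻¹ * c * MulAut.conj (wh u) := by
    rw [h7, au_congr h10, cw, au_append, au_append, au_pur (pur_wi hpu), au_pur hpu, wh_wi hpu, map_inv, mul_assoc]
    rfl
  refine ⟨m⁻¹ * (wh u)⁻¹, ?_⟩
  rw [map_mul, map_inv, map_inv]
  calc v = (MulAut.conj m)⁻¹ * v' * MulAut.conj m := by rw [hv']; group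
    _ = _ := by rw [h11]; group

end Cfsg.Agent.CoThreeStd.AutInv
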