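import Cfsg.Agent.SporRec.Co3.FiveHom

/-!
# Injective endomorphisms of the symmetric group of degree five are inner
-/

set_option autoImplicit false

namespace Cfsg.Agent.CoThreeStd.SymFive

open Equiv Cfsg.Agent.SporRec.Co3 Cfsg.Agent.SporRec.Co3.FiveHom

theorem exists_swap : ∀ x : P5, x * x = 1 → Perm.sign x = -1 → ∃ a b : Fin 5, a ≠ b ∧ x = swap a b := by
  decide +kernel

theorem step1 : ∀ a b : Fin 5, a ≠ b → ∀ c d : Fin 5, c ≠ d →
    swap a b * swap c d * swap a b = swap c d * swap a b * swap c d → swap a b ≠ swap c d →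
    ∃ x y z : Fin 5, x ≠ y ∧ z ≠ x ∧ z ≠ y ∧ swap a b = swap x y ∧ swap c d = swap y z := by
  decide +kernel

theorem step2 : ∀ x y : Fin 5, x ≠ y → ∀ z : Fin 5, z ≠ x → z ≠ y → ∀ a b : Fin 5, a ≠ b →
    swap a b * swap x y = swap x y * swap a b → swap y z * swap a b * swap y z = swap a b * swap y z * swap a b →
    swap a b ≠ swap y z → swap a b ≠ swap x y →
    ∃ w : Fin 5, w ≠ x ∧ w ≠ y ∧ w ≠ z ∧ swap a b = swap z w := by
  decide +kernel

theorem step3 : ∀ x y : Fin 5, x ≠ y → ∀ z : Fin 5, z ≠ x → z ≠ y → ∀ w : Fin 5, w ≠ x → w ≠ y → w ≠ z →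
    ∀ a b : Fin 5, a ≠ b → swap a b * swap x y = swap x y * swap a b →
    swap a b * swap y z = swap y z * swap a b →
    swap z w * swap a b * swap z w = swap a b * swap z w * swap a b → swap a b ≠ swap z w →
    ∃ v : Fin 5, v ≠ x ∧ v ≠ y ∧ v ≠ z ∧ v ≠ w ∧ swap a b = swap w v := by
  decide +kernel

theorem exists_perm : ∀ x y : Fin 5, x ≠ y → ∀ z : Fin 5, z ≠ x → z ≠ y → ∀ w : Fin 5, w ≠ x → w ≠ y → w ≠ z →
    ∀ v : Fin 5, v ≠ x → v ≠ y → v ≠ z → v ≠ w →
    ∃ c : P5, c 0 = x ∧ c 1 = y ∧ c 2 = z ∧ c 3 = w ∧ c 4 = v := by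
  intro x y hxy z hzx hzy w hwx hwy hwz v hvx hvy hvz hvw
  have hinj : Function.Injective ![x, y, z, w, v] := by
    intro i j hij
    have h1 : ∀ i j : Fin 5, i < j → ![x, y, z, w, v] i ≠ ![x, y, z, w, v] j := by
      intro i j hlt
      fin_cases i <;> fin_cases j <;> first
        | exact absurd hlt (by decide)
        | exact hxy
        | exact hzx.symm
        | exact hzy.symm
        | exact hwx.symm
        | exact hwy.symm
        | exact hwz.symm
        | exact hvx.symm
        | exact hvy.symm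
        | exact hvz.symm
        | exact hvw.symm
    rcases lt_trichotomy i j with h | h | h
    · exact absurd hij (h1 i j h)
    · exact h
    · exact absurd hij.symm (h1 j i h)
  have hb : Function.Bijective ![x, y, z, w, v] := Finite.injective_iff_bijective.1 hinj
  exact ⟨Equiv.ofBijective _ hb, rfl, rfl, rfl, rfl, rfl⟩

/-- An injective endomorphism of the symmetric group of degree five is inner. -/
theorem inner (α : P5 →* P5) (hα : Function.Injective α) : ∃ c : P5, ∀ w, α w = c * w * c⁻¹ := by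
  have hs : Function.Surjective α := Finite.injective_iff_surjective.1 hα
  have hsign : ∀ w, Perm.sign (α w) = Perm.sign w := by
    intro w
    have h1 : Function.Surjective (Perm.sign.comp α : P5 →* ℤˣ) :=
      (Perm.sign_surjective (Fin 5)).comp hs
    have h2 := Perm.eq_sign_of_surjective_hom h1
    exact DFunLike.congr_fun h2 w
  have hsq : ∀ i, α (tp i) * α (tp i) = 1 := by
    intro i
    rw [← map_mul, show tp i * tp i = 1 from by revert i; decide +kernel, map_one]
  have hodd : ∀ i, Perm.sign (α (tp i)) = -1 := by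
    intro i
    rw [hsign]
    revert i
    decide +kernel
  have hbr : ∀ i j : Fin 4, i.val + 1 = j.val →
      α (tp i) * α (tp j) * α (tp i) = α (tp j) * α (tp i) * α (tp j) := by
    intro i j hij
    simp only [← map_mul]
    rw [show tp i * tp j * tp i = tp j * tp i * tp j from by revert i j; decide +kernel]
  have hcm : ∀ i j : Fin 4, i.val + 1 < j.val → α (tp j) * α (tp i) = α (tp i) * α (tp j) := by
    intro i j hij
    simp only [← map_mul]
    rw [show tp j * tp i = tp i * tp j from by revert i j; decide +kernel]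
  have hne : ∀ i j : Fin 4, i ≠ j → α (tp i) ≠ α (tp j) := by
    intro i j hij he
    exact (show ∀ i j : Fin 4, i ≠ j → tp i ≠ tp j from by decide +kernel) i j hij (hα he)
  obtain ⟨a0, b0, hab0, e0⟩ := exists_swap _ (hsq 0) (hodd 0)
  obtain ⟨a1, b1, hab1, e1⟩ := exists_swap _ (hsq 1) (hodd 1)
  obtain ⟨a2, b2, hab2, e2⟩ := exists_swap _ (hsq 2) (hodd 2)
  obtain ⟨a3, b3, hab3, e3⟩ := exists_swap _ (hsq 3) (hodd 3)
  have h01 := hbr 0 1 rfl
  have h12 := hbr 1 2 rfl
  have h23 := hbr 2 3 rfl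
  have h02 := hcm 0 2 (by decide)
  have h03 := hcm 0 3 (by decide)
  have h13 := hcm 1 3 (by decide)
  have n01 := hne 0 1 (by decide)
  have n12 := hne 2 1 (by decide)
  have n23 := hne 3 2 (by decide)
  have n02 := hne 2 0 (by decide)
  rw [e0, e1] at h01 n01
  obtain ⟨x, y, z, hxy, hzx, hzy, f0, f1⟩ := step1 a0 b0 hab0 a1 b1 hab1 h01 n01
  rw [f0] at e0
  rw [f1] at e1
  rw [e0, e2] at h02
  rw [e1, e2] at h12
  rw [e2, e1] at n12
  rw [e2, e0] at n02
  obtain ⟨w, hwx, hwy, hwz, f2⟩ := step2 x y hxy z hzx hzy a2 b2 hab2 h02 h12 n12 n02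
  rw [f2] at e2
  rw [e0, e3] at h03
  rw [e1, e3] at h13
  rw [e2, e3] at h23
  rw [e3, e2] at n23
  obtain ⟨v, hvx, hvy, hvz, hvw, f3⟩ := step3 x y hxy z hzx hzy w hwx hwy hwz a3 b3 hab3 h03 h13 h23 n23
  rw [f3] at e3
  obtain ⟨c, c0, c1, c2, c3, c4⟩ := exists_perm x y hxy z hzx hzy w hwx hwy hwz v hvx hvy hvz hvw
  refine ⟨c, fun u => ?_⟩
  have hgen : ∀ i, α (tp i) = c * tp i * c⁻¹ := by
    intro i
    rw [show tp i = swap i.castSucc i.succ from rfl, ← swap_apply_apply]
    fin_cases i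
    · exact e0.trans (by rw [← c0, ← c1]; rfl)
    · exact e1.trans (by rw [← c1, ← c2]; rfl)
    · exact e2.trans (by rw [← c2, ← c3]; rfl)
    · exact e3.trans (by rw [← c3, ← c4]; rfl)
  have hle : Submonoid.closure (Set.range fun i : Fin 4 ↦ swap i.castSucc i.succ) ≤
      (MonoidHom.eqLocusM α (MulAut.conj c).toMonoidHom : Submonoid P5) := by
    rw [Submonoid.closure_le]
    rintro _ ⟨i, rfl⟩
    show α (tp i) = MulAut.conj c (tp i)
    rw [MulAut.conj_apply, hgen]
  rw [Equiv.Perm.mclosure_swap_castSucc_succ 4] at hle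
  have := hle (show u ∈ (⊤ : Submonoid P5) from trivial)
  have h3 : α u = MulAut.conj c u := this
  rw [h3, MulAut.conj_apply]

end Cfsg.Agent.CoThreeStd.SymFive
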