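import Cfsg.Agent.CoThreeStd.AutStruct
import Cfsg.Agent.CoThreeStd.SymFive

/-!
# The automorphisms of the Mathieu group of degree 12
-/

set_option autoImplicit false
open Cfsg

namespace Cfsg.Agent.CoThreeStd.AutMain

open Cfsg.Agent.CoThreeStd.MTwelve (H y p q r s b card_H closure_gen card_cent_y card_cent_v w w_p w_q w_r w_s
  w_tp w_injective y_comm y_ne_w y_sq y_ne_one cent_y cox conj_of_card)
open Cfsg.Agent.CoThreeStd.AutWord Cfsg.Agent.CoThreeStd.AutGamma Cfsg.Agent.CoThreeStd.AutTab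
open Cfsg.Agent.CoThreeStd.AutStruct
open Cfsg.Agent.SporRec.Co3.FiveHom (tp)
open Equiv

/-- the alternating subgroup -/
noncomputable def F0 : Subgroup H := (alternatingGroup (Fin 5)).map w

theorem mem_F0 {h : H} : h ∈ F0 ↔ ∃ σ : Perm (Fin 5), Perm.sign σ = 1 ∧ w σ = h := by
  rw [F0, Subgroup.mem_map]
  simp only [Perm.mem_alternatingGroup]

theorem w_mem_F0 {σ : Perm (Fin 5)} (h : Perm.sign σ = 1) : w σ ∈ F0 := mem_F0.2 ⟨σ, h, rfl⟩

theorem pq_mem : p * q ∈ F0 := by rw [← w_p, ← w_q, ← map_mul]; exact w_mem_F0 (by decide +kernel)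
theorem qr_mem : q * r ∈ F0 := by rw [← w_q, ← w_r, ← map_mul]; exact w_mem_F0 (by decide +kernel)
theorem rs_mem : r * s ∈ F0 := by rw [← w_r, ← w_s, ← map_mul]; exact w_mem_F0 (by decide +kernel)
theorem pr_mem : p * r ∈ F0 := by rw [← w_p, ← w_r, ← map_mul]; exact w_mem_F0 (by decide +kernel)

theorem p_sq : p * p = 1 := MTwelve.gen_sq 1
theorem q_sq : q * q = 1 := MTwelve.gen_sq 2
theorem r_sq : r * r = 1 := MTwelve.gen_sq 3
theorem s_sq : s * s = 1 := MTwelve.gen_sq 4

theorem y_inv : y⁻¹ = y := inv_eq_of_mul_eq_one_left y_sq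
theorem p_inv : p⁻¹ = p := inv_eq_of_mul_eq_one_left p_sq
theorem q_inv : q⁻¹ = q := inv_eq_of_mul_eq_one_left q_sq
theorem r_inv : r⁻¹ = r := inv_eq_of_mul_eq_one_left r_sq

theorem tp_cases (i : Fin 4) : w (tp i) = p ∨ w (tp i) = q ∨ w (tp i) = r ∨ w (tp i) = s := by
  rw [w_tp]
  fin_cases i <;> simp [cox, MTwelve.gen]

theorem closure_tp : Submonoid.closure (Set.range tp) = ⊤ := Equiv.Perm.mclosure_swap_castSucc_succ 4

/-- induction over the symmetric group of degree five -/
theorem ind {P : Perm (Fin 5) → Prop} (h1 : P 1) (hm : ∀ σ τ, P σ → P τ → P (σ * τ)) (ht : ∀ i, P (tp i))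
    (σ : Perm (Fin 5)) : P σ := by
  have h : σ ∈ Submonoid.closure (Set.range tp) := by rw [closure_tp]; trivial
  induction h using Submonoid.closure_induction with
  | mem x hx => obtain ⟨i, rfl⟩ := hx; exact ht i
  | one => exact h1
  | mul x y _ _ hx hy => exact hm x y hx hy

theorem sign_tp (i : Fin 4) : Perm.sign (tp i) = -1 := by revert i; decide +kernel

/-- the action of the outer automorphism on the symmetric group -/
theorem c_w (σ : Perm (Fin 5)) : c (w σ) = (if Perm.sign σ = 1 then 1 else y) * w σ := by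
  induction σ using ind with
  | h1 => simp
  | hm σ τ hσ hτ =>
    rw [map_mul, map_mul, hσ, hτ, map_mul]
    have h1 := y_comm σ
    rcases Int.units_eq_one_or (Perm.sign σ) with h2 | h2 <;> rcases Int.units_eq_one_or (Perm.sign τ) with h3 | h3 <;>
      rw [h2, h3]
    · simp
    · simp only [if_true, one_mul, if_neg (by decide : ¬ ((-1 : ℤˣ) = 1))]
      rw [← mul_assoc, ← h1, mul_assoc]
    · simp only [if_true, mul_one, one_mul, if_neg (by decide : ¬ ((-1 : ℤˣ) = 1)), mul_assoc]
    · simp only [if_neg (by decide : ¬ ((-1 : ℤˣ) = 1)), (by decide : (-1 : ℤˣ) * -1 = 1), if_true, one_mul]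
      calc y * w σ * (y * w τ) = (y * w σ) * y * w τ := by group
        _ = y * y * w σ * w τ := by rw [mul_assoc y (w σ) y, ← h1]; group
        _ = w σ * w τ := by rw [y_sq, one_mul]
  | ht i =>
    rw [sign_tp, if_neg (by decide)]
    rcases tp_cases i with h | h | h | h <;> rw [h]
    exacts [c_p, c_q, c_r, c_s]

theorem c_w_even {σ : Perm (Fin 5)} (h : Perm.sign σ = 1) : c (w σ) = w σ := by rw [c_w, if_pos h, one_mul]

theorem c_w_odd {σ : Perm (Fin 5)} (h : Perm.sign σ = -1) : c (w σ) = y * w σ := by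
  rw [c_w, if_neg (by rw [h]; decide)]

theorem c_F0 {f : H} (hf : f ∈ F0) : c f = f := by
  obtain ⟨σ, hσ, rfl⟩ := mem_F0.1 hf
  exact c_w_even hσ

theorem c_wh_iff {l l' : List ℕ} (h1 : pur l = true) (h2 : pur l' = true) :
    c (wh l) = wh l' ↔ eqG (6 :: (l ++ [6])) l' = true := by
  constructor
  · intro h
    apply eqG_of
    have h3 := congrArg Subtype.val h
    rw [c, au_apply, wg_six, pC_inv, ← wg_pur h1, ← wg_pur h2] at h3
    rw [← h3, wg_cons, wg_append, wg_six, gn_six, mul_assoc]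
  · exact c_wh h1 h2

theorem comm_y_F0 {f : H} (hf : f ∈ F0) : y * f = f * y := by
  obtain ⟨σ, -, rfl⟩ := mem_F0.1 hf
  exact y_comm σ

/-- **The centraliser of the outer automorphism `c`.** -/
theorem c_fix {h : H} : c h = h ↔ h ∈ F0 ∨ h * y ∈ F0 := by
  constructor
  · intro hc
    obtain ⟨it, hit, k, hk, rfl⟩ := exists_itA h
    have hck : c k = k ∨ c k = k * y := by
      obtain ⟨σ, rfl | rfl⟩ := cent_y k hk
      · rcases Int.units_eq_one_or (Perm.sign σ) with h2 | h2
        · exact Or.inl (c_w_even h2)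
        · exact Or.inr (by rw [c_w_odd h2, y_comm])
      · rcases Int.units_eq_one_or (Perm.sign σ) with h2 | h2
        · exact Or.inl (by rw [map_mul, c_y, c_w_even h2])
        · exact Or.inr (by rw [map_mul, c_y, c_w_odd h2, mul_assoc y, ← y_comm])
    have h3 : c (wh (wA it)) = wh (wA it) ∨ c (wh (wA it)) = wh (0 :: wA it) := by
      rw [map_mul] at hc
      rcases hck with h4 | h4
      · left
        rw [h4] at hc
        exact mul_left_cancel hc
      · right
        rw [h4, mul_assoc] at hc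
        have h5 := mul_left_cancel hc
        rw [wh_cons, show gh 0 = y from rfl, ← h5, ← mul_assoc, y_sq, one_mul, h5]
    have h4 := List.all_eq_true.1 itA_c it hit
    have hp := wA_pur hit
    have h5 : it.1 = 0 := by
      rw [Bool.or_eq_true, Bool.and_eq_true] at h4
      rcases h4 with h4 | h4
      · exact Nat.eq_of_beq_eq_true h4
      · exfalso
        rcases h3 with h3 | h3
        · rw [c_wh_iff hp hp] at h3
          rw [h3] at h4
          exact absurd h4.1 (by decide)
        · rw [c_wh_iff hp (show pur (0 :: wA it) = true from pur_append (l := [0]) rfl hp)] at h3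
          rw [h3] at h4
          exact absurd h4.2 (by decide)
    have h6 : wh (wA it) * y = y * wh (wA it) := by
      have h3 : wh (wA it) = wh it.2 := by rw [wA, h5]; rfl
      rw [h3]
      exact comm_y_of_lets (itA_spec hit).1
    have h7 : (k * wh (wA it)) * y = y * (k * wh (wA it)) := by rw [mul_assoc, h6, ← mul_assoc, hk, mul_assoc]
    obtain ⟨σ, hσ | hσ⟩ := cent_y _ h7
    · rw [hσ] at hc ⊢
      rcases Int.units_eq_one_or (Perm.sign σ) with h2 | h2
      · exact Or.inl (w_mem_F0 h2)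
      · rw [c_w_odd h2] at hc
        exact absurd (mul_eq_right.1 hc) y_ne_one
    · rw [hσ] at hc ⊢
      rcases Int.units_eq_one_or (Perm.sign σ) with h2 | h2
      · right
        rw [y_comm, mul_assoc, y_sq, mul_one]
        exact w_mem_F0 h2
      · rw [map_mul, c_y, c_w_odd h2] at hc
        exact absurd (mul_eq_right.1 (mul_left_cancel hc)) y_ne_one
  · rintro (h | h)
    · exact c_F0 h
    · have h1 := c_F0 h
      rw [map_mul, c_y] at h1
      exact mul_right_cancel h1

/-! ### overgroups -/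

theorem flat_mem {K : Subgroup H} {al : ℕ → List ℕ} (h : ∀ i, wh (al i) ∈ K) (l : List ℕ) :
    wh (l.flatMap al) ∈ K := by
  induction l with
  | nil => exact one_mem _
  | cons i l ih => rw [List.flatMap_cons, wh_append]; exact mul_mem (h i) ih

theorem top_of_mem {K : Subgroup H} (hy : y ∈ K) (hF : F0 ≤ K) (hp : p ∈ K) (hb : b ∈ K) : K = ⊤ := by
  have hq : q ∈ K := by
    have : q = p * (p * q) := by rw [← mul_assoc, p_sq, one_mul]
    rw [this]; exact mul_mem hp (hF pq_mem)
  have hr : r ∈ K := by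
    have : r = q * (q * r) := by rw [← mul_assoc, q_sq, one_mul]
    rw [this]; exact mul_mem hq (hF qr_mem)
  have hs : s ∈ K := by
    have : s = r * (r * s) := by rw [← mul_assoc, r_sq, one_mul]
    rw [this]; exact mul_mem hr (hF rs_mem)
  rw [eq_top_iff, ← closure_gen, Subgroup.closure_le]
  rintro x (rfl | rfl | rfl | rfl | rfl | rfl) <;> assumption

theorem odd_mul_p {σ : Perm (Fin 5)} (h : Perm.sign σ = -1) : w σ * p ∈ F0 ∧ p * w σ ∈ F0 := by
  rw [← w_p, ← map_mul, ← map_mul]
  exact ⟨w_mem_F0 (by rw [Perm.sign_mul, h, Perm.sign_swap (by decide)]; rfl),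
    w_mem_F0 (by rw [Perm.sign_mul, h, Perm.sign_swap (by decide)]; rfl)⟩

theorem yp_comm : y * p = p * y := by rw [← w_p]; exact y_comm _

theorem split {K : Subgroup H} (hy : y ∈ K) (hF : F0 ≤ K) {k : H} (hk : k * y = y * k) :
    k ∈ K ∨ (k * p ∈ K ∧ p * k ∈ K) := by
  obtain ⟨σ, rfl | rfl⟩ := cent_y k hk
  · rcases Int.units_eq_one_or (Perm.sign σ) with h2 | h2
    · exact Or.inl (hF (w_mem_F0 h2))
    · exact Or.inr ⟨hF (odd_mul_p h2).1, hF (odd_mul_p h2).2⟩
  · rcases Int.units_eq_one_or (Perm.sign σ) with h2 | h2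
    · exact Or.inl (mul_mem hy (hF (w_mem_F0 h2)))
    · refine Or.inr ⟨?_, ?_⟩
      · rw [mul_assoc]; exact mul_mem hy (hF (odd_mul_p h2).1)
      · rw [← mul_assoc, ← yp_comm, mul_assoc]; exact mul_mem hy (hF (odd_mul_p h2).2)

theorem wh_sing (i : ℕ) : wh [i] = gh i := by rw [wh_cons, wh_nil, mul_one]

/-- **The overgroups of the centraliser of `c`.** -/
theorem over_D {K : Subgroup H} (hy : y ∈ K) (hF : F0 ≤ K) (hK : K ≠ ⊤) {h : H} (hh : h ∈ K) : h * y = y * h := by
  by_contra hne
  apply hK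
  obtain ⟨j, k, k', hk, hk', rfl⟩ := exists_double_A h hne
  set g := wh (hA.getD (j + 1) []) with hg
  have key : ∃ i i' : Fin 2, wh (gwA (j + 1) i i') ∈ K := by
    rcases split hy hF hk with h1 | ⟨h1, -⟩ <;> rcases split hy hF hk' with h2 | ⟨-, h2⟩
    · refine ⟨0, 0, ?_⟩
      have : wh (gwA (j + 1) (0 : Fin 2) (0 : Fin 2)) = g := by
        simp [gwA, hg]
      rw [this]
      have h3 := mul_mem (mul_mem (inv_mem h1) hh) (inv_mem h2)
      have h4 : k⁻¹ * (k * g * k') * k'⁻¹ = g := by group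
      rwa [h4] at h3
    · refine ⟨0, 1, ?_⟩
      have : wh (gwA (j + 1) (0 : Fin 2) (1 : Fin 2)) = g * p := by
        simp [gwA, hg, wh_append, wh_sing]; rfl
      rw [this]
      have h3 := mul_mem (mul_mem (inv_mem h1) hh) (inv_mem h2)
      have h4 : k⁻¹ * (k * g * k') * (p * k')⁻¹ = g * p⁻¹ := by group
      rwa [h4, p_inv] at h3
    · refine ⟨1, 0, ?_⟩
      have : wh (gwA (j + 1) (1 : Fin 2) (0 : Fin 2)) = p * g := by
        simp [gwA, hg, wh_cons]; rfl
      rw [this]
      have h3 := mul_mem (mul_mem (inv_mem h1) hh) (inv_mem h2)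
      have h4 : (k * p)⁻¹ * (k * g * k') * k'⁻¹ = p⁻¹ * g := by group
      rwa [h4, p_inv] at h3
    · refine ⟨1, 1, ?_⟩
      have : wh (gwA (j + 1) (1 : Fin 2) (1 : Fin 2)) = p * g * p := by
        simp [gwA, hg, wh_cons, wh_append, wh_nil, mul_assoc]; rfl
      rw [this]
      have h3 := mul_mem (mul_mem (inv_mem h1) hh) (inv_mem h2)
      have h4 : (k * p)⁻¹ * (k * g * k') * (p * k')⁻¹ = p⁻¹ * g * p⁻¹ := by group
      rwa [h4, p_inv] at h3
  obtain ⟨i, i', h1⟩ := key
  have h2 := gA_test j i i'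
  rw [Bool.and_eq_true] at h2
  have hgp : pur (gwA (j + 1) i i') = true := by
    unfold gwA
    apply pur_append
    · split_ifs <;> rfl
    · exact pur_append (hA_pur _) (by split_ifs <;> rfl)
  have hal : ∀ n, wh (alA (gwA (j + 1) i i') n) ∈ K := by
    have e1 : wh [1, 2] = p * q := by rw [← wh_p, ← wh_q, ← wh_append]; rfl
    have e2 : wh [2, 3] = q * r := by rw [← wh_q, ← wh_r, ← wh_append]; rfl
    have e3 : wh [3, 4] = r * s := by rw [← wh_r, ← wh_s, ← wh_append]; rfl
    have f1 : wh [2, 1] = (p * q)⁻¹ := by rw [← e1, ← wh_wi rfl]; rfl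
    have f2 : wh [3, 2] = (q * r)⁻¹ := by rw [← e2, ← wh_wi rfl]; rfl
    have f3 : wh [4, 3] = (r * s)⁻¹ := by rw [← e3, ← wh_wi rfl]; rfl
    have e0 : wh [0] ∈ K := by rw [wh_y]; exact hy
    have g1 : wh [1, 2] ∈ K := by rw [e1]; exact hF pq_mem
    have g2 : wh [2, 3] ∈ K := by rw [e2]; exact hF qr_mem
    have g3 : wh [3, 4] ∈ K := by rw [e3]; exact hF rs_mem
    have g1' : wh [2, 1] ∈ K := by rw [f1]; exact inv_mem (hF pq_mem)
    have g2' : wh [3, 2] ∈ K := by rw [f2]; exact inv_mem (hF qr_mem)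
    have g3' : wh [4, 3] ∈ K := by rw [f3]; exact inv_mem (hF rs_mem)
    intro n
    unfold alA
    split
    · exact e0
    · exact g1
    · exact g1'
    · exact g2
    · exact g2'
    · exact g3
    · exact g3'
    · exact h1
    · rw [wh_wi hgp]; exact inv_mem h1
  have hp : p ∈ K := by
    rw [← wh_p, ← wh_eq h2.1]
    exact flat_mem hal _
  have hb : b ∈ K := by
    rw [← wh_b, ← wh_eq h2.2]
    exact flat_mem hal _
  exact top_of_mem hy hF hp hb

/-- **The centraliser of `p r` is a maximal subgroup.** -/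
theorem over_B {K : Subgroup H} (hc : ∀ h : H, h * (p * r) = p * r * h → h ∈ K) (hK : K ≠ ⊤) {h : H}
    (hh : h ∈ K) : h * (p * r) = p * r * h := by
  by_contra hne
  apply hK
  obtain ⟨j, k, k', hk, hk', rfl⟩ := exists_double_B h hne
  set g := wh (hB.getD (j + 1) []) with hg
  have h1 : g ∈ K := by
    have h3 := mul_mem (mul_mem (inv_mem (hc k hk)) hh) (inv_mem (hc k' hk'))
    have h4 : k⁻¹ * (k * g * k') * k'⁻¹ = g := by group
    rwa [h4] at h3
  have h2 := gB_test j
  rw [Bool.and_eq_true, Bool.and_eq_true] at h2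
  have hal : ∀ n, wh (alB (hB.getD (j + 1) []) n) ∈ K := by
    have hl : ∀ l : List ℕ, lets [0,1,3,7,8,9] l = true → wh l ∈ K := fun l hl => hc _ (comm_of_lets hl)
    intro n
    unfold alB
    split
    · exact hl _ rfl
    · exact hl _ rfl
    · exact hl _ rfl
    · exact hl _ rfl
    · exact hl _ rfl
    · exact hl _ rfl
    · exact h1
    · rw [wh_wi (hB_pur _)]; exact inv_mem h1
  have hq : q ∈ K := by rw [← wh_q, ← wh_eq h2.1]; exact flat_mem hal _
  have hs : s ∈ K := by rw [← wh_s, ← wh_eq h2.2.1]; exact flat_mem hal _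
  have hb : b ∈ K := by rw [← wh_b, ← wh_eq h2.2.2]; exact flat_mem hal _
  have hl : ∀ l : List ℕ, lets [0,1,3,7,8,9] l = true → wh l ∈ K := fun l hl => hc _ (comm_of_lets hl)
  have hy : y ∈ K := by rw [← wh_y]; exact hl _ rfl
  have hp : p ∈ K := by rw [← wh_p]; exact hl _ rfl
  have hr : r ∈ K := by rw [← wh_r]; exact hl _ rfl
  rw [eq_top_iff, ← closure_gen, Subgroup.closure_le]
  rintro x (rfl | rfl | rfl | rfl | rfl | rfl) <;> assumption

/-! ### centralisers -/

/-- the equality of two commuting products as a test -/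
theorem eqG_comm {l l' : List ℕ} (h1 : pur l = true) (h2 : pur l' = true) (h : wh l * wh l' = wh l' * wh l) :
    eqG (l ++ l') (l' ++ l) = true :=
  eqG_of_wh (pur_append h1 h2) (pur_append h2 h1) (by rw [wh_append, wh_append, h])

/-- **The centraliser of `F0`.** -/
theorem cent_F0 {m : H} (hm : ∀ f ∈ F0, m * f = f * m) : m = 1 ∨ m = y := by
  obtain ⟨l, hl, rfl⟩ := exists_LB (hm _ pr_mem)
  have hp := pur_LB hl
  have e1 : wh [1, 2] = p * q := by rw [← wh_p, ← wh_q, ← wh_append]; rfl
  have e2 : wh [2, 3] = q * r := by rw [← wh_q, ← wh_r, ← wh_append]; rfl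
  have e3 : wh [3, 4] = r * s := by rw [← wh_r, ← wh_s, ← wh_append]; rfl
  have h1 := eqG_comm hp (rfl : pur [1, 2] = true) (by rw [e1]; exact hm _ pq_mem)
  have h2 := eqG_comm hp (rfl : pur [2, 3] = true) (by rw [e2]; exact hm _ qr_mem)
  have h3 := eqG_comm hp (rfl : pur [3, 4] = true) (by rw [e3]; exact hm _ rs_mem)
  have h4 := List.all_eq_true.1 cent_F l hl
  rw [h1, h2, h3, Bool.and_self, Bool.and_self, Bool.not_true, Bool.false_or, Bool.or_eq_true] at h4
  rcases h4 with h4 | h4
  · left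
    exact wh_eq (l' := []) (by rw [eqH, hp, h4]; rfl)
  · right
    rw [← wh_y]
    exact wh_eq (l' := [0]) (by rw [eqH, hp, h4]; rfl)

/-! ### automorphisms -/

theorem c_conj (h : H) : c * MulAut.conj h = MulAut.conj (c h) * c := by
  ext x : 1
  simp only [MulAut.mul_apply, MulAut.conj_apply, map_mul, map_inv]

theorem card_map (φ : MulAut H) (x : H) : Nat.card (Subgroup.centralizer {φ x} : Subgroup H) =
    Nat.card (Subgroup.centralizer {x} : Subgroup H) := by
  symm
  apply Nat.card_congr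
  refine ⟨fun g => ⟨φ g.1, ?_⟩, fun g => ⟨φ.symm g.1, ?_⟩, ?_, ?_⟩
  · rw [Subgroup.mem_centralizer_iff]
    rintro _ rfl
    rw [← map_mul, Subgroup.mem_centralizer_iff.mp g.2 x rfl, map_mul]
  · rw [Subgroup.mem_centralizer_iff]
    intro z hz
    have hz' : z = x := hz
    rw [hz']
    apply φ.injective
    have := Subgroup.mem_centralizer_iff.mp g.2 (φ x) rfl
    rw [map_mul, map_mul, MulEquiv.apply_symm_apply, this]
  · intro g
    exact Subtype.ext (φ.symm_apply_apply _)
  · intro g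
    exact Subtype.ext (φ.apply_symm_apply _)

/-- the element `e` of the centraliser of `p r` -/
theorem e_not_comm : wh [7] * y ≠ y * wh [7] := by
  intro h
  have h1 := eqG_comm (rfl : pur [7] = true) (rfl : pur [0] = true) (by rw [wh_y]; exact h)
  exact absurd h1 (by decide +kernel)

theorem eq_one_of_fix {φ : MulAut H} (hy : φ y = y) (hF : ∀ f ∈ F0, φ f = f) (he : φ (wh [7]) = wh [7]) : φ = 1 := by
  have h1 : MonoidHom.eqLocus φ.toMonoidHom (MonoidHom.id H) = ⊤ := by
    by_contra hne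
    exact e_not_comm (over_D (K := MonoidHom.eqLocus φ.toMonoidHom (MonoidHom.id H)) hy hF hne he)
  ext x : 1
  have : x ∈ MonoidHom.eqLocus φ.toMonoidHom (MonoidHom.id H) := by rw [h1]; trivial
  exact this

theorem wh_pow_three {l : List ℕ} : wh (l ++ (l ++ l)) = wh l ^ 3 := by
  rw [wh_append, wh_append, pow_succ, pow_two, mul_assoc]

theorem wh_pow_ten {l : List ℕ} :
    wh (l ++ (l ++ (l ++ (l ++ (l ++ (l ++ (l ++ (l ++ (l ++ l))))))))) = wh l ^ 10 := by
  simp only [wh_append]
  simp only [pow_succ, pow_zero, one_mul, mul_assoc]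

/-- an automorphism which is trivial on the centraliser of `y` -/
theorem rigid_aut {φ : MulAut H} (hy : φ y = y) (hp : φ p = p) (hq : φ q = q) (hr : φ r = r) (hs : φ s = s) :
    φ = 1 ∨ φ = MulAut.conj y := by
  have hw : ∀ σ, φ (w σ) = w σ := by
    intro σ
    induction σ using ind with
    | h1 => simp
    | hm σ τ hσ hτ => rw [map_mul, map_mul, hσ, hτ]
    | ht i => rcases tp_cases i with h | h | h | h <;> rw [h] <;> assumption
  have hF : ∀ f ∈ F0, φ f = f := by
    intro f hf
    obtain ⟨σ, -, rfl⟩ := mem_F0.1 hf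
    exact hw σ
  have h1 : φ (wh [7]) * (p * r) = p * r * φ (wh [7]) := by
    have h2 : wh [7] * (p * r) = p * r * wh [7] := comm_of_lets rfl
    calc φ (wh [7]) * (p * r) = φ (wh [7] * (p * r)) := by rw [map_mul, map_mul, hp, hr]
      _ = _ := by rw [h2, map_mul, map_mul, hp, hr]
  obtain ⟨l, hl, hle⟩ := exists_LB h1
  have hpl := pur_LB hl
  have t1 : eqG (l ++ l) [] = true := by
    apply eqG_of_wh (pur_append hpl hpl) rfl
    rw [wh_append, hle, ← map_mul, ← wh_append, wh_eq (l := [7] ++ [7]) (l' := []) (by decide +kernel), wh_nil,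
      map_one]
  have t2 : (fun m => eqG (m ++ (m ++ m)) []) (l ++ [1,3,2,4]) = true := by
    have hpm : pur (l ++ [1,3,2,4]) = true := pur_append hpl rfl
    apply eqG_of_wh (pur_append hpm (pur_append hpm hpm)) rfl
    have h3 : wh (l ++ [1,3,2,4]) = φ (wh ([7] ++ [1,3,2,4])) := by
      rw [wh_append, wh_append, map_mul, hle]
      congr 1
      simp only [wh_cons, wh_nil, map_mul, map_one]
      show p * (r * (q * (s * 1))) = φ p * (φ r * (φ q * (φ s * 1)))
      rw [hp, hr, hq, hs]
    rw [wh_pow_three, h3, ← map_pow, ← wh_pow_three,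
      wh_eq (l := ([7] ++ [1,3,2,4]) ++ (([7] ++ [1,3,2,4]) ++ ([7] ++ [1,3,2,4]))) (l' := [])
        (by decide +kernel), wh_nil, map_one]
  have t3 : (fun m => eqG (m ++ (m ++ (m ++ (m ++ (m ++ (m ++ (m ++ (m ++ (m ++ m))))))))) []) (l ++ [2]) = true := by
    have hpm : pur (l ++ [2]) = true := pur_append hpl rfl
    apply eqG_of_wh _ rfl
    · have h3 : wh (l ++ [2]) = φ (wh ([7] ++ [2])) := by
        rw [wh_append, wh_append, map_mul, hle]
        congr 1
        rw [wh_q, hq]
      rw [wh_pow_ten, h3, ← map_pow, ← wh_pow_ten,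
        wh_eq (l' := []) (by decide +kernel), wh_nil, map_one]
    · repeat' first | exact hpm | apply pur_append
  have h4 := List.all_eq_true.1 rigid l hl
  rw [t1, t2, t3, Bool.not_true, Bool.false_or, Bool.false_or, Bool.false_or, Bool.or_eq_true] at h4
  rcases h4 with h4 | h4
  · left
    apply eq_one_of_fix hy hF
    rw [← hle]
    exact wh_eq (by rw [eqH, hpl, h4]; rfl)
  · right
    have h5 : φ (wh [7]) = y * wh [7] * y := by
      rw [← hle, wh_eq (l := l) (l' := [0, 7, 0]) (by rw [eqH, hpl, h4]; rfl), ← wh_y, ← wh_append, ← wh_append]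
      rfl
    have h6 : MulAut.conj y * φ = 1 := by
      apply eq_one_of_fix
      · rw [MulAut.mul_apply, hy, MulAut.conj_apply, mul_inv_cancel_right]
      · intro f hf
        rw [MulAut.mul_apply, hF f hf, MulAut.conj_apply, comm_y_F0 hf, mul_inv_cancel_right]
      · rw [MulAut.mul_apply, h5, MulAut.conj_apply, y_inv]
        calc y * (y * wh [7] * y) * y = (y * y) * wh [7] * (y * y) := by group
          _ = wh [7] := by rw [y_sq, one_mul, mul_one]
    rw [← inv_eq_of_mul_eq_one_right h6, ← map_inv, y_inv]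

end Cfsg.Agent.CoThreeStd.AutMain
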