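import Cfsg.Agent.CoThreeStd.AutCent

/-!
# The centraliser of a 2B-involution and of a Sylow subgroup
-/

set_option autoImplicit false
open Cfsg
open scoped Pointwise

namespace Cfsg.Agent.CoThreeStd.AutPB

open Cfsg.Agent.CoThreeStd.MTwelve (H y p q r s b card_H closure_gen card_cent_y card_cent_v w w_p w_q w_r w_s
  w_tp w_injective y_comm y_ne_w y_sq y_ne_one cent_y cox conj_of_card inv_class)
open Cfsg.Agent.CoThreeStd.AutWord Cfsg.Agent.CoThreeStd.AutGamma Cfsg.Agent.CoThreeStd.AutTab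
open Cfsg.Agent.CoThreeStd.AutStruct Cfsg.Agent.CoThreeStd.AutMain Cfsg.Agent.CoThreeStd.AutClass
open Cfsg.Agent.CoThreeStd.AutInv Cfsg.Agent.CoThreeStd.AutCent
open Cfsg.Agent.CoThreeStd.FactsDef (FA PB)

theorem t3_lets (i : ℕ) : lets [0,1,3,7,8,9] (t3 i) = true ∧ eqG (t3 i ++ (t3 i ++ t3 i)) [] = true := by
  have h : ∀ i : ℕ, t3 i = t3 (min i 5) := by
    intro i
    rcases Nat.lt_or_ge i 6 with h | h
    · rw [min_eq_left (by omega)]
    · rw [min_eq_right (by omega)]
      obtain ⟨k, rfl⟩ := Nat.exists_eq_add_of_le h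
      rw [Nat.add_comm]; rfl
  have h1 := t3_test ⟨min i 5, by omega⟩
  rw [Bool.and_eq_true] at h1
  rw [h i]
  exact ⟨h1.2, h1.1⟩

theorem t3_pur (i : ℕ) : pur (t3 i) = true := pur_of_lets rfl (t3_lets i).1

theorem t3_mem (i : ℕ) : wh (t3 i) ∈ PB (p * r) := by
  apply Subgroup.subset_closure
  refine ⟨comm_of_lets (t3_lets i).1, ?_⟩
  rw [← wh_pow_three]
  have hp := t3_pur i
  exact wh_eq (l' := []) (by
    rw [eqH, pur_append hp (pur_append hp hp), (t3_lets i).2]; rfl)

theorem PB_le {x : H} (h : x ∈ PB (p * r)) : x * (p * r) = p * r * x := by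
  have : PB (p * r) ≤ Subgroup.centralizer ({p * r} : Set H) := by
    unfold PB
    rw [Subgroup.closure_le]
    rintro z ⟨hz, -⟩
    rw [SetLike.mem_coe, Subgroup.mem_centralizer_iff]
    rintro _ rfl
    exact hz.symm
  exact (Subgroup.mem_centralizer_iff.1 (this h) _ rfl).symm

theorem flat_pur (l : List ℕ) : pur (l.flatMap t3) = true := by
  induction l with
  | nil => rfl
  | cons i l ih => rw [List.flatMap_cons]; exact pur_append (t3_pur i) ih

theorem mem_PB : p * r ∈ PB (p * r) := by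
  have h1 : wh (([0,1,5,0,1,5] : List ℕ).flatMap t3) = p * r := by
    rw [← wh_pr]
    exact wh_eq (by rw [eqH, flat_pur, t3_b]; rfl)
  rw [← h1]
  exact flat_mem (fun i => by rw [h1]; exact t3_mem i) _

theorem eq_of_eqG {l l' : List ℕ} (h1 : pur l = true) (h2 : pur l' = true) (h : eqG l l' = true) : wh l = wh l' :=
  wh_eq (by rw [eqH, h1, h2, h]; rfl)

theorem centPB {x : H} (hx : x ∈ PB (p * r)) (h : ∀ z ∈ PB (p * r), x * z = z * x) : x = 1 ∨ x = p * r := by
  obtain ⟨l, hl, rfl⟩ := exists_LB (PB_le hx)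
  have hp := pur_LB hl
  have h1 := List.all_eq_true.1 cent_PB l hl
  rw [eqG_comm hp (t3_pur 0) (h _ (t3_mem 0)), eqG_comm hp (t3_pur 1) (h _ (t3_mem 1)),
    eqG_comm hp (t3_pur 2) (h _ (t3_mem 2)), Bool.and_self, Bool.and_self, Bool.not_true, Bool.false_or,
    Bool.or_eq_true] at h1
  rcases h1 with h1 | h1
  · left; exact eq_of_eqG hp (l' := []) rfl h1
  · right; rw [← wh_pr]; exact eq_of_eqG hp (l' := [1, 3]) rfl h1

/-- the centre of the centraliser of `p r` -/
theorem center_pr {x : H} (h : ∀ z, z * (p * r) = p * r * z → x * z = z * x) : x = 1 ∨ x = p * r := by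
  obtain ⟨l, hl, rfl⟩ := exists_LB (h (p * r) rfl)
  have hp := pur_LB hl
  have h1 := List.all_eq_true.1 center_B l hl
  rw [eqG_comm hp (rfl : pur [0] = true) (h _ (comm_of_lets rfl)),
    eqG_comm hp (rfl : pur [1] = true) (h _ (comm_of_lets rfl)),
    eqG_comm hp (rfl : pur [7] = true) (h _ (comm_of_lets rfl)),
    eqG_comm hp (rfl : pur [8] = true) (h _ (comm_of_lets rfl)), Bool.and_self, Bool.and_self, Bool.and_self,
    Bool.not_true, Bool.false_or, Bool.or_eq_true] at h1
  rcases h1 with h1 | h1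
  · left; exact eq_of_eqG hp (l' := []) rfl h1
  · right; rw [← wh_pr]; exact eq_of_eqG hp (l' := [1, 3]) rfl h1

/-- normal subsets of the centraliser of `p r` -/
theorem normal_pr {x : H} (hx : x * (p * r) = p * r * x) : (x ∈ PB (p * r) ∧ x ^ 4 = 1) ∨
    ∃ k : H, k * (p * r) = p * r * k ∧ (x * (k * x * k⁻¹)) * (x * (k * x * k⁻¹)) = 1 ∧
      x * (k * x * k⁻¹) ≠ 1 ∧ x * (k * x * k⁻¹) ≠ p * r := by
  obtain ⟨l, hl, rfl⟩ := exists_LB hx
  have hp := pur_LB hl
  have h1 := List.all_eq_true.1 normal_B l hl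
  rw [Bool.or_eq_true, Bool.and_eq_true] at h1
  rcases h1 with ⟨h1, h2⟩ | h1
  · left
    obtain ⟨u, -, hu⟩ := List.any_eq_true.1 h1
    have h3 := eq_of_eqG hp (flat_pur u.2) hu
    refine ⟨?_, ?_⟩
    · rw [h3]; exact flat_mem t3_mem _
    · have h4 := eq_of_eqG (pur_append hp (pur_append hp (pur_append hp hp))) (l' := []) rfl h2
      rw [wh_append, wh_append, wh_append, wh_nil] at h4
      rw [← h4]
      simp only [pow_succ, pow_zero, one_mul, mul_assoc]
  · right
    obtain ⟨k, hk, h2⟩ := List.any_eq_true.1 h1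
    have hkl : lets [0,1,3,7,8,9] k = true := List.all_eq_true.1 KM_lets k hk
    have hkp : pur k = true := pur_of_lets rfl hkl
    rw [Bool.and_eq_true, Bool.and_eq_true] at h2
    have ht : pur (l ++ (k ++ (l ++ wi k))) = true := pur_append hp (pur_append hkp (pur_append hp (pur_wi hkp)))
    have hw : wh (l ++ (k ++ (l ++ wi k))) = wh l * (wh k * wh l * (wh k)⁻¹) := by
      rw [wh_append, wh_append, wh_append, wh_wi hkp, mul_assoc (wh k)]
    refine ⟨wh k, comm_of_lets hkl, ?_, ?_, ?_⟩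
    · rw [← hw, ← wh_append]
      exact eq_of_eqG (pur_append ht ht) (l' := []) rfl h2.1
    · intro h3
      rw [← hw] at h3
      have h4 := eqG_of_wh ht (l' := []) rfl h3
      rw [h4] at h2
      exact absurd h2.2.1 (by decide)
    · intro h3
      rw [← hw, ← wh_pr] at h3
      have h4 := eqG_of_wh ht (l' := [1, 3]) rfl h3
      rw [h4] at h2
      exact absurd h2.2.2 (by decide)

/-! ### Sylow subgroups -/

open Cfsg.Agent.MTwelveType.SylowModel (A B C D hom hom_apply bp)
open Cfsg.Agent.CoThreeStd.MTwelve (wS wd_wS wd_wpow wpow eqA eqB eqC eqD wd exists_sylow)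

theorem A_mem : A ∈ hom.range := ⟨⟨1, 0, false, false⟩, by rw [← wd_wS, eqA]; rfl⟩
theorem B_mem : B ∈ hom.range := ⟨⟨0, 1, false, false⟩, by rw [← wd_wS, eqB]; rfl⟩
theorem C_mem : C ∈ hom.range := ⟨⟨0, 0, true, false⟩, by rw [← wd_wS, eqC]; rfl⟩
theorem D_mem : D ∈ hom.range := ⟨⟨0, 0, false, true⟩, by rw [← wd_wS, eqD]; rfl⟩

/-- the word of the conjugating element -/
def mw : List ℕ := [2,5,2,3,5,1]

theorem A_eq : A = wh MTwelve.wA := by rw [eqA]; exact (wh_small (by decide +kernel)).symm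
theorem B_eq : B = wh MTwelve.wB := by rw [eqB]; exact (wh_small (by decide +kernel)).symm
theorem C_eq : C = wh MTwelve.wC := by rw [eqC]; exact (wh_small (by decide +kernel)).symm
theorem D_eq : D = wh MTwelve.wD := by rw [eqD]; exact (wh_small (by decide +kernel)).symm

theorem us_mem {u : List ℕ} (hu : u ∈ us) : (wh mw)⁻¹ * wh u * wh mw ∈ hom.range := by
  have key : ∀ (u v : List ℕ), eqH (cw u mw) v = true → wh v ∈ hom.range → (wh mw)⁻¹ * wh u * wh mw ∈ hom.range := by
    intro u v h hv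
    rw [← wh_cw (rfl : pur mw = true), wh_eq h]
    exact hv
  simp only [us, List.mem_cons, List.not_mem_nil, or_false] at hu
  rcases hu with rfl | rfl | rfl | rfl
  · exact key _ MTwelve.wA (by decide +kernel) (by rw [← A_eq]; exact A_mem)
  · exact key _ MTwelve.wB (by decide +kernel) (by rw [← B_eq]; exact B_mem)
  · exact key _ MTwelve.wC (by decide +kernel) (by rw [← C_eq]; exact C_mem)
  · exact key _ MTwelve.wD (by decide +kernel) (by rw [← D_eq]; exact D_mem)

theorem pr_mem_P : (wh mw)⁻¹ * (p * r) * wh mw ∈ hom.range := by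
  have h : eqH (cw [1, 3] mw) (MTwelve.wA ++ (MTwelve.wA ++ (MTwelve.wB ++ MTwelve.wB))) = true := by decide +kernel
  rw [← wh_pr, ← wh_cw (rfl : pur mw = true), wh_eq h, wh_append, wh_append, wh_append, ← A_eq, ← B_eq]
  exact mul_mem A_mem (mul_mem A_mem (mul_mem B_mem B_mem))

/-- automorphisms centralising the images of the generators of a Sylow subgroup -/
theorem cent_us {ψ : MulAut H} (hpr : ψ (p * r) = p * r) (hu : ∀ u ∈ us, ψ (wh u) = wh u) :
    ψ = 1 ∨ ψ = MulAut.conj (p * r) := by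
  obtain ⟨n, hn⟩ := exists_conj ψ
  have h1 : n * (p * r) = p * r * n := by
    rcases hn with hn | hn
    · rw [hn, MulAut.conj_apply] at hpr
      exact mul_inv_eq_iff_eq_mul.1 hpr
    · rw [hn, MulAut.mul_apply, c_pr, MulAut.conj_apply] at hpr
      exact mul_inv_eq_iff_eq_mul.1 hpr
  obtain ⟨l, hl, rfl⟩ := exists_LB h1
  have hp := pur_LB hl
  have h2 := List.all_eq_true.1 cent_syl l hl
  rw [Bool.and_eq_true] at h2
  have hpu : ∀ u ∈ us, pur u = true := fun u hu => pur_of_lets rfl (List.all_eq_true.1 us_lets u hu)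
  rcases hn with hn | hn
  · have h3 : us.all (fun u => eqG (l ++ u) (u ++ l)) = true := by
      rw [List.all_eq_true]
      intro u huu
      apply eqG_comm hp (hpu u huu)
      have := hu u huu
      rw [hn, MulAut.conj_apply] at this
      exact mul_inv_eq_iff_eq_mul.1 this
    rw [h3, Bool.not_true, Bool.false_or, Bool.or_eq_true] at h2
    rcases h2.1 with h4 | h4
    · left
      rw [hn, eq_of_eqG hp (l' := []) rfl h4, wh_nil, map_one]
    · right
      rw [hn, eq_of_eqG hp (l' := [1, 3]) rfl h4, wh_pr]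
  · exfalso
    have h3 : us.all (fun u => eqG (l ++ (6 :: u)) (u ++ (l ++ [6]))) = true := by
      rw [List.all_eq_true]
      intro u huu
      apply eqG_of
      have h4 := congrArg Subtype.val (hu u huu)
      have h5 : ψ = au (l ++ [6]) := by rw [hn, au_append, au_pur hp]; rfl
      rw [h5, au_apply, mul_inv_eq_iff_eq_mul, ← wg_pur (hpu u huu)] at h4
      rw [wg_append, wg_append, ← h4, wg_append, show (6 :: u) = [6] ++ u from rfl, wg_append, mul_assoc]
    rw [h3] at h2
    exact absurd h2.2 (by decide)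

theorem sylow (P : Sylow 2 H) : ∃ x, IsB x ∧ x ∈ P ∧ ∀ φ : MulAut H, (∀ z ∈ P, φ z = z) →
    φ = 1 ∨ φ = MulAut.conj x := by
  obtain ⟨P0, hP0⟩ := exists_sylow
  obtain ⟨g, hg⟩ := MulAction.exists_smul_eq H P P0
  have hmem : ∀ v ∈ hom.range, g⁻¹ * v * g ∈ P := by
    intro v hv
    rw [hP0, ← hg] at hv
    have h1 : v ∈ MulAut.conj g • (P : Subgroup H) := hv
    rw [Subgroup.mem_pointwise_smul_iff_inv_smul_mem] at h1
    have h2 : (MulAut.conj g)⁻¹ • v = g⁻¹ * v * g := by
      rw [← map_inv]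
      show MulAut.conj g⁻¹ v = _
      rw [MulAut.conj_apply, inv_inv]
    rw [h2] at h1
    exact h1
  set k := wh mw * g with hk
  have hk1 : ∀ v, k⁻¹ * v * k = g⁻¹ * ((wh mw)⁻¹ * v * wh mw) * g := by
    intro v; rw [hk]; group
  have hx : k⁻¹ * (p * r) * k ∈ P := by rw [hk1]; exact hmem _ pr_mem_P
  refine ⟨k⁻¹ * (p * r) * k, isB_conj k, hx, fun φ hφ => ?_⟩
  set ψ := MulAut.conj k * φ * (MulAut.conj k)⁻¹ with hψ
  have h1 : ∀ v, k⁻¹ * v * k ∈ P → ψ v = v := by
    intro v hv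
    rw [hψ, MulAut.mul_apply, MulAut.mul_apply, ← map_inv, MulAut.conj_apply k⁻¹, inv_inv, hφ _ hv,
      MulAut.conj_apply]
    group
  have hφψ : φ = (MulAut.conj k)⁻¹ * ψ * MulAut.conj k := by rw [hψ]; group
  rcases cent_us (h1 _ hx) (fun u hu => h1 _ (by rw [hk1]; exact hmem _ (us_mem hu))) with h2 | h2
  · left
    rw [hφψ, h2]; group
  · right
    rw [hφψ, h2, ← map_inv, ← map_mul, ← map_mul]

end Cfsg.Agent.CoThreeStd.AutPB
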