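import Cfsg.Agent.CoThreeStd.AutTab

/-!
# Cosets and centralisers in the Mathieu group of degree 12
-/

set_option autoImplicit false
open Cfsg

namespace Cfsg.Agent.CoThreeStd.AutStruct

open Cfsg.Agent.CoThreeStd.MTwelve (H y p q r s b card_H closure_gen card_cent_y card_cent_v)
open Cfsg.Agent.CoThreeStd.AutWord Cfsg.Agent.CoThreeStd.AutGamma Cfsg.Agent.CoThreeStd.AutTab

theorem inc_pairwise {f : List ℕ → ℕ} : ∀ {ls : List (List ℕ)} {a : ℕ}, inc f a ls = true →
    ls.Pairwise (fun m m' => f m < f m') ∧ ∀ m ∈ ls, a < f m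
  | [], _, _ => ⟨List.Pairwise.nil, by simp⟩
  | m :: ls, a, h => by
    rw [inc, Bool.and_eq_true] at h
    have h1 : a < f m := by simpa [Nat.blt] using h.1
    obtain ⟨h2, h3⟩ := inc_pairwise h.2
    refine ⟨List.Pairwise.cons h3 h2, fun m' hm' => ?_⟩
    rcases List.mem_cons.mp hm' with rfl | hm'
    · exact h1
    · exact h1.trans (h3 m' hm')

theorem lets_mem {L l : List ℕ} (h : lets L l = true) : ∀ i ∈ l, i ∈ L := by
  intro i hi
  rw [lets, List.all_eq_true] at h
  obtain ⟨j, hj, hij⟩ := List.any_eq_true.1 (h i hi)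
  rwa [Nat.eq_of_beq_eq_true hij]

theorem pur_of_lets {L l : List ℕ} (hL : pur L = true) (h : lets L l = true) : pur l = true := by
  rw [pur, List.all_eq_true] at hL ⊢
  exact fun i hi => hL i (lets_mem h i hi)

theorem pur_of_lets' {L l : List ℕ} (h : lets L l = true) (hL : pur L = true) : pur l = true := pur_of_lets hL h

/-! ### cosets -/

/-- the words of the list represent the cosets of the centraliser -/
theorem exists_coset {x : List ℕ} (hx : pur x = true) {ls : List (List ℕ)} (hp : ∀ l ∈ ls, pur l = true)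
    (hi : inc (fun l => sg (cw x l) 5) 0 ls = true)
    (hc : ls.length * Nat.card (Subgroup.centralizer {wh x} : Subgroup H) = 95040) (h : H) :
    ∃ m ∈ ls, ∃ k : H, k * wh x = wh x * k ∧ h = k * wh m := by
  have hp' := List.pairwise_iff_getElem.mp (inc_pairwise hi).1
  set C : Subgroup H := Subgroup.centralizer {wh x} with hC
  have hmem : ∀ k : C, k.1 * wh x = wh x * k.1 := fun k =>
    (Subgroup.mem_centralizer_iff.mp k.2 (wh x) rfl).symm
  let F : Fin ls.length × C → H := fun c => c.2.1 * wh ls[c.1.1]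
  have hinj : Function.Injective F := by
    rintro ⟨i, k⟩ ⟨j, k'⟩ he
    have he' : k.1 * wh ls[i.1] = k'.1 * wh ls[j.1] := he
    have hij : i = j := by
      have h1 : wh (cw x ls[i.1]) = wh (cw x ls[j.1]) := by
        rw [wh_cw (hp _ (List.getElem_mem i.2)), wh_cw (hp _ (List.getElem_mem j.2))]
        have h2 : ∀ (k : C) (m : H), m⁻¹ * wh x * m = (k.1 * m)⁻¹ * wh x * (k.1 * m) := by
          intro k m
          calc m⁻¹ * wh x * m = m⁻¹ * k.1⁻¹ * (k.1 * wh x) * m := by group
            _ = m⁻¹ * k.1⁻¹ * (wh x * k.1) * m := by rw [hmem k]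
            _ = _ := by group
        rw [h2 k (wh ls[i.1]), h2 k' (wh ls[j.1]), he']
      have h3 : wg (cw x ls[i.1]) = wg (cw x ls[j.1]) := by
        rw [wg_pur, wg_pur, h1]
        · exact pur_append (pur_wi (hp _ (List.getElem_mem j.2))) (pur_append hx (hp _ (List.getElem_mem j.2)))
        · exact pur_append (pur_wi (hp _ (List.getElem_mem i.2))) (pur_append hx (hp _ (List.getElem_mem i.2)))
      have h5 := sg_eq h3 5 (by norm_num)
      by_contra hne
      rcases lt_or_gt_of_ne (fun h6 => hne (Fin.ext h6)) with h6 | h6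
      · exact absurd h5 (hp' i.1 j.1 i.2 j.2 h6).ne
      · exact absurd h5 (hp' j.1 i.1 j.2 i.2 h6).ne'
    subst hij
    have h4 : k = k' := Subtype.ext (mul_right_cancel he')
    rw [h4]
  have hcard : Nat.card (Fin ls.length × C) = Nat.card H := by
    rw [Nat.card_prod, Nat.card_fin, card_H, hc]
  obtain ⟨⟨i, k⟩, hk⟩ := ((Nat.bijective_iff_injective_and_card F).2 ⟨hinj, hcard⟩).2 h
  exact ⟨ls[i.1], List.getElem_mem i.2, k.1, hmem k, hk.symm⟩

theorem card_cent_y' : Nat.card (Subgroup.centralizer {wh [0]} : Subgroup H) = 240 := by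
  rw [wh_y]; exact card_cent_y

theorem wh_pr : wh [1, 3] = p * r := by rw [← wh_p, ← wh_r, ← wh_append]; rfl

theorem card_cent_b : Nat.card (Subgroup.centralizer {wh [1, 3]} : Subgroup H) = 192 := by
  rw [wh_pr]; exact card_cent_v

theorem mem_LB {l : List ℕ} (hl : l ∈ LB) : lets [0,1,3,7,8,9] l = true := List.all_eq_true.1 LB_lets l hl

theorem pur_LB {l : List ℕ} (hl : l ∈ LB) : pur l = true := pur_of_lets rfl (mem_LB hl)

theorem comm_of_lets {l : List ℕ} (hl : lets [0,1,3,7,8,9] l = true) : wh l * (p * r) = p * r * wh l := by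
  induction l with
  | nil => rw [wh_nil, one_mul, mul_one]
  | cons i l ih =>
    have h1 : lets [0,1,3,7,8,9] [i] = true ∧ lets [0,1,3,7,8,9] l = true := by
      rw [lets, List.all_cons, Bool.and_eq_true] at hl
      refine ⟨?_, hl.2⟩
      rw [lets, List.all_cons, Bool.and_eq_true]
      exact ⟨hl.1, rfl⟩
    have h2 : i < 10 := by
      have := lets_mem h1.1 i (by simp)
      revert this
      simp only [List.mem_cons, List.not_mem_nil, or_false]
      omega
    have h3 := comm_lets ⟨i, h2⟩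
    rw [show ((⟨i, h2⟩ : Fin 10) : ℕ) = i from rfl, h1.1, Bool.not_true, Bool.false_or] at h3
    have h4 : gh i * (p * r) = p * r * gh i := by
      have h5 : wh [i, 1, 3] = wh [1, 3, i] := by
        apply wh_eq
        rw [eqH, Bool.and_eq_true, Bool.and_eq_true]
        have h6 : pur [i] = true := pur_of_lets rfl h1.1
        exact ⟨pur_append h6 (rfl : pur [1, 3] = true), pur_append (rfl : pur [1, 3] = true) h6, h3⟩
      have h7 : wh [i] = gh i := by rw [wh_cons, wh_nil, mul_one]
      rw [show [i, 1, 3] = [i] ++ [1, 3] from rfl, show [1, 3, i] = [1, 3] ++ [i] from rfl, wh_append,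
        wh_append, wh_pr, h7] at h5
      exact h5
    rw [wh_cons, mul_assoc, ih h1.2, ← mul_assoc, h4]
    group

/-- **The elements of the centraliser of `p r`.** -/
theorem exists_LB {h : H} (hh : h * (p * r) = p * r * h) : ∃ l ∈ LB, wh l = h := by
  have hp := List.pairwise_iff_getElem.mp (inc_pairwise LB_inc).1
  set C : Subgroup H := Subgroup.centralizer {p * r} with hC
  let F : Fin LB.length → C := fun i => ⟨wh LB[i.1], Subgroup.mem_centralizer_iff.mpr (by
    rintro _ rfl
    exact (comm_of_lets (mem_LB (List.getElem_mem i.2))).symm)⟩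
  have hinj : Function.Injective F := by
    intro i j he
    have h1 : wh LB[i.1] = wh LB[j.1] := congrArg Subtype.val he
    have h3 : wg LB[i.1] = wg LB[j.1] := by
      rw [wg_pur (pur_LB (List.getElem_mem i.2)), wg_pur (pur_LB (List.getElem_mem j.2)), h1]
    have h5 := sg_eq h3 5 (by norm_num)
    by_contra hne
    rcases lt_or_gt_of_ne (fun h6 => hne (Fin.ext h6)) with h6 | h6
    · exact absurd h5 (hp i.1 j.1 i.2 j.2 h6).ne
    · exact absurd h5 (hp j.1 i.1 j.2 i.2 h6).ne'
  have hcard : Nat.card (Fin LB.length) = Nat.card C := by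
    rw [Nat.card_fin, LB_len]; exact card_cent_v.symm
  obtain ⟨i, hi⟩ := ((Nat.bijective_iff_injective_and_card F).2 ⟨hinj, hcard⟩).2
    ⟨h, Subgroup.mem_centralizer_iff.mpr (by rintro _ rfl; exact hh.symm)⟩
  exact ⟨LB[i.1], List.getElem_mem i.2, congrArg Subtype.val hi⟩

theorem hA_pur (j : ℕ) : pur (hA.getD j []) = true := by
  rcases Nat.lt_or_ge j hA.length with h | h
  · rw [List.getD_eq_getElem _ _ h]
    exact pur_of_lets rfl (List.all_eq_true.1 hA_lets _ (List.getElem_mem h))
  · rw [List.getD_eq_default _ _ h]; rfl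

theorem hB_pur (j : ℕ) : pur (hB.getD j []) = true := by
  rcases Nat.lt_or_ge j hB.length with h | h
  · rw [List.getD_eq_getElem _ _ h]
    exact pur_of_lets rfl (List.all_eq_true.1 hB_lets _ (List.getElem_mem h))
  · rw [List.getD_eq_default _ _ h]; rfl

theorem itA_spec {it : ℕ × List ℕ} (h : it ∈ itA) : lets [0,1,2,3,4] it.2 = true ∧ it.1 < 10 := by
  have := List.all_eq_true.1 itA_lets it h
  rw [Bool.and_eq_true] at this
  exact ⟨this.1, by simpa [Nat.blt] using this.2⟩

theorem itB_spec {it : ℕ × List ℕ} (h : it ∈ itB) : lets [0,1,3,7,8,9] it.2 = true ∧ it.1 < 11 := by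
  have := List.all_eq_true.1 itB_lets it h
  rw [Bool.and_eq_true] at this
  exact ⟨this.1, by simpa [Nat.blt] using this.2⟩

theorem wA_pur {it : ℕ × List ℕ} (h : it ∈ itA) : pur (wA it) = true :=
  pur_append (hA_pur _) (pur_of_lets rfl (itA_spec h).1)

theorem wB_pur {it : ℕ × List ℕ} (h : it ∈ itB) : pur (wB it) = true :=
  pur_append (hB_pur _) (pur_of_lets rfl (itB_spec h).1)

/-- cosets of the centraliser of `y` -/
theorem exists_itA (h : H) : ∃ it ∈ itA, ∃ k : H, k * y = y * k ∧ h = k * wh (wA it) := by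
  obtain ⟨m, hm, k, hk, rfl⟩ := exists_coset (x := [0]) rfl (ls := itA.map wA) (by
    intro l hl
    obtain ⟨it, hit, rfl⟩ := List.mem_map.1 hl
    exact wA_pur hit) itA_inc (by rw [List.length_map, itA_len, card_cent_y']) h
  obtain ⟨it, hit, rfl⟩ := List.mem_map.1 hm
  rw [wh_y] at hk
  exact ⟨it, hit, k, hk, rfl⟩

/-- cosets of the centraliser of `p r` -/
theorem exists_itB (h : H) : ∃ it ∈ itB, ∃ k : H, k * (p * r) = p * r * k ∧ h = k * wh (wB it) := by
  obtain ⟨m, hm, k, hk, rfl⟩ := exists_coset (x := [1, 3]) rfl (ls := itB.map wB) (by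
    intro l hl
    obtain ⟨it, hit, rfl⟩ := List.mem_map.1 hl
    exact wB_pur hit) itB_inc (by rw [List.length_map, itB_len, card_cent_b]) h
  obtain ⟨it, hit, rfl⟩ := List.mem_map.1 hm
  rw [wh_pr] at hk
  exact ⟨it, hit, k, hk, rfl⟩

theorem comm_y_of_lets {l : List ℕ} (hl : lets [0,1,2,3,4] l = true) : wh l * y = y * wh l := by
  induction l with
  | nil => rw [wh_nil, one_mul, mul_one]
  | cons i l ih =>
    have h1 : lets [0,1,2,3,4] [i] = true ∧ lets [0,1,2,3,4] l = true := by
      rw [lets, List.all_cons, Bool.and_eq_true] at hl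
      refine ⟨?_, hl.2⟩
      rw [lets, List.all_cons, Bool.and_eq_true]
      exact ⟨hl.1, rfl⟩
    have h2 : i < 5 := by
      have := lets_mem h1.1 i (by simp)
      revert this
      simp only [List.mem_cons, List.not_mem_nil, or_false]
      omega
    have h3 : gh i * y = y * gh i := by
      have h : ∀ i : Fin 5, eqH [i.1, 0] [0, i.1] = true := by decide +kernel
      have h4 := wh_eq (h ⟨i, h2⟩)
      have h8 : gh 0 = y := rfl
      rw [wh_cons, wh_cons, wh_nil, mul_one, wh_cons, wh_cons, wh_nil, mul_one, h8] at h4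
      exact h4
    rw [wh_cons, mul_assoc, ih h1.2, ← mul_assoc, h3]
    group

/-- double cosets of the centraliser of `y` -/
theorem exists_double_A (h : H) (hh : h * y ≠ y * h) : ∃ j : Fin 9, ∃ k k' : H, k * y = y * k ∧ k' * y = y * k' ∧
    h = k * wh (hA.getD (j + 1) []) * k' := by
  obtain ⟨it, hit, k, hk, rfl⟩ := exists_itA h
  obtain ⟨h1, h2⟩ := itA_spec hit
  rcases Nat.eq_zero_or_pos it.1 with h0 | h0
  · exfalso
    apply hh
    have h3 : wh (wA it) = wh it.2 := by
      rw [wA, h0]; rfl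
    rw [h3, mul_assoc, comm_y_of_lets h1, ← mul_assoc, hk, mul_assoc]
  · refine ⟨⟨it.1 - 1, by omega⟩, k, wh it.2, hk, comm_y_of_lets h1, ?_⟩
    rw [show ((⟨it.1 - 1, by omega⟩ : Fin 9) : ℕ) + 1 = it.1 from by simp; omega, wA, wh_append]
    group

/-- double cosets of the centraliser of `p r` -/
theorem exists_double_B (h : H) (hh : h * (p * r) ≠ p * r * h) : ∃ j : Fin 10, ∃ k k' : H,
    k * (p * r) = p * r * k ∧ k' * (p * r) = p * r * k' ∧ h = k * wh (hB.getD (j + 1) []) * k' := by
  obtain ⟨it, hit, k, hk, rfl⟩ := exists_itB h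
  obtain ⟨h1, h2⟩ := itB_spec hit
  rcases Nat.eq_zero_or_pos it.1 with h0 | h0
  · exfalso
    apply hh
    have h3 : wh (wB it) = wh it.2 := by
      rw [wB, h0]; rfl
    rw [h3, mul_assoc, comm_of_lets h1, ← mul_assoc, hk, mul_assoc]
  · refine ⟨⟨it.1 - 1, by omega⟩, k, wh it.2, hk, comm_of_lets h1, ?_⟩
    rw [show ((⟨it.1 - 1, by omega⟩ : Fin 10) : ℕ) + 1 = it.1 from by simp; omega, wB, wh_append]
    group

end Cfsg.Agent.CoThreeStd.AutStruct
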