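import Cfsg.Agent.CoThreeStd.AutGamma

/-!
# Tables for the Mathieu group of degree 12 and its automorphism group
-/

set_option autoImplicit false
open Cfsg

namespace Cfsg.Agent.CoThreeStd.AutTab

open Cfsg.Agent.CoThreeStd.AutWord

/-- strictly increasing values -/
def inc (f : List ℕ → ℕ) : ℕ → List (List ℕ) → Bool
  | _, [] => true
  | a, m :: l => Nat.blt a (f m) && inc f (f m) l

/-- all letters of the list are in the given list -/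
def lets (L : List ℕ) (l : List ℕ) : Bool := l.all (fun i => L.any (fun j => Nat.beq i j))

/-- the elements of the centraliser of `p r` -/
def LB : List (List ℕ) := [
  [], [3,9,7], [7,8,3], [0,7,1,7], [1,9,7,9], [1,7,0,7,8], [9,9], [0,3,7], [0,7,3,7,9], [0,7,0,9], [1,7,3,9],
  [0,7,8,7], [8,8], [0,1,7,9], [0,9,9,7], [7,1,8,7], [7,0,3], [7,0,9,7], [3,7,9,7], [1,7,1], [3,7,0,7], [0,9,7,3],
  [0,1,7,8], [1,7,9,7,9], [7,0,8], [0], [7,1,7], [8,7,9], [7,3,7,9], [7,0,9], [1,8,7,1], [7,8,7], [1,3,7,0],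
  [1,7,1,9,7], [0,9,9], [3,7], [8,7,8], [7,3,7,8], [7,9,7,1], [0,1,7,1], [9,3], [1,7,9], [9,9,7], [0,7,1,8,7],
  [9,7,3], [9,7,9,7], [1,7,0,1,7], [1,7,8], [7,0,7,8], [9,7,9], [0,1,3,7], [3,8], [9,7,8], [7,8,1,7], [7,0,7,9],
  [7,3,9], [1], [8,8,7], [0,1,7,1,7], [1,7,8,3], [0,7,0,7,0], [7,3,8], [7,9,7,9], [0,7,8], [0,9,7,8,7], [1,7,0,3],
  [7,1], [7,8,8,7], [0,7,9], [3,9], [7,9,7,8], [8,1,7], [0,9,7,8], [0,7,8,1,7], [1,7,8,7], [8,7,1], [7,1,9,7],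
  [3,7,0], [1,3,7], [8,1], [9,3,7], [0,1], [1,8,7,9], [1,7,1,7], [0,7,3,8], [7,0,7,0], [7,8], [7,0,1,7], [7,9],
  [9,0], [9,7,1,7], [3,8,7], [9,7,8,7], [1,8,7,8], [0,7,1], [0,7,8,8,7], [1,8,7], [9,7,3,7], [0,1,9], [7,8,8],
  [0,7,9,7], [0,7,3], [3,8,7,8], [1,7,1,7,8], [7,9,9], [7,0,3,7], [0,7,1,8], [0,7,0,7], [9,7,0], [1,7,3,7], [0,9,7],
  [0,3], [8,7,3], [3,7,8,7], [8,7,9,7], [1,7,9,3], [8,3], [7], [1,7,0], [7,3,9,7], [7,9,7], [7,3], [1,7,0,1],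
  [1,7,9,3,7], [8,3,7], [0,9,7,3,7], [1,9], [0,7,8,8], [8,7,8,7], [0,7,9,9], [7,0,7], [7,1,8], [0,1,7,3,7],
  [0,9,7,0], [3], [9,7], [1,8], [0,7], [0,1,7,0], [8,7,1,7], [7,1,9], [0,3,7,8,7], [7,8,3,7], [8,8,7,8],
  [1,8,7,8,7], [0,3,7,8], [0,9,7,1], [1,7,0,7], [1,7,3], [1,7,9,7], [7,9,3,7], [7,0,1], [7,3,8,7], [0,8,7],
  [0,3,7,9], [9], [7,8,7,1], [1,7,1,9], [0,7,9,3], [0,7,1,7,9], [0,1,7], [8], [0,7,8,7,9], [0,7,0], [0,7,3,7],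
  [7,8,1], [1,9,7], [1,3], [3,7,8], [1,7,0,3,7], [7,8,7,8], [9,7,1], [0,7,3,8,7], [8,7], [3,7,9], [0,9], [0,1,7,3],
  [7,9,7,3], [7,1,7,8], [0,7,0,1], [1,7], [0,8], [7,8,7,9], [7,0], [7,9,9,7], [1,8,7,3], [7,9,3], [7,1,7,9],
  [0,7,8,1], [7,3,7], [0,1,3], [0,1,9,7]]

/-- representatives of the double cosets of the centraliser of `y` -/
def hA : List (List ℕ) := [[], [5], [5,1,5], [5,1,3,5], [5,0,1,2,5], [5,0,1,3,5], [5,0,2,1,5], [5,0,2,3,5], [5,0,2,5,0,5], [5,0,5,0,2,5]]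

/-- representatives of the cosets of the centraliser of `y` -/
def itA : List (ℕ × List ℕ) := [
  (0,[]), (3,[1,2]), (5,[2,3]), (3,[0,1,2]), (1,[0,3,4,3]), (5,[4]), (1,[0,1,2]), (1,[3,2]), (3,[1,3]), (1,[0,3,2]),
  (3,[1,2,3,2,4]), (1,[0,2,4,3,2]), (1,[2,1,3]), (1,[1,2,3,2,1]), (3,[1,3,2,4,3]), (3,[0,1,3]), (3,[1,2,3,2,1]),
  (3,[3,4]), (1,[0,3,2,1,4]), (1,[2,4,3,2]), (1,[0,1,2,1,4]), (1,[0,1,4,3]), (1,[3,2,1,4]), (5,[1]), (1,[0,2,1,3]),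
  (1,[1,2]), (5,[3,2]), (1,[1,4,3]), (1,[1,2,3,2,4]), (1,[2,3,4]), (3,[3,2]), (3,[0,1,2,3,2,4]), (5,[1,3,2,1]),
  (1,[3,4,3]), (1,[0,2,3,4]), (1,[1,2,1,4]), (7,[1,3,2]), (7,[0,1,3,2]), (9,[1,2]), (9,[3,2,4,3]), (1,[3,2,4,3]),
  (2,[]), (3,[0,1,2,3,4]), (6,[0,3]), (1,[1,2,4,3]), (6,[0,1,3]), (4,[1,4,3,2]), (2,[4]), (2,[0,1,3,4,3,2,1]),
  (4,[0,2,3,2]), (6,[1,3,4,3,2]), (1,[2,3,2,4,3]), (1,[0,2,1,3,2]), (4,[1,3,4,3,2]), (2,[1]), (6,[0,3,4]),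
  (6,[0,1,3,4]), (1,[0,1,4,3,2]), (2,[1,4]), (3,[0,1,2,3]), (6,[1,4,3,2]), (1,[1,2,3,4,3]), (2,[0,1,3,4,3,2]),
  (3,[1]), (6,[1,4,3,2,1]), (4,[0,2,3,2,1]), (2,[0,1,4,3,2]), (1,[3,2,1,4,3]), (3,[]), (2,[0,1,4,3,2,1]),
  (6,[1,3,4,3,2,1]), (1,[1,2,1,4,3]), (8,[3,2,4,3]), (5,[1,3]), (8,[1,2]), (5,[3]), (2,[0,3,4,3]), (6,[0,3,2,4]),
  (1,[2,4,3]), (4,[0]), (7,[0,3]), (1,[1,3,2]), (1,[2,3,2,1,4]), (4,[0,1,3,2,1]), (4,[4]), (1,[0,2,1,4,3]),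
  (1,[0,2,3,2,4]), (7,[0,1,2,3,2,4]), (4,[0,1,3,2,4]), (7,[1,3]), (1,[1,3,2,1,4]), (1,[2,3,2]), (6,[3,2]),
  (4,[0,1,4]), (2,[0,1,4,3]), (1,[2,1,3,4,3]), (4,[1,3,2,1,4]), (2,[1,3,4,3]), (1,[0,1,3,2,1]), (6,[1,2,4,3,2,1]),
  (1,[0,2,3,2,1]), (1,[0,2,3,4,3]), (4,[1]), (7,[1,2,3,2]), (1,[0,1,3,2,4]), (2,[4,3]), (6,[0,1,2,4,3,2]),
  (4,[1,3,2]), (7,[1,2,3,2,4]), (1,[2,1,4,3]), (1,[2,3,2,4]), (4,[0,4]), (1,[1,4,3,2,1]), (2,[1,3,4,3,2,1]),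
  (6,[0,1,3,4,3,2]), (4,[2,3,2]), (1,[4,3]), (7,[2,1]), (4,[0,3,2]), (1,[0,1,2,1,3]), (5,[3,2,1]), (8,[3,4]),
  (8,[3,2]), (5,[2,3,2,1]), (1,[1,2,1]), (4,[0,3,4,3]), (1,[3,2,4,3,2]), (7,[0,1,2,3]), (4,[2]), (6,[0,1,4]),
  (2,[2,4,3,2,1]), (1,[0,3,4,3,2]), (1,[0,2,3]), (4,[3,4]), (6,[1,4,3]), (2,[0,1,3,2,4,3,2,1]), (1,[2]),
  (1,[0,2,1,4]), (7,[1,2]), (4,[0,2,3]), (1,[0,4]), (4,[4,3]), (6,[1,2]), (2,[0,4,3,2,1]), (6,[1,2,4,3,2]),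
  (1,[1,3,2,4]), (4,[0,1,3,2]), (2,[0,4,3]), (3,[0]), (1,[2,1,3,2,4]), (6,[0,1,3,4,3,2,1]), (2,[1,4,3,2,1]),
  (3,[3,2,1]), (2,[0,4,3,2]), (6,[0,3,4,3,2]), (1,[2,4]), (2,[4,3,2,1]), (1,[4]), (6,[0,1,2]), (4,[0,4,3]),
  (2,[0,1,3,2]), (4,[1,3,2,1,4,3]), (1,[0,1,2,3]), (6,[0,3,4,3,2,1]), (3,[1,2,3,2,4,3]), (1,[1,3,4]), (2,[0,1,3]),
  (6,[0,1]), (1,[0,1,2,3,2]), (2,[1,3,2,4,3]), (3,[1,3,2,1]), (6,[1,2,4,3]), (1,[2,1,3,4]), (6,[0,3,4,3]),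
  (2,[1,3,2,4,3,2]), (4,[0,1,3]), (7,[1,2,1,3]), (9,[]), (9,[1,3,4]), (7,[1,2,4,3]), (2,[3,4,3]), (4,[]),
  (1,[0,2,4,3]), (6,[3,2,4]), (2,[0]), (3,[1,2,3,4]), (6,[3]), (1,[0,3,2,4,3]), (9,[3,2]), (7,[4]), (7,[2]),
  (9,[3,4]), (1,[0,3,2,4]), (2,[0,2,4]), (6,[4,3]), (4,[3]), (4,[3,2,4]), (6,[3,2,4,3,2]), (2,[0,3]), (1,[0]),
  (1,[2,4,3,2,1]), (6,[3,2,4,3]), (2,[0,2,4,3]), (3,[1,3,2]), (3,[1,2,3,2]), (1,[0,3]), (6,[4]), (2,[3,4]), (6,[]),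
  (1,[4,3,2,1]), (2,[2,4,3,2]), (4,[2,4]), (3,[1,3,4]), (6,[3,4,3,2]), (1,[0,2,4]), (2,[4,3,2]), (4,[0,1,3,2,1,4]),
  (6,[0,1,2,4,3,2,1]), (2,[0,1,3,4,3]), (1,[1,3,2,1]), (1,[2,1,3,2,1]), (2,[1,3,4,3,2]), (3,[0,1]), (6,[0,1,4,3,2]),
  (3,[0,1,2,3,2]), (2,[0,3,4]), (1,[3]), (6,[0,4]), (4,[0,1,3,2,4,3]), (6,[0,4,3,2]), (2,[1,3,2,4]),
  (1,[1,2,1,3,2]), (1,[2,3]), (4,[0,3,4]), (6,[0,1,4,3]), (2,[1,3,2,4,3,2,1]), (3,[0,3]), (6,[0,4,3,2,1]),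
  (1,[2,1]), (2,[0,3,4,3,2,1]), (9,[3]), (7,[1,2,3,4]), (9,[1]), (7,[0,1,2,3,4]), (1,[1]), (2,[3,4,3,2]),
  (6,[0,1,2,4]), (4,[0,1,3,4,3]), (1,[1,2,3,2]), (3,[1,3,2,4]), (6,[0,1,2,4,3]), (2,[0,1,3,2,4,3]), (7,[0,1,2,3,2]),
  (1,[2,3,2,1]), (4,[0,1]), (1,[2,3,4,3]), (6,[0,1,4,3,2,1]), (1,[1,3,4,3,2]), (4,[2,3,2,1]), (2,[1,4,3,2]),
  (2,[0,2,4,3,2]), (4,[0,2,4]), (6,[0]), (1,[0,4,3,2,1]), (1,[1,2,4]), (7,[1,2,3,4,3]), (4,[0,1,4,3]),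
  (1,[0,4,3,2]), (7,[0,1,2]), (1,[0,2]), (4,[2,3]), (1,[2,1,4]), (1,[1,3,4,3]), (4,[0,3,2,1,4]), (7,[0]),
  (1,[0,1,2,3,4]), (4,[1,3,4,3]), (2,[0,3,4,3,2]), (1,[0,1]), (6,[1,2,4]), (5,[1,3,2]), (8,[1,3]), (5,[2,3,2]),
  (8,[3,2,4]), (1,[0,2,1,3,4]), (6,[3,4,3]), (4,[1,3]), (2,[0,1,3,2,4,3,2]), (4,[1,3,2,4]), (1,[0,2,3,2]),
  (1,[1,3,2,4,3]), (7,[0,1,3]), (4,[0,1,3,4,3,2]), (6,[3,4]), (1,[2,1,3,2]), (2,[0,1]), (2,[3]), (1,[]),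
  (6,[0,3,2,4,3,2]), (4,[0,3,2,4]), (4,[1,3,2,4,3,2]), (1,[0,1,3]), (1,[3,4]), (7,[1,2,4]), (1,[0,1,2,1]),
  (1,[3,4,3,2,1]), (7,[1,2,3]), (4,[3,4,3]), (5,[1,4]), (5,[2,4]), (8,[1]), (8,[3]), (1,[3,2,1]), (2,[2]),
  (4,[0,1,3,4]), (6,[0,1,3,4,3]), (1,[0,1,3,4,3]), (7,[]), (4,[3,2,1,4]), (1,[1,2,3,4]), (4,[0,1,3,2,1,4,3]),
  (6,[3,4,3,2,1]), (1,[1,2,3]), (2,[1,3,2]), (1,[2,1,4,3,2]), (4,[1,4]), (2,[1,4,3]), (6,[0,3,2]), (6,[1,3,4]),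
  (3,[1,2,3]), (2,[0,1,4]), (1,[1,4,3,2]), (1,[2,3,4,3,2]), (2,[2,4,3]), (3,[0,1,3,2]), (6,[0,3,2,4,3]),
  (2,[0,1,3,4]), (6,[3,2,4,3,2,1]), (4,[3,2,1]), (1,[0,1,4]), (1,[3,4,3,2]), (6,[1,4]), (4,[0,2]),
  (2,[0,2,4,3,2,1]), (1,[0,3,2,1]), (2,[0,2]), (4,[1,3,4]), (6,[1,3,4,3]), (7,[1]), (9,[3,2,4]), (9,[1,3]),
  (7,[0,1]), (3,[3]), (2,[3,4,3,2,1]), (6,[4,3,2,1]), (1,[0,2,1]), (3,[1,2,3,2,1,4]), (2,[1,3]), (6,[1]),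
  (1,[0,1,3,4]), (1,[0,1,3,2]), (7,[3]), (1,[1,2,4,3,2]), (4,[1,3,2,1]), (2,[0,4]), (6,[1,3]), (4,[0,1,4,3,2]),
  (1,[0,1,2,4,3]), (1,[3,2,4]), (6,[0,4,3]), (2,[2,4]), (4,[0,3]), (5,[]), (8,[]), (5,[2]), (8,[1,3,4]),
  (1,[0,4,3]), (1,[1,2,1,3]), (4,[3,2]), (7,[1,4]), (1,[0,3,4]), (1,[1,3]), (4,[0,1,3,2,4,3,2]), (7,[1,2,1]),
  (6,[0,3,2,4,3,2,1]), (2,[1,3,4]), (4,[0,3,2,1]), (1,[1,4]), (1,[1,2,1,3,4]), (6,[4,3,2]), (2,[0,1,3,2,4]),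
  (4,[1,3,2,4,3]), (1,[0,1,2,4]), (7,[1,2,1,3,4]), (1,[4,3,2]), (4,[1,4,3])]

/-- representatives of the double cosets of the centraliser of `p r` -/
def hB : List (List ℕ) := [[], [2], [4], [5], [2,5], [5,2], [2,5,2], [5,0,5], [2,1,5,2], [2,5,0,5], [2,5,0,2,5]]

/-- representatives of the cosets of the centraliser of `p r` -/
def itB : List (ℕ × List ℕ) := [
  (2,[3]), (9,[1,7]), (6,[0,1,3,7]), (5,[7,3,7]), (5,[7,8,1]), (2,[7,0]), (5,[9]), (6,[0,1,9]), (6,[9,9]),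
  (5,[0,7,8,1]), (4,[7,8]), (5,[1,9,7]), (4,[7,1,8]), (5,[0,7,1]), (4,[1,8,7,9]), (5,[0,1,3]), (4,[7,0,7]),
  (6,[3,8]), (3,[0,7,9,7]), (4,[0,1]), (2,[8]), (9,[0,8]), (1,[]), (7,[9,0]), (9,[7]), (5,[9,0]), (6,[0,9,7]),
  (5,[1,3]), (3,[0,1,7,1]), (6,[8,8]), (9,[7,0]), (4,[9,3,7]), (4,[1]), (5,[7,9,7,3]), (5,[0,8,7]), (6,[3]),
  (3,[7,9,7,1]), (2,[7]), (4,[8,8,7]), (6,[0,3]), (3,[0,7,3]), (6,[1,7,1]), (7,[9]), (5,[7,9]), (6,[0,7,8]),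
  (4,[3,8,7]), (5,[1,7,8,7]), (5,[3,7,9]), (4,[7,8,8,7]), (10,[0,1,7]), (4,[8,1,7]), (5,[0,8]), (3,[0,9,9]),
  (5,[0,7,3,8]), (8,[3,7]), (3,[1,7,9]), (6,[0,7]), (5,[7,0,1]), (5,[7,0]), (4,[9,0]), (4,[0,7]), (8,[7,1,7]),
  (4,[7,1]), (10,[8]), (3,[8,7,9,7]), (6,[1,8]), (5,[7,9,3]), (5,[7,8,7,1]), (3,[7]), (5,[0,9]), (5,[8,7,1]),
  (4,[1,7,0,3]), (4,[1,8,7,8]), (5,[1,7]), (5,[1,7,3]), (10,[7,8,3]), (3,[3,7]), (3,[9,3]), (8,[0]), (6,[8,7,1,7]),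
  (4,[0,1,7,0]), (6,[1,9]), (7,[8,1]), (5,[8,1]), (6,[]), (4,[3]), (3,[0]), (9,[]), (3,[7,8,7]), (2,[7,9,7]),
  (4,[3,8]), (4,[1,7,0,1]), (4,[0,9,7,8]), (5,[7,8]), (3,[8,7,3]), (5,[8,7]), (6,[1]), (8,[7,0,9]), (5,[3,7,8]),
  (4,[7,1,9]), (5,[0,7,9,3]), (3,[8,3]), (10,[]), (4,[7,9]), (4,[1,8]), (5,[0,7,0]), (3,[1,7,3,7]), (6,[3,7,8,7]),
  (5,[8]), (3,[0,3]), (3,[0,9,7]), (6,[8,7,3]), (7,[0,7,9,3]), (5,[0,1]), (5,[9,3,7]), (7,[8,7,1]), (3,[9,7,3]),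
  (6,[8,3]), (9,[0,1,3]), (4,[1,3,7]), (4,[9,7,9]), (3,[8,7,9]), (6,[8,1,7]), (4,[0,9,7,0]), (7,[0,7,1]),
  (5,[3,7,0]), (3,[7,0,9]), (4,[7,9,7]), (2,[7,3]), (9,[9,9]), (1,[9]), (7,[8]), (9,[0,3]), (10,[9]), (10,[0,8,7]),
  (7,[0,7,0]), (1,[8]), (7,[9,3,7]), (7,[0,1]), (9,[0,9]), (9,[8,7]), (6,[0,7,3]), (2,[9]), (3,[7,1,7]), (4,[7,3]),
  (6,[3,9]), (5,[0,9,7,1]), (3,[9,7,3,7]), (9,[0,7,3]), (7,[1,9,7]), (4,[8,3,7]), (4,[8,1]), (4,[7,3,8]),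
  (2,[7,0,1]), (6,[0,7,9]), (3,[1,8,7]), (4,[3,7,0]), (5,[1,3,7]), (4,[9,7]), (9,[7,3,7]), (7,[1,3]), (6,[3,9,7]),
  (4,[1,9]), (4,[7,3,9]), (3,[7,9,9]), (4,[7,3,7]), (4,[0,7,3,7]), (5,[0,7,8]), (5,[0,7,1,8]), (10,[0,9]),
  (6,[9,0]), (3,[0,1,3]), (8,[7,9]), (5,[7,3]), (5,[1,7,1]), (4,[1,3]), (3,[1,9,7]), (3,[7,8]), (3,[7,1,8]),
  (3,[1,3]), (3,[7,3,7]), (3,[0,7,3,8]), (5,[7,3,8]), (10,[1,9]), (7,[0,1,9]), (5,[1,7,0,1]), (8,[9,0]),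
  (4,[0,1,3]), (7,[8,8]), (8,[7,3]), (5,[7,9,9]), (5,[7,0,3]), (3,[0,7,3,7]), (6,[9]), (8,[9]), (4,[9]), (5,[7]),
  (5,[7,1]), (4,[0,9]), (10,[1,8]), (3,[7,0]), (8,[8,1]), (5,[7,1,9]), (5,[3,7,8,7]), (3,[0,7,1,7,9]), (6,[8]),
  (4,[7,0,1]), (3,[0,7]), (3,[0,7,1]), (3,[7,1,7,9]), (3,[9]), (6,[8,1]), (8,[7]), (5,[9,7,3,7]), (8,[7,1]),
  (8,[8]), (5,[0,1,3,7]), (4,[7,0]), (7,[8,3]), (10,[0,8]), (7,[9,9]), (3,[7,3]), (5,[0,7,3]), (5,[8,3,7]),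
  (3,[0,9]), (5,[8,1,7]), (4,[1,7,9,7]), (5,[0,7,8,7]), (4,[7,9,7,3]), (5,[8,3]), (6,[0,7,0]), (10,[7,1]),
  (8,[1,9]), (3,[8,3,7]), (3,[8,1]), (5,[0,7,9,9]), (4,[3,7,9]), (3,[0,3,7,9]), (3,[3,8,7]), (8,[8,8]), (5,[8,8]),
  (3,[3,7,9]), (5,[1,9]), (3,[1,8]), (3,[7,9,7,3]), (5,[3,8]), (8,[3,8]), (6,[0,7,1]), (8,[8,3]), (10,[7,0]),
  (7,[1,7,1]), (4,[7,8,7,9]), (7,[0,7,3]), (5,[3,9,7]), (3,[1,7,9,7]), (5,[7,1,8]), (4,[8]), (5,[0,9,7,3]),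
  (4,[0,8,7]), (8,[1,3,7]), (5,[8,7,3]), (10,[0]), (5,[0,7,9]), (6,[0,1]), (3,[0,7,9,3]), (4,[7,9,3]), (3,[0,8]),
  (3,[8]), (3,[7,1,7,8]), (5,[7,8,8]), (8,[7,0,1]), (4,[0,8]), (7,[]), (3,[7,9]), (3,[0,8,7]), (8,[0,1]),
  (5,[0,9,7,0]), (3,[7,9,7]), (5,[7,8,3]), (10,[1]), (7,[0,3]), (5,[7,3,9]), (3,[8,7]), (6,[1,3]), (8,[1,3]),
  (2,[7,1]), (4,[7,0,9]), (3,[7,3,8]), (6,[3,7,8]), (5,[1,3,7,0]), (6,[8,7]), (9,[0,7,1]), (4,[3,7]), (4,[9,3]),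
  (7,[0,1,3]), (3,[9,7,8]), (4,[9,7,0]), (5,[8,7,9]), (3,[7,8,8,7]), (5,[7,8,7]), (3,[3,9]), (4,[1,7,0]),
  (7,[3,7,8]), (6,[0,1,3]), (8,[8,7]), (4,[9,7,3]), (3,[0,1,7,1,7]), (4,[0,1,7,9]), (4,[7,8,8]), (7,[8,7]),
  (9,[0,1]), (9,[9]), (4,[7,1,7]), (3,[0,1,3,7]), (2,[]), (5,[3,9]), (6,[9,3,7]), (3,[1,9]), (5,[7,0,7]),
  (5,[1,7,0]), (8,[]), (4,[0,1,7,3]), (10,[9,7,3]), (3,[1,7]), (5,[0,7,0,9]), (4,[1,7,3]), (4,[0,1,7]), (8,[7,0,7]),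
  (5,[0,1,9]), (3,[7,8,3,7]), (3,[9,0]), (3,[0,1,7]), (3,[0,1,7,3]), (3,[1,7,3]), (5,[]), (5,[3]), (8,[3]),
  (5,[0,7,8,8]), (3,[0,7,3,8,7]), (7,[0,9,7]), (10,[9,7]), (6,[1,9,7]), (8,[3,9]), (7,[3,9,7]), (4,[1,7]),
  (9,[3,8]), (1,[7,9]), (9,[0,7,9]), (7,[0,7]), (10,[9,0]), (10,[7,9]), (9,[3]), (1,[7]), (7,[1,8]), (7,[1]),
  (7,[8,7,1,7]), (9,[7,3]), (10,[7]), (7,[0,1,3,7]), (10,[8,1]), (7,[3,8]), (10,[7,8]), (7,[0,7,8]), (9,[7,1]),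
  (7,[1,9]), (7,[3]), (10,[0,1]), (7,[8,1,7]), (9,[0,7]), (1,[1]), (0,[]), (7,[3,9]), (9,[1,8]), (9,[1]),
  (7,[0,7,9]), (6,[1,7]), (9,[7,1,7]), (4,[0,9,9]), (4,[1,7,9]), (6,[0,9]), (3,[0,7,1,7]), (4,[7,0,3]), (7,[1,7,8]),
  (3,[7,8,1,7]), (5,[1,7,8]), (4,[7,9,9]), (2,[3,9]), (4,[7,3,9,7]), (7,[1,7]), (3,[7,1]), (5,[7,1,7]), (6,[1,7,8]),
  (8,[1,7]), (2,[3,7]), (3,[3,8]), (5,[7,0,9]), (3,[0,7,9]), (3,[8,8,7]), (4,[0,1,7,8]), (7,[0,9]), (9,[8]),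
  (4,[3,8,7,8]), (4,[0,1,7,1]), (4,[7,0,8]), (9,[9,0]), (5,[0,7]), (3,[0,9,7,0]), (5,[8,7,1,7]), (6,[0,7,9,3]),
  (3,[3]), (3,[9,7]), (7,[8,7,3]), (7,[3,7,8,7]), (5,[1]), (5,[1,8]), (6,[8,7,1]), (3,[0,1,7,3,7]), (5,[9,9]),
  (8,[0,7]), (8,[1,8]), (5,[1,7,3,7]), (5,[0,3]), (8,[0,3]), (4,[3,7,8]), (3,[3,7,8]), (5,[0,9,7]), (8,[1]),
  (10,[7,8,7]), (10,[7,0,9]), (3,[0,1]), (4,[0,9,7,1]), (4,[9,7,1]), (3,[9,7,1]), (4,[0,3,7,8]), (3,[1,7,1,7]),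
  (6,[0,8]), (7,[3,7]), (6,[3,7,9]), (5,[3,7]), (3,[0,7,8]), (4,[0,9,7]), (4,[3,7,9,7]), (9,[1,3]), (4,[0,3,7]),
  (2,[7,9]), (3,[7,3,9]), (4,[1,3,7,0]), (6,[3,7]), (8,[0,8]), (4,[7]), (7,[0,8]), (3,[7,9,7,8]), (5,[9,9,7]),
  (4,[0]), (9,[3,7]), (3,[3,7,9,7]), (5,[7,0,8]), (4,[1,7,8]), (3,[1]), (2,[8,1]), (3,[0,3,7]), (9,[0,7,0]),
  (7,[3,7,9]), (4,[0,9,9,7]), (4,[1,8,7]), (6,[9,3]), (4,[1,7,3,9]), (3,[8,8]), (2,[7,8,8,7]), (4,[0,3]),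
  (5,[9,7,3]), (3,[]), (7,[9,7,3]), (4,[1,7,1]), (4,[9,9]), (6,[0]), (9,[0]), (3,[8,1,7]), (5,[9,3]), (6,[9,7,3]),
  (8,[7,0]), (5,[0]), (3,[1,7,1]), (4,[0,7,3]), (4,[8,8]), (7,[0]), (4,[8,3]), (4,[0,9,7,3]), (3,[0,9,7,3]), (4,[]),
  (9,[3,7,0]), (9,[9,3]), (7,[9,3]), (3,[9,9]), (2,[3,7,0])]

/-- words for `p`, `b` -/
def gA : List (List ℕ × List ℕ) := [
  ([3,7,3,2,7,0,7,0,6,7],[7]), ([1,7,2,8,1,7],[1,7,2,8,1]), ([1,7,2,8,1,7],[1,8,2,7,1]),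
  ([1,4,7,4,7,0,7,3,7],[0,4,5,7,0,7,0,6,3]), ([0,2,7,0,7,0,7],[7,2,7,1,7]), ([1,7,1,7,7,1,7,7],[1,7,1,8,8,2]),
  ([1,7,7,2,7,7,2,7],[1,8,1,7,7,2]), ([0,1,7,0,7,0,7],[0,7,0,7,0,2,7]), ([1,7,0,3,6,3,7],[0,7,0,2,5,4,7,0]),
  ([0,3,6,3,7,1,7],[0,2,8,4,8,3,6,3]), ([0,3,6,3,8,1,8],[0,2,7,4,7,3,6,3]), ([2,7,0,1,4,6,2,7],[4,7,0,5,7,5,7]),
  ([7,1,7,1,7,2,8],[1,8,8,1]), ([7,2,8,0,8,8],[7,7,0,8,8]), ([7,1,8,0,8,8],[0,2,7,1,8,8]),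
  ([7,2,7,2,7,1,8],[7,1,7,0,2,7]), ([7,0,2,7,5,4,7],[7,6,7,5,7]), ([5,7,5,8,5,7,5,8,5,7],[6,7,5,7,7,5]),
  ([5,7,5,8,5,7,5,8,5,7],[6,7,7,6,7,5]), ([7,0,5,4,7,2,7],[0,4,7,4,6,2,7,3]), ([7,1,7,0,8,2,8],[1,7,7,1]),
  ([8,1,7,0,7,7],[0,2,8,1,7,7]), ([8,2,7,0,7,7],[8,8,0,7,7]), ([7,1,7,2,8,1,7],[7,0,1,7,2,7]),
  ([0,7,3,6,7,6,7],[0,2,7,5,8,0,8,5]), ([1,5,7,2,4,6,7],[0,2,8,8,0,3,8,4]), ([1,7,0,3,7,2,7],[0,3,6,2,7,7,1,3]),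
  ([2,4,8,6,1,8,5],[3,6,8,0,8,2,6]), ([1,7,0,8],[2,8,2,7,1,7]), ([1,7,0,8],[1,7,2,7,2,8,1]),
  ([2,7,0,8],[0,7,7,1,8,2]), ([2,7,0,8],[0,1,7,2,8,2,8]), ([1,8,0,7],[2,7,2,8,1,8]), ([2,8,0,7],[0,7,7,2,8,1]),
  ([1,8,0,7],[1,7,0,1,8,8,1]), ([2,8,0,7],[0,1,8,2,7,2,7])]

/-- words for `q`, `s`, `b` -/
def gB : List (List ℕ × List ℕ × List ℕ) := [
  ([10],[3,9,10,9,10,7,10,7,10,1,8,10,8,10],[1,10,7,10,7,0,10,7,10,7,10,1]),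
  ([1,3,10,9,10,3,8,10,3],[10],[0,1,7,10,9,10,7,8,8]), ([3,7,10,8,10,1,10],[0,3,10,9,10,8,10,3],[10]),
  ([0,9,10,0,3,11,8],[9,10,1,11,8],[7,11,9,10,1,11,8]), ([0,9,11,0,3,10,8],[9,11,1,10,8],[7,10,9,11,1,10,8]),
  ([1,10,3,10,9,10,9,7,10],[0,10,9,9,7,10,8,8,10],[0,8,7,10,3,7,10,9,0]),
  ([10,0,8,10,9,0,10],[9,10,1,10,1,10,8],[0,10,0,10,0]), ([10,10,1,11,11],[9,0,10,10,8,10,3,11],[11,1,10]),
  ([1,11,11,9,11,11,9,3],[0,10,9,10,1,11,8,11],[0,11,0,10,0]),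
  ([0,10,0,11,0,10],[1,10,3,11,11,9,7,11],[0,10,10,0,11])]

/-- the 2-elements of the group generated by the 3-elements: words and words in the 3-elements -/
def QW : List (List ℕ × List ℕ) := [
  ([7,0,1,7],[1,2]), ([1,8,7,8,7],[2,1,0,5,1]), ([1,7,0,3,7],[3,4,2]), ([1,7,0,1,7],[5,1,0]), ([7,0,7],[2,1]),
  ([0,7,0,7,0],[0,1,5,0,4]), ([0,7,3,7],[1,0,2,4]), ([7,0,7,0],[1,0,5]), ([0,1],[0,4]), ([7,3,7],[0,1,2,3]),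
  ([1,3],[0,1,5,0,1,5]), ([9,7,9,7],[2,4,3]), ([0,1,7,3,7],[4,2,3]), ([7,9,7,9],[5,0,1]), ([0],[2,3,1,5]),
  ([0,7,0,7],[2,3,4]), ([1,7,3,7],[3,2,4]), ([7,0,3,7],[2,0,1,5,0]), ([3,7,0,7],[2,0]), ([0,1,7,1,7],[0,5,1]),
  ([3],[3,1]), ([1,7,0,7],[0,4,2,3,4]), ([0,7,1,7],[0,5,0]), ([1,7,9,7,9],[0,2]), ([],[]), ([1],[0,2,4,3,2]),
  ([7,8,7,8],[0,1,5]), ([1,7,1,7],[1,5,0]), ([0,3],[2,0,1,0,5]), ([0,1,3],[0,1,0]), ([8,7,8,7],[4,3,2]),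
  ([7,1,7],[1,5,1])]

/-- conjugators for the outer involutions centralising `p r` -/
def CM : List (List ℕ) := [
  [], [1,5,0,1,3,5,2,4], [5,1,5,2,3,5,2], [1,5,0,1,2,5,1,5], [5,0,3,5,0,5], [1,5,0,5,0,3,5], [1], [5,0,1,3,4,3,5],
  [5,0,1,2,5,1,5], [5,0,3,2,5,2], [5,1,5,0,2,5,2], [5,2,4,5], [5,0,5,0,3,5], [1,5,2,4,5,0], [5,0,3,5,4,5],
  [1,5,0,3,2,5,0,2], [5,2,4,5,0], [5,0,3,2,5,0,2], [1,5,0,3,2,5,2], [1,5,2,4,5], [5,0,1,3,5,4], [1,5,0,1,3,4,3,5],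
  [5,0,1,3,5,2,4], [1,5,0,1,3,5,4]]

/-- conjugators used for the normal subgroups of the centraliser of `p r` -/
def KM : List (List ℕ) := [[3,7], [], [0,1], [1], [0], [7], [7,9], [7,8]]

/-- generators of order 3 of the group generated by the 3-elements -/
def t3 : ℕ → List ℕ
  | 0 => [9,9]
  | 1 => [8,1]
  | 2 => [0,7,8,7]
  | 3 => [9,9,9,9]
  | 4 => [8,1,8,1]
  | _ => [0,7,8,7,0,7,8,7]

/-- generators of the Sylow subgroup in the centraliser of `p r` -/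
def us : List (List ℕ) := [[9,7,3], [3,9,7], [0,1,3], [1]]

/-! ### the tests -/

/-- word of an item -/
def wA (it : ℕ × List ℕ) : List ℕ := hA.getD it.1 [] ++ it.2
/-- word of an item -/
def wB (it : ℕ × List ℕ) : List ℕ := hB.getD it.1 [] ++ it.2

set_option maxRecDepth 100000 in
theorem LB_inc : inc (fun l => sg l 5) 0 LB = true := by decide +kernel
theorem LB_len : LB.length = 192 := by decide +kernel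
theorem LB_lets : LB.all (lets [0,1,3,7,8,9]) = true := by decide +kernel

set_option maxRecDepth 100000 in
theorem itA_inc : inc (fun l => sg (cw [0] l) 5) 0 (itA.map wA) = true := by decide +kernel
theorem itA_len : itA.length = 396 := by decide +kernel
theorem itA_lets : itA.all (fun it => lets [0,1,2,3,4] it.2 && Nat.blt it.1 10) = true := by decide +kernel
theorem hA_lets : hA.all (lets [0,1,2,3,4,5]) = true := by decide +kernel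

set_option maxRecDepth 100000 in
theorem itB_inc : inc (fun l => sg (cw [1,3] l) 5) 0 (itB.map wB) = true := by decide +kernel
theorem itB_len : itB.length = 495 := by decide +kernel
theorem itB_lets : itB.all (fun it => lets [0,1,3,7,8,9] it.2 && Nat.blt it.1 11) = true := by decide +kernel
theorem hB_lets : hB.all (lets [0,1,2,3,4,5]) = true := by decide +kernel

/-- no coset of the centraliser of `y` is `c`-invariant, except the first one -/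
theorem itA_c : itA.all (fun it => (Nat.beq it.1 0) ||
    (!(eqG (6 :: (wA it ++ [6])) (wA it)) && !(eqG (6 :: (wA it ++ [6])) (0 :: wA it)))) = true := by decide +kernel

/-- letters for the generation test A -/
def alA (g : List ℕ) : ℕ → List ℕ
  | 0 => [0]
  | 1 => [1,2]
  | 2 => [2,1]
  | 3 => [2,3]
  | 4 => [3,2]
  | 5 => [3,4]
  | 6 => [4,3]
  | 7 => g
  | _ => wi g

/-- letters for the generation test B -/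
def alB (g : List ℕ) : ℕ → List ℕ
  | 0 => [0]
  | 1 => [1]
  | 3 => [3]
  | 7 => [7]
  | 8 => [8]
  | 9 => [9]
  | 10 => g
  | _ => wi g

/-- the element `p ^ i * h j * p ^ k` -/
def gwA (j i k : ℕ) : List ℕ := (if i = 1 then [1] else []) ++ (hA.getD j [] ++ (if k = 1 then [1] else []))

set_option maxRecDepth 100000 in
theorem gA_test : ∀ j : Fin 9, ∀ i k : Fin 2,
    (fun (g : List ℕ) (w : List ℕ × List ℕ) => eqH (w.1.flatMap (alA g)) [1] && eqH (w.2.flatMap (alA g)) [5])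
      (gwA (j + 1) i k) (gA.getD (4 * j + 2 * i + k) ([], [])) = true := by decide +kernel

set_option maxRecDepth 100000 in
theorem gB_test : ∀ j : Fin 10,
    (fun (g : List ℕ) (w : List ℕ × List ℕ × List ℕ) => eqH (w.1.flatMap (alB g)) [2] &&
      (eqH (w.2.1.flatMap (alB g)) [4] && eqH (w.2.2.flatMap (alB g)) [5]))
      (hB.getD (j + 1) []) (gB.getD j ([], [], [])) = true := by decide +kernel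

/-- the elements of the centraliser of `p r` commute with it -/
theorem comm_lets : ∀ i : Fin 10, (!(lets [0,1,3,7,8,9] [i.1]) || eqG [i.1,1,3] [1,3,i.1]) = true := by decide +kernel

/-- the images of the letter `7` under automorphisms fixing the centraliser of `y` -/
theorem rigid : LB.all (fun l => !(eqG (l ++ l) []) ||
    (!((fun m => eqG (m ++ (m ++ m)) []) (l ++ [1,3,2,4])) ||
    (!((fun m => eqG (m ++ (m ++ (m ++ (m ++ (m ++ (m ++ (m ++ (m ++ (m ++ m))))))))) []) (l ++ [2])) ||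
    (eqG l [7] || eqG l [0,7,0])))) = true := by decide +kernel

/-- the outer involutions centralising `p r` -/
theorem outer_inv : LB.all (fun l => !(eqG (6 :: (l ++ 6 :: l)) []) ||
    CM.any (fun m => eqG (6 :: l) (cw [6] m))) = true := by decide +kernel
theorem CM_lets : CM.all (lets [0,1,2,3,4,5]) = true := by decide +kernel

/-- elements of the centraliser of `p r` which centralise `pq`, `qr`, `rs` -/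
theorem cent_F : LB.all (fun l => !(eqG (l ++ [1,2]) ([1,2] ++ l) && (eqG (l ++ [2,3]) ([2,3] ++ l) &&
    eqG (l ++ [3,4]) ([3,4] ++ l))) || (eqG l [] || eqG l [0])) = true := by decide +kernel

/-- the centre of the centraliser of `p r` -/
theorem center_B : LB.all (fun l => !(eqG (l ++ [0]) ([0] ++ l) && (eqG (l ++ [1]) ([1] ++ l) &&
    (eqG (l ++ [7]) ([7] ++ l) && eqG (l ++ [8]) ([8] ++ l)))) || (eqG l [] || eqG l [1,3])) = true := by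
  decide +kernel

/-- the normal subgroups of the centraliser of `p r` with a unique involution -/
theorem normal_B : LB.all (fun l => (QW.any (fun w => eqG l (w.2.flatMap t3)) && eqG (l ++ (l ++ (l ++ l))) []) ||
    KM.any (fun k => (fun t => eqG (t ++ t) [] && (!(eqG t []) && !(eqG t [1,3]))) (l ++ (k ++ (l ++ wi k))))) = true := by
  decide +kernel
theorem KM_lets : KM.all (lets [0,1,3,7,8,9]) = true := by decide +kernel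

/-- the elements of order 3 -/
theorem t3_test : ∀ i : Fin 6, (fun t => eqG (t ++ (t ++ t)) [] && lets [0,1,3,7,8,9] t) (t3 i) = true := by
  decide +kernel
theorem QW_lets : QW.all (fun w => lets [0,1,2,3,4,5] w.2) = true := by decide +kernel
theorem t3_b : eqG (([0,1,5,0,1,5] : List ℕ).flatMap t3) [1,3] = true := by decide +kernel

/-- the centraliser of the group generated by the 3-elements -/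
theorem cent_PB : LB.all (fun l => !(eqG (l ++ t3 0) (t3 0 ++ l) && (eqG (l ++ t3 1) (t3 1 ++ l) &&
    eqG (l ++ t3 2) (t3 2 ++ l))) || (eqG l [] || eqG l [1,3])) = true := by decide +kernel

/-- the centraliser of a Sylow subgroup in the automorphism group -/
theorem cent_syl : LB.all (fun l => (!(us.all (fun u => eqG (l ++ u) (u ++ l))) || (eqG l [] || eqG l [1,3])) &&
    !(us.all (fun u => eqG (l ++ (6 :: u)) (u ++ (l ++ [6]))))) = true := by decide +kernel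
theorem us_lets : us.all (lets [0,1,3,7,8,9]) = true := by decide +kernel

end Cfsg.Agent.CoThreeStd.AutTab
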