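import Cfsg.Agent.CoThreeStd.OutAut
import Cfsg.Agent.CoThreeStd.M12.Out

/-!
# The automorphisms of `M₁₂` are inner or inner times `alpha`
-/

set_option autoImplicit false

open Cfsg

namespace Cfsg.Agent.CoThreeStd.AutTwelve

open Cfsg.Agent.CoThreeStd.MTwelve Cfsg.Agent.CoThreeStd.InvTwo Cfsg.Agent.CoThreeStd.Fusion
  Cfsg.Agent.CoThreeStd.OutAut
open Cfsg.Agent.SporRec.Co3 (P5)

/-- `alpha` as an automorphism -/
def alphaAut : MulAut H where
  toFun := alpha
  invFun := alpha
  left_inv := alpha_alpha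
  right_inv := alpha_alpha
  map_mul' := map_mul alpha

theorem alphaAut_apply (x : H) : alphaAut x = alpha x := rfl

theorem alphaAut_sq : alphaAut * alphaAut = 1 := by
  ext1 x
  exact alpha_alpha x

theorem perm5_cent : ∀ σ : Equiv.Perm (Fin 5), σ * (Equiv.swap 0 1 * Equiv.swap 1 2) = Equiv.swap 0 1 * Equiv.swap 1 2 * σ →
    σ * (Equiv.swap 2 3 * Equiv.swap 3 4) = Equiv.swap 2 3 * Equiv.swap 3 4 * σ → σ = 1 := by decide +kernel

/-- `alpha` is not inner. -/
theorem alphaAut_not_inner : alphaAut ∉ (MulAut.conj : H →* MulAut H).range := by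
  rintro ⟨m, hm⟩
  have hm' : ∀ x, m * x = alpha x * m := by
    intro x
    rw [← alphaAut_apply, ← hm, MulAut.conj_apply, inv_mul_cancel_right]
  have h1 := hm' y
  rw [alpha_y] at h1
  obtain ⟨σ, hσ⟩ := cent_y m h1
  have h2 : ∀ τ : Equiv.Perm (Fin 5), Equiv.Perm.sign τ = 1 → σ * τ = τ * σ := by
    intro τ hτ
    have h3 := hm' (w τ)
    rw [alpha_even hτ] at h3
    apply w_injective
    rw [map_mul, map_mul]
    rcases hσ with h | h
    · rw [h] at h3
      exact h3
    · rw [h] at h3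
      have h4 : y * (w σ * w τ) = y * (w τ * w σ) := by
        rw [← mul_assoc, h3, ← mul_assoc, ← mul_assoc, y_comm]
      exact mul_left_cancel h4
  have h3 : σ = 1 := perm5_cent σ (h2 _ (by decide +kernel)) (h2 _ (by decide +kernel))
  rw [h3, map_one, mul_one] at hσ
  have h4 := hm' p
  have h5 : m * p = p * m := by
    rcases hσ with h | h
    · rw [h, one_mul, mul_one]
    · rw [h, ← w_p, y_comm]
  have h6 : alpha p = y * p := by
    rw [← w_p]
    exact alpha_odd (by decide +kernel)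
  rw [h5, h6] at h4
  have h7 : p = y * p := mul_right_cancel h4
  exact y_ne_one (mul_eq_right.mp h7.symm)

/-- **The automorphisms of `M₁₂`.** -/
theorem main (φ : MulAut H) : ∃ m : H, (∀ x, φ x = m * x * m⁻¹) ∨ (∀ x, φ x = m * alpha x * m⁻¹) := by
  by_cases h : φ ∈ (MulAut.conj : H →* MulAut H).range
  · obtain ⟨m, rfl⟩ := h
    exact ⟨m, Or.inl fun x => MulAut.conj_apply m x⟩
  · obtain ⟨m, hm⟩ := M12.Out.out_spor h alphaAut_not_inner
    refine ⟨m, Or.inr fun x => ?_⟩
    have h1 : φ = MulAut.conj m * alphaAut := by rw [hm, mul_assoc, alphaAut_sq, mul_one]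
    rw [h1]
    rfl

end Cfsg.Agent.CoThreeStd.AutTwelve
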