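import Cfsg.Agent.CoThreeStd.MTwelveCent

/-!
# Words in the automorphism group of the Mathieu group of degree 12

Letters `0, …, 5 = y, p, q, r, s, b`, `6` = the involution `γ` of the symmetric group of degree 24 inducing an outer
automorphism on `M12`, `7, 8, 9` = elements of the centraliser of `p r`.
-/

set_option autoImplicit false
open scoped Pointwise
open Cfsg

namespace Cfsg.Agent.CoThreeStd.AutWord

open Cfsg.Agent.SporadicStructure.M11InvPerms (tabFun enc dec)
open Cfsg.Agent.MTwelveType.SylowModel (mem_M12 card_M12 ext_M12)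
open Cfsg.Agent.CoThreeStd.MTwelve

/-- table of `pC` -/
def tC : List ℕ := [5, 23, 17, 14, 15, 0, 22, 8, 7, 11, 16, 9, 19, 21, 3, 4, 10, 2, 20, 12, 18, 13, 6, 1]

/-- the permutation `γ` -/
def pC : Equiv.Perm GolayPt where
  toFun := tabFun tC
  invFun := tabFun tC
  left_inv := by unfold Function.LeftInverse; decide +kernel
  right_inv := by unfold Function.RightInverse Function.LeftInverse; decide +kernel

/-- the letters in `M12` -/
def gh' : ℕ → H
  | 0 => y
  | 1 => p
  | 2 => q
  | 3 => r
  | 4 => s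
  | 5 => b
  | 7 => b * (q * (s * b))
  | 8 => q * (s * (b * (r * (q * (b * (p * b))))))
  | 9 => b * (p * (b * (q * (r * (b * (s * q))))))
  | _ => 1

/-- the letters in `M12` -/
def gh (i : ℕ) : H := gh' (i % 10)

/-- the letters in the symmetric group -/
def gn (i : ℕ) : Equiv.Perm GolayPt := if i % 10 = 6 then pC else (gh i).1

/-- words in `M12` -/
def wh (l : List ℕ) : H := (l.map gh).prod

/-- words in the symmetric group -/
def wg (l : List ℕ) : Equiv.Perm GolayPt := (l.map gn).prod

theorem wh_nil : wh [] = 1 := rfl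
theorem wh_cons (i : ℕ) (l : List ℕ) : wh (i :: l) = gh i * wh l := by simp [wh]
theorem wh_append (l l' : List ℕ) : wh (l ++ l') = wh l * wh l' := by simp [wh]
theorem wg_nil : wg [] = 1 := rfl
theorem wg_cons (i : ℕ) (l : List ℕ) : wg (i :: l) = gn i * wg l := by simp [wg]
theorem wg_append (l l' : List ℕ) : wg (l ++ l') = wg l * wg l' := by simp [wg]

/-- the word does not contain `γ` -/
def pur (l : List ℕ) : Bool := l.all (fun i => !(Nat.beq (i % 10) 6))

theorem wg_pur {l : List ℕ} (h : pur l = true) : wg l = (wh l).1 := by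
  induction l with
  | nil => rfl
  | cons i l ih =>
    rw [pur, List.all_cons, Bool.and_eq_true] at h
    have h1 : ¬ i % 10 = 6 := by
      intro h2
      rw [h2] at h
      exact absurd h.1 (by decide)
    rw [wg_cons, wh_cons, ih h.2, gn, if_neg h1]
    rfl

/-- all tables in one number -/
def PT : ℕ := 0x8a8f69c9ccbd4862d0017c168134697d1ca9cae63c4502d804ab16d08d09bdaaa998b073c2c3d0685ca20489a4099b26504a20eb34c1674580f746e55aa71a928c39450bd909785d2034c38bd47592e9b158d9d606a21d2080623ce2ab32a62ac7275040bc1e16a488b5d45585e989d8d9d60270283222468cceab32e6594927d109ac1cd080622d176519cc3c530acda47cae810c01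

/-- image of the point number `x` under the letter `i` -/
def im (i x : ℕ) : ℕ := (PT >>> (120 * (i % 10) + 5 * x)) % 32

/-- image of the point number `x` under the word `l` -/
def act : List ℕ → ℕ → ℕ
  | [], x => x
  | i :: l, x => im i (act l x)

theorem gn_apply (i : ℕ) (x : ℕ) (hx : x < 24) : enc (gn i (dec x)) = im i x ∧ im i x < 24 := by
  have h : ∀ x : Fin 24, ∀ i : Fin 10, enc (gn i (dec x)) = im i x ∧ im i x < 24 := by decide +kernel
  have h1 := h ⟨x, hx⟩ ⟨i % 10, Nat.mod_lt _ (by norm_num)⟩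
  have h2 : gn i = gn (i % 10) := by simp only [gn, gh, Nat.mod_mod]
  have h3 : im i x = im (i % 10) x := by simp only [im, Nat.mod_mod]
  rw [h2, h3]
  exact h1

theorem act_spec (l : List ℕ) (x : ℕ) (hx : x < 24) : enc (wg l (dec x)) = act l x ∧ act l x < 24 := by
  induction l with
  | nil => exact ⟨enc_dec x hx, hx⟩
  | cons i l ih =>
    obtain ⟨h1, h2⟩ := ih
    have h3 := gn_apply i (act l x) h2
    refine ⟨?_, h3.2⟩
    rw [wg_cons]
    show enc (gn i (wg l (dec x))) = _
    rw [← dec_enc (wg l (dec x)), h1, h3.1]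
    rfl

/-- test for the equality of two words -/
def eqG (l l' : List ℕ) : Bool := allB (fun x => Nat.beq (act l x) (act l' x)) 24

theorem wg_eq {l l' : List ℕ} (h : eqG l l' = true) : wg l = wg l' := by
  apply Equiv.ext
  intro z
  have h1 := allB_spec _ _ h (enc z) (enc_lt z)
  have h2 := Nat.eq_of_beq_eq_true h1
  rw [← (act_spec l _ (enc_lt z)).1, ← (act_spec l' _ (enc_lt z)).1, dec_enc] at h2
  rw [← dec_enc (wg l z), ← dec_enc (wg l' z), h2]

theorem eqG_of {l l' : List ℕ} (h : wg l = wg l') : eqG l l' = true := by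
  have key : ∀ n ≤ 24, allB (fun x => Nat.beq (act l x) (act l' x)) n = true := by
    intro n
    induction n with
    | zero => intro _; rfl
    | succ n ih =>
      intro hn
      rw [allB, ih (by omega), Bool.and_true, ← (act_spec l n (by omega)).1,
        ← (act_spec l' n (by omega)).1, h]
      exact Nat.beq_refl _
  exact key 24 le_rfl

theorem eqG_iff {l l' : List ℕ} : eqG l l' = true ↔ wg l = wg l' := ⟨wg_eq, eqG_of⟩

/-- equality of words in `M12` -/
def eqH (l l' : List ℕ) : Bool := pur l && (pur l' && eqG l l')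

theorem wh_eq {l l' : List ℕ} (h : eqH l l' = true) : wh l = wh l' := by
  rw [eqH, Bool.and_eq_true, Bool.and_eq_true] at h
  apply Subtype.ext
  rw [← wg_pur h.1, ← wg_pur h.2.1]
  exact wg_eq h.2.2

theorem eqG_of_wh {l l' : List ℕ} (h1 : pur l = true) (h2 : pur l' = true) (h : wh l = wh l') :
    eqG l l' = true := by
  apply eqG_of
  rw [wg_pur h1, wg_pur h2, h]

/-- number attached to a word; it depends only on the element -/
def sg (l : List ℕ) : ℕ → ℕ
  | 0 => 0
  | n + 1 => sg l n * 32 + act l n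

theorem sg_eq {l l' : List ℕ} (h : wg l = wg l') : ∀ n ≤ 24, sg l n = sg l' n
  | 0, _ => rfl
  | n + 1, hn => by
    show sg l n * 32 + act l n = sg l' n * 32 + act l' n
    rw [sg_eq h n (by omega), ← (act_spec l n (by omega)).1, ← (act_spec l' n (by omega)).1, h]

theorem gh_small (i : ℕ) (hi : i < 6) : gh i = gen i := by
  interval_cases i <;> rfl

theorem wh_small {l : List ℕ} (h : ∀ i ∈ l, i < 6) : wh l = wd l := by
  induction l with
  | nil => rfl
  | cons i l ih =>
    rw [wh_cons, wd_cons, gh_small i (h i (by simp)), ih fun j hj => h j (by simp [hj])]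

/-- every element is a word in the first six letters -/
theorem exists_wh (h : H) : ∃ l, (∀ i ∈ l, i < 6) ∧ wh l = h := by
  obtain ⟨l, rfl⟩ := mem_wd h
  refine ⟨l.filter (· < 6), fun i hi => by simpa using (List.mem_filter.1 hi).2, ?_⟩
  rw [wh_small fun i hi => by simpa using (List.mem_filter.1 hi).2]
  induction l with
  | nil => rfl
  | cons i l ih =>
    by_cases h : i < 6
    · rw [List.filter_cons_of_pos (by simpa using h), wd_cons, wd_cons, ih]
    · rw [List.filter_cons_of_neg (by simpa using h), wd_cons, ih]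
      have h6 : gen i = 1 := by
        obtain ⟨k, rfl⟩ := Nat.exists_eq_add_of_le (not_lt.1 h)
        rw [Nat.add_comm]; rfl
      rw [h6, one_mul]

theorem pur_of_small {l : List ℕ} (h : ∀ i ∈ l, i < 6) : pur l = true := by
  rw [pur, List.all_eq_true]
  intro i hi
  have h1 : i % 10 = i := Nat.mod_eq_of_lt (by have := h i hi; omega)
  have h2 : i ≠ 6 := by have := h i hi; omega
  rw [h1]
  cases h3 : Nat.beq i 6
  · rfl
  · exact absurd (Nat.eq_of_beq_eq_true h3) h2

/-- inverses of letters -/
def iv (i : ℕ) : ℕ := if i % 10 = 8 then 9 else if i % 10 = 9 then 8 else i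

theorem gn_iv (i : ℕ) : gn (iv i) * gn i = 1 := by
  have h : ∀ i : Fin 10, eqG [iv i, i] [] = true := by decide +kernel
  have h1 := wg_eq (h ⟨i % 10, Nat.mod_lt _ (by norm_num)⟩)
  rw [wg_cons, wg_cons, wg_nil, mul_one] at h1
  have h2 : gn i = gn (i % 10) := by simp only [gn, gh, Nat.mod_mod]
  have h3 : gn (iv i) = gn (iv (i % 10)) := by
    unfold iv
    rw [Nat.mod_mod]
    split_ifs
    · rfl
    · rfl
    · exact h2
  rw [h2, h3]
  exact h1

/-- inverse words -/
def wi (l : List ℕ) : List ℕ := (l.map iv).reverse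

theorem wg_wi (l : List ℕ) : wg (wi l) = (wg l)⁻¹ := by
  induction l with
  | nil => simp [wi, wg]
  | cons i l ih =>
    rw [wi, List.map_cons, List.reverse_cons, wg_append, wg_cons i l, mul_inv_rev]
    rw [wi] at ih
    rw [ih]
    congr 1
    rw [wg_cons, wg_nil, mul_one]
    exact eq_inv_of_mul_eq_one_left (gn_iv i)

theorem pur_wi {l : List ℕ} (h : pur l = true) : pur (wi l) = true := by
  rw [pur, List.all_eq_true] at h ⊢
  intro i hi
  rw [wi, List.mem_reverse, List.mem_map] at hi
  obtain ⟨j, hj, rfl⟩ := hi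
  have h1 := h j hj
  unfold iv
  split_ifs
  · rfl
  · rfl
  · exact h1

theorem wh_wi {l : List ℕ} (h : pur l = true) : wh (wi l) = (wh l)⁻¹ := by
  apply Subtype.ext
  rw [← wg_pur (pur_wi h), wg_wi, wg_pur h]
  rfl

/-- the word of the conjugate `m⁻¹ x m` -/
def cw (x m : List ℕ) : List ℕ := wi m ++ (x ++ m)

theorem wg_cw (x m : List ℕ) : wg (cw x m) = (wg m)⁻¹ * wg x * wg m := by
  rw [cw, wg_append, wg_append, wg_wi, mul_assoc]

theorem pur_append {l l' : List ℕ} (h : pur l = true) (h' : pur l' = true) : pur (l ++ l') = true := by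
  rw [pur, List.all_append, Bool.and_eq_true]
  exact ⟨h, h'⟩

theorem wh_cw {x m : List ℕ} (hm : pur m = true) : wh (cw x m) = (wh m)⁻¹ * wh x * wh m := by
  rw [cw, wh_append, wh_append, wh_wi hm, mul_assoc]

end Cfsg.Agent.CoThreeStd.AutWord
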