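import Cfsg.Agent.CoThreeStd.Model

/-!
# An element of `G3` is determined by the images of six of the 552 vectors
-/

set_option autoImplicit false

namespace Cfsg.Agent.CoThreeStd.BaseSix

open Cfsg Cfsg.Agent.SporadicStructure.PermChain Cfsg.Agent.LeechPack.X552 Cfsg.Agent.CoThreeStd.Gens
  Cfsg.Agent.McLType.Chain Cfsg.Agent.CoThreeStd.Model

/-- the elements of `A` fixing `b` -/
def fx (A : Subgroup (Equiv.Perm (Fin 552))) (b : Fin 552) : Subgroup (Equiv.Perm (Fin 552)) :=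
  A ⊓ MulAction.stabilizer (Equiv.Perm (Fin 552)) b

theorem mem_fx {A : Subgroup (Equiv.Perm (Fin 552))} {b : Fin 552} {g : Equiv.Perm (Fin 552)} :
    g ∈ fx A b ↔ g ∈ A ∧ g b = b := Iff.rfl

theorem in_fx {A : Subgroup (Equiv.Perm (Fin 552))} {b : Fin 552} {L : List ℕ}
    (h : ∀ t ∈ L, InK 10 A t) (hfix : L.all (fun t => Nat.beq (look 10 t b) b) = true) :
    ∀ t ∈ L, InK 10 (fx A b) t := by
  intro t ht
  obtain ⟨τ, hτ, h'⟩ := h t ht
  rw [List.all_eq_true] at hfix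
  exact ⟨τ, ⟨hτ, Fin.ext ((h' b).trans (Nat.eq_of_beq_eq_true (hfix t ht)))⟩, h'⟩

theorem in_next {A : Subgroup (Equiv.Perm (Fin 552))} {b : Fin 552} {L L' : List ℕ}
    (hL : ∀ t ∈ L, InK 10 A t) (h : ∀ t ∈ L', InK 10 (lev 10 552 L) t)
    (hfix : L'.all (fun t => Nat.beq (look 10 t b) b) = true) : ∀ t ∈ L', InK 10 (fx A b) t := by
  apply in_fx _ hfix
  intro t ht
  obtain ⟨τ, hτ, h'⟩ := h t ht
  exact ⟨τ, lev_le hL hτ, h'⟩

theorem card_fx {A : Subgroup (Equiv.Perm (Fin 552))} {b : Fin 552} {L : List ℕ} {d mask n : ℕ}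
    (hL : ∀ t ∈ L, InK 10 A t)
    (hmask : Nat.beq (grow 10 552 L d (Nat.shiftLeft 1 b)) mask = true)
    (hn : ((Finset.range 552).filter fun y => Nat.testBit mask y = true).card = n) :
    n * Nat.card (fx A b) ≤ Nat.card A :=
  card_step_mask (w := 10) A b (fx A b) inf_le_left (fun _ hg => hg.2) L hL d mask n hmask hn

/-- the elements of `K0` fixing the six points -/
def A6 : Subgroup (Equiv.Perm (Fin 552)) := fx (fx (fx (fx (fx (fx K0 120) 462) 5) 183) 387) 0

theorem card_K0 : Nat.card K0 = 495766656000 := by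
  have h1 : (Subgroup.closure (Set.range m)).map ψ = K0 := by
    rw [MonoidHom.map_closure, ← Set.range_comp]
    unfold K0
    congr 2
    funext k
    exact ψ_m k
  rw [← h1, closure_m, ← card_G3]
  rw [Nat.card_congr ((⊤ : Subgroup G3).equivMapOfInjective ψ ψ_injective).symm.toEquiv]
  exact Nat.card_congr Subgroup.topEquiv.toEquiv

theorem card_A6 : Nat.card A6 = 1 := by
  have i1 : ∀ t ∈ L1, InK 10 (fx K0 120) t := in_fx in1 (by decide +kernel)
  have i2 : ∀ t ∈ L2, InK 10 (fx (fx K0 120) 462) t := in_next i1 in2 (by decide +kernel)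
  have i3 : ∀ t ∈ L3, InK 10 (fx (fx (fx K0 120) 462) 5) t := in_next i2 in3 (by decide +kernel)
  have i4 : ∀ t ∈ L4, InK 10 (fx (fx (fx (fx K0 120) 462) 5) 183) t := in_next i3 in4 (by decide +kernel)
  have i5 : ∀ t ∈ L5, InK 10 (fx (fx (fx (fx (fx K0 120) 462) 5) 183) 387) t :=
    in_next i4 in5 (by decide +kernel)
  have c0 := card_fx in0 orb0 card0
  have c1 := card_fx i1 orb1 card1
  have c2 := card_fx i2 orb2 card2
  have c3 := card_fx i3 orb3 card3
  have c4 := card_fx i4 orb4 card4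
  have c5 := card_fx i5 orb5 card5
  have h := card_K0
  have hpos : 0 < Nat.card A6 := Nat.card_pos
  change 10 * Nat.card A6 ≤ _ at c5
  omega

/-- An element of `G3` is determined by the images of six vectors. -/
theorem eq_of_base {g h : G3} (h0 : ψ g 120 = ψ h 120) (h1 : ψ g 462 = ψ h 462) (h2 : ψ g 5 = ψ h 5)
    (h3 : ψ g 183 = ψ h 183) (h4 : ψ g 387 = ψ h 387) (h5 : ψ g 0 = ψ h 0) : g = h := by
  have hK : ∀ x : G3, ψ x ∈ K0 := by
    intro x
    have h1 : (Subgroup.closure (Set.range m)).map ψ = K0 := by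
      rw [MonoidHom.map_closure, ← Set.range_comp]
      unfold K0
      congr 2
      funext k
      exact ψ_m k
    rw [← h1, closure_m]
    exact ⟨x, Subgroup.mem_top x, rfl⟩
  have key : ∀ b, ψ g b = ψ h b → ψ (h⁻¹ * g) b = b := by
    intro b hb
    rw [map_mul, map_inv, Equiv.Perm.mul_apply, hb]
    exact Equiv.symm_apply_apply _ _
  have hm : ψ (h⁻¹ * g) ∈ A6 :=
    ⟨⟨⟨⟨⟨⟨hK _, key _ h0⟩, key _ h1⟩, key _ h2⟩, key _ h3⟩, key _ h4⟩, key _ h5⟩
  have h6 : A6 = ⊥ := Subgroup.card_eq_one.1 card_A6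
  rw [h6, Subgroup.mem_bot] at hm
  have h7 : h⁻¹ * g = 1 := ψ_injective (hm.trans (map_one ψ).symm)
  rw [inv_mul_eq_one] at h7
  exact h7.symm

end Cfsg.Agent.CoThreeStd.BaseSix
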