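import Cfsg.Agent.CoThreeStd.OutAut
import Cfsg.Agent.CoThreeStd.Fusion

/-!
# S1750, centraliser of type `⟨t⟩ × M₁₂:2` (helper781)

`CtxO t c f`: `C_G(t) = ⟨t⟩ × f(M₁₂)⟨c⟩`, `c` an involution acting on `f(M₁₂)` as the outer automorphism `alpha`.
-/

set_option autoImplicit false

namespace Cfsg.Agent.CoThreeStd.OutCtx

open Cfsg.Agent.CoThreeStd.MTwelve Cfsg.Agent.CoThreeStd.OutAut

variable {G : Type*} [Group G]

/-- `C_G(t) = ⟨t⟩ × f(M₁₂)⟨c⟩`. -/
structure CtxO (t c : G) (f : H →* G) : Prop where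
  inj : Function.Injective f
  tt : t * t = 1
  t_ne : t ≠ 1
  comm : ∀ m, f m * t = t * f m
  nmem : ∀ m, f m ≠ t
  cc : c * c = 1
  ct : c * t = t * c
  act : ∀ m, c * f m * c⁻¹ = f (alpha m)
  cent : ∀ g, g * t = t * g → ∃ m, g = f m ∨ g = t * f m ∨ g = c * f m ∨ g = t * (c * f m)

variable {t c : G} {f : H →* G}

/-- `alpha` is not inner -/
theorem alpha_ne_inner (n : H) (h : ∀ m, alpha m = n * m * n⁻¹) : False := by
  have h1 : n * y = y * n := by
    have := h y
    rw [alpha_y] at this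
    exact (mul_inv_eq_iff_eq_mul.1 this.symm)
  obtain ⟨σ, hσ⟩ := cent_y n h1
  have h2 : ∀ τ : Cfsg.Agent.SporRec.Co3.P5, n * w τ * n⁻¹ = w (σ * τ * σ⁻¹) := by
    intro τ
    rcases hσ with rfl | rfl
    · rw [map_mul, map_mul, map_inv]
    · calc y * w σ * w τ * (y * w σ)⁻¹ = y * (w σ * w τ * (w σ)⁻¹) * y⁻¹ := by group
        _ = y * w (σ * τ * σ⁻¹) * y⁻¹ := by rw [map_mul, map_mul, map_inv]
        _ = _ := by rw [y_comm]; group
  have h3 := h (w (Equiv.swap 3 4))
  rw [h2, alpha_odd (Equiv.Perm.sign_swap (by decide))] at h3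
  apply y_ne_w (σ * Equiv.swap 3 4 * σ⁻¹ * (Equiv.swap 3 4)⁻¹)
  rw [map_mul, ← h3, map_inv, mul_inv_cancel_right]

namespace CtxO

theorem inv_t (h : CtxO t c f) : t⁻¹ = t := inv_eq_of_mul_eq_one_left h.tt
theorem inv_c (h : CtxO t c f) : c⁻¹ = c := inv_eq_of_mul_eq_one_left h.cc

theorem cf (h : CtxO t c f) (m : H) : c * f m = f (alpha m) * c := by
  rw [← h.act]; group

/-- `c` is not in `⟨t⟩ f(M₁₂)` -/
theorem c_ne (h : CtxO t c f) (n : H) : c ≠ f n ∧ c ≠ t * f n := by
  constructor
  · intro h1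
    apply alpha_ne_inner n
    intro m
    apply h.inj
    rw [← h.act, h1, map_mul, map_mul, map_inv]
  · intro h1
    apply alpha_ne_inner n
    intro m
    apply h.inj
    rw [← h.act, h1, map_mul, map_mul, map_inv]
    calc t * f n * f m * (t * f n)⁻¹ = t * (f n * f m * (f n)⁻¹) * t⁻¹ := by group
      _ = t * f (n * m * n⁻¹) * t⁻¹ := by rw [map_mul, map_mul, map_inv]
      _ = f (n * m * n⁻¹) * t * t⁻¹ := by rw [h.comm]
      _ = _ := by rw [map_mul, map_mul, map_inv]; group

end CtxO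

/-- the elements of `C_G(t)` -/
def El (t c : G) (f : H →* G) (x : Bool × Bool × H) : G :=
  (if x.1 then t else 1) * ((if x.2.1 then c else 1) * f x.2.2)

theorem El_comm (h : CtxO t c f) (x : Bool × Bool × H) : El t c f x * t = t * El t c f x := by
  obtain ⟨a, b, m⟩ := x
  have h1 : Commute (f m) t := h.comm m
  have h2 : Commute c t := h.ct
  show Commute ((if a then t else 1) * ((if b then c else 1) * f m)) t
  refine Commute.mul_left ?_ (Commute.mul_left ?_ h1)
  · split_ifs
    · exact Commute.refl t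
    · exact Commute.one_left t
  · split_ifs
    · exact h2
    · exact Commute.one_left t

theorem El_inj (h : CtxO t c f) : Function.Injective (El t c f) := by
  have hc := h.c_ne
  have key : ∀ m n : H, c * f m ≠ f n ∧ c * f m ≠ t * f n ∧ t * f m ≠ f n := by
    intro m n
    refine ⟨fun h1 => (hc (n * m⁻¹)).1 ?_, fun h1 => (hc (n * m⁻¹)).2 ?_, fun h1 => h.nmem (n * m⁻¹) ?_⟩
    · rw [map_mul, map_inv, ← h1, mul_inv_cancel_right]
    · rw [map_mul, map_inv, ← mul_assoc, ← h1, mul_inv_cancel_right]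
    · rw [map_mul, map_inv, ← h1, mul_inv_cancel_right]
  have tt := h.tt
  have k2 : ∀ m n : H, t * (c * f m) ≠ f n := by
    intro m n h1
    apply (key m n).2.1
    rw [← h1, ← mul_assoc, tt, one_mul]
  rintro ⟨a, b, m⟩ ⟨a', b', m'⟩ he
  cases a <;> cases a' <;> cases b <;> cases b' <;>
    simp only [El, if_true, if_false, one_mul, Bool.false_eq_true] at he
  · rw [h.inj he]
  · exact absurd he.symm (key _ _).1
  · exact absurd he (key _ _).1
  · rw [h.inj (mul_left_cancel he)]
  · exact absurd he.symm (key _ _).2.2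
  · exact absurd he.symm (k2 _ _)
  · exact absurd he (key _ _).2.1
  · exfalso
    have h1 : f m = t * f m' := by
      apply mul_left_cancel (a := c)
      rw [he, ← mul_assoc t, ← h.ct, mul_assoc]
    exact (key m' m).2.2 h1.symm
  · exact absurd he (key _ _).2.2
  · exact absurd he.symm (key _ _).2.1
  · exact absurd he (k2 _ _)
  · exfalso
    have h1 : t * f m = f m' := by
      apply mul_left_cancel (a := c)
      rw [← he, ← mul_assoc c t, h.ct, mul_assoc]
    exact (key m m').2.2 h1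
  · rw [h.inj (mul_left_cancel he)]
  · exact absurd (mul_left_cancel he).symm (key _ _).1
  · exact absurd (mul_left_cancel he) (key _ _).1
  · rw [h.inj (mul_left_cancel (mul_left_cancel he))]

theorem El_surj (h : CtxO t c f) (g : G) (hg : g * t = t * g) : ∃ x, El t c f x = g := by
  obtain ⟨m, h1 | h1 | h1 | h1⟩ := h.cent g hg
  · exact ⟨(false, false, m), by simp [El, h1]⟩
  · exact ⟨(true, false, m), by simp [El, h1]⟩
  · exact ⟨(false, true, m), by simp [El, h1]⟩
  · exact ⟨(true, true, m), by simp [El, h1]⟩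

theorem card_pred (h : CtxO t c f) (P : G → Prop) (Q : H → Prop) (hPQ : ∀ x, P (El t c f x) ↔ Q x.2.2) :
    Nat.card {g : G // g * t = t * g ∧ P g} = 4 * Nat.card {m : H // Q m} := by
  have h1 : Nat.card {g : G // g * t = t * g ∧ P g} = Nat.card (Bool × Bool × {m : H // Q m}) := by
    symm
    apply Nat.card_congr
    refine Equiv.ofBijective (fun x => ⟨El t c f (x.1, x.2.1, x.2.2.1), El_comm h _, (hPQ _).2 x.2.2.2⟩) ⟨?_, ?_⟩
    · rintro ⟨a, b, m, hm⟩ ⟨a', b', m', hm'⟩ he
      have := El_inj h (congrArg Subtype.val he)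
      simp only [Prod.mk.injEq] at this
      obtain ⟨rfl, rfl, rfl⟩ := this
      rfl
    · rintro ⟨g, hg, hP⟩
      obtain ⟨⟨a, b, m⟩, rfl⟩ := El_surj h g hg
      exact ⟨(a, b, ⟨m, (hPQ _).1 hP⟩), rfl⟩
  rw [h1, Nat.card_prod, Nat.card_prod]
  simp only [Nat.card_eq_fintype_card, Fintype.card_bool]
  ring

theorem card_cent [Finite G] (h : CtxO t c f) : Nat.card (Subgroup.centralizer ({t} : Set G)) = 4 * 95040 := by
  have h1 := card_pred h (fun _ => True) (fun _ => True) (fun _ => Iff.rfl)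
  rw [Nat.card_congr (Equiv.subtypeUnivEquiv (fun _ : H => trivial)), card_H] at h1
  rw [← h1]
  apply Nat.card_congr
  refine Equiv.subtypeEquivRight (fun g => ?_)
  rw [Subgroup.mem_centralizer_singleton_iff, and_true]

/-! ### the fixed points of `alpha` -/

theorem w_mul_inv_comm (τ : Cfsg.Agent.SporRec.Co3.P5) : w τ * y = y * w τ := (y_comm τ).symm

theorem sigma_alt : ∀ σ : Cfsg.Agent.SporRec.Co3.P5,
    σ * (Equiv.swap 0 1 * Equiv.swap 1 2) = (Equiv.swap 0 1 * Equiv.swap 1 2) * σ →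
    σ * (Equiv.swap 1 2 * Equiv.swap 2 3) = (Equiv.swap 1 2 * Equiv.swap 2 3) * σ →
    σ * (Equiv.swap 2 3 * Equiv.swap 3 4) = (Equiv.swap 2 3 * Equiv.swap 3 4) * σ → σ = 1 := by
  decide +kernel

/-- the fixed points of `alpha` commuting with `y` -/
theorem fix_cent {m : H} (h1 : alpha m = m) (h2 : m * y = y * m) :
    ∃ σ, Equiv.Perm.sign σ = 1 ∧ (m = w σ ∨ m = y * w σ) := by
  obtain ⟨σ, hσ⟩ := cent_y m h2
  refine ⟨σ, ?_, hσ⟩
  rcases Int.units_eq_one_or (Equiv.Perm.sign σ) with h3 | h3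
  · exact h3
  exfalso
  rcases hσ with rfl | rfl
  · rw [alpha_odd h3] at h1
    exact y_ne_one (mul_eq_right.1 h1)
  · rw [map_mul, alpha_y, alpha_odd h3, ← mul_assoc, y_sq, one_mul] at h1
    exact y_ne_one (mul_eq_right.1 h1.symm)

theorem card_fix_cent : Nat.card {m : H // alpha m = m ∧ m * y = y * m} = 120 := by
  have h1 : Nat.card {m : H // alpha m = m ∧ m * y = y * m} = Nat.card (Bool × alternatingGroup (Fin 5)) := by
    symm
    apply Nat.card_congr
    refine Equiv.ofBijective (fun x => ⟨(if x.1 then y else 1) * w x.2.1, ?_, ?_⟩) ⟨?_, ?_⟩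
    · have h3 := alpha_even (Equiv.Perm.mem_alternatingGroup.1 x.2.2)
      rw [map_mul, h3]
      split_ifs
      · rw [alpha_y]
      · rw [map_one]
    · have h3 := y_comm x.2.1
      split_ifs
      · rw [mul_assoc, h3]
      · rw [one_mul, h3]
    · rintro ⟨a, σ, hσ⟩ ⟨a', σ', hσ'⟩ he
      have he' : (if a then y else 1) * w σ = (if a' then y else 1) * w σ' := congrArg Subtype.val he
      cases a <;> cases a' <;> simp only [Bool.false_eq_true, if_false, if_true, one_mul] at he'
      · have := w_injective he'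
        subst this
        rfl
      · exfalso
        apply y_ne_w (σ * σ'⁻¹)
        rw [map_mul, he', map_inv, mul_inv_cancel_right]
      · exfalso
        apply y_ne_w (σ' * σ⁻¹)
        rw [map_mul, ← he', map_inv, mul_inv_cancel_right]
      · have := w_injective (mul_left_cancel he')
        subst this
        rfl
    · rintro ⟨m, hm1, hm2⟩
      obtain ⟨σ, hs, rfl | rfl⟩ := fix_cent hm1 hm2
      · exact ⟨(false, ⟨σ, Equiv.Perm.mem_alternatingGroup.2 hs⟩), by simp⟩
      · exact ⟨(true, ⟨σ, Equiv.Perm.mem_alternatingGroup.2 hs⟩), by simp⟩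
  rw [h1, Nat.card_prod, Nat.card_eq_fintype_card, Fintype.card_bool, nat_card_alternatingGroup]
  simp [Nat.factorial]

/-- the subgroup of fixed points -/
def Fix : Subgroup H where
  carrier := {m | alpha m = m}
  one_mem' := map_one alpha
  mul_mem' := by
    intro a b ha hb
    show alpha (a * b) = a * b
    rw [map_mul, show alpha a = a from ha, show alpha b = b from hb]
  inv_mem' := by
    intro a ha
    show alpha a⁻¹ = a⁻¹
    rw [map_inv, show alpha a = a from ha]

theorem mem_Fix {m : H} : m ∈ Fix ↔ alpha m = m := Iff.rfl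

theorem card_fix_ne : Nat.card {m : H // alpha m = m} ≠ 240 := by
  intro h240
  let K : Subgroup H := Fix ⊓ Subgroup.centralizer {y}
  have hK : Nat.card K = 120 := by
    rw [← card_fix_cent]
    apply Nat.card_congr
    refine Equiv.subtypeEquivRight (fun m => ?_)
    rw [Subgroup.mem_inf, mem_Fix, Subgroup.mem_centralizer_singleton_iff]
  have hF : Nat.card Fix = 240 := h240
  have hidx : (K.subgroupOf Fix).index = 2 := by
    have h1 := (K.subgroupOf Fix).card_mul_index
    rw [Nat.card_congr (Subgroup.subgroupOfEquivOfLe inf_le_left).toEquiv, hK, hF] at h1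
    omega
  have hN : (K.subgroupOf Fix).Normal := Subgroup.normal_of_index_eq_two hidx
  have hle : Fix ≤ K := by
    intro n hn
    refine Subgroup.mem_inf.2 ⟨hn, ?_⟩
    rw [Subgroup.mem_centralizer_singleton_iff]
    have hyF : y ∈ Fix := alpha_y
    have hyK : y ∈ K := Subgroup.mem_inf.2 ⟨hyF, Subgroup.mem_centralizer_singleton_iff.2 rfl⟩
    have hconj : ∀ (g : H), g ∈ Fix → ∀ k ∈ K, g * k * g⁻¹ ∈ K := by
      intro g hg k hk
      have := hN.conj_mem ⟨k, (Subgroup.mem_inf.1 hk).1⟩ (Subgroup.mem_subgroupOf.2 hk) ⟨g, hg⟩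
      exact Subgroup.mem_subgroupOf.1 this
    have h1 := hconj n hn y hyK
    obtain ⟨h2, h3⟩ := Subgroup.mem_inf.1 h1
    rw [Subgroup.mem_centralizer_singleton_iff] at h3
    obtain ⟨σ, hs, hσ⟩ := fix_cent (mem_Fix.1 h2) h3
    -- `n y n⁻¹` is central in `K`
    have hcen : ∀ τ, Equiv.Perm.sign τ = 1 → (n * y * n⁻¹) * w τ = w τ * (n * y * n⁻¹) := by
      intro τ hτ
      have h4 : w τ ∈ K := Subgroup.mem_inf.2 ⟨mem_Fix.2 (alpha_even hτ),
        Subgroup.mem_centralizer_singleton_iff.2 (y_comm τ).symm⟩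
      have h5 := hconj n⁻¹ (Fix.inv_mem hn) _ h4
      have h6 := Subgroup.mem_centralizer_singleton_iff.1 (Subgroup.mem_inf.1 h5).2
      rw [inv_inv] at h6
      calc (n * y * n⁻¹) * w τ = n * (y * (n⁻¹ * w τ * n)) * n⁻¹ := by group
        _ = n * ((n⁻¹ * w τ * n) * y) * n⁻¹ := by rw [h6]
        _ = _ := by group
    have hστ : ∀ τ, Equiv.Perm.sign τ = 1 → σ * τ = τ * σ := by
      intro τ hτ
      have h4 := hcen τ hτ
      apply w_injective
      rw [map_mul, map_mul]
      rcases hσ with h5 | h5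
      · rw [h5] at h4; exact h4
      · rw [h5] at h4
        apply mul_left_cancel (a := y)
        rw [← mul_assoc, h4, ← mul_assoc, ← mul_assoc, y_comm]
    have hσ1 : σ = 1 := sigma_alt σ (hστ _ (by decide +kernel)) (hστ _ (by decide +kernel))
      (hστ _ (by decide +kernel))
    rw [hσ1, map_one, mul_one] at hσ
    rcases hσ with h5 | h5
    · exfalso
      apply y_ne_one
      calc y = n⁻¹ * (n * y * n⁻¹) * n := by group
        _ = 1 := by rw [h5]; group
    · exact mul_inv_eq_iff_eq_mul.1 h5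
  have h1 := Subgroup.card_le_of_le hle
  rw [hF, hK] at h1
  omega

end Cfsg.Agent.CoThreeStd.OutCtx
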