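import Cfsg.Agent.CoThreeStd.DeltaAmb

/-!
# Pattern δ of S1750 does not occur (helper178)

`delta_false`: if `C_G(t) = ⟨t⟩ × M₁₂`, `t` is conjugate to `t b` (`b ∈ 2B`), then `t` is conjugate to `y` or to `t y`
(`y ∈ 2A`).
-/

set_option autoImplicit false

namespace Cfsg.Agent.CoThreeStd.Delta

open Cfsg.Agent.CoThreeStd.MTwelve hiding w cj
open Cfsg.Agent.CoThreeStd.DeltaData Cfsg.Agent.CoThreeStd.InvTwo Cfsg.Agent.CoThreeStd.Fusion
open Cfsg.Agent.CoThreeStd.DeltaRel Cfsg.Agent.CoThreeStd.DeltaLoc Cfsg.Agent.CoThreeStd.DeltaAmb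

/-- pattern δ -/
structure Pat {G : Type*} [Group G] (t : G) (f : H →* G) : Prop where
  c : Ctx t f
  noM : ∀ m, ¬ IsConj t (f m)
  tB : ∀ m, IsB m → IsConj t (t * f m)
  ntA : ∀ m, IsA m → ¬ IsConj t (t * f m)

section

variable {G : Type*} [Group G] {t : G} {f : H →* G}

theorem conj_fm (f : H →* G) {m m' : H} (c : Ctx t f) (h : ∃ k, k * m * k⁻¹ = m') :
    IsConj (t * f m) (t * f m') := by
  obtain ⟨k, rfl⟩ := h
  rw [isConj_iff]
  refine ⟨f k, ?_⟩
  rw [map_mul, map_mul, map_inv, ← mul_assoc, ← mul_assoc, ← mul_assoc, c.comm]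

theorem pat (c : Ctx t f) (h0 : IsConj t (t * f (p * r))) (h1 : ¬ IsConj t (f y))
    (h2 : ¬ IsConj t (t * f y)) : Pat t f where
  c := c
  noM := by
    intro m hm
    obtain ⟨g, hg⟩ := isConj_iff.1 hm
    have hmm : m * m = 1 := by
      apply c.inj
      rw [map_mul, ← hg, map_one]
      calc g * t * g⁻¹ * (g * t * g⁻¹) = g * (t * t) * g⁻¹ := by group
        _ = 1 := by rw [c.tt]; group
    have hm1 : m ≠ 1 := by
      rintro rfl
      rw [map_one] at hg
      apply c.t_ne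
      calc t = g⁻¹ * (g * t * g⁻¹) * g := by group
        _ = 1 := by rw [hg]; group
    rcases inv2.cases m hmm hm1 with hA | hB
    · apply h1
      refine hm.trans ?_
      obtain ⟨k, hk⟩ := inv2.conjA _ _ hA isA_y
      rw [isConj_iff]
      exact ⟨f k, by rw [← hk]; simp only [map_mul, map_inv]⟩
    · exact not_conj_b c inv2 hB hm
  tB := fun m hm => h0.trans (conj_fm f c (inv2.conjB _ _ isB_pr hm))
  ntA := fun m hm h => h2 (h.trans (conj_fm f c (inv2.conjA _ _ hm isA_y)))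

/-- `g : t ↦ t b, b ↦ b` -/
def Nor (t : G) (f : H →* G) (g : G) : Prop := cj g t = t * f be ∧ cj g (f be) = f be

/-- `x ^ g ∈ M` -/
def Good (f : H →* G) (g : G) (x : H) : Prop := ∃ m, cj g (f x) = f m

theorem Good.mul {g : G} {x x' : H} (h : Good f g x) (h' : Good f g x') : Good f g (x * x') := by
  obtain ⟨m, hm⟩ := h
  obtain ⟨m', hm'⟩ := h'
  exact ⟨m * m', by rw [map_mul, map_mul, hm, hm', map_mul]⟩

theorem Good.inv {g : G} {x : H} (h : Good f g x) : Good f g x⁻¹ := by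
  obtain ⟨m, hm⟩ := h
  exact ⟨m⁻¹, by rw [map_inv, map_inv, hm, map_inv]⟩

theorem tf_eq (c : Ctx t f) {m m' : H} (h : t * f m = t * f m') : m = m' := c.inj (mul_left_cancel h)

theorem Pat.td (h : Pat t f) {m : H} (hm : IsConj t (t * f m)) : m = 1 ∨ IsB m := by
  obtain ⟨g, hg⟩ := isConj_iff.1 hm
  by_cases h1 : m = 1
  · exact Or.inl h1
  right
  have hmm : m * m = 1 := by
    apply h.c.inj
    have h2 : (t * f m) * (t * f m) = 1 := by
      rw [← hg]
      calc g * t * g⁻¹ * (g * t * g⁻¹) = g * (t * t) * g⁻¹ := by group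
        _ = 1 := by rw [h.c.tt]; group
    have h3 : (t * f m) * (t * f m) = f m * f m := by
      calc (t * f m) * (t * f m) = t * (f m * t) * f m := by group
        _ = t * (t * f m) * f m := by rw [h.c.comm]
        _ = (t * t) * f m * f m := by group
        _ = _ := by rw [h.c.tt, one_mul]
    rw [map_mul, ← h3, h2, map_one]
  rcases inv2.cases m hmm h1 with hA | hB
  · exact absurd hm (h.ntA m hA)
  · exact hB

theorem comm_cj_inv {g x z : G} (h : z * cj g x = cj g x * z) : (g * z * g⁻¹) * x = x * (g * z * g⁻¹) := by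
  rw [cj_apply] at h
  calc (g * z * g⁻¹) * x = g * (z * (g⁻¹ * x * g)) * g⁻¹ := by group
    _ = g * ((g⁻¹ * x * g) * z) * g⁻¹ := by rw [h]
    _ = _ := by group

theorem exists_swap (h : Pat t f) : ∃ g, Nor t f g := by
  have c := h.c
  obtain ⟨g', hg'⟩ := isConj_iff.1 (h.tB be isB_be)
  obtain ⟨g, hg⟩ : ∃ g, g = g'⁻¹ := ⟨_, rfl⟩
  have hgt : cj g t = t * f be := by rw [cj_apply, hg, inv_inv, hg']
  have hbt : f be * t = t * f be := c.comm be
  have ht : t * cj g t = cj g t * t := by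
    rw [hgt, mul_assoc t, hbt]
  have hx := comm_cj_inv ht
  have hxc : IsConj t (g * t * g⁻¹) := isConj_iff.2 ⟨g, rfl⟩
  obtain ⟨m, hm⟩ := c.cent _ hx
  rcases hm with hm | hm
  · exact absurd (hm ▸ hxc) (h.noM m)
  have hxc' := hxc
  rw [hm] at hxc'
  rcases h.td hxc' with h1 | h1
  · exfalso
    rw [h1, map_one, mul_one] at hm
    have h2 : cj g t = t := by
      rw [cj_apply]
      nth_rewrite 1 [← hm]
      group
    rw [hgt] at h2
    have h3 := mul_eq_left.1 h2
    exact (inv2.invB be isB_be).2 (c.inj (by rw [h3, map_one]))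
  · obtain ⟨k, hk⟩ := inv2.conjB _ _ isB_be h1
    have ht0 : cj (f k)⁻¹ t = t := by
      apply cj_of_comm
      rw [← map_inv]
      exact (c.comm _).symm
    refine ⟨(f k)⁻¹ * g, ?_, ?_⟩
    · rw [← cj_cj, ht0, hgt]
    · have e1 : cj (f k)⁻¹ (t * f be) = g * t * g⁻¹ := by
        rw [hm, ← hk, cj_apply, inv_inv, map_mul, map_mul, map_inv, ← mul_assoc, ← mul_assoc, ← mul_assoc,
          c.comm]
      have e2 : cj ((f k)⁻¹ * g) (t * f be) = t := by
        rw [← cj_cj, e1, cj_apply]; group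
      have e3 : cj ((f k)⁻¹ * g) t = t * f be := by
        rw [← cj_cj, ht0, hgt]
      have e4 : f be = t * (t * f be) := by rw [← mul_assoc, c.tt, one_mul]
      calc cj ((f k)⁻¹ * g) (f be) = cj ((f k)⁻¹ * g) (t * (t * f be)) := by rw [← e4]
        _ = cj ((f k)⁻¹ * g) t * cj ((f k)⁻¹ * g) (t * f be) := map_mul _ _ _
        _ = t * f be * t := by rw [e2, e3]
        _ = t * (f be * t) := by group
        _ = t * (t * f be) := by rw [hbt]
        _ = f be := e4.symm

/-- if `x ∈ C(b)`, then `x ^ g ∈ C(t)` -/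
theorem Nor.cent {g : G} (n : Nor t f g) (c : Ctx t f) {x : H} (hx : x * be = be * x) :
    cj g (f x) * t = t * cj g (f x) ∧ cj g (f x) * f be = f be * cj g (f x) := by
  have h1 : cj g (f x) * cj g (f be) = cj g (f be) * cj g (f x) := by
    rw [← map_mul, ← map_mul, ← map_mul, ← map_mul, hx]
  rw [n.2] at h1
  refine ⟨?_, h1⟩
  have h2 : cj g (f x) * cj g t = cj g t * cj g (f x) := by
    rw [← map_mul, ← map_mul, c.comm]
  rw [n.1, ← mul_assoc] at h2
  have h3 : cj g (f x) * t * f be = t * cj g (f x) * f be := by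
    rw [h2, mul_assoc, mul_assoc, h1]
  exact mul_right_cancel h3

/-- elements of 2B commuting with `b` -/
theorem good_b (h : Pat t f) {g : G} (n : Nor t f g) {x : H} (hB : IsB x) (hx : x * be = be * x) :
    ∃ m, cj g (f x) = f m ∧ (x ≠ be → IsB (be * m)) := by
  have c := h.c
  obtain ⟨m, hm | hm⟩ := c.cent _ (n.cent c hx).1
  · refine ⟨m, hm, fun hne => ?_⟩
    have h1 : IsConj t (t * f (be * m)) := by
      have h2 := (h.tB x hB).trans (DeltaR.isConj_cj g _)
      rwa [map_mul, n.1, hm, mul_assoc, ← map_mul] at h2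
    rcases h.td h1 with h2 | h2
    · exfalso
      apply hne
      apply c.inj
      apply cj_injective g
      rw [hm, n.2]
      congr 1
      have : be * m = be * be := by rw [h2, e_bb]
      exact mul_left_cancel this
    · exact h2
  · exfalso
    have h2 := (h.tB x hB).trans (DeltaR.isConj_cj g _)
    have h3 : cj g (t * f x) = f (be * m) := by
      rw [map_mul, n.1, hm]
      calc t * f be * (t * f m) = t * (f be * t) * f m := by group
        _ = t * (t * f be) * f m := by rw [c.comm]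
        _ = (t * t) * (f be * f m) := by group
        _ = _ := by rw [c.tt, one_mul, map_mul]
    rw [h3] at h2
    exact h.noM _ h2

theorem good_B (h : Pat t f) {g : G} (n : Nor t f g) {x : H} (hB : IsB x) (hx : x * be = be * x) :
    Good f g x := by
  obtain ⟨m, hm, -⟩ := good_b h n hB hx
  exact ⟨m, hm⟩

theorem e_k1b : k1 * be = be * k1 := by rw [← e_k11, mul_assoc]
theorem e_k2b : k2 * be = be * k2 := by
  rw [← e_k11, ← mul_assoc, e_kk, mul_assoc, e_kk, mul_assoc]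
theorem e_k1v : k1 * v = v * k1 := by
  rw [← e_k22, ← mul_assoc, ← e_kk, mul_assoc, ← e_kk, mul_assoc]
theorem e_k2v : k2 * v = v * k2 := by rw [← e_k22, mul_assoc]

theorem e_k1_eq : k1 = (y * k2) * (y * (k1 * k2)) := by
  have := wd_eq (l := wk1) (l' := ([0] ++ wk2) ++ ([0] ++ (wk1 ++ wk2))) (by decide +kernel)
  simp only [wd_append, wd_y] at this; exact this
theorem e_k2_eq : k2 = (y * k1) * (y * (k1 * k2)) := by
  have := wd_eq (l := wk2) (l' := ([0] ++ wk1) ++ ([0] ++ (wk1 ++ wk2))) (by decide +kernel)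
  simp only [wd_append, wd_y] at this; exact this

theorem cm {x x' z : H} (h : x * z = z * x) (h' : x' * z = z * x') : (x * x') * z = z * (x * x') :=
  ((show Commute x z from h).mul_left h').eq

theorem good_k1 (h : Pat t f) {g : G} (n : Nor t f g) : Good f g k1 := by
  rw [e_k1_eq]
  exact (good_B h n isB_yk2 (cm e_yb e_k2b)).mul (good_B h n isB_yk1k2 (cm e_yb (cm e_k1b e_k2b)))

theorem good_k2 (h : Pat t f) {g : G} (n : Nor t f g) : Good f g k2 := by
  rw [e_k2_eq]
  exact (good_B h n isB_yk1 (cm e_yb e_k1b)).mul (good_B h n isB_yk1k2 (cm e_yb (cm e_k1b e_k2b)))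

theorem good_y (h : Pat t f) {g : G} (n : Nor t f g) : Good f g y := by
  have e : y = (y * k1) * k1⁻¹ := by group
  rw [e]
  exact (good_B h n isB_yk1 (cm e_yb e_k1b)).mul (good_k1 h n).inv

theorem good_v (h : Pat t f) {g : G} (n : Nor t f g) : Good f g v := good_B h n isB_v e_vb

theorem good_d (h : Pat t f) {g : G} (n : Nor t f g) : Good f g d := good_B h n isB_d e_db.symm

theorem e_x1 : wd [4, 5, 1, 2, 1, 4, 5, 4] * be = be * wd [4, 5, 1, 2, 1, 4, 5, 4] := by
  have := wd_eq (l := [4, 5, 1, 2, 1, 4, 5, 4] ++ wbe) (l' := wbe ++ [4, 5, 1, 2, 1, 4, 5, 4]) (by decide +kernel)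
  simp only [wd_append] at this; exact this
theorem e_x2 : wd [3, 2, 1, 5, 0, 5, 2, 1, 3, 5, 4] * be = be * wd [3, 2, 1, 5, 0, 5, 2, 1, 3, 5, 4] := by
  have := wd_eq (l := [3, 2, 1, 5, 0, 5, 2, 1, 3, 5, 4] ++ wbe) (l' := wbe ++ [3, 2, 1, 5, 0, 5, 2, 1, 3, 5, 4])
    (by decide +kernel)
  simp only [wd_append] at this; exact this

theorem good_p (h : Pat t f) {g : G} (n : Nor t f g) : Good f g p := by
  rw [p_eq]
  exact ((good_v h n).mul (good_B h n isB_x1 e_x1)).mul (good_B h n isB_x2 e_x2)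

/-- adjust `g` such that `v` is fixed -/
theorem exists_v (h : Pat t f) : ∃ g, Nor t f g ∧ cj g (f v) = f v := by
  have c := h.c
  obtain ⟨g, n⟩ := exists_swap h
  obtain ⟨m, hm⟩ := good_k2 h n
  have hmb : m * be = be * m := by
    apply c.inj
    rw [map_mul, map_mul, ← hm]
    exact (n.cent c e_k2b).2
  have hmm : cj g (f v) = f (m * m) := by rw [map_mul, ← hm, ← map_mul, ← map_mul, e_k22]
  have h4 : m ^ 4 = 1 := by
    have : m ^ 4 = (m * m) * (m * m) := by rw [← pow_two, ← pow_two, ← pow_mul]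
    rw [this]
    apply c.inj
    rw [map_mul, ← hmm, ← map_mul, ← map_mul, e_vv, map_one, map_one]
  have h2 : m * m ≠ 1 := by
    intro h1
    rw [h1, map_one] at hmm
    apply e_v1
    apply c.inj
    apply cj_injective g
    rw [hmm, map_one, map_one]
  obtain ⟨m', hm', hB⟩ := good_b h n isB_v e_vb
  have hmm' : m' = m * m := c.inj (by rw [← hm', hmm])
  rw [hmm'] at hB
  obtain ⟨k, hk1, hk2⟩ := sq_conj m hmb h4 h2 (hB e_bv1.symm)
  have hkt : cj (f k) t = t := cj_of_comm (c.comm k).symm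
  have hkb : cj (f k) (f be) = f be := by
    apply cj_of_comm
    rw [← map_mul, ← map_mul, hk1]
  refine ⟨g * f k, ⟨?_, ?_⟩, ?_⟩
  · rw [← cj_cj, n.1, map_mul, hkt, hkb]
  · rw [← cj_cj, n.2, hkb]
  · rw [← cj_cj, hmm, cj_apply, ← map_inv, ← map_mul, ← map_mul, hk2]

def test5 (i j : Fin 4) (l : Fin 2) : Bool :=
  !(eqW (wijl i j l ++ wijl i j l) []) || hasFix (wbe ++ wijl i j l) || eqW (wijl i j l) [0] ||
    eqW (wijl i j l) ([0] ++ wbe) || eqW (wijl i j l) ([0] ++ wv) || eqW (wijl i j l) ([0] ++ (wbe ++ wv))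

set_option maxRecDepth 100000 in
theorem test5_all : ∀ i j : Fin 4, ∀ l : Fin 2, test5 i j l = true := by decide +kernel

theorem mem_yV {m : H} (h1 : m * be = be * m) (h2 : m * v = v * m) (h3 : m * m = 1) (h4 : be * m ≠ 1)
    (h5 : ¬ IsB (be * m)) : ∃ u, InV be v u ∧ m = y * u := by
  obtain ⟨i, j, l, hl⟩ := cent_bv m h1 h2
  rw [← wd_wijl] at hl
  have h6 := test5_all i j l
  rw [test5, Bool.or_eq_true, Bool.or_eq_true, Bool.or_eq_true, Bool.or_eq_true, Bool.or_eq_true] at h6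
  rcases h6 with ((((h6 | h6) | h6) | h6) | h6) | h6
  · exfalso
    have h7 : eqW (wijl i j l ++ wijl i j l) [] = true := by
      apply eqW_of_wd
      rw [wd_append, ← hl, h3, wd_nil]
    rw [h7] at h6
    exact Bool.noConfusion h6
  · exfalso
    have h7 := not_isA_of_hasFix h6
    rw [wd_append, ← hl] at h7
    rcases inv2.cases (be * m) (by
      calc be * m * (be * m) = be * (m * be) * m := by group
        _ = be * (be * m) * m := by rw [h1]
        _ = (be * be) * (m * m) := by group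
        _ = 1 := by rw [e_bb, h3, one_mul]) h4 with h8 | h8
    · exact h7 h8
    · exact h5 h8
  · exact ⟨1, Or.inl rfl, by rw [hl, wd_eq h6, wd_y, mul_one]⟩
  · exact ⟨be, Or.inr (Or.inl rfl), by rw [hl, wd_eq h6, wd_append, wd_y]; rfl⟩
  · exact ⟨v, Or.inr (Or.inr (Or.inl rfl)), by rw [hl, wd_eq h6, wd_append, wd_y]; rfl⟩
  · exact ⟨be * v, Or.inr (Or.inr (Or.inr rfl)), by rw [hl, wd_eq h6, wd_append, wd_append, wd_y]; rfl⟩

/-- `yu` is conjugate to `y` in `⟨k1, k2⟩` -/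
theorem conj_yV {u : H} (hu : InV be v u) : ∃ k, k * be = be * k ∧ k * v = v * k ∧ k⁻¹ * (y * u) * k = y := by
  have a1 : k1⁻¹ * y * k1 = y * be := by
    rw [mul_assoc, e_yk1]; group
  have a2 : k2⁻¹ * y * k2 = y * v := by
    rw [mul_assoc, e_yk2]; group
  have b1 : k1⁻¹ * be * k1 = be := by rw [mul_assoc, ← e_k1b]; group
  have b2 : k2⁻¹ * v * k2 = v := by rw [mul_assoc, ← e_k2v]; group
  have b3 : k1⁻¹ * v * k1 = v := by rw [mul_assoc, ← e_k1v]; group
  have c1 : k1⁻¹ * (y * be) * k1 = y := by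
    calc k1⁻¹ * (y * be) * k1 = (k1⁻¹ * y * k1) * (k1⁻¹ * be * k1) := by group
      _ = y * (be * be) := by rw [a1, b1]; group
      _ = y := by rw [e_bb, mul_one]
  have c2 : k2⁻¹ * (y * v) * k2 = y := by
    calc k2⁻¹ * (y * v) * k2 = (k2⁻¹ * y * k2) * (k2⁻¹ * v * k2) := by group
      _ = y * (v * v) := by rw [a2, b2]; group
      _ = y := by rw [e_vv, mul_one]
  rcases hu with rfl | rfl | rfl | rfl
  · exact ⟨1, by rw [one_mul, mul_one], by rw [one_mul, mul_one], by group⟩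
  · exact ⟨k1, e_k1b, e_k1v, c1⟩
  · exact ⟨k2, e_k2b, e_k2v, c2⟩
  · refine ⟨k1 * k2, cm e_k1b e_k2b, cm e_k1v e_k2v, ?_⟩
    calc (k1 * k2)⁻¹ * (y * (be * v)) * (k1 * k2)
        = k2⁻¹ * ((k1⁻¹ * (y * be) * k1) * (k1⁻¹ * v * k1)) * k2 := by group
      _ = y := by rw [c1, b3, c2]

theorem exists_over (h : Pat t f) : ∃ X, Over t (f be) (f v) (f y) (f be) X := by
  have c := h.c
  obtain ⟨g, n, hv⟩ := exists_v h
  obtain ⟨m, hm⟩ := good_y h n
  have hmb : m * be = be * m := by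
    apply c.inj
    rw [map_mul, map_mul, ← hm]
    exact (n.cent c e_yb).2
  have hmv : m * v = v * m := by
    apply c.inj
    rw [map_mul, map_mul, ← hm, ← hv, ← map_mul, ← map_mul, ← map_mul, ← map_mul, e_yv]
  have hmm : m * m = 1 := by
    apply c.inj
    rw [map_mul, ← hm, ← map_mul, ← map_mul, y_sq, map_one, map_one]
  have h4 : be * m ≠ 1 := by
    intro h1
    have h2 : m = be := by
      have : be * m = be * be := by rw [h1, e_bb]
      exact mul_left_cancel this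
    rw [h2, ← n.2] at hm
    exact e_y1 (Or.inr (Or.inl (c.inj (cj_injective g hm))))
  have h5 : ¬ IsB (be * m) := by
    intro h1
    apply h.ntA y isA_y
    have h2 := h.tB _ h1
    have h3 : cj g (t * f y) = t * f (be * m) := by
      rw [map_mul, n.1, hm, mul_assoc, ← map_mul]
    rw [← h3] at h2
    exact h2.trans (DeltaR.isConj_cj g _).symm
  obtain ⟨u, hu, hmu⟩ := mem_yV hmb hmv hmm h4 h5
  obtain ⟨k, hkb, hkv, hky⟩ := conj_yV hu
  have hkt' : cj (f k) t = t := cj_of_comm (c.comm k).symm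
  have hkb' : cj (f k) (f be) = f be := by
    apply cj_of_comm
    rw [← map_mul, ← map_mul, hkb]
  have hkv' : cj (f k) (f v) = f v := by
    apply cj_of_comm
    rw [← map_mul, ← map_mul, hkv]
  refine ⟨g * f k, ?_, ?_, ?_, ?_⟩
  · rw [← cj_cj, n.1, map_mul, hkt', hkb']
  · exact (comm_of_cj (by rw [← cj_cj, n.2, hkb'])).symm
  · exact (comm_of_cj (by rw [← cj_cj, hv, hkv'])).symm
  · refine (comm_of_cj ?_).symm
    rw [← cj_cj, hm, hmu, cj_apply, ← map_inv, ← map_mul, ← map_mul, hky]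

def test6 (x y' : List ℕ) (i j : Fin 4) (l : Fin 2) : Bool :=
  !(eqW (wijl i j l ++ wijl i j l) y') || eqW (wijl i j l) x || eqW (wijl i j l) (x ++ wbe) ||
    eqW (wijl i j l) (x ++ wv) || eqW (wijl i j l) (x ++ (wbe ++ wv))

set_option maxRecDepth 100000 in
theorem test6_k1 : ∀ i j : Fin 4, ∀ l : Fin 2, test6 wk1 wbe i j l = true := by decide +kernel

set_option maxRecDepth 100000 in
theorem test6_k2 : ∀ i j : Fin 4, ∀ l : Fin 2, test6 wk2 wv i j l = true := by decide +kernel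

theorem mem_xV {x y' : List ℕ} (ht : ∀ i j : Fin 4, ∀ l : Fin 2, test6 x y' i j l = true) {m : H}
    (h1 : m * be = be * m) (h2 : m * v = v * m) (h3 : m * m = wd y') : ∃ u, InV be v u ∧ m = wd x * u := by
  obtain ⟨i, j, l, hl⟩ := cent_bv m h1 h2
  rw [← wd_wijl] at hl
  have h6 := ht i j l
  rw [test6, Bool.or_eq_true, Bool.or_eq_true, Bool.or_eq_true, Bool.or_eq_true] at h6
  rcases h6 with (((h6 | h6) | h6) | h6) | h6
  · exfalso
    have h7 : eqW (wijl i j l ++ wijl i j l) y' = true := by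
      apply eqW_of_wd
      rw [wd_append, ← hl, h3]
    rw [h7] at h6
    exact Bool.noConfusion h6
  · exact ⟨1, Or.inl rfl, by rw [hl, wd_eq h6, mul_one]⟩
  · exact ⟨be, Or.inr (Or.inl rfl), by rw [hl, wd_eq h6, wd_append]; rfl⟩
  · exact ⟨v, Or.inr (Or.inr (Or.inl rfl)), by rw [hl, wd_eq h6, wd_append]; rfl⟩
  · exact ⟨be * v, Or.inr (Or.inr (Or.inr rfl)), by rw [hl, wd_eq h6, wd_append, wd_append]; rfl⟩

theorem over_nor {X : G} (o : Over t (f be) (f v) (f y) (f be) X) : Nor t f X :=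
  ⟨o.1, cj_of_comm o.2.1.symm⟩

/-- `k ^ X` centralises `b`, `v` -/
theorem over_k (c : Ctx t f) {X : G} (o : Over t (f be) (f v) (f y) (f be) X) {k m : H}
    (h1 : k * be = be * k) (h2 : k * v = v * k) (hm : cj X (f k) = f m) : m * be = be * m ∧ m * v = v * m := by
  have hv : cj X (f v) = f v := cj_of_comm o.2.2.1.symm
  constructor
  · apply c.inj
    rw [map_mul, map_mul, ← hm]
    exact ((over_nor o).cent c h1).2
  · apply c.inj
    rw [map_mul, map_mul, ← hm, ← hv, ← map_mul, ← map_mul, ← map_mul, ← map_mul, h2]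

theorem exists_xok (h : Pat t f) : ∃ X u1 u2 c u,
    XOK t (f be) (f v) (f y) (f k1) (f k2) (f p) (f q) X u1 u2 c u := by
  have c := h.c
  have A := amb c
  obtain ⟨X0, o0⟩ := exists_over h
  obtain ⟨τ, c0, hτ, hc0, o, hprod⟩ := A.exists_norm o0
  obtain ⟨X, hX⟩ : ∃ X, X = X0 * (τ * c0) := ⟨_, rfl⟩
  rw [← hX] at o hprod
  have n := over_nor o
  obtain ⟨m1, hm1⟩ := good_k1 h n
  obtain ⟨m2, hm2⟩ := good_k2 h n
  obtain ⟨m3, hm3⟩ := good_p h n
  have Xb : cj X (f be) = f be := n.2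
  have Xv : cj X (f v) = f v := cj_of_comm o.2.2.1.symm
  have Xy : cj X (f y) = f y := cj_of_comm o.2.2.2.symm
  obtain ⟨a1, a2⟩ := over_k c o e_k1b e_k1v hm1
  obtain ⟨a3, a4⟩ := over_k c o e_k2b e_k2v hm2
  have s1 : m1 * m1 = wd wbe := by
    apply c.inj
    rw [map_mul, ← hm1, ← map_mul, ← map_mul, e_k11, n.2]; rfl
  have s2 : m2 * m2 = wd wv := by
    apply c.inj
    rw [map_mul, ← hm2, ← map_mul, ← map_mul, e_k22, Xv]; rfl
  obtain ⟨u1, hu1, hm1'⟩ := mem_xV test6_k1 a1 a2 s1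
  obtain ⟨u2, hu2, hm2'⟩ := mem_xV test6_k2 a3 a4 s2
  -- `p`
  have g1 : ∀ {z z' : H}, cj X (f z) = f z → cj X (f z') = f z' → z * p = p * z' → z * m3 = m3 * z' := by
    intro z z' hz hz' hzp
    apply c.inj
    rw [map_mul, map_mul, ← hm3, ← hz, ← hz', ← map_mul, ← map_mul, ← map_mul, ← map_mul, hzp]
  have Xbv : cj X (f (be * v)) = f (be * v) := by rw [map_mul, map_mul, Xb, Xv]
  have g2 := g1 Xb Xb e_pb
  have g3 := g1 Xv Xbv e_pv
  have g4 := g1 Xy Xy e_py
  have g5 : ∀ {z z' : H}, z * p = p * z' → z * m3 = m3 * z' → z' * p = p * z →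
      (p⁻¹ * m3) * z' = z' * (p⁻¹ * m3) := by
    intro z z' h1 h2 h3
    calc (p⁻¹ * m3) * z' = p⁻¹ * (m3 * z') := by group
      _ = p⁻¹ * (z * m3) := by rw [h2]
      _ = p⁻¹ * (z * p) * p⁻¹ * m3 := by group
      _ = p⁻¹ * (p * z') * p⁻¹ * m3 := by rw [h1]
      _ = _ := by group
  have pvb : (be * v) * p = p * v := by
    rw [mul_assoc, e_pv, ← mul_assoc, e_pb, mul_assoc, ← mul_assoc be, e_bb, one_mul]
  have g6 := g5 e_pb g2 e_pb
  have g7 := g5 e_pv g3 pvb
  have g8 := g5 e_py g4 e_py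
  have g9 : (p⁻¹ * m3) * v = v * (p⁻¹ * m3) := by
    have : v = be * (be * v) := by rw [← mul_assoc, e_bb, one_mul]
    rw [this, ← mul_assoc, g6, mul_assoc, g7, ← mul_assoc]
  obtain ⟨i, j, l, hl⟩ := cent_byv _ g6 g9 g8
  have hV := inV_pow i j
  have hvy : (be ^ i.1 * v ^ j.1) * y ^ l.1 = y ^ l.1 * (be ^ i.1 * v ^ j.1) := by
    rcases pow_y l y with h | h <;> rw [h]
    · simp
    · exact (hV.comm e_yb e_yv).symm
  refine ⟨X, f u1, f u2, f (y ^ l.1), f (be ^ i.1 * v ^ j.1),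
    { ov := o
      prod := hprod
      hu1 := inV_map f hu1
      hu2 := inV_map f hu2
      hc := ?_
      hu := inV_map f hV
      k1X := ?_
      k2X := ?_
      pX := ?_ }⟩
  · rcases pow_y l y with h | h <;> rw [h]
    · left; exact map_one f
    · right; rfl
  · rw [hm1, hm1', map_mul]; rfl
  · rw [hm2, hm2', map_mul]; rfl
  · rw [hm3, ← map_mul, ← map_mul, ← hvy, ← hl]
    congr 1
    group

theorem false_of_pat (h : Pat t f) : False := by
  have c := h.c
  have A := amb c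
  obtain ⟨X, u1, u2, c0, u, hX⟩ := exists_xok h
  obtain ⟨c', fl, l, hc', hs⟩ := A.exists_s hX
  obtain ⟨s, hs'⟩ : ∃ s, s = X * c' := ⟨_, rfl⟩
  rw [← hs'] at hs
  have o := hs.ov
  have n := over_nor o
  obtain ⟨m, hm⟩ := good_d h n
  have hd : ∃ w1, InW (f be) (f v) (f w) w1 ∧ cj (f d) s = s * w1 := by
    have hsd : cj (f d) s = s * (f m⁻¹ * f d) := by
      rw [map_inv, ← hm, cj_apply, cj_apply]; group
    have sb : cj s (f be) = f be := n.2
    have sv : cj s (f v) = f v := cj_of_comm o.2.2.1.symm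
    have sk1 : cj s (f k1) = f k1 := hs.k1s
    have sy : cj s (f y) = f y := cj_of_comm o.2.2.2.symm
    have sw : cj s (f w) = f w := by rw [w, map_mul, map_mul, sy, sk1]
    have g1 : ∀ {z z' : H}, cj s (f z) = f z → cj s (f z') = f z' → z * d = d * z' →
        z * m = m * z' := by
      intro z z' hz hz' hzp
      apply c.inj
      rw [map_mul, map_mul, ← hm, ← hz, ← hz', ← map_mul, ← map_mul, ← map_mul, ← map_mul, hzp]
    have g5 : ∀ {z z' : H}, z * d = d * z' → z * m = m * z' →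
        (f m⁻¹ * f d) * f z' = f z' * (f m⁻¹ * f d) := by
      intro z z' h1 h2
      have h3 : (m⁻¹ * d) * z' = z' * (m⁻¹ * d) := by
        calc (m⁻¹ * d) * z' = m⁻¹ * (d * z') := by group
          _ = m⁻¹ * (z * d) := by rw [h1]
          _ = m⁻¹ * (z * m) * m⁻¹ * d := by group
          _ = m⁻¹ * (m * z') * m⁻¹ * d := by rw [h2]
          _ = _ := by group
      rw [← map_mul, ← map_mul, ← map_mul, h3]
    have e1 := g5 e_db (g1 sb sb e_db)
    have e2 := g5 e_dv (g1 sv sw e_dv)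
    have e3 := g5 e_dw (g1 sw sv e_dw)
    obtain ⟨τ, e, hτ, he, hte⟩ := A.centW (f m⁻¹ * f d) (by rw [← map_mul]; exact c.comm _) e1 e3 e2
    refine ⟨_, ?_, hsd⟩
    rcases hτ with h0 | h0
    · rw [hte, h0, one_mul]; exact he
    · exfalso
      obtain ⟨m', -, hm'⟩ := inW_mem he
      apply c.nmem (m⁻¹ * d * m'⁻¹)
      rw [map_mul, map_mul, hte, h0, hm', map_inv, mul_inv_cancel_right]
  obtain ⟨a, a', ha, ha', hconj⟩ := DeltaR.final A hs hd
  obtain ⟨m1, hm1, rfl⟩ := inV_mem ha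
  obtain ⟨m2, hm2, rfl⟩ := inV_mem ha'
  have hA : IsA (y * m1) := by
    rcases hm1 with rfl | rfl | rfl | rfl
    · rw [mul_one]; exact isA_y1
    · exact isA_ybe
    · exact isA_yv
    · exact isA_ybev
  have hB : IsB (y * (k1 * k2) * m2) := by
    rcases hm2 with rfl | rfl | rfl | rfl
    · rw [mul_one]; exact isB_yk1k2
    · exact isB_yk1k2be
    · exact isB_yk1k2v
    · exact isB_yk1k2bev
  have h1 := h.tB _ hB
  rw [← map_mul, ← map_mul, ← map_mul, ← map_mul] at hconj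
  exact h.ntA _ hA (h1.trans hconj.symm)

/-- pattern δ does not occur -/
theorem delta_false (c : Ctx t f) (h0 : IsConj t (t * f (p * r))) (h1 : ¬ IsConj t (f y))
    (h2 : ¬ IsConj t (t * f y)) : False := false_of_pat (pat c h0 h1 h2)

end

end Cfsg.Agent.CoThreeStd.Delta
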