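import Mathlib

/-!
# Small abstract lemmas for the assembly of S1750

Sylow-type statements phrased with explicit conjugating elements, closures of two or three
commuting involutions, and conjugation of membership in closures.
-/

namespace Cfsg.Agent.CoThreeStd.SylLem

open Subgroup
open scoped Pointwise

variable {K : Type*} [Group K]

/-- (L1) A `2`-group `S` in which every `2`-subgroup of `K` can be conjugated, contained in `N`:
every `2`-subgroup of `N` can be conjugated into `S` by an element of `N`. -/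
theorem syl_in [Finite K] {S N : Subgroup K} (hS : IsPGroup 2 S)
    (hsyl : ∀ R : Subgroup K, IsPGroup 2 R → ∃ c : K, ∀ r ∈ R, c⁻¹ * r * c ∈ S)
    (hSN : S ≤ N) :
    ∀ R : Subgroup K, IsPGroup 2 R → R ≤ N → ∃ c ∈ N, ∀ r ∈ R, c⁻¹ * r * c ∈ S := by
  classical
  intro R hR hRN
  -- `S` is a Sylow `2`-subgroup of `K`
  have hmax : ∀ Q : Subgroup K, IsPGroup 2 Q → Nat.card Q ≤ Nat.card S := by
    intro Q hQ
    obtain ⟨c, hc⟩ := hsyl Q hQ
    let f : Q → S := fun q => ⟨c⁻¹ * (q : K) * c, hc q q.2⟩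
    refine Nat.card_le_card_of_injective f ?_
    intro a b hab
    have h1 : c⁻¹ * (a : K) * c = c⁻¹ * (b : K) * c := congrArg Subtype.val hab
    have h2 : (a : K) = b := by
      have := congrArg (fun u => c * u * c⁻¹) h1
      simpa [mul_assoc] using this
    exact Subtype.ext h2
  -- Sylow subgroups of `N`
  have hS' : IsPGroup 2 (S.subgroupOf N) := hS.comap_of_injective N.subtype N.subtype_injective
  have hR' : IsPGroup 2 (R.subgroupOf N) := hR.comap_of_injective N.subtype N.subtype_injective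
  obtain ⟨P, hP⟩ := hS'.exists_le_sylow
  obtain ⟨Q, hQ⟩ := hR'.exists_le_sylow
  have hPS : (P : Subgroup N) = S.subgroupOf N := by
    have h1 : IsPGroup 2 ((P : Subgroup N).map N.subtype) := P.2.map N.subtype
    have h2 := hmax _ h1
    have h3 : S ≤ (P : Subgroup N).map N.subtype := by
      intro s hs
      exact ⟨⟨s, hSN hs⟩, hP hs, rfl⟩
    have h4 : S = (P : Subgroup N).map N.subtype :=
      Subgroup.eq_of_le_of_card_ge h3 h2
    apply le_antisymm _ hP
    intro x hx
    have : (x : K) ∈ (P : Subgroup N).map N.subtype := ⟨x, hx, rfl⟩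
    rw [← h4] at this
    exact this
  obtain ⟨n, hn⟩ := MulAction.exists_smul_eq N P Q
  refine ⟨n, n.2, ?_⟩
  intro r hr
  have h1 : (⟨r, hRN hr⟩ : N) ∈ (Q : Subgroup N) := hQ hr
  rw [← hn] at h1
  have h2 : (⟨r, hRN hr⟩ : N) ∈ MulAut.conj n • (P : Subgroup N) := by
    simpa [Sylow.smul_def, Sylow.pointwise_smul_def] using h1
  rw [Subgroup.mem_pointwise_smul_iff_inv_smul_mem] at h2
  have h3 : n⁻¹ * ⟨r, hRN hr⟩ * n ∈ (P : Subgroup N) := by
    simpa [MulAut.smul_def] using h2
  rw [hPS] at h3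
  exact h3

/-- (L1') -/
theorem syl_of_card [Finite K] {S : Subgroup K} {n m : ℕ} (h1 : Nat.card S = 2 ^ n)
    (h2 : Nat.card K = 2 ^ n * m) (hm : ¬ 2 ∣ m) :
    IsPGroup 2 S ∧ ∀ R : Subgroup K, IsPGroup 2 R → ∃ c : K, ∀ r ∈ R, c⁻¹ * r * c ∈ S := by
  classical
  have hS : IsPGroup 2 S := IsPGroup.of_card h1
  refine ⟨hS, ?_⟩
  intro R hR
  have : Fact (Nat.Prime 2) := ⟨Nat.prime_two⟩
  obtain ⟨P, hP⟩ := hS.exists_le_sylow
  obtain ⟨Q, hQ⟩ := hR.exists_le_sylow
  have hPS : S = (P : Subgroup K) := by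
    refine Subgroup.eq_of_le_of_card_ge hP ?_
    obtain ⟨k, hk⟩ := IsPGroup.iff_card.mp P.2
    rw [hk, h1]
    have h3 : 2 ^ k ∣ 2 ^ n * m := by
      rw [← hk, ← h2]
      exact Subgroup.card_subgroup_dvd_card _
    have h4 : Nat.Coprime (2 ^ k) m := by
      apply Nat.Coprime.pow_left
      exact (Nat.Prime.coprime_iff_not_dvd Nat.prime_two).mpr hm
    exact Nat.le_of_dvd (by positivity) (h4.dvd_of_dvd_mul_right h3)
  obtain ⟨n, hn⟩ := MulAction.exists_smul_eq K P Q
  refine ⟨n, ?_⟩
  intro r hr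
  have h1 : r ∈ (Q : Subgroup K) := hQ hr
  rw [← hn] at h1
  have h2 : r ∈ MulAut.conj n • (P : Subgroup K) := by
    simpa [Sylow.smul_def, Sylow.pointwise_smul_def] using h1
  rw [Subgroup.mem_pointwise_smul_iff_inv_smul_mem] at h2
  have h3 : n⁻¹ * r * n ∈ (P : Subgroup K) := by
    simpa [MulAut.smul_def] using h2
  rw [hPS]
  exact h3

/-- (L2) -/
theorem two_closure {g : K} {n : ℕ} (h : g ^ 2 ^ n = 1) :
    IsPGroup 2 (Subgroup.closure ({g} : Set K)) := by
  intro x
  obtain ⟨x, hx⟩ := x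
  rw [Subgroup.mem_closure_singleton] at hx
  obtain ⟨k, rfl⟩ := hx
  refine ⟨n, ?_⟩
  apply Subtype.ext
  show (g ^ k) ^ 2 ^ n = 1
  rw [← zpow_natCast, zpow_comm, zpow_natCast, h, one_zpow]

/-- (L3) -/
theorem two_closure3 {u u' x : K} (hu : (u * u) * (u * u) = 1) (hu' : (u' * u') * (u' * u') = 1)
    (hx : x * x = 1) (h1 : u * u' = u' * u) (h2 : x * u = u * x) (h3 : x * u' * x = u'⁻¹) :
    IsPGroup 2 (Subgroup.closure ({u, u', x} : Set K)) := by
  have h1c : Commute u u' := h1
  have h2c : Commute x u := h2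
  have hxi : x⁻¹ = x := inv_eq_of_mul_eq_one_left hx
  have h3' : x * u' * x⁻¹ = u'⁻¹ := by rw [hxi]; exact h3
  have h3a : x * u' = u'⁻¹ * x := by
    rw [← h3']; group
  -- the normal form
  have key : ∀ y ∈ Subgroup.closure ({u, u', x} : Set K),
      ∃ i j k : ℤ, y = u ^ i * u' ^ j * x ^ k := by
    intro y hy
    have hxj : ∀ j k : ℤ, x ^ k * u' ^ j = u' ^ (if k % 2 = 0 then j else -j) * x ^ k := by
      intro j k
      have hxx : ∀ j : ℤ, x * u' ^ j = u' ^ (-j) * x := by
        intro j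
        have : x * u' ^ j * x⁻¹ = (x * u' * x⁻¹) ^ j := by
          rw [← MulAut.conj_apply, map_zpow, MulAut.conj_apply]
        rw [h3', inv_zpow, ← zpow_neg] at this
        rw [← this]; group
      rcases Int.emod_two_eq_zero_or_one k with hk | hk
      · obtain ⟨l, rfl⟩ : ∃ l, k = 2 * l := ⟨k / 2, by omega⟩
        have : x ^ (2 * l) = 1 := by
          rw [zpow_mul, zpow_ofNat, pow_two, hx, one_zpow]
        simp [this]
      · obtain ⟨l, rfl⟩ : ∃ l, k = 2 * l + 1 := ⟨k / 2, by omega⟩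
        have : x ^ (2 * l) = 1 := by
          rw [zpow_mul, zpow_ofNat, pow_two, hx, one_zpow]
        rw [zpow_add, this, one_mul, zpow_one, hxx]
        simp [hk]
    induction hy using Subgroup.closure_induction with
    | mem y hy =>
      rcases hy with rfl | rfl | hy
      · exact ⟨1, 0, 0, by simp⟩
      · exact ⟨0, 1, 0, by simp⟩
      · rw [Set.mem_singleton_iff] at hy
        subst hy
        exact ⟨0, 0, 1, by simp⟩
    | one => exact ⟨0, 0, 0, by simp⟩
    | mul a b _ _ ha hb =>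
      obtain ⟨i, j, k, rfl⟩ := ha
      obtain ⟨i', j', k', rfl⟩ := hb
      refine ⟨i + i', j + (if k % 2 = 0 then j' else -j'), k + k', ?_⟩
      have e1 : x ^ k * u ^ i' = u ^ i' * x ^ k := (h2c.zpow_zpow k i').eq
      have e2 : u' ^ j * u ^ i' = u ^ i' * u' ^ j := (h1c.symm.zpow_zpow j i').eq
      calc u ^ i * u' ^ j * x ^ k * (u ^ i' * u' ^ j' * x ^ k')
          = u ^ i * u' ^ j * (x ^ k * u ^ i') * u' ^ j' * x ^ k' := by simp only [mul_assoc]
        _ = u ^ i * (u' ^ j * u ^ i') * (x ^ k * u' ^ j') * x ^ k' := by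
            rw [e1]; simp only [mul_assoc]
        _ = _ := by
            rw [e2, hxj, zpow_add, zpow_add, zpow_add]; simp only [mul_assoc]
    | inv a _ ha =>
      obtain ⟨i, j, k, rfl⟩ := ha
      refine ⟨-i, (if (-k) % 2 = 0 then -j else j), -k, ?_⟩
      have e1 : x ^ (-k) * u ^ (-i) = u ^ (-i) * x ^ (-k) := (h2c.zpow_zpow (-k) (-i)).eq
      have e2 : u' ^ (-j) * u ^ (-i) = u ^ (-i) * u' ^ (-j) := (h1c.symm.zpow_zpow (-j) (-i)).eq
      have e3 := hxj (-j) (-k)
      calc (u ^ i * u' ^ j * x ^ k)⁻¹ = x ^ (-k) * (u' ^ (-j) * u ^ (-i)) := by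
            simp [mul_inv_rev, zpow_neg]
        _ = (x ^ (-k) * u ^ (-i)) * u' ^ (-j) := by rw [e2]; simp only [mul_assoc]
        _ = u ^ (-i) * (x ^ (-k) * u' ^ (-j)) := by rw [e1]; simp only [mul_assoc]
        _ = _ := by
          rw [e3]
          by_cases hk : (-k) % 2 = 0
          · simp [hk, mul_assoc]
          · simp [hk, mul_assoc]
  intro y
  obtain ⟨y, hy⟩ := y
  obtain ⟨i, j, k, rfl⟩ := key y hy
  refine ⟨3, ?_⟩
  apply Subtype.ext
  show (u ^ i * u' ^ j * x ^ k) ^ 2 ^ 3 = 1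
  -- the square
  have hx2 : x ^ (2 : ℤ) = 1 := by rw [zpow_ofNat, pow_two, hx]
  have hu4 : u ^ (4 : ℤ) = 1 := by
    have e : u ^ 4 = (u * u) * (u * u) := by
      simp only [pow_succ, pow_zero, one_mul, mul_assoc]
    rw [zpow_ofNat, e, hu]
  have hu4' : u' ^ (4 : ℤ) = 1 := by
    have e : u' ^ 4 = (u' * u') * (u' * u') := by
      simp only [pow_succ, pow_zero, one_mul, mul_assoc]
    rw [zpow_ofNat, e, hu']
  rcases Int.emod_two_eq_zero_or_one k with hk | hk
  · obtain ⟨l, rfl⟩ : ∃ l, k = 2 * l := ⟨k / 2, by omega⟩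
    have e0 : x ^ (2 * l) = 1 := by rw [zpow_mul, hx2, one_zpow]
    rw [e0, mul_one]
    have hc : Commute (u ^ i) (u' ^ j) := h1c.zpow_zpow i j
    rw [hc.mul_pow]
    have a1 : (u ^ i) ^ 2 ^ 3 = 1 := by
      rw [← zpow_natCast, zpow_comm]
      have : u ^ ((2 ^ 3 : ℕ) : ℤ) = 1 := by
        have : ((2 ^ 3 : ℕ) : ℤ) = 4 * 2 := by norm_num
        rw [this, zpow_mul, hu4, one_zpow]
      rw [this, one_zpow]
    have a2 : (u' ^ j) ^ 2 ^ 3 = 1 := by
      rw [← zpow_natCast, zpow_comm]
      have : u' ^ ((2 ^ 3 : ℕ) : ℤ) = 1 := by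
        have : ((2 ^ 3 : ℕ) : ℤ) = 4 * 2 := by norm_num
        rw [this, zpow_mul, hu4', one_zpow]
      rw [this, one_zpow]
    rw [a1, a2, one_mul]
  · obtain ⟨l, rfl⟩ : ∃ l, k = 2 * l + 1 := ⟨k / 2, by omega⟩
    have e0 : x ^ (2 * l + 1) = x := by rw [zpow_add, zpow_mul, hx2, one_zpow, one_mul, zpow_one]
    rw [e0]
    have hxj : x * u' ^ j = u' ^ (-j) * x := by
      have : x * u' ^ j * x⁻¹ = (x * u' * x⁻¹) ^ j := by
        rw [← MulAut.conj_apply, map_zpow, MulAut.conj_apply]
      rw [h3', inv_zpow, ← zpow_neg] at this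
      rw [← this]; group
    have hxu : x * u ^ i = u ^ i * x := ((Commute.refl x).zpow_right 0 |> fun _ => (h2c.zpow_right i).eq)
    have hcu : u' ^ j * u ^ i = u ^ i * u' ^ j := (h1c.symm.zpow_zpow j i).eq
    have sq : (u ^ i * u' ^ j * x) * (u ^ i * u' ^ j * x) = u ^ i * u ^ i := by
      calc (u ^ i * u' ^ j * x) * (u ^ i * u' ^ j * x)
          = u ^ i * u' ^ j * (x * u ^ i) * u' ^ j * x := by simp only [mul_assoc]
        _ = u ^ i * (u' ^ j * u ^ i) * (x * u' ^ j) * x := by rw [hxu]; simp only [mul_assoc]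
        _ = u ^ i * u ^ i * (u' ^ j * u' ^ (-j)) * (x * x) := by
            rw [hcu, hxj]; simp only [mul_assoc]
        _ = u ^ i * u ^ i := by rw [hx, zpow_neg]; simp
    have : (u ^ i * u' ^ j * x) ^ 2 ^ 3 = ((u ^ i * u' ^ j * x) * (u ^ i * u' ^ j * x)) ^ 4 := by
      rw [← pow_two, ← pow_mul]
      norm_num
    rw [this, sq, ← zpow_add, ← zpow_natCast, zpow_comm]
    have h4 : u ^ ((4 : ℕ) : ℤ) = 1 := by exact_mod_cast hu4
    rw [h4, one_zpow]

/-- conjugation of membership in a closure -/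
theorem mem_closure_conj (X : Set K) (h x : K) :
    x ∈ Subgroup.closure X ↔
      h⁻¹ * x * h ∈ Subgroup.closure ((fun y => h⁻¹ * y * h) '' X) := by
  have e : (fun y : K => h⁻¹ * y * h) = (MulAut.conj h⁻¹).toMonoidHom := by
    funext y
    simp
  have e2 : h⁻¹ * x * h = (MulAut.conj h⁻¹).toMonoidHom x := by
    simp
  rw [e, ← MonoidHom.map_closure, e2]
  constructor
  · intro hx
    exact ⟨x, hx, rfl⟩
  · rintro ⟨y, hy, hyx⟩
    have : y = x := (MulAut.conj h⁻¹).injective hyx
    rw [← this]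
    exact hy

/-- (L4) -/
theorem mem_closure2_conj (a b h x : K) :
    x ∈ Subgroup.closure ({a, b} : Set K) ↔
      h⁻¹ * x * h ∈ Subgroup.closure ({h⁻¹ * a * h, h⁻¹ * b * h} : Set K) := by
  rw [mem_closure_conj ({a, b} : Set K) h x, Set.image_pair]

/-- (L4) -/
theorem mem_closure3_conj (a b c h x : K) :
    x ∈ Subgroup.closure ({a, b, c} : Set K) ↔
      h⁻¹ * x * h ∈ Subgroup.closure ({h⁻¹ * a * h, h⁻¹ * b * h, h⁻¹ * c * h} : Set K) := by
  rw [mem_closure_conj ({a, b, c} : Set K) h x, Set.image_insert_eq, Set.image_pair]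

/-- (L5) In a subgroup of order at most `4` two distinct nontrivial elements generate. -/
theorem closure2_eq [Finite K] {W : Subgroup K} (hW : Nat.card W ≤ 4) {a b : K} (ha : a ∈ W)
    (hb : b ∈ W) (ha1 : a ≠ 1) (hb1 : b ≠ 1) (hab : a ≠ b) :
    Subgroup.closure ({a, b} : Set K) = W := by
  classical
  have hle : Subgroup.closure ({a, b} : Set K) ≤ W := by
    rw [Subgroup.closure_le]
    rintro y (rfl | hy)
    · exact ha
    · rw [Set.mem_singleton_iff] at hy
      subst hy
      exact hb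
  have ha' : a ∈ Subgroup.closure ({a, b} : Set K) := Subgroup.subset_closure (by simp)
  have hb' : b ∈ Subgroup.closure ({a, b} : Set K) := Subgroup.subset_closure (by simp)
  have hsub : (({1, a, b} : Finset K) : Set K) ⊆
      (Subgroup.closure ({a, b} : Set K) : Set K) := by
    intro y hy
    simp only [Finset.coe_insert, Finset.coe_singleton, Set.mem_insert_iff,
      Set.mem_singleton_iff] at hy
    rcases hy with rfl | rfl | rfl
    · exact Subgroup.one_mem _
    · exact ha'
    · exact hb'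
  have hcard : ({1, a, b} : Finset K).card = 3 := by
    rw [Finset.card_insert_of_notMem, Finset.card_insert_of_notMem, Finset.card_singleton]
    · simp only [Finset.mem_singleton]
      exact hab
    · simp only [Finset.mem_insert, Finset.mem_singleton, not_or]
      exact ⟨fun h => ha1 h.symm, fun h => hb1 h.symm⟩
  have h := Set.ncard_le_ncard hsub (Set.toFinite _)
  rw [Set.ncard_coe_finset, hcard] at h
  rw [← Nat.card_coe_set_eq] at h
  have h3 : 3 ≤ Nat.card (Subgroup.closure ({a, b} : Set K)) := h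
  have hdvd : Nat.card (Subgroup.closure ({a, b} : Set K)) ∣ Nat.card W :=
    Subgroup.card_dvd_of_le hle
  refine Subgroup.eq_of_le_of_card_ge hle ?_
  have hpos : 0 < Nat.card W := Nat.card_pos
  obtain ⟨k, hk⟩ := hdvd
  have hk1 : k = 1 := by
    have : 0 < k := Nat.pos_of_ne_zero (by rintro rfl; omega)
    by_contra hne
    have : 2 ≤ k := by omega
    nlinarith
  rw [hk, hk1, mul_one]

/-- (L6) -/
theorem closure3_eq [Finite K] {Y : Subgroup K} (hY : Nat.card Y ≤ 8) {a b c : K} (ha : a ∈ Y)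
    (hb : b ∈ Y) (hc : c ∈ Y) (haa : a * a = 1) (hbb : b * b = 1) (ha1 : a ≠ 1) (hb1 : b ≠ 1)
    (hab : a ≠ b) (hc1 : c ≠ 1) (hca : c ≠ a) (hcb : c ≠ b) (hcab : c ≠ a * b) :
    Subgroup.closure ({a, b, c} : Set K) = Y := by
  classical
  have hle : Subgroup.closure ({a, b, c} : Set K) ≤ Y := by
    rw [Subgroup.closure_le]
    rintro y (rfl | rfl | hy)
    · exact ha
    · exact hb
    · rw [Set.mem_singleton_iff] at hy
      subst hy
      exact hc
  have ha' : a ∈ Subgroup.closure ({a, b, c} : Set K) := Subgroup.subset_closure (by simp)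
  have hb' : b ∈ Subgroup.closure ({a, b, c} : Set K) := Subgroup.subset_closure (by simp)
  have hc' : c ∈ Subgroup.closure ({a, b, c} : Set K) := Subgroup.subset_closure (by simp)
  have hab1 : a * b ≠ 1 := by
    intro h
    apply hab
    calc a = a * (b * b) := by rw [hbb, mul_one]
      _ = (a * b) * b := by rw [mul_assoc]
      _ = b := by rw [h, one_mul]
  have haba : a * b ≠ a := by
    intro h
    exact hb1 (mul_left_cancel (h.trans (mul_one a).symm))
  have habb : a * b ≠ b := by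
    intro h
    exact ha1 (mul_right_cancel (h.trans (one_mul b).symm))
  have hsub : (({1, a, b, a * b, c} : Finset K) : Set K) ⊆
      (Subgroup.closure ({a, b, c} : Set K) : Set K) := by
    intro y hy
    simp only [Finset.coe_insert, Finset.coe_singleton, Set.mem_insert_iff,
      Set.mem_singleton_iff] at hy
    rcases hy with rfl | rfl | rfl | rfl | rfl
    · exact Subgroup.one_mem _
    · exact ha'
    · exact hb'
    · exact Subgroup.mul_mem _ ha' hb'
    · exact hc'
  have hcard : ({1, a, b, a * b, c} : Finset K).card = 5 := by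
    rw [Finset.card_insert_of_notMem, Finset.card_insert_of_notMem,
      Finset.card_insert_of_notMem, Finset.card_insert_of_notMem, Finset.card_singleton]
    · simp only [Finset.mem_singleton]
      exact fun h => hcab h.symm
    · simp only [Finset.mem_insert, Finset.mem_singleton, not_or]
      exact ⟨fun h => habb h.symm, fun h => hcb h.symm⟩
    · simp only [Finset.mem_insert, Finset.mem_singleton, not_or]
      exact ⟨hab, fun h => haba h.symm, fun h => hca h.symm⟩
    · simp only [Finset.mem_insert, Finset.mem_singleton, not_or]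
      exact ⟨fun h => ha1 h.symm, fun h => hb1 h.symm, fun h => hab1 h.symm, fun h => hc1 h.symm⟩
  have h := Set.ncard_le_ncard hsub (Set.toFinite _)
  rw [Set.ncard_coe_finset, hcard] at h
  rw [← Nat.card_coe_set_eq] at h
  have h5 : 5 ≤ Nat.card (Subgroup.closure ({a, b, c} : Set K)) := h
  have hdvd : Nat.card (Subgroup.closure ({a, b, c} : Set K)) ∣ Nat.card Y :=
    Subgroup.card_dvd_of_le hle
  refine Subgroup.eq_of_le_of_card_ge hle ?_
  have hpos : 0 < Nat.card Y := Nat.card_pos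
  obtain ⟨k, hk⟩ := hdvd
  have hk1 : k = 1 := by
    have : 0 < k := Nat.pos_of_ne_zero (by rintro rfl; omega)
    by_contra hne
    have : 2 ≤ k := by omega
    nlinarith
  rw [hk, hk1, mul_one]

/-- (L7) -/
theorem mem_normalizer_of [Finite K] {S A : Subgroup K} {X : Set K}
    (hS : S = Subgroup.closure X) (h : ∀ x ∈ X, ∀ a ∈ A, x * a * x⁻¹ ∈ A) :
    S ≤ Subgroup.normalizer (A : Set K) := by
  rw [hS, Subgroup.closure_le]
  intro x hx
  show x ∈ Subgroup.normalizer (A : Set K)
  rw [Subgroup.mem_normalizer_iff]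
  intro a
  constructor
  · intro ha
    exact h x hx a ha
  · intro ha
    have hmap : A.map (MulAut.conj x).toMonoidHom = A := by
      refine Subgroup.eq_of_le_of_card_ge ?_ ?_
      · rintro _ ⟨y, hy, rfl⟩
        exact h x hx y hy
      · rw [← Nat.card_congr (A.equivMapOfInjective (MulAut.conj x).toMonoidHom
          (MulAut.conj x).injective).toEquiv]
    have h2 : x * a * x⁻¹ ∈ A.map (MulAut.conj x).toMonoidHom := by
      rw [hmap]; exact ha
    obtain ⟨y, hy, hyx⟩ := h2
    have : y = a := (MulAut.conj x).injective hyx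
    rw [← this]
    exact hy

end Cfsg.Agent.CoThreeStd.SylLem
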