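import Cfsg.Agent.CoThreeStd.HFacts
import Cfsg.Agent.CoThreeStd.SylLem
import Cfsg.Agent.GH.Cov.Lift

/-!
# `HFacts.Facts` lifts through a kernel of odd order

`π : H →* K` onto, kernel of odd order, `Facts K`, `tH` an involution over `t`: there is `Facts H` with
involution `tH` (`exists_facts`).
-/

set_option autoImplicit false

namespace Cfsg.Agent.CoThreeStd.FactsLift

open Subgroup
open Cfsg.Agent.CoThreeStd.HFacts
open Cfsg.Agent.SylowL5.OddLift (injOn isConj_lift)

variable {H K : Type*} [Group H] [Group K] {π : H →* K}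

/-- Two 2-subgroups with the same image are conjugate under the kernel. -/
theorem exists_conj_ker [Finite H] (hodd : Odd (Nat.card π.ker)) {A B : Subgroup H}
    (hA : IsPGroup 2 A) (hB : IsPGroup 2 B) (h : A.map π = B.map π) :
    ∃ n ∈ π.ker, ∀ a, a ∈ A ↔ n * a * n⁻¹ ∈ B := by
  classical
  have : Fact (Nat.Prime 2) := ⟨Nat.prime_two⟩
  set W : Subgroup H := (A.map π).comap π with hW
  have hAW : A ≤ W := fun a ha => ⟨a, ha, rfl⟩
  have hBW : B ≤ W := fun b hb => by
    show π b ∈ A.map π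
    rw [h]
    exact ⟨b, hb, rfl⟩
  have hmax : ∀ (R : Subgroup H), IsPGroup 2 R → R ≤ W → R.map π = A.map π →
      ∀ (S : Subgroup W), IsPGroup 2 S → R.subgroupOf W ≤ S → S = R.subgroupOf W := by
    intro R hR hRW hRm S hS hle
    apply le_antisymm _ hle
    intro s hs
    obtain ⟨r, hr, hrs⟩ : π s ∈ R.map π := by rw [hRm]; exact s.2
    have h1 : IsPGroup 2 (S.map W.subtype) := hS.map _
    have h2 : (s : H) = r := injOn hodd h1 ⟨s, hs, rfl⟩ ⟨⟨r, hRW hr⟩, hle hr, rfl⟩ hrs.symm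
    rw [mem_subgroupOf, h2]
    exact hr
  let S₁ : Sylow 2 W := ⟨A.subgroupOf W, hA.comap_of_injective W.subtype W.subtype_injective,
    fun hS hle => hmax A hA hAW rfl _ hS hle⟩
  let S₂ : Sylow 2 W := ⟨B.subgroupOf W, hB.comap_of_injective W.subtype W.subtype_injective,
    fun hS hle => hmax B hB hBW h.symm _ hS hle⟩
  obtain ⟨w, hw⟩ := MulAction.exists_smul_eq W S₁ S₂
  have hwA : ∀ a ∈ A, (w : H) * a * (w : H)⁻¹ ∈ B := by
    intro a ha
    have h1 : (⟨a, hAW ha⟩ : W) ∈ (S₁ : Subgroup W) := ha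
    have h2 : w * ⟨a, hAW ha⟩ * w⁻¹ ∈ ((w • S₁ : Sylow 2 W) : Subgroup W) := by
      rw [Sylow.coe_subgroup_smul]
      exact ⟨_, h1, rfl⟩
    rw [hw] at h2
    exact h2
  have hwB : ∀ b ∈ B, (w : H)⁻¹ * b * (w : H) ∈ A := by
    intro b hb
    have h1 : (⟨b, hBW hb⟩ : W) ∈ ((w • S₁ : Sylow 2 W) : Subgroup W) := by
      rw [hw]; exact hb
    rw [Sylow.coe_subgroup_smul] at h1
    obtain ⟨a, ha, hab⟩ := h1
    have h2 : w * a * w⁻¹ = ⟨b, hBW hb⟩ := hab
    have h3 : (w : H) * a * (w : H)⁻¹ = b := congrArg Subtype.val h2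
    rw [← h3]
    have e : (w : H)⁻¹ * (w * a * (w : H)⁻¹) * w = a := by group
    rw [e]
    exact ha
  obtain ⟨b₁, hb₁, hb₁w⟩ : π (w : H) ∈ B.map π := by
    rw [← h]; exact w.2
  refine ⟨b₁⁻¹ * w, ?_, ?_⟩
  · rw [MonoidHom.mem_ker, map_mul, map_inv, hb₁w, inv_mul_cancel]
  · intro a
    constructor
    · intro ha
      have := B.mul_mem (B.mul_mem (B.inv_mem hb₁) (hwA a ha)) hb₁
      have e : b₁⁻¹ * ↑w * a * (b₁⁻¹ * ↑w)⁻¹ = b₁⁻¹ * (↑w * a * (↑w)⁻¹) * b₁ := by group
      rwa [e]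
    · intro ha
      have h1 := B.mul_mem (B.mul_mem hb₁ ha) (B.inv_mem hb₁)
      have h2 := hwB _ h1
      have e : (w : H)⁻¹ * (b₁ * (b₁⁻¹ * ↑w * a * (b₁⁻¹ * ↑w)⁻¹) * b₁⁻¹) * w = a := by group
      rwa [e] at h2

theorem two_zpowers {G : Type*} [Group G] {g : G} {n : ℕ} (h : g ^ 2 ^ n = 1) :
    IsPGroup 2 (zpowers g) := by
  rw [zpowers_eq_closure]
  exact SylLem.two_closure h

/-- The product of commuting 2-subgroups. -/
theorem two_sup {G : Type*} [Group G] {A B : Subgroup G} (hA : IsPGroup 2 A) (hB : IsPGroup 2 B)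
    (h : ∀ a ∈ A, ∀ b ∈ B, a * b = b * a) : IsPGroup 2 (A ⊔ B : Subgroup G) := by
  have hcm : ∀ (a : A) (b : B), Commute (A.subtype a) (B.subtype b) := fun a b => h a a.2 b b.2
  have h1 : (MonoidHom.noncommCoprod A.subtype B.subtype hcm).range = A ⊔ B := by
    rw [MonoidHom.noncommCoprod_range, range_subtype, range_subtype]
  rintro ⟨x, hx⟩
  rw [← h1] at hx
  obtain ⟨⟨a, b⟩, rfl⟩ := hx
  obtain ⟨m, hm⟩ := hA a
  obtain ⟨n, hn⟩ := hB b
  have hm' : (a : G) ^ 2 ^ m = 1 := by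
    have := congrArg Subtype.val hm
    simpa using this
  have hn' : (b : G) ^ 2 ^ n = 1 := by
    have := congrArg Subtype.val hn
    simpa using this
  refine ⟨m + n, Subtype.ext ?_⟩
  show ((a : G) * b) ^ 2 ^ (m + n) = 1
  have hab : Commute (a : G) b := h a a.2 b b.2
  rw [hab.mul_pow, pow_add, pow_mul, hm', one_pow, mul_comm, pow_mul, hn', one_pow, one_mul]

theorem comm_sup {G : Type*} [Group G] {A B : Subgroup G} {c : G} (hA : ∀ a ∈ A, c * a = a * c)
    (hB : ∀ b ∈ B, c * b = b * c) : ∀ x ∈ A ⊔ B, c * x = x * c := by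
  have h1 : A ⊔ B ≤ centralizer ({c} : Set G) := sup_le
    (fun a ha => mem_centralizer_singleton_iff.mpr (hA a ha).symm)
    (fun b hb => mem_centralizer_singleton_iff.mpr (hB b hb).symm)
  exact fun x hx => (mem_centralizer_singleton_iff.mp (h1 hx)).symm

theorem comm_zpowers {G : Type*} [Group G] {c g : G} (h : c * g = g * c) :
    ∀ x ∈ zpowers g, c * x = x * c := by
  rintro _ ⟨k, rfl⟩
  exact ((show Commute c g from h).zpow_right k).eq

/-- Lifting an involution commuting with a 2-subgroup. -/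
theorem exists_inv_lift [Finite H] (hsurj : Function.Surjective π) (hodd : Odd (Nat.card π.ker))
    {A : Subgroup H} (hA : IsPGroup 2 A) {c : K} (hcc : c * c = 1)
    (hc : ∀ a ∈ A, c * π a = π a * c) :
    ∃ b : H, π b = c ∧ b * b = 1 ∧ ∀ a ∈ A, b * a = a * b := by
  have h1 : IsPGroup 2 (A.map π ⊔ zpowers c : Subgroup K) := by
    refine two_sup (hA.map π) (two_zpowers (n := 1) (by rw [pow_one, pow_two]; exact hcc)) ?_
    rintro _ ⟨a, ha, rfl⟩ b hb
    have := hc a ha
    exact comm_zpowers this.symm b hb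
  obtain ⟨Q, hAQ, -, hQ, hQm⟩ := GH.Cov.Lift.exists_lift (H := ⊤) h1
    (by rw [← MonoidHom.range_eq_map, MonoidHom.range_eq_top.mpr hsurj]; exact le_top) hA le_top
    (fun r hr => mem_sup_left ⟨r, hr, rfl⟩)
  obtain ⟨b, hb, hbc⟩ : c ∈ Q.map π := by
    rw [hQm]
    exact mem_sup_right (mem_zpowers c)
  refine ⟨b, hbc, ?_, ?_⟩
  · exact injOn hodd hQ (Q.mul_mem hb hb) Q.one_mem (by rw [map_mul, hbc, hcc, map_one])
  · intro a ha
    refine injOn hodd hQ (Q.mul_mem hb (hAQ ha)) (Q.mul_mem (hAQ ha) hb) ?_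
    rw [map_mul, map_mul, hbc, hc a ha]

section

variable [Finite H] (hsurj : Function.Surjective π) (hodd : Odd (Nat.card π.ker))

include hodd in
theorem eq_one_of_map {x : H} {n : ℕ} (hx : x ^ 2 ^ n = 1) (h : π x = 1) : x = 1 :=
  injOn hodd (two_zpowers hx) (mem_zpowers x) (one_mem _) (by rw [h, map_one])

include hsurj hodd

theorem conj_of {a b : H} (ha : a * a = 1) (hb : b * b = 1) (h : IsConj (π a) (π b)) : IsConj a b :=
  isConj_lift hsurj hodd ha hb h

omit [Finite H] hsurj hodd in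
theorem conj_map {a b : H} (h : IsConj a b) : IsConj (π a) (π b) := by
  obtain ⟨c, rfl⟩ := isConj_iff.1 h
  exact isConj_iff.2 ⟨π c, by simp⟩

theorem nd_of {t x : H} (ht : t * t = 1) (hx : x * x = 1) (h : Nd (π t) (π x)) : Nd t x := by
  refine ⟨hx, ?_, ?_⟩
  · rintro rfl
    exact h.2.1 (map_one π)
  · intro hc
    exact h.2.2 (conj_map hc)

theorem nd_map {t x : H} (ht : t * t = 1) (h : Nd t x) : Nd (π t) (π x) := by
  refine ⟨by rw [← map_mul, h.1, map_one], ?_, ?_⟩
  · intro h1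
    exact h.2.1 (eq_one_of_map hodd (n := 1) (by rw [pow_one, pow_two]; exact h.1) h1)
  · intro hc
    exact h.2.2 (conj_of hsurj hodd ht h.1 hc)

/-- **The facts lift.** -/
theorem exists_facts (F : Facts K) {tH : H} (htt : tH * tH = 1) (ht : π tH = F.t) :
    ∃ F' : Facts H, F'.t = tH := by
  classical
  have htp : IsPGroup 2 (zpowers tH) := two_zpowers (n := 1) (by rw [pow_one, pow_two]; exact htt)
  obtain ⟨S, htS, -, hS, hSm⟩ := GH.Cov.Lift.exists_lift (H := ⊤) F.two_S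
    (by rw [← MonoidHom.range_eq_map, MonoidHom.range_eq_top.mpr hsurj]; exact le_top) htp le_top
    (by
      rintro _ ⟨k, rfl⟩
      show π (tH ^ k) ∈ F.S
      rw [map_zpow, ht]
      exact F.S.zpow_mem F.t_S k)
  have htS : tH ∈ S := htS (mem_zpowers _)
  have inj : ∀ {a b : H}, a ∈ S → b ∈ S → π a = π b → a = b := fun ha hb hab =>
    injOn hodd hS ha hb hab
  have mapS : ∀ {a : H}, a ∈ S → π a ∈ F.S := by
    intro a ha
    rw [← hSm]
    exact ⟨a, ha, rfl⟩
  have sec : ∀ {k : K}, k ∈ F.S → ∃ a ∈ S, π a = k := by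
    intro k hk
    rw [← hSm] at hk
    obtain ⟨a, ha, hak⟩ := hk
    exact ⟨a, ha, hak⟩
  have mulS : ∀ {a b : H}, a ∈ S → b ∈ S → a * b ∈ S := fun ha hb => S.mul_mem ha hb
  have nd1 : ∀ {x : H}, x * x = 1 → Nd F.t (π x) → Nd tH x := fun hx h =>
    nd_of hsurj hodd htt hx (by rw [ht]; exact h)
  have nd2 : ∀ {x : H}, Nd tH x → Nd F.t (π x) := fun h => by
    have := nd_map hsurj hodd htt h
    rwa [ht] at this
  have cj1 : ∀ {x : H}, x * x = 1 → IsConj F.t (π x) → IsConj tH x := fun hx h =>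
    conj_of hsurj hodd htt hx (by rw [ht]; exact h)
  have cj2 : ∀ {x : H}, IsConj tH x → IsConj F.t (π x) := fun h => by
    have := conj_map (π := π) h
    rwa [ht] at this
  have sqc : ∀ {k : K}, IsConj F.t k → k * k = 1 := by
    intro k hk
    obtain ⟨c, rfl⟩ := isConj_iff.1 hk
    calc c * F.t * c⁻¹ * (c * F.t * c⁻¹) = c * (F.t * F.t) * c⁻¹ := by group
      _ = 1 := by rw [F.t_mul]; group
  -- elements of `S` over the given ones
  obtain ⟨y, hyS, hy⟩ := sec F.y_S
  obtain ⟨v, hvS, hv⟩ := sec (F.W_S ((F.mem_W F.v).2 (Or.inr (Or.inl rfl))))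
  obtain ⟨w, hwS, hw⟩ := sec (F.W_S ((F.mem_W F.w).2 (Or.inr (Or.inr (Or.inl rfl)))))
  have hzY : F.z ∈ F.Y3 := (F.mem_Y3 F.z).2 (Or.inr (by rw [F.z_nd.1]; exact F.W.one_mem))
  obtain ⟨z, hzS, hz⟩ := sec (F.Y3_S hzY)
  obtain ⟨e, heS, he⟩ := sec F.e0_S
  have sq1 : ∀ {x : H}, x ∈ S → π x * π x = 1 → x * x = 1 := by
    intro x hx h
    exact inj (mulS hx hx) S.one_mem (by rw [map_mul, h, map_one])
  -- the subgroups
  obtain ⟨W, hW⟩ : ∃ W : Subgroup H, W = S ⊓ F.W.comap π := ⟨_, rfl⟩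
  obtain ⟨Y, hY⟩ : ∃ Y : Subgroup H, Y = S ⊓ F.Y3.comap π := ⟨_, rfl⟩
  obtain ⟨N, hN⟩ : ∃ N : Subgroup H, N = S ⊓ F.K3.comap π := ⟨_, rfl⟩
  have mW : ∀ {x : H}, x ∈ W ↔ x ∈ S ∧ π x ∈ F.W := by intro x; rw [hW]; rfl
  have mY : ∀ {x : H}, x ∈ Y ↔ x ∈ S ∧ π x ∈ F.Y3 := by intro x; rw [hY]; rfl
  have mN : ∀ {x : H}, x ∈ N ↔ x ∈ S ∧ π x ∈ F.K3 := by intro x; rw [hN]; rfl
  have secW : ∀ {k : K}, k ∈ F.W → ∃ a ∈ W, π a = k := by
    intro k hk
    obtain ⟨a, ha, hak⟩ := sec (F.W_S hk)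
    exact ⟨a, mW.2 ⟨ha, by rw [hak]; exact hk⟩, hak⟩
  have secY : ∀ {k : K}, k ∈ F.Y3 → ∃ a ∈ Y, π a = k := by
    intro k hk
    obtain ⟨a, ha, hak⟩ := sec (F.Y3_S hk)
    exact ⟨a, mY.2 ⟨ha, by rw [hak]; exact hk⟩, hak⟩
  have secN : ∀ {k : K}, k ∈ F.K3 → ∃ a ∈ N, π a = k := by
    intro k hk
    obtain ⟨a, ha, hak⟩ := sec (F.K3_S hk)
    exact ⟨a, mN.2 ⟨ha, by rw [hak]; exact hk⟩, hak⟩
  have hWS : W ≤ S := fun x hx => (mW.1 hx).1
  have hYS : Y ≤ S := fun x hx => (mY.1 hx).1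
  have hNS : N ≤ S := fun x hx => (mN.1 hx).1
  have hWp : IsPGroup 2 W := hS.to_le hWS
  have hYp : IsPGroup 2 Y := hS.to_le hYS
  have mapW : W.map π = F.W := by
    ext k
    constructor
    · rintro ⟨a, ha, rfl⟩; exact (mW.1 ha).2
    · intro hk
      obtain ⟨a, ha, hak⟩ := secW hk
      exact ⟨a, ha, hak⟩
  have mapY : Y.map π = F.Y3 := by
    ext k
    constructor
    · rintro ⟨a, ha, rfl⟩; exact (mY.1 ha).2
    · intro hk
      obtain ⟨a, ha, hak⟩ := secY hk
      exact ⟨a, ha, hak⟩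
  -- centralizing `W` resp. `Y`
  have cW : ∀ {x : H}, (∀ a ∈ W, x * a = a * x) → ∀ k ∈ F.W, π x * k = k * π x := by
    intro x h k hk
    obtain ⟨a, ha, rfl⟩ := secW hk
    rw [← map_mul, h a ha, map_mul]
  have cY : ∀ {x : H}, (∀ a ∈ Y, x * a = a * x) → ∀ k ∈ F.Y3, π x * k = k * π x := by
    intro x h k hk
    obtain ⟨a, ha, rfl⟩ := secY hk
    rw [← map_mul, h a ha, map_mul]
  -- normalizers
  have hnorm : ∀ {A : Subgroup K} {A' : Subgroup H} (hm : ∀ {x : H}, x ∈ A' ↔ x ∈ S ∧ π x ∈ A),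
      F.S ≤ normalizer (A : Set K) → S ≤ normalizer (A' : Set H) := by
    intro A A' hm hA s hs
    refine mem_normalizer_iff.mpr ?_
    intro x
    have h1 := mem_normalizer_iff.mp (hA (mapS hs)) (π x)
    have e1 : π (s * x * s⁻¹) = π s * π x * (π s)⁻¹ := by rw [map_mul, map_mul, map_inv]
    constructor
    · intro hx
      have hx' := hm.1 hx
      refine hm.2 ⟨mulS (mulS hs hx'.1) (S.inv_mem hs), ?_⟩
      rw [e1]
      exact h1.1 hx'.2
    · intro hx
      have hx' := hm.1 hx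
      refine hm.2 ⟨?_, h1.2 (by rw [← e1]; exact hx'.2)⟩
      have := mulS (mulS (S.inv_mem hs) hx'.1) hs
      have e2 : s⁻¹ * (s * x * s⁻¹) * s = x := by group
      rwa [e2] at this
  -- elements of order four
  have four : ∀ {u : H}, (u * u) * (u * u) = 1 → IsPGroup 2 (zpowers u) := by
    intro u hu
    refine two_zpowers (n := 2) ?_
    have e : u ^ 2 ^ 2 = (u * u) * (u * u) := by
      rw [show (2 : ℕ) ^ 2 = 4 from rfl]
      simp only [pow_succ, pow_zero, one_mul, mul_assoc]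
    rw [e, hu]
  -- closures
  have hlift : ∀ {A : Subgroup H} {B : Subgroup H} {C : Subgroup K} (_ : IsPGroup 2 A)
      (_ : IsPGroup 2 B) (_ : B.map π = C) (h : K) (_ : ∀ k, k ∈ A.map π ↔ h⁻¹ * k * h ∈ C),
      ∃ g : H, ∀ x, x ∈ A ↔ g⁻¹ * x * g ∈ B := by
    intro A B C hA hB hBC h hh
    obtain ⟨h₁, rfl⟩ := hsurj h
    have hA' : IsPGroup 2 (A.map (MulAut.conj h₁⁻¹).toMonoidHom) := hA.map _
    have e1 : (A.map (MulAut.conj h₁⁻¹).toMonoidHom).map π = B.map π := by
      rw [hBC]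
      ext k
      constructor
      · rintro ⟨_, ⟨a, ha, rfl⟩, rfl⟩
        have h2 := (hh (π a)).1 ⟨a, ha, rfl⟩
        show π (h₁⁻¹ * a * h₁⁻¹⁻¹) ∈ C
        rw [inv_inv, map_mul, map_mul, map_inv]
        exact h2
      · intro hk
        have h2 := (hh (π h₁ * k * (π h₁)⁻¹)).2 (by
          have e : (π h₁)⁻¹ * (π h₁ * k * (π h₁)⁻¹) * π h₁ = k := by group
          rw [e]; exact hk)
        obtain ⟨a, ha, hak⟩ := h2
        refine ⟨_, ⟨a, ha, rfl⟩, ?_⟩
        show π (h₁⁻¹ * a * h₁⁻¹⁻¹) = k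
        rw [inv_inv, map_mul, map_mul, map_inv, hak]
        group
    obtain ⟨n, hn, hn2⟩ := exists_conj_ker hodd hA' hB e1
    refine ⟨h₁ * n⁻¹, ?_⟩
    intro x
    have h3 := hn2 (h₁⁻¹ * x * h₁)
    have e2 : (h₁ * n⁻¹)⁻¹ * x * (h₁ * n⁻¹) = n * (h₁⁻¹ * x * h₁) * n⁻¹ := by group
    rw [e2, ← h3]
    constructor
    · intro hx
      refine ⟨x, hx, ?_⟩
      show h₁⁻¹ * x * h₁⁻¹⁻¹ = _
      rw [inv_inv]
    · rintro ⟨a, ha, hax⟩
      have hax' : h₁⁻¹ * a * h₁⁻¹⁻¹ = h₁⁻¹ * x * h₁ := hax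
      rw [inv_inv] at hax'
      have : a = x := mul_left_cancel (mul_right_cancel hax')
      rw [← this]
      exact ha
  have commY : ∀ a ∈ Y, ∀ b ∈ Y, a * b = b * a := by
    intro a ha b hb
    have ha' := mY.1 ha
    have hb' := mY.1 hb
    refine inj (mulS ha'.1 hb'.1) (mulS hb'.1 ha'.1) ?_
    rw [map_mul, map_mul]
    exact F.comm_Y3 _ ha'.2 _ hb'.2
  have hWY : W ≤ Y := fun x hx => mY.2 ⟨(mW.1 hx).1, (F.mem_Y3 _).2 (Or.inl (mW.1 hx).2)⟩
  have two_cl2 : ∀ {a b : H}, a * a = 1 → b * b = 1 → a * b = b * a →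
      IsPGroup 2 (closure ({a, b} : Set H)) := by
    intro a b ha hb hab
    have h1 : IsPGroup 2 (zpowers a ⊔ zpowers b : Subgroup H) :=
      two_sup (two_zpowers (n := 1) (by rw [pow_one, pow_two]; exact ha))
        (two_zpowers (n := 1) (by rw [pow_one, pow_two]; exact hb)) (by
          intro x hx b' hb'
          exact comm_zpowers (comm_zpowers hab.symm x hx).symm b' hb')
    refine h1.to_le ?_
    rw [closure_le]
    rintro x (rfl | hx)
    · exact mem_sup_left (mem_zpowers _)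
    · rw [Set.mem_singleton_iff] at hx
      subst hx
      exact mem_sup_right (mem_zpowers _)
  have two_cl3 : ∀ {a b c : H}, a * a = 1 → b * b = 1 → c * c = 1 → a * b = b * a →
      a * c = c * a → b * c = c * b → IsPGroup 2 (closure ({a, b, c} : Set H)) := by
    intro a b c ha hb hc hab hac hbc
    have h1 : IsPGroup 2 (closure ({a, b} : Set H) ⊔ zpowers c : Subgroup H) := by
      refine two_sup (two_cl2 ha hb hab) (two_zpowers (n := 1) (by rw [pow_one, pow_two]; exact hc)) ?_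
      intro x hx c' hc'
      refine comm_zpowers ?_ c' hc'
      have h2 : closure ({a, b} : Set H) ≤ centralizer ({c} : Set H) := by
        rw [closure_le]
        rintro x (rfl | hx)
        · exact mem_centralizer_singleton_iff.mpr hac
        · rw [Set.mem_singleton_iff] at hx
          subst hx
          exact mem_centralizer_singleton_iff.mpr hbc
      exact mem_centralizer_singleton_iff.mp (h2 hx)
    refine h1.to_le ?_
    rw [closure_le]
    rintro x (rfl | rfl | hx)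
    · exact mem_sup_left (subset_closure (by simp))
    · exact mem_sup_left (subset_closure (by simp))
    · rw [Set.mem_singleton_iff] at hx
      subst hx
      exact mem_sup_right (mem_zpowers _)
  -- distinct commuting involutions have distinct images
  have ne2 : ∀ {a b : H}, a * a = 1 → b * b = 1 → a * b = b * a → a ≠ b → π a ≠ π b := by
    intro a b ha hb hab hne h
    exact hne (injOn hodd (two_cl2 ha hb hab) (subset_closure (by simp)) (subset_closure (by simp)) h)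
  have commπ : ∀ {a b : H}, a * b = b * a → π a * π b = π b * π a := by
    intro a b h
    rw [← map_mul, h, map_mul]
  refine ⟨{ t := tH, y := y, v := v, w := w, z := z, e0 := e, W := W, Y3 := Y, K3 := N, S := S
            t_mul := htt
            t_ne := ?_
            y_conj := ?_
            ty_conj := ?_
            t_y := ?_
            t_S := htS
            y_S := hyS
            v_nd := ?_
            w_nd := ?_
            z_nd := ?_
            v_w := ?_
            v_z := ?_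
            w_z := ?_
            v_ne_w := ?_
            mem_W := ?_
            mem_Y3 := ?_
            z_notin := ?_
            nd_Y3 := ?_
            comm_Y3 := commY
            two_S := hS
            syl := ?_
            W_S := hWS
            Y3_S := hYS
            K3_S := hNS
            Y3_K3 := ?_
            S_W := hnorm mW F.S_W
            S_Y3 := hnorm mY F.S_Y3
            S_K3 := hnorm mN F.S_K3
            F0 := ?_
            Fc := ?_
            F1 := ?_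
            F2 := ?_
            Fa := ?_
            Fd := ?_
            Gb := ?_
            Gc := ?_
            H1 := ?_
            comm_K3 := ?_
            free_K3 := ?_
            sq_K3 := ?_
            ker_K3 := ?_
            inv_K3 := ?_
            four_K3 := ?_
            P3_cases := ?_
            e0_S := heS
            e0_Y3 := ?_
            e0_K3 := ?_
            e0_mul := ?_
            free_E := ?_
            H6 := ?_ }, rfl⟩
  · -- t_ne
    rintro rfl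
    exact F.t_ne (by rw [← ht, map_one])
  · -- y_conj
    refine cj1 (sq1 hyS ?_) (by rw [hy]; exact F.y_conj)
    rw [hy]; exact sqc F.y_conj
  · -- ty_conj
    have e1 : π (tH * y) = F.t * F.y := by rw [map_mul, ht, hy]
    refine cj1 (sq1 (mulS htS hyS) ?_) (by rw [e1]; exact F.ty_conj)
    rw [e1]; exact sqc F.ty_conj
  · -- t_y
    refine inj (mulS htS hyS) (mulS hyS htS) ?_
    rw [map_mul, map_mul, ht, hy, F.t_y]
  · -- v_nd
    exact nd1 (sq1 hvS (by rw [hv]; exact F.v_nd.1)) (by rw [hv]; exact F.v_nd)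
  · exact nd1 (sq1 hwS (by rw [hw]; exact F.w_nd.1)) (by rw [hw]; exact F.w_nd)
  · exact nd1 (sq1 hzS (by rw [hz]; exact F.z_nd.1)) (by rw [hz]; exact F.z_nd)
  · refine inj (mulS hvS hwS) (mulS hwS hvS) ?_
    rw [map_mul, map_mul, hv, hw, F.v_w]
  · refine inj (mulS hvS hzS) (mulS hzS hvS) ?_
    rw [map_mul, map_mul, hv, hz, F.v_z]
  · refine inj (mulS hwS hzS) (mulS hzS hwS) ?_
    rw [map_mul, map_mul, hw, hz, F.w_z]
  · intro h
    exact F.v_ne_w (by rw [← hv, ← hw, h])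
  · -- mem_W
    intro x
    rw [mW]
    constructor
    · rintro ⟨hx, hxW⟩
      rcases (F.mem_W _).1 hxW with h | h | h | h
      · left; exact inj hx S.one_mem (by rw [h, map_one])
      · right; left; exact inj hx hvS (by rw [h, hv])
      · right; right; left; exact inj hx hwS (by rw [h, hw])
      · right; right; right; exact inj hx (mulS hvS hwS) (by rw [h, map_mul, hv, hw])
    · intro h
      rcases h with rfl | rfl | rfl | rfl
      · exact ⟨S.one_mem, by rw [map_one]; exact F.W.one_mem⟩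
      · exact ⟨hvS, (F.mem_W _).2 (Or.inr (Or.inl hv))⟩
      · exact ⟨hwS, (F.mem_W _).2 (Or.inr (Or.inr (Or.inl hw)))⟩
      · exact ⟨mulS hvS hwS, (F.mem_W _).2 (Or.inr (Or.inr (Or.inr (by rw [map_mul, hv, hw]))))⟩
  · -- mem_Y3
    intro x
    rw [mY, mW, mW, F.mem_Y3, map_mul, hz]
    constructor
    · rintro ⟨hx, h | h⟩
      · exact Or.inl ⟨hx, h⟩
      · exact Or.inr ⟨mulS hzS hx, h⟩
    · rintro (⟨hx, h⟩ | ⟨hx, h⟩)
      · exact ⟨hx, Or.inl h⟩
      · refine ⟨?_, Or.inr h⟩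
        have := mulS (S.inv_mem hzS) hx
        rwa [inv_mul_cancel_left] at this
  · -- z_notin
    intro h
    exact F.z_notin (by rw [← hz]; exact (mW.1 h).2)
  · -- nd_Y3
    intro x hx hx1
    have hx' := mY.1 hx
    have h1 : π x ≠ 1 := fun h => hx1 (inj hx'.1 S.one_mem (by rw [h, map_one]))
    have h2 := F.nd_Y3 _ hx'.2 h1
    exact nd1 (sq1 hx'.1 h2.1) h2
  · -- syl
    intro R hR
    obtain ⟨c, hc⟩ := F.syl (R.map π) (hR.map π)
    obtain ⟨c₁, rfl⟩ := hsurj c
    have hR' : IsPGroup 2 (R.map (MulAut.conj c₁⁻¹).toMonoidHom) := hR.map _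
    obtain ⟨Q, hRQ, -, hQ, hQm⟩ := GH.Cov.Lift.exists_lift (H := ⊤) F.two_S
      (by rw [← MonoidHom.range_eq_map, MonoidHom.range_eq_top.mpr hsurj]; exact le_top) hR' le_top
      (by
        rintro _ ⟨r, hr, rfl⟩
        show π (c₁⁻¹ * r * c₁⁻¹⁻¹) ∈ F.S
        rw [inv_inv, map_mul, map_mul, map_inv]
        exact hc _ ⟨r, hr, rfl⟩)
    obtain ⟨n, hn, hn2⟩ := exists_conj_ker hodd hQ hS (by rw [hQm, hSm])
    refine ⟨c₁ * n⁻¹, ?_⟩
    intro r hr
    have h1 : c₁⁻¹ * r * c₁ ∈ Q := by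
      apply hRQ
      refine ⟨r, hr, ?_⟩
      show c₁⁻¹ * r * c₁⁻¹⁻¹ = _
      rw [inv_inv]
    have h2 := (hn2 _).1 h1
    have e2 : (c₁ * n⁻¹)⁻¹ * r * (c₁ * n⁻¹) = n * (c₁⁻¹ * r * c₁) * n⁻¹ := by group
    rwa [e2]
  · -- Y3_K3
    intro x hx
    exact mN.2 ⟨(mY.1 hx).1, F.Y3_K3 (mY.1 hx).2⟩
  · -- F0
    intro b hb
    obtain ⟨h, hh⟩ := F.F0 _ (nd2 hb)
    have h1 : IsConj (π b) (π v) := isConj_iff.2 ⟨h⁻¹, by rw [inv_inv, hh, hv]⟩
    obtain ⟨c, hc⟩ := isConj_iff.1 (conj_of hsurj hodd hb.1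
      (sq1 hvS (by rw [hv]; exact F.v_nd.1)) h1)
    exact ⟨c⁻¹, by rw [inv_inv, hc]⟩
  · -- Fc
    intro a b ha hb hab hne
    have h1 := F.Fc _ _ (nd2 ha) (nd2 hb) (commπ hab) (ne2 ha.1 hb.1 hab hne)
    rw [← map_mul] at h1
    refine nd1 ?_ h1
    calc a * b * (a * b) = a * (b * a) * b := by group
      _ = a * (a * b) * b := by rw [hab]
      _ = (a * a) * (b * b) := by group
      _ = 1 := by rw [ha.1, hb.1, one_mul]
  · -- F1
    intro a b ha hb hab hne
    obtain ⟨h, hh⟩ := F.F1 _ _ (nd2 ha) (nd2 hb) (commπ hab) (ne2 ha.1 hb.1 hab hne)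
    refine hlift (two_cl2 ha.1 hb.1 hab) hWp mapW h ?_
    intro k
    rw [MonoidHom.map_closure, Set.image_pair]
    exact hh k
  · -- F2
    intro a b c ha hb hc hab hac hbc hne hca hcb hcab
    have hab2 : (a * b) * (a * b) = 1 := by
      calc a * b * (a * b) = a * (b * a) * b := by group
        _ = a * (a * b) * b := by rw [hab]
        _ = (a * a) * (b * b) := by group
        _ = 1 := by rw [ha.1, hb.1, one_mul]
    have hcc : c * (a * b) = a * b * c := by
      calc c * (a * b) = (c * a) * b := by group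
        _ = a * (c * b) := by rw [← hac]; group
        _ = a * b * c := by rw [← hbc]; group
    obtain ⟨h, hh⟩ := F.F2 _ _ _ (nd2 ha) (nd2 hb) (nd2 hc) (commπ hab) (commπ hac) (commπ hbc)
      (ne2 ha.1 hb.1 hab hne) (ne2 hc.1 ha.1 hac.symm hca) (ne2 hc.1 hb.1 hbc.symm hcb)
      (by rw [← map_mul]; exact ne2 hc.1 hab2 hcc hcab)
    refine hlift (two_cl3 ha.1 hb.1 hc.1 hab hac hbc) hYp mapY h ?_
    intro k
    rw [MonoidHom.map_closure, Set.image_insert_eq, Set.image_pair]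
    exact hh k
  · -- Fa
    intro x hx
    have hx' := mY.1 hx
    refine inj (mulS htS hx'.1) (mulS hx'.1 htS) ?_
    rw [map_mul, map_mul, ht]
    exact F.Fa _ hx'.2
  · -- Fd
    intro u hu4 hu2
    have hup := four hu4
    have h1 : (π u * π u) * (π u * π u) = 1 := by rw [← map_mul, ← map_mul, hu4, map_one]
    have h2 : π u * π u ≠ 1 := by
      intro h
      apply hu2
      refine injOn hodd hup ((zpowers u).mul_mem (mem_zpowers _) (mem_zpowers _)) (one_mem _) ?_
      rw [map_mul, h, map_one]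
    obtain ⟨n1, ⟨a, ha, hau⟩, b, hb, hbu2, hbu⟩ := F.Fd _ h1 h2
    refine ⟨nd1 hu4 (by rw [map_mul]; exact n1), ?_, ?_⟩
    · obtain ⟨a', ha', haa, hac⟩ := exists_inv_lift hsurj hodd hup (sqc ha) (by
        rintro _ ⟨k, rfl⟩
        show a * π (u ^ k) = π (u ^ k) * a
        rw [map_zpow]
        exact comm_zpowers hau _ ⟨k, rfl⟩)
      exact ⟨a', cj1 haa (by rw [ha']; exact ha), hac u (mem_zpowers _)⟩
    · obtain ⟨b', hb', hbb, hbc⟩ := exists_inv_lift hsurj hodd hup hb.1 (by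
        rintro _ ⟨k, rfl⟩
        show b * π (u ^ k) = π (u ^ k) * b
        rw [map_zpow]
        exact comm_zpowers hbu _ ⟨k, rfl⟩)
      refine ⟨b', nd1 hbb (by rw [hb']; exact hb), ?_, hbc u (mem_zpowers _)⟩
      rintro rfl
      exact hbu2 (by rw [← hb', map_mul])
  · -- Gb
    intro u huW hu2W hu2
    have hA : IsPGroup 2 (W ⊔ zpowers u : Subgroup H) := by
      have hu4 : (u * u) * (u * u) = 1 := by
        have h1 := F.nd_Y3 _ (mY.1 (hWY hu2W)).2 (fun h => hu2 (inj (hWS hu2W) S.one_mem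
          (by rw [h, map_one])))
        exact sq1 (hWS hu2W) h1.1
      refine two_sup hWp (four hu4) ?_
      intro a ha b hb
      exact (comm_zpowers (huW a ha).symm b hb)
    have h2 : π u * π u ≠ 1 := by
      intro h
      apply hu2
      exact inj (hWS hu2W) S.one_mem (by rw [map_mul, h, map_one])
    obtain ⟨a, b, ha, haW, hau, hb, hbW, hbW', hbu⟩ := F.Gb (π u) (cW huW)
      (by rw [← map_mul]; exact (mW.1 hu2W).2) h2
    have key : ∀ c : K, c * c = 1 → (∀ x ∈ F.W, c * x = x * c) → c * π u = π u * c →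
        ∃ c' : H, π c' = c ∧ c' * c' = 1 ∧ (∀ x ∈ W, c' * x = x * c') ∧ c' * u = u * c' := by
      intro c hcc hcW hcu
      obtain ⟨c', h1, h2, h3⟩ := exists_inv_lift hsurj hodd hA hcc (by
        have h4 : (W ⊔ zpowers u).map π ≤ centralizer ({c} : Set K) := by
          rw [Subgroup.map_sup, sup_le_iff]
          constructor
          · rintro _ ⟨x, hx, rfl⟩
            exact mem_centralizer_singleton_iff.mpr (hcW _ (mW.1 hx).2).symm
          · rw [MonoidHom.map_zpowers, zpowers_le]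
            exact mem_centralizer_singleton_iff.mpr hcu.symm
        intro x hx
        exact (mem_centralizer_singleton_iff.mp (h4 ⟨x, hx, rfl⟩)).symm)
      exact ⟨c', h1, h2, fun x hx => h3 x (mem_sup_left hx), h3 u (mem_sup_right (mem_zpowers _))⟩
    obtain ⟨a', ha', haa, haW', hau'⟩ := key a (sqc ha) haW hau
    obtain ⟨b', hb', hbb, hbW'', hbu'⟩ := key b hb.1 hbW' hbu
    refine ⟨a', b', cj1 haa (by rw [ha']; exact ha), haW', hau', nd1 hbb (by rw [hb']; exact hb),
      ?_, hbW'', hbu'⟩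
    intro h
    exact hbW (by rw [← hb']; exact (mW.1 h).2)
  · -- Gc
    intro u u' x huW hu'W hxW huu' hu2W hu2 hu2W' hu2' hne hxx hxnW hxu hxu'
    have sqW : ∀ {a : H}, a * a ∈ W → a * a ≠ 1 → (a * a) * (a * a) = 1 := by
      intro a haW ha
      have h1 := F.nd_Y3 _ (mY.1 (hWY haW)).2 (fun h => ha (inj (hWS haW) S.one_mem
          (by rw [h, map_one])))
      exact sq1 (hWS haW) h1.1
    have hB : IsPGroup 2 (zpowers u ⊔ zpowers u' : Subgroup H) := by
      refine two_sup (four (sqW hu2W hu2)) (four (sqW hu2W' hu2')) ?_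
      intro a ha b hb
      exact comm_zpowers (comm_zpowers huu'.symm a ha).symm b hb
    have hA : IsPGroup 2 (W ⊔ (zpowers u ⊔ zpowers u') : Subgroup H) := by
      refine two_sup hWp hB ?_
      intro a ha
      exact comm_sup (comm_zpowers (huW a ha).symm) (comm_zpowers (hu'W a ha).symm)
    have ne1 : ∀ {a : H}, a * a ∈ W → a * a ≠ 1 → π a * π a ≠ 1 := by
      intro a haW ha h
      apply ha
      exact inj (hWS haW) S.one_mem (by rw [map_mul, h, map_one])
    have hxn : π x ∉ F.W := by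
      intro h
      apply hxnW
      obtain ⟨a, ha, hax⟩ := secW h
      have h1 : IsPGroup 2 (W ⊔ zpowers x : Subgroup H) := by
        refine two_sup hWp (two_zpowers (n := 1) (by rw [pow_one, pow_two]; exact hxx)) ?_
        intro a ha b hb
        exact (comm_zpowers (hxW a ha).symm b hb)
      have h2 : a = x := injOn hodd h1 (mem_sup_left ha) (mem_sup_right (mem_zpowers x)) hax
      rw [← h2]
      exact ha
    obtain ⟨a, b, ha, haW, hau, hau', hb, hbW, hbW', hbu, hbu'⟩ := F.Gc (π u) (π u') (π x) (cW huW)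
      (cW hu'W) (cW hxW) (commπ huu') (by rw [← map_mul]; exact (mW.1 hu2W).2) (ne1 hu2W hu2)
      (by rw [← map_mul]; exact (mW.1 hu2W').2) (ne1 hu2W' hu2')
      (by
        intro h
        apply hne
        exact inj (hWS hu2W) (hWS hu2W') (by rw [map_mul, map_mul, h]))
      (by rw [← map_mul, hxx, map_one]) hxn (commπ hxu)
      (by rw [← map_mul, ← map_mul, hxu', map_inv])
    have key : ∀ c : K, c * c = 1 → (∀ x ∈ F.W, c * x = x * c) → c * π u = π u * c →
        c * π u' = π u' * c →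
        ∃ c' : H, π c' = c ∧ c' * c' = 1 ∧ (∀ x ∈ W, c' * x = x * c') ∧ c' * u = u * c' ∧
          c' * u' = u' * c' := by
      intro c hcc hcW hcu hcu'
      obtain ⟨c', h1, h2, h3⟩ := exists_inv_lift hsurj hodd hA hcc (by
        have h4 : (W ⊔ (zpowers u ⊔ zpowers u')).map π ≤ centralizer ({c} : Set K) := by
          rw [Subgroup.map_sup, Subgroup.map_sup, sup_le_iff, sup_le_iff]
          refine ⟨?_, ?_, ?_⟩
          · rintro _ ⟨x, hx, rfl⟩
            exact mem_centralizer_singleton_iff.mpr (hcW _ (mW.1 hx).2).symm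
          · rw [MonoidHom.map_zpowers, zpowers_le]
            exact mem_centralizer_singleton_iff.mpr hcu.symm
          · rw [MonoidHom.map_zpowers, zpowers_le]
            exact mem_centralizer_singleton_iff.mpr hcu'.symm
        intro x hx
        exact (mem_centralizer_singleton_iff.mp (h4 ⟨x, hx, rfl⟩)).symm)
      exact ⟨c', h1, h2, fun x hx => h3 x (mem_sup_left hx),
        h3 u (mem_sup_right (mem_sup_left (mem_zpowers _))),
        h3 u' (mem_sup_right (mem_sup_right (mem_zpowers _)))⟩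
    obtain ⟨a', ha', haa, haW', hau1, hau2⟩ := key a (sqc ha) haW hau hau'
    obtain ⟨b', hb', hbb, hbW'', hbu1, hbu2⟩ := key b hb.1 hbW' hbu hbu'
    refine ⟨a', b', cj1 haa (by rw [ha']; exact ha), haW', hau1, hau2,
      nd1 hbb (by rw [hb']; exact hb), ?_, hbW'', hbu1, hbu2⟩
    intro h
    exact hbW (by rw [← hb']; exact (mW.1 h).2)
  · -- H1
    intro p hp hpY
    refine mY.2 ⟨mulS hp hp, ?_⟩
    rw [map_mul]
    exact F.H1 _ (mapS hp) (cY hpY)
  · -- comm_K3
    intro a ha b hb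
    have ha' := mN.1 ha
    have hb' := mN.1 hb
    refine inj (mulS ha'.1 hb'.1) (mulS hb'.1 ha'.1) ?_
    rw [map_mul, map_mul]
    exact F.comm_K3 _ ha'.2 _ hb'.2
  · -- free_K3
    intro k hk h
    exact F.free_K3 _ (mN.1 hk).2 (cj2 h)
  · -- sq_K3
    intro k hk
    refine mY.2 ⟨mulS (mN.1 hk).1 (mN.1 hk).1, ?_⟩
    rw [map_mul]
    exact F.sq_K3 _ (mN.1 hk).2
  · -- ker_K3
    intro k hk hkk
    exact mY.2 ⟨(mN.1 hk).1, F.ker_K3 _ (mN.1 hk).2 (by rw [← map_mul, hkk, map_one])⟩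
  · -- inv_K3
    intro k hk
    have hk' := mN.1 hk
    refine inj (mulS (mulS htS hk'.1) htS) (S.inv_mem hk'.1) ?_
    rw [map_mul, map_mul, map_inv, ht]
    exact F.inv_K3 _ hk'.2
  · -- four_K3
    obtain ⟨k, hk, hkk⟩ := F.four_K3
    obtain ⟨k', hk', rfl⟩ := secN hk
    refine ⟨k', hk', ?_⟩
    intro h
    exact hkk (by rw [← map_mul, h, map_one])
  · -- P3_cases
    intro p hp hpY
    rcases F.P3_cases _ (mapS hp) (cY hpY) with h | h | h
    · exact Or.inl (mN.2 ⟨hp, h⟩)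
    · exact Or.inr (Or.inl (cj1 (sq1 hp (sqc h)) h))
    · refine Or.inr (Or.inr (mY.2 ⟨mulS (S.inv_mem heS) hp, ?_⟩))
      rw [map_mul, map_inv, he]
      exact h
  · -- e0_Y3
    intro x hx
    have hx' := mY.1 hx
    refine inj (mulS heS hx'.1) (mulS hx'.1 heS) ?_
    rw [map_mul, map_mul, he]
    exact F.e0_Y3 _ hx'.2
  · -- e0_K3
    intro h
    exact F.e0_K3 (by rw [← he]; exact (mN.1 h).2)
  · -- e0_mul
    exact sq1 heS (by rw [he]; exact F.e0_mul)
  · -- free_E
    intro x hx h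
    refine F.free_E _ (mY.1 hx).2 ?_
    have := cj2 h
    rwa [map_mul, he] at this
  · -- H6
    obtain ⟨d, hdS, hdY, hd1, hd2, hd3⟩ := F.H6
    obtain ⟨d', hd', rfl⟩ := sec hdS
    refine ⟨d', hd', ?_, ?_, ?_, ?_⟩
    · intro x hx
      have hx' := mY.1 hx
      refine inj (mulS hd' hx'.1) (mulS hx'.1 hd') ?_
      rw [map_mul, map_mul]
      exact hdY _ hx'.2
    · intro h
      exact hd1 (mY.1 h).2
    · intro h
      apply hd2
      have := (mY.1 h).2
      rwa [map_mul, map_inv, he] at this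
    · intro h
      apply hd3
      have := congrArg π h
      simpa only [map_mul, map_inv, he, ht] using this

end

end Cfsg.Agent.CoThreeStd.FactsLift
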