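import Cfsg.Agent.CoThreeStd.SylGrp

/-!
# The facts about `G3 = Co₃` used in the closing of S1750
-/

set_option autoImplicit false

namespace Cfsg.Agent.CoThreeStd.HInst

open Cfsg.Agent.LeechPack.X552 hiding S
open Cfsg.Agent.CoThreeStd.Model Cfsg.Agent.CoThreeStd.SylData
  Cfsg.Agent.CoThreeStd.SylTabs Cfsg.Agent.CoThreeStd.HFacts Cfsg.Agent.CoThreeStd.SylGrp

/-! ### The two classes of involutions -/

theorem not_conj_tv : ¬ IsConj (Φ 8) (Φ 512) := by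
  intro h
  obtain ⟨c, hc⟩ := isConj_iff.1 h
  obtain ⟨x, hx⟩ : ∃ x : Fin 552, ψ (Φ 512) x = x := by
    have h1 := v_fix_chk
    exact ⟨⟨_, by norm_num⟩, Fin.ext ((ψ_Φ 512 _).trans (Nat.eq_of_beq_eq_true h1))⟩
  have h2 : ψ (Φ 8) (ψ c⁻¹ x) = ψ c⁻¹ x := by
    have h3 : Φ 8 * c⁻¹ = c⁻¹ * Φ 512 := by rw [← hc]; group
    have h4 : ψ (Φ 8 * c⁻¹) x = ψ (c⁻¹ * Φ 512) x := by rw [h3]
    rw [map_mul, map_mul, Equiv.Perm.mul_apply, Equiv.Perm.mul_apply, hx] at h4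
    exact h4
  have h5 := nt_spec (allB_spec t_free_chk (ψ c⁻¹ x) (ψ c⁻¹ x).2)
  rw [← ψ_Φ, h2, Nat.beq_refl] at h5
  exact absurd h5 (by decide)

/-- conjugating to a representative -/
theorem rep_of {i : ℕ} (hi : i < 1024) {α : Type} {l : List α} {f : α → ℕ}
    (h : exL (fun e => Nat.beq (f e) (lk RH i)) l = true) :
    ∃ e ∈ l, ∃ s ∈ S, s⁻¹ * Φ i * s = Φ (f e) := by
  obtain ⟨e, he, h1⟩ := exL_spec h
  obtain ⟨s, hs, h2⟩ := conj_rep hi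
  rw [← Nat.eq_of_beq_eq_true h1] at h2
  exact ⟨e, he, s, hs, h2⟩

theorem DM_conj {i : ℕ} (hi : i < 1024) (h : tb DM i = true) : IsConj (Φ 8) (Φ i) := by
  obtain ⟨e, he, s, -, h1⟩ := rep_of hi (imp_spec (allB_spec DM_chk i hi) h)
  have h2 := cjc_spec (an_spec (faL_spec DL_chk e he)).2
  rw [← isConj_c s, h1, ← isConj_c (wd e.2), h2]

theorem NM_v {i : ℕ} (hi : i < 1024) (h : tb NM i = true) : ∃ g, g⁻¹ * Φ i * g = Φ 512 := by
  obtain ⟨e, he, s, -, h1⟩ := rep_of hi (imp_spec (allB_spec NM_chk i hi) h)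
  have h2 := cjc_spec (an_spec (faL_spec NL_chk e he)).2
  exact ⟨s * wd e.2, by rw [cc, h1, h2]⟩

theorem NM_nd {i : ℕ} (hi : i < 1024) (h : tb NM i = true) : Nd (Φ 8) (Φ i) := by
  obtain ⟨h1, h2⟩ := an_spec (imp_spec (allB_spec NM_sq_chk i hi) h)
  refine ⟨?_, ?_, ?_⟩
  · rw [Φ_sq hi, Nat.eq_of_beq_eq_true h1, Φ_zero]
  · intro h3
    rw [Φ_eq_one hi h3] at h2
    exact absurd (nt_spec h2) (by decide)
  · obtain ⟨g, hg⟩ := NM_v hi h
    rw [← isConj_c g, hg]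
    exact not_conj_tv

theorem nd_NM {i : ℕ} (hi : i < 1024) (h : Nd (Φ 8) (Φ i)) : tb NM i = true := by
  obtain ⟨h1, h2, h3⟩ := h
  rw [Φ_sq hi] at h1
  have h4 : lk SQ i = 0 := Φ_eq_one (lk_lt _ _) h1
  have h5 := imp_spec (allB_spec inv_chk i hi) (by rw [h4]; rfl)
  rcases or2_spec h5 with h6 | h6
  · rw [Nat.eq_of_beq_eq_true h6, Φ_zero] at h2
    exact absurd rfl h2
  rcases or2_spec h6 with h7 | h7
  · exact absurd (DM_conj hi h7) h3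
  · exact h7

theorem t_sq : Φ 8 * Φ 8 = 1 := by
  rw [Φ_sq (by norm_num)]
  have : lk SQ 8 = 0 := by decide +kernel
  rw [this, Φ_zero]

/-- involutions are conjugate into `S` -/
theorem inv_S {b : G3} (h : b * b = 1) : ∃ c : G3, ∃ i, i < 1024 ∧ c⁻¹ * b * c = Φ i := by
  have h1 := SylLem.two_closure (n := 1) (show b ^ 2 ^ 1 = 1 by rw [pow_one, pow_two, h])
  obtain ⟨c, hc⟩ := syl'.2 _ h1
  obtain ⟨i, hi, h2⟩ := mem_S.1 (hc b (Subgroup.subset_closure rfl))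
  exact ⟨c, i, hi, h2⟩

theorem F0 (b : G3) (h : Nd (Φ 8) b) : ∃ g, g⁻¹ * b * g = Φ 512 := by
  obtain ⟨c, i, hi, h1⟩ := inv_S h.1
  have h2 : Nd (Φ 8) (Φ i) := by rw [← h1]; exact (nd_c c).2 h
  obtain ⟨g, hg⟩ := NM_v hi (nd_NM hi h2)
  exact ⟨c * g, by rw [cc, h1, hg]⟩

theorem v_comm {i : ℕ} (hi : i < 1024) : Φ 512 * Φ i = Φ i * Φ 512 :=
  (com_iff (by norm_num) hi).1 (an_spec (allB_spec Fc_chk i hi)).1

theorem S_cv : S ≤ Subgroup.centralizer ({Φ 512} : Set G3) := by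
  intro g hg
  obtain ⟨i, hi, rfl⟩ := mem_S.1 hg
  rw [Subgroup.mem_centralizer_singleton_iff]
  exact (v_comm hi).symm

/-- two commuting `Nd` elements can be moved to `v` and an element of `S` -/
theorem pair {a b : G3} (ha : Nd (Φ 8) a) (hb : Nd (Φ 8) b) (hab : a * b = b * a) (hne : a ≠ b) :
    ∃ g, g⁻¹ * a * g = Φ 512 ∧ ∃ i, i < 1024 ∧ tb NM i = true ∧ i ≠ 512 ∧ g⁻¹ * b * g = Φ i := by
  obtain ⟨g, hg⟩ := F0 a ha
  have hb' : Nd (Φ 8) (g⁻¹ * b * g) := (nd_c g).2 hb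
  have hc : (g⁻¹ * b * g) * Φ 512 = Φ 512 * (g⁻¹ * b * g) := by
    rw [← hg]
    exact (c_comm g hab).symm
  have h1 := SylLem.two_closure (n := 1)
    (show (g⁻¹ * b * g) ^ 2 ^ 1 = 1 by rw [pow_one, pow_two, hb'.1])
  obtain ⟨c, hc1, hc2⟩ := SylLem.syl_in two_S syl'.2 S_cv _ h1 (by
    rw [Subgroup.closure_le]
    rintro x rfl
    exact Subgroup.mem_centralizer_singleton_iff.2 hc)
  obtain ⟨i, hi, h2⟩ := mem_S.1 (hc2 _ (Subgroup.subset_closure rfl))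
  rw [Subgroup.mem_centralizer_singleton_iff] at hc1
  have h3 : c⁻¹ * Φ 512 * c = Φ 512 := by rw [mul_assoc, ← hc1]; group
  refine ⟨g * c, by rw [cc, hg, h3], i, hi, nd_NM hi (by rw [← h2]; exact (nd_c c).2 hb'), ?_,
    by rw [cc, h2]⟩
  rintro rfl
  apply hne
  apply c_inj (h := g * c)
  rw [cc, cc, hg, h3, h2]

theorem Fc (a b : G3) (ha : Nd (Φ 8) a) (hb : Nd (Φ 8) b) (hab : a * b = b * a) (hne : a ≠ b) :
    Nd (Φ 8) (a * b) := by
  obtain ⟨g, hg, i, hi, hN, h512, h2⟩ := pair ha hb hab hne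
  rw [← nd_c g, c_mul, hg, h2, Φ_mul _ _ hi]
  apply NM_nd (mulS_lt _ _ hi)
  rcases or2_spec (imp_spec (an_spec (allB_spec Fc_chk i hi)).2 hN) with h | h
  · exact absurd (Nat.eq_of_beq_eq_true h) h512
  · exact h

/-- two commuting `Nd` elements can be moved to `v`, `w` -/
theorem pair' {a b : G3} (ha : Nd (Φ 8) a) (hb : Nd (Φ 8) b) (hab : a * b = b * a) (hne : a ≠ b) :
    ∃ g, g⁻¹ * a * g = Φ 512 ∧ g⁻¹ * b * g = Φ 256 := by
  obtain ⟨g, hg, i, hi, hN, h512, h2⟩ := pair ha hb hab hne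
  rcases or2_spec (imp_spec (allB_spec F1_chk i hi) hN) with h | h
  · exact absurd (Nat.eq_of_beq_eq_true h) h512
  obtain ⟨e, he, s, hs, h3⟩ := rep_of hi h
  obtain ⟨h4, h5⟩ := an_spec (an_spec (faL_spec F1L_chk e he)).2
  have h6 : s⁻¹ * Φ 512 * s = Φ 512 := by
    have := Subgroup.mem_centralizer_singleton_iff.1 (S_cv hs)
    rw [mul_assoc, ← this]; group
  exact ⟨g * (s * wd e.2), by rw [cc, hg, cc, h6, cjc_spec h4], by rw [cc, h2, cc, h3, cjc_spec h5]⟩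

theorem Φ512_W : Φ 512 ∈ W := (Φ_W (by norm_num)).2 (by norm_num)
theorem Φ256_W : Φ 256 ∈ W := (Φ_W (by norm_num)).2 (by norm_num)

theorem F1 (a b : G3) (ha : Nd (Φ 8) a) (hb : Nd (Φ 8) b) (hab : a * b = b * a) (hne : a ≠ b) :
    ∃ g, ∀ x, x ∈ Subgroup.closure ({a, b} : Set G3) ↔ g⁻¹ * x * g ∈ W := by
  obtain ⟨g, h1, h2⟩ := pair' ha hb hab hne
  refine ⟨g, fun x => ?_⟩
  rw [SylLem.mem_closure2_conj a b g x, SylLem.closure2_eq card_W (by rw [h1]; exact Φ512_W)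
    (by rw [h2]; exact Φ256_W) ?_ ?_ ?_]
  · rw [Ne, c_eq_one]; exact ha.2.1
  · rw [Ne, c_eq_one]; exact hb.2.1
  · exact fun e => hne (c_inj e)

/-! ### The centraliser of `W` -/

theorem mem_W (x : G3) : x ∈ W ↔ x = 1 ∨ x = Φ 512 ∨ x = Φ 256 ∨ x = Φ 512 * Φ 256 := by
  have h768 : Φ 512 * Φ 256 = Φ 768 := by
    rw [Φ_mul _ _ (by norm_num), Nat.eq_of_beq_eq_true (an_spec W_chk).1]
  rw [h768]
  constructor
  · rintro ⟨i, hi, hi', rfl⟩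
    have h : i = 0 ∨ i = 512 ∨ i = 256 ∨ i = 768 := by omega
    rcases h with rfl | rfl | rfl | rfl
    · exact Or.inl Φ_zero
    · exact Or.inr (Or.inl rfl)
    · exact Or.inr (Or.inr (Or.inl rfl))
    · exact Or.inr (Or.inr (Or.inr rfl))
  · rintro (rfl | rfl | rfl | rfl)
    · exact W.one_mem
    · exact Φ512_W
    · exact Φ256_W
    · exact (Φ_W (by norm_num)).2 (by norm_num)

theorem cW {g : G3} (h1 : g * Φ 512 = Φ 512 * g) (h2 : g * Φ 256 = Φ 256 * g) :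
    ∀ x ∈ W, g * x = x * g := by
  intro x hx
  rcases (mem_W x).1 hx with rfl | rfl | rfl | rfl
  · simp
  · exact h1
  · exact h2
  · rw [← mul_assoc, h1, mul_assoc, h2, mul_assoc]

theorem even_iff {i : ℕ} (hi : i < 1024) : (∀ x ∈ W, Φ i * x = x * Φ i) ↔ i % 2 = 0 := by
  have h0 := an_spec (allB_spec even_chk i hi)
  have h1 := an_spec h0.2
  constructor
  · intro h
    have h2 := (com_iff hi (by norm_num : 256 < 1024)).2 (h _ Φ256_W)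
    exact Nat.eq_of_beq_eq_true (imp_spec h0.1 h2)
  · intro h
    refine cW (v_comm hi).symm ?_
    apply (com_iff hi (by norm_num)).1
    exact imp_spec h1.1 (by rw [show Nat.mod i 2 = 0 from h]; rfl)

theorem cW_le {g : G3} (h : ∀ x ∈ W, g * x = x * g) : g ∈ Subgroup.normalizer (W : Set G3) := by
  apply Subgroup.mem_normalizer_fintype
  intro x hx
  have : g * x * g⁻¹ = x := by rw [h x hx]; group
  rw [this]
  exact hx

/-- conjugates of elements centralising `W` -/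
theorem cW_c {g n : G3} (hn : n ∈ Subgroup.normalizer (W : Set G3)) (h : ∀ x ∈ W, g * x = x * g) :
    ∀ x ∈ W, (n⁻¹ * g * n) * x = x * (n⁻¹ * g * n) := by
  intro x hx
  have h1 : n * x * n⁻¹ ∈ W := (Subgroup.mem_normalizer_iff.1 hn x).1 hx
  have h2 := h _ h1
  have h3 : n⁻¹ * (n * x * n⁻¹) * n = x := by group
  rw [← h3, ← c_mul, ← c_mul, h2]

theorem W_c {n x : G3} (hn : n ∈ Subgroup.normalizer (W : Set G3)) : n⁻¹ * x * n ∈ W ↔ x ∈ W := by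
  rw [Subgroup.mem_normalizer_iff.1 hn (n⁻¹ * x * n)]
  have : n * (n⁻¹ * x * n) * n⁻¹ = x := by group
  rw [this]

/-- a 2-subgroup of `N(W)` is conjugate into `S` inside `N(W)` -/
theorem syl_W (X : Set G3) (hX : IsPGroup 2 (Subgroup.closure X))
    (h : ∀ x ∈ X, ∀ y ∈ W, x * y = y * x) : ∃ n ∈ Subgroup.normalizer (W : Set G3),
    ∀ x ∈ X, ∃ i, i < 1024 ∧ i % 2 = 0 ∧ n⁻¹ * x * n = Φ i := by
  obtain ⟨n, hn, h1⟩ := SylLem.syl_in two_S syl'.2 S_W _ hX (by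
    rw [Subgroup.closure_le]
    exact fun x hx => cW_le (h x hx))
  refine ⟨n, hn, fun x hx => ?_⟩
  obtain ⟨i, hi, h2⟩ := mem_S.1 (h1 x (Subgroup.subset_closure hx))
  refine ⟨i, hi, (even_iff hi).1 ?_, h2⟩
  rw [← h2]
  exact cW_c hn (h x hx)

theorem F2 (a b c : G3) (ha : Nd (Φ 8) a) (hb : Nd (Φ 8) b) (hc : Nd (Φ 8) c) (hab : a * b = b * a)
    (hac : a * c = c * a) (hbc : b * c = c * b) (hne : a ≠ b) (hca : c ≠ a) (hcb : c ≠ b)
    (hcab : c ≠ a * b) :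
    ∃ g, ∀ x, x ∈ Subgroup.closure ({a, b, c} : Set G3) ↔ g⁻¹ * x * g ∈ Y3 := by
  obtain ⟨g, h1, h2⟩ := pair' ha hb hab hne
  have hc' : Nd (Φ 8) (g⁻¹ * c * g) := (nd_c g).2 hc
  have hcW : ∀ y ∈ W, (g⁻¹ * c * g) * y = y * (g⁻¹ * c * g) := by
    apply cW
    · rw [← h1]; exact c_comm g hac.symm
    · rw [← h2]; exact c_comm g hbc.symm
  have h3 := SylLem.two_closure (n := 1)
    (show (g⁻¹ * c * g) ^ 2 ^ 1 = 1 by rw [pow_one, pow_two, hc'.1])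
  obtain ⟨n, hn, h4⟩ := syl_W {g⁻¹ * c * g} h3 (by rintro x rfl; exact hcW)
  obtain ⟨i, hi, hi2, h5⟩ := h4 _ rfl
  have hcnW : g⁻¹ * c * g ∉ W := by
    intro h6
    rcases (mem_W _).1 h6 with h | h | h | h
    · exact hc.2.1 (c_eq_one.1 h)
    · exact hca (c_inj (h.trans h1.symm))
    · exact hcb (c_inj (h.trans h2.symm))
    · apply hcab
      apply c_inj (h := g)
      rw [h, c_mul, h1, h2]
  have h6 : i % 256 ≠ 0 := by
    intro h7
    apply hcnW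
    rw [← W_c hn, h5]
    exact (Φ_W hi).2 h7
  have hN : tb NM i = true := nd_NM hi (by rw [← h5]; exact (nd_c n).2 hc')
  have h7 := imp_spec (imp_spec (imp_spec (allB_spec F2_chk i hi) hN)
    (by rw [show Nat.mod i 2 = 0 from hi2]; rfl))
    (nt_intro (by
      cases hb : Nat.beq (Nat.mod i 256) 0 with
      | false => rfl
      | true => exact absurd (Nat.eq_of_beq_eq_true hb) h6))
  obtain ⟨e, he, s, hs, h8⟩ := rep_of hi h7
  have h9 := (an_spec (faL_spec F2L_chk e he)).2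
  obtain ⟨c1, h10⟩ := an_spec h9
  obtain ⟨c2, h11⟩ := an_spec h10
  obtain ⟨c3, h12⟩ := an_spec h11
  obtain ⟨m1, h13⟩ := an_spec h12
  obtain ⟨m2, m3⟩ := an_spec h13
  have hmY : ∀ {j : ℕ}, mul0 128 j = true → Φ j ∈ Y3 := by
    intro j hj
    obtain ⟨hj1, hj2⟩ := an_spec hj
    have hj1' : j < 1024 := Nat.le_of_ble_eq_true hj1
    exact (Φ_Y3 hj1').2 (Nat.eq_of_beq_eq_true hj2)
  have hWY : ∀ x ∈ W, (wd e.2.1)⁻¹ * x * wd e.2.1 ∈ Y3 := by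
    intro x hx
    rcases (mem_W x).1 hx with rfl | rfl | rfl | rfl
    · rw [c_one]; exact Y3.one_mem
    · rw [cjc_spec c1]; exact hmY m1
    · rw [cjc_spec c2]; exact hmY m2
    · rw [c_mul, cjc_spec c1, cjc_spec c2]; exact Y3.mul_mem (hmY m1) (hmY m2)
  have hns : n * s ∈ Subgroup.normalizer (W : Set G3) := Subgroup.mul_mem _ hn (S_W hs)
  refine ⟨g * (n * s * wd e.2.1), fun x => ?_⟩
  have ka : (g * (n * s * wd e.2.1))⁻¹ * a * (g * (n * s * wd e.2.1)) ∈ Y3 := by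
    rw [cc, h1, cc]
    exact hWY _ ((W_c hns).2 Φ512_W)
  have kb : (g * (n * s * wd e.2.1))⁻¹ * b * (g * (n * s * wd e.2.1)) ∈ Y3 := by
    rw [cc, h2, cc]
    exact hWY _ ((W_c hns).2 Φ256_W)
  have kc : (g * (n * s * wd e.2.1))⁻¹ * c * (g * (n * s * wd e.2.1)) ∈ Y3 := by
    rw [cc, cc _ (wd e.2.1), cc n s, h5, h8, cjc_spec c3]
    exact hmY m3
  rw [SylLem.mem_closure3_conj a b c (g * (n * s * wd e.2.1)) x, SylLem.closure3_eq card_Y3 ka kb kc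
    (by rw [← c_mul, ha.1, c_one]) (by rw [← c_mul, hb.1, c_one]) ?_ ?_ ?_ ?_ ?_ ?_ ?_]
  · rw [Ne, c_eq_one]; exact ha.2.1
  · rw [Ne, c_eq_one]; exact hb.2.1
  · exact fun e => hne (c_inj e)
  · rw [Ne, c_eq_one]; exact hc.2.1
  · exact fun e => hca (c_inj e)
  · exact fun e => hcb (c_inj e)
  · rw [← c_mul]
    exact fun e => hcab (c_inj e)

/-! ### (Fd) -/

/-- the statement (Fd) -/
def Q (u : G3) : Prop := Nd (Φ 8) (u * u) ∧ (∃ a, IsConj (Φ 8) a ∧ a * u = u * a) ∧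
  ∃ b, Nd (Φ 8) b ∧ b ≠ u * u ∧ b * u = u * b

theorem Q_c {u h : G3} (hQ : Q (h⁻¹ * u * h)) : Q u := by
  obtain ⟨h1, ⟨a, ha, ha'⟩, b, hb, hb', hb''⟩ := hQ
  rw [← c_mul] at h1 hb'
  refine ⟨(nd_c h).1 h1, ⟨h * a * h⁻¹, ?_, ?_⟩, h * b * h⁻¹, ?_, ?_, ?_⟩
  · rw [← isConj_c h, c_back]; exact ha
  · rw [← c_comm_iff h, c_back]; exact ha'
  · rw [← nd_c h, c_back]; exact hb
  · intro e
    apply hb'
    rw [← e, c_back]
  · rw [← c_comm_iff h, c_back]; exact hb''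

theorem lt_of_mul0 {n i : ℕ} (h : mul0 n i = true) : i < 1024 := Nat.le_of_ble_eq_true (an_spec h).1

theorem mod_of_mul0 {n i : ℕ} (h : mul0 n i = true) : i % n = 0 :=
  Nat.eq_of_beq_eq_true (an_spec h).2

theorem Q_FDL {e : ℕ × ℕ × ℕ} (he : e ∈ FDL) : Q (Φ e.1) := by
  obtain ⟨h1, h⟩ := an_spec (faL_spec FDL_chk e he)
  obtain ⟨h2, h⟩ := an_spec h
  obtain ⟨h3, h⟩ := an_spec h
  obtain ⟨h4, h⟩ := an_spec h
  obtain ⟨h5, h⟩ := an_spec h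
  obtain ⟨h6, h⟩ := an_spec h
  obtain ⟨h7, h⟩ := an_spec h
  obtain ⟨h8, h9⟩ := an_spec h
  have l1 := lt_of_mul0 h1
  have l2 := lt_of_mul0 h2
  have l3 := lt_of_mul0 h3
  refine ⟨?_, ⟨Φ e.2.1, DM_conj l2 h4, (com_iff l2 l1).1 h5⟩, Φ e.2.2, NM_nd l3 h6, ?_,
    (com_iff l3 l1).1 h7⟩
  · rw [Φ_sq l1]
    exact NM_nd (lk_lt _ _) h9
  · rw [Φ_sq l1]
    intro h10
    have h11 := Φ_inj l3 (lk_lt _ _) h10
    rw [← h11, Nat.beq_refl] at h8
    exact absurd (nt_spec h8) (by decide)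

theorem Fd (u : G3) (hu : (u * u) * (u * u) = 1) (hu1 : u * u ≠ 1) : Q u := by
  have h0 : u ^ 2 ^ 2 = 1 := by
    rw [show (2 : ℕ) ^ 2 = 2 + 2 by norm_num, pow_add, pow_two, hu]
  obtain ⟨c, hc⟩ := syl'.2 _ (SylLem.two_closure h0)
  obtain ⟨i, hi, h2⟩ := mem_S.1 (hc u (Subgroup.subset_closure rfl))
  apply Q_c (h := c)
  rw [h2]
  have e1 : lk SQ (lk SQ i) = 0 := by
    apply Φ_eq_one (lk_lt _ _)
    rw [← Φ_sq (lk_lt _ _), ← Φ_sq hi, ← h2, ← c_mul, ← c_mul, hu, c_one]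
  have e2 : lk SQ i ≠ 0 := by
    intro e3
    apply hu1
    rw [← c_eq_one (h := c), c_mul, h2, Φ_sq hi, e3, Φ_zero]
  have h3 := imp_spec (allB_spec FD_chk i hi) (an_intro (nt_intro (by
      cases hb : Nat.beq (lk SQ i) 0 with
      | false => rfl
      | true => exact absurd (Nat.eq_of_beq_eq_true hb) e2)) (by rw [e1]; rfl))
  rcases or2_spec h3 with h4 | h4
  · obtain ⟨e, he, s, -, h5⟩ := rep_of hi h4
    apply Q_c (h := s)
    rw [h5]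
    exact Q_FDL he
  · obtain ⟨e, he, s, -, h5⟩ := rep_of hi h4
    apply Q_c (h := s)
    rw [h5]
    obtain ⟨k1, h⟩ := an_spec (faL_spec BDL_chk e he)
    obtain ⟨k2, h⟩ := an_spec h
    obtain ⟨k3, k4⟩ := an_spec h
    apply Q_c (h := wd e.2.1)
    rw [cjc_spec k3]
    obtain ⟨f, hf, s', -, h6⟩ := rep_of (lt_of_mul0 k2) k4
    apply Q_c (h := s')
    rw [h6]
    exact Q_FDL hf

/-! ### (Gb) and (Gc) -/

theorem isG_of {i : ℕ} (hi : i < 1024) (h2 : i % 2 = 0) (h3 : Φ i * Φ i ∈ W) (h4 : Φ i * Φ i ≠ 1) :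
    isG i = true := by
  rw [Φ_sq hi] at h3 h4
  have h5 := (Φ_W (lk_lt _ _)).1 h3
  refine an_intro (by rw [show Nat.mod i 2 = 0 from h2]; rfl) ?_
  rw [fr_eq]
  refine an_intro (nt_intro ?_) (by rw [show Nat.mod (lk SQ i) 256 = 0 from h5]; rfl)
  cases hb : Nat.beq (lk SQ i) 0 with
  | false => rfl
  | true =>
    rw [Nat.eq_of_beq_eq_true hb, Φ_zero] at h4
    exact absurd rfl h4

/-- the statement (Gb) -/
def R (u : G3) : Prop := ∃ a b, IsConj (Φ 8) a ∧ (∀ x ∈ W, a * x = x * a) ∧ a * u = u * a ∧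
  Nd (Φ 8) b ∧ b ∉ W ∧ (∀ x ∈ W, b * x = x * b) ∧ b * u = u * b

/-- the statement (Gc) -/
def T (u u' : G3) : Prop := ∃ a b, IsConj (Φ 8) a ∧ (∀ x ∈ W, a * x = x * a) ∧ a * u = u * a ∧
  a * u' = u' * a ∧ Nd (Φ 8) b ∧ b ∉ W ∧ (∀ x ∈ W, b * x = x * b) ∧ b * u = u * b ∧ b * u' = u' * b

theorem cW_back {n g : G3} (hn : n ∈ Subgroup.normalizer (W : Set G3)) (h : ∀ x ∈ W, g * x = x * g) :
    ∀ x ∈ W, (n * g * n⁻¹) * x = x * (n * g * n⁻¹) := by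
  have := cW_c (Subgroup.inv_mem _ hn) h
  rwa [inv_inv] at this

theorem W_back {n x : G3} (hn : n ∈ Subgroup.normalizer (W : Set G3)) : n * x * n⁻¹ ∈ W ↔ x ∈ W := by
  rw [← Subgroup.mem_normalizer_iff.1 hn x]

theorem T_c {u u' n : G3} (hn : n ∈ Subgroup.normalizer (W : Set G3))
    (h : T (n⁻¹ * u * n) (n⁻¹ * u' * n)) : T u u' := by
  obtain ⟨a, b, h1, h2, h3, h4, h5, h6, h7, h8, h9⟩ := h
  refine ⟨n * a * n⁻¹, n * b * n⁻¹, ?_, cW_back hn h2, ?_, ?_, ?_, ?_, cW_back hn h7, ?_, ?_⟩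
  · rw [← isConj_c n, c_back]; exact h1
  · rw [← c_comm_iff n, c_back]; exact h3
  · rw [← c_comm_iff n, c_back]; exact h4
  · rw [← nd_c n, c_back]; exact h5
  · rw [W_back hn]; exact h6
  · rw [← c_comm_iff n, c_back]; exact h8
  · rw [← c_comm_iff n, c_back]; exact h9

theorem R_c {u n : G3} (hn : n ∈ Subgroup.normalizer (W : Set G3)) (h : R (n⁻¹ * u * n)) : R u := by
  obtain ⟨a, b, h1, h2, h3, h5, h6, h7, h8⟩ := h
  refine ⟨n * a * n⁻¹, n * b * n⁻¹, ?_, cW_back hn h2, ?_, ?_, ?_, cW_back hn h7, ?_⟩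
  · rw [← isConj_c n, c_back]; exact h1
  · rw [← c_comm_iff n, c_back]; exact h3
  · rw [← nd_c n, c_back]; exact h5
  · rw [W_back hn]; exact h6
  · rw [← c_comm_iff n, c_back]; exact h8

theorem R_GBL {e : ℕ × ℕ × ℕ} (he : e ∈ GBL) : R (Φ e.1) := by
  obtain ⟨h1, h⟩ := an_spec (faL_spec GBL_chk e he)
  obtain ⟨h2, h⟩ := an_spec h
  obtain ⟨h3, h⟩ := an_spec h
  obtain ⟨h4, h⟩ := an_spec h
  obtain ⟨h5, h⟩ := an_spec h
  obtain ⟨h6, h⟩ := an_spec h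
  obtain ⟨h7, h8⟩ := an_spec h
  have l1 := lt_of_mul0 h1
  have l2 := lt_of_mul0 h2
  have l3 := lt_of_mul0 h3
  refine ⟨Φ e.2.1, Φ e.2.2, DM_conj l2 h4, (even_iff l2).2 (mod_of_mul0 h2), (com_iff l2 l1).1 h5,
    NM_nd l3 h6, ?_, (even_iff l3).2 (mod_of_mul0 h3), (com_iff l3 l1).1 h7⟩
  rw [Φ_W l3]
  intro h9
  rw [show Nat.mod e.2.2 256 = 0 from h9] at h8
  exact absurd (nt_spec h8) (by decide)

theorem Gb (u : G3) (h1 : ∀ x ∈ W, u * x = x * u) (h2 : u * u ∈ W) (h3 : u * u ≠ 1) : R u := by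
  have hW2 : ∀ x ∈ W, x * x = 1 := by
    intro x hx
    obtain ⟨i, hi, hi', rfl⟩ := mem_W'.1 hx
    have h : lk SQ i = 0 := by
      have : i = 0 ∨ i = 512 ∨ i = 256 ∨ i = 768 := by omega
      rcases this with rfl | rfl | rfl | rfl <;> decide +kernel
    rw [Φ_sq hi, h, Φ_zero]
  have h0 : u ^ 2 ^ 2 = 1 := by
    rw [show (2 : ℕ) ^ 2 = 2 + 2 by norm_num, pow_add, pow_two, hW2 _ h2]
  obtain ⟨n, hn, h4⟩ := syl_W {u} (SylLem.two_closure h0) (by rintro x rfl; exact h1)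
  obtain ⟨i, hi, hi2, h5⟩ := h4 _ rfl
  apply R_c hn
  rw [h5]
  have h6 : isG i = true := by
    apply isG_of hi hi2
    · rw [← h5, ← c_mul, W_c hn]; exact h2
    · rw [← h5, ← c_mul, Ne, c_eq_one]; exact h3
  obtain ⟨e, he, s, hs, h7⟩ := rep_of hi (imp_spec (allB_spec GB_chk i hi) h6)
  apply R_c (S_W hs)
  rw [h7]
  exact R_GBL he

theorem Gc (u u' x : G3) (h1 : ∀ y ∈ W, u * y = y * u) (h2 : ∀ y ∈ W, u' * y = y * u')
    (h3 : ∀ y ∈ W, x * y = y * x) (h4 : u * u' = u' * u) (h5 : u * u ∈ W) (h6 : u * u ≠ 1)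
    (h7 : u' * u' ∈ W) (h8 : u' * u' ≠ 1) (h9 : u * u ≠ u' * u') (h10 : x * x = 1) (h11 : x ∉ W)
    (h12 : x * u = u * x) (h13 : x * u' * x = u'⁻¹) : T u u' := by
  have hW2 : ∀ x ∈ W, x * x = 1 := by
    intro x hx
    obtain ⟨i, hi, hi', rfl⟩ := mem_W'.1 hx
    have h : lk SQ i = 0 := by
      have : i = 0 ∨ i = 512 ∨ i = 256 ∨ i = 768 := by omega
      rcases this with rfl | rfl | rfl | rfl <;> decide +kernel
    rw [Φ_sq hi, h, Φ_zero]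
  obtain ⟨n, hn, h14⟩ := syl_W {u, u', x} (SylLem.two_closure3 (hW2 _ h5) (hW2 _ h7) h10 h4 h12 h13)
    (by
      rintro y (rfl | rfl | rfl)
      · exact h1
      · exact h2
      · exact h3)
  obtain ⟨i, hi, hi2, ei⟩ := h14 u (by simp)
  have h6' : isG i = true := by
    apply isG_of hi hi2
    · rw [← ei, ← c_mul, W_c hn]; exact h5
    · rw [← ei, ← c_mul, Ne, c_eq_one]; exact h6
  obtain ⟨e, he, s, hs, h15⟩ := rep_of hi (imp_spec (allB_spec GC_chk i hi) h6')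
  have hns : n * s ∈ Subgroup.normalizer (W : Set G3) := Subgroup.mul_mem _ hn (S_W hs)
  apply T_c hns
  have eu : (n * s)⁻¹ * u * (n * s) = Φ e.1 := by rw [cc, ei, h15]
  -- the other two elements
  have hmove : ∀ y : G3, y ∈ ({u, u', x} : Set G3) → (∀ z ∈ W, y * z = z * y) →
      ∃ j, j < 1024 ∧ j % 2 = 0 ∧ (n * s)⁻¹ * y * (n * s) = Φ j := by
    intro y hy hyW
    obtain ⟨j, hj, -, ej⟩ := h14 y hy
    have : (n * s)⁻¹ * y * (n * s) ∈ S := by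
      rw [cc, ej]
      exact S.mul_mem (S.mul_mem (S.inv_mem hs) (Φ_S hj)) hs
    obtain ⟨j', hj', ej'⟩ := mem_S.1 this
    refine ⟨j', hj', (even_iff hj').1 ?_, ej'⟩
    rw [← ej']
    exact cW_c hns hyW
  obtain ⟨j, hj, hj2, ej⟩ := hmove u' (by simp) h2
  obtain ⟨k, hk, hk2, ek⟩ := hmove x (by simp) h3
  obtain ⟨l1, g1⟩ := an_spec (faL_spec GCL_chk1 e he)
  have r1 := lt_of_mul0 l1
  have g2 := faL_spec GCL_chk2 e he
  have g3 := faL_spec GCL_chk3 e he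
  have hGj : isG j = true := by
    apply isG_of hj hj2
    · rw [← ej, ← c_mul, W_c hns]; exact h7
    · rw [← ej, ← c_mul, Ne, c_eq_one]; exact h8
  have hsq : nt (Nat.beq (lk SQ j) (lk SQ e.1)) = true := by
    apply nt_intro
    cases hb : Nat.beq (lk SQ j) (lk SQ e.1) with
    | false => rfl
    | true =>
      exfalso
      apply h9
      apply c_inj (h := n * s)
      rw [c_mul, c_mul, eu, ej, Φ_sq r1, Φ_sq hj, Nat.eq_of_beq_eq_true hb]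
  have hcj : com e.1 j = true := by
    apply (com_iff r1 hj).2
    rw [← eu, ← ej]
    exact c_comm _ h4
  have hck : com k e.1 = true := by
    apply (com_iff hk r1).2
    rw [← eu, ← ek]
    exact c_comm _ h12
  have g4 := imp_spec (imp_spec (imp_spec (allB_spec g3 j hj) hGj) hsq) hcj
  rcases or2_spec g4 with g5 | g5
  · obtain ⟨p, hp, g6⟩ := exL_spec g5
    obtain ⟨g7, g8⟩ := an_spec g6
    obtain ⟨k1, h⟩ := an_spec (faL_spec g1 p hp)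
    obtain ⟨k2, h⟩ := an_spec h
    obtain ⟨k3, h⟩ := an_spec h
    obtain ⟨k4, h⟩ := an_spec h
    obtain ⟨k5, h⟩ := an_spec h
    obtain ⟨k6, k7⟩ := an_spec h
    have q1 := lt_of_mul0 k1
    have q2 := lt_of_mul0 k2
    rw [eu, ej]
    refine ⟨Φ p.1, Φ p.2, DM_conj q1 k3, (even_iff q1).2 (mod_of_mul0 k1), (com_iff q1 r1).1 k4,
      (com_iff q1 hj).1 g7, NM_nd q2 k5, ?_, (even_iff q2).2 (mod_of_mul0 k2), (com_iff q2 r1).1 k6,
      (com_iff q2 hj).1 g8⟩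
    rw [Φ_W q2]
    intro h9
    rw [show Nat.mod p.2 256 = 0 from h9] at k7
    exact absurd (nt_spec k7) (by decide)
  · exfalso
    -- `k` is in the list
    have hk0 : lk SQ k = 0 := by
      apply Φ_eq_one (lk_lt _ _)
      rw [← Φ_sq hk, ← ek, ← c_mul, h10, c_one]
    have hkW : nt (Nat.beq (Nat.mod k 256) 0) = true := by
      apply nt_intro
      cases hb : Nat.beq (Nat.mod k 256) 0 with
      | false => rfl
      | true =>
        exfalso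
        apply h11
        rw [← W_c hns, ek, Φ_W hk]
        exact Nat.eq_of_beq_eq_true hb
    have g6 := imp_spec (imp_spec (imp_spec (imp_spec (allB_spec g2 k hk) (by rw [hk0]; rfl))
      (by rw [show Nat.mod k 2 = 0 from hk2]; rfl)) hkW) hck
    obtain ⟨k', hk', g7⟩ := exL_spec g6
    have g8 := faL_spec g5 k' hk'
    rw [Nat.eq_of_beq_eq_true g7] at g8
    have g9 : lk SQ (mulS k j) = 0 := by
      apply Φ_eq_one (lk_lt _ _)
      rw [← Φ_sq (mulS_lt _ _ hj), ← Φ_mul _ _ hj, ← ek, ← ej, ← c_mul, ← c_mul, c_eq_one]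
      calc x * u' * (x * u') = x * u' * x * u' := by group
        _ = 1 := by rw [h13, inv_mul_cancel]
    rw [g9] at g8
    exact absurd (nt_spec g8) (by decide)

/-! ### `Y3`, `K3`, `E` -/

theorem mul_lt {n c i : ℕ} (hn : n * c = 1024) (hi : i < 1024) (h : i % n = 0) :
    ∃ a, a < c ∧ i = n * a := by
  obtain ⟨a, rfl⟩ := Nat.dvd_of_mod_eq_zero h
  refine ⟨a, ?_, rfl⟩
  by_contra h1
  have := Nat.mul_le_mul_left n (Nat.le_of_not_lt h1)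
  omega

theorem Y3_cases {i : ℕ} (hi : i < 1024) (h : i % 128 = 0) : i = 0 ∨ tb NM i = true := by
  obtain ⟨a, ha, rfl⟩ := mul_lt (c := 8) rfl hi h
  have h1 := allB_spec Y3_chk a ha
  rw [fr_eq] at h1
  rcases or2_spec (an_spec h1).2 with h2 | h2
  · exact Or.inl (Nat.eq_of_beq_eq_true h2)
  · exact Or.inr h2

theorem nd_Y3 (x : G3) (hx : x ∈ Y3) (h1 : x ≠ 1) : Nd (Φ 8) x := by
  obtain ⟨i, hi, hi', rfl⟩ := mem_Y3'.1 hx
  rcases Y3_cases hi hi' with rfl | h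
  · exact absurd Φ_zero h1
  · exact NM_nd hi h

theorem comm_Y3 (a : G3) (ha : a ∈ Y3) (b : G3) (hb : b ∈ Y3) : a * b = b * a := by
  obtain ⟨i, hi, hi', rfl⟩ := mem_Y3'.1 ha
  obtain ⟨j, hj, hj', rfl⟩ := mem_Y3'.1 hb
  obtain ⟨a, ha', rfl⟩ := mul_lt (c := 8) rfl hi hi'
  obtain ⟨b, hb', rfl⟩ := mul_lt (c := 8) rfl hj hj'
  exact (com_iff hi hj).1 (allB_spec (allB_spec Y3_comm_chk a ha') b hb')

theorem comm_K3 (a : G3) (ha : a ∈ K3) (b : G3) (hb : b ∈ K3) : a * b = b * a := by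
  obtain ⟨i, hi, hi', rfl⟩ := mem_K3'.1 ha
  obtain ⟨j, hj, hj', rfl⟩ := mem_K3'.1 hb
  obtain ⟨a, ha', rfl⟩ := mul_lt (c := 64) rfl hi hi'
  obtain ⟨b, hb', rfl⟩ := mul_lt (c := 64) rfl hj hj'
  exact (com_iff hi hj).1 (allB_spec (allB_spec K3_comm_chk a ha') b hb')

theorem K3_spec {i : ℕ} (hi : i < 1024) (h : i % 16 = 0) :
    lk SQ i % 128 = 0 ∧ (lk SQ i = 0 → i % 128 = 0) ∧ lk SQ (mulS 8 i) = 0 := by
  obtain ⟨a, ha, rfl⟩ := mul_lt (c := 64) rfl hi h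
  have h1 := allB_spec K3_chk a ha
  rw [fr_eq] at h1
  obtain ⟨h2, h3⟩ := an_spec h1
  obtain ⟨h4, h5⟩ := an_spec h3
  refine ⟨Nat.eq_of_beq_eq_true h2, fun h6 => ?_, Nat.eq_of_beq_eq_true h5⟩
  exact Nat.eq_of_beq_eq_true (imp_spec h4 (by rw [show lk SQ (Nat.mul 16 a) = 0 from h6]; rfl))

theorem sq_K3 (k : G3) (hk : k ∈ K3) : k * k ∈ Y3 := by
  obtain ⟨i, hi, hi', rfl⟩ := mem_K3'.1 hk
  rw [Φ_sq hi, Φ_Y3 (lk_lt _ _)]
  exact (K3_spec hi hi').1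

theorem ker_K3 (k : G3) (hk : k ∈ K3) (h : k * k = 1) : k ∈ Y3 := by
  obtain ⟨i, hi, hi', rfl⟩ := mem_K3'.1 hk
  rw [Φ_sq hi] at h
  exact (Φ_Y3 hi).2 ((K3_spec hi hi').2.1 (Φ_eq_one (lk_lt _ _) h))

theorem t_ne : Φ 8 ≠ 1 := by
  intro h
  exact absurd (Φ_eq_one (by norm_num) h) (by norm_num)

theorem free_K3 (k : G3) (hk : k ∈ K3) : ¬ IsConj (Φ 8) k := by
  intro h
  have h1 : k * k = 1 := by
    obtain ⟨c, rfl⟩ := isConj_iff.1 h
    have : c * Φ 8 * c⁻¹ * (c * Φ 8 * c⁻¹) = c * (Φ 8 * Φ 8) * c⁻¹ := by group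
    rw [this, t_sq]
    group
  have h2 := ker_K3 k hk h1
  by_cases h3 : k = 1
  · subst h3
    obtain ⟨c, hc⟩ := isConj_iff.1 h
    apply t_ne
    have : Φ 8 = c⁻¹ * (c * Φ 8 * c⁻¹) * c := by group
    rw [this, hc]
    group
  · exact (nd_Y3 k h2 h3).2.2 h

theorem inv_K3 (k : G3) (hk : k ∈ K3) : Φ 8 * k * Φ 8 = k⁻¹ := by
  obtain ⟨i, hi, hi', rfl⟩ := mem_K3'.1 hk
  have h1 := (K3_spec hi hi').2.2
  have h2 : Φ 8 * Φ i * (Φ 8 * Φ i) = 1 := by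
    rw [Φ_mul 8 i hi, Φ_sq (mulS_lt _ _ hi), h1, Φ_zero]
  have h3 : Φ 8 * Φ i * Φ 8 * Φ i = 1 := by
    rw [← h2]; group
  exact eq_inv_of_mul_eq_one_left h3

theorem mem_Y3 (x : G3) : x ∈ Y3 ↔ x ∈ W ∨ Φ 128 * x ∈ W := by
  constructor
  · intro hx
    obtain ⟨i, hi, hi', rfl⟩ := mem_Y3'.1 hx
    obtain ⟨a, ha, rfl⟩ := mul_lt (c := 8) rfl hi hi'
    have h1 := allB_spec Y3_chk a ha
    rw [fr_eq] at h1
    rcases or2_spec (an_spec h1).1 with h2 | h2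
    · exact Or.inl ((Φ_W hi).2 (Nat.eq_of_beq_eq_true h2))
    · right
      rw [Φ_mul _ _ hi, Φ_W (mulS_lt _ _ hi)]
      exact Nat.eq_of_beq_eq_true h2
  · rintro (h | h)
    · exact W_Y3 h
    · have h1 : Φ 128 ∈ Y3 := (Φ_Y3 (by norm_num)).2 (by norm_num)
      have h2 : x = (Φ 128)⁻¹ * (Φ 128 * x) := by group
      rw [h2]
      exact Y3.mul_mem (Y3.inv_mem h1) (W_Y3 h)

theorem P3_of {i : ℕ} (hi : i < 1024) (h : ∀ x ∈ Y3, Φ i * x = x * Φ i) : i % 8 = 0 := by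
  have h0 := an_spec (allB_spec even_chk i hi)
  have h1 := an_spec (an_spec h0.2).2
  have c1 := (com_iff hi (by norm_num : 256 < 1024)).2 (h _ (W_Y3 Φ256_W))
  have c2 := (com_iff hi (by norm_num : 128 < 1024)).2 (h _ ((Φ_Y3 (by norm_num)).2 (by norm_num)))
  exact Nat.eq_of_beq_eq_true (imp_spec h1.2 (an_intro c1 c2))

theorem of_P3 {i : ℕ} (hi : i < 1024) (h : i % 8 = 0) (x : G3) (hx : x ∈ Y3) : Φ i * x = x * Φ i := by
  have h0 := an_spec (allB_spec even_chk i hi)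
  have h1 := an_spec (an_spec h0.2).2
  have c2 := (com_iff hi (by norm_num : 128 < 1024)).1 (imp_spec h1.1
    (by rw [show Nat.mod i 8 = 0 from h]; rfl))
  have cW' := (even_iff hi).2 (by omega)
  have h128 : x = (Φ 128)⁻¹ * (Φ 128 * x) := by group
  rcases (mem_Y3 x).1 hx with h2 | h2
  · exact cW' x h2
  · have h3 := cW' _ h2
    have c3 : Φ i * (Φ 128)⁻¹ = (Φ 128)⁻¹ * Φ i := by
      rw [eq_inv_mul_iff_mul_eq, ← mul_assoc, ← c2]; group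
    rw [h128, ← mul_assoc, c3, mul_assoc, h3, ← mul_assoc]

theorem P3_spec {i : ℕ} (hi : i < 1024) (h : i % 8 = 0) :
    lk SQ i % 128 = 0 ∧ (i % 16 = 0 ∨ tb DM i = true ∨ mulS 72 i % 128 = 0) := by
  obtain ⟨a, ha, rfl⟩ := mul_lt (c := 128) rfl hi h
  have h1 := allB_spec P3_chk a ha
  rw [fr_eq] at h1
  obtain ⟨h2, h3⟩ := an_spec h1
  refine ⟨Nat.eq_of_beq_eq_true h2, ?_⟩
  rcases or2_spec h3 with h4 | h4
  · exact Or.inl (Nat.eq_of_beq_eq_true h4)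
  rcases or2_spec h4 with h5 | h5
  · exact Or.inr (Or.inl h5)
  · exact Or.inr (Or.inr (Nat.eq_of_beq_eq_true h5))

theorem e0_sq : Φ 72 * Φ 72 = 1 := by
  rw [Φ_sq (by norm_num), Nat.eq_of_beq_eq_true (an_spec misc_chk).1, Φ_zero]

theorem e0_inv : (Φ 72)⁻¹ = Φ 72 := inv_eq_of_mul_eq_one_right e0_sq

theorem e0_spec {i : ℕ} (hi : i < 1024) (h : i % 128 = 0) : com 72 i = true ∧ tb NM (mulS 72 i) = true := by
  obtain ⟨a, ha, rfl⟩ := mul_lt (c := 8) rfl hi h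
  have h1 := allB_spec e0_chk a ha
  rw [fr_eq] at h1
  exact an_spec h1

theorem H6 : ∃ d ∈ S, (∀ x ∈ Y3, d * x = x * d) ∧ d ∉ Y3 ∧ (Φ 72)⁻¹ * d ∉ Y3 ∧
    d * Φ 72 * d⁻¹ ≠ Φ 8 * Φ 72 * (Φ 8)⁻¹ := by
  have hd : Φ 24 * Φ 24 = 1 := by
    rw [Φ_sq (by norm_num)]
    obtain ⟨-, h⟩ := an_spec misc_chk
    obtain ⟨-, h⟩ := an_spec h
    obtain ⟨-, h⟩ := an_spec h
    obtain ⟨-, h⟩ := an_spec h
    obtain ⟨-, h⟩ := an_spec h
    obtain ⟨-, h⟩ := an_spec h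
    obtain ⟨h, -⟩ := an_spec h
    rw [Nat.eq_of_beq_eq_true h, Φ_zero]
  obtain ⟨d1, d2⟩ := an_spec d_chk
  refine ⟨Φ 24, Φ_S (by norm_num), of_P3 (by norm_num) (by norm_num), ?_, ?_, ?_⟩
  · rw [Φ_Y3 (by norm_num)]
    norm_num
  · rw [e0_inv, Φ_mul _ _ (by norm_num), Φ_Y3 (mulS_lt _ _ (by norm_num))]
    intro h
    rw [show Nat.mod (mulS 72 24) 128 = 0 from h] at d1
    exact absurd (nt_spec d1) (by decide)
  · rw [inv_eq_of_mul_eq_one_right hd, inv_eq_of_mul_eq_one_right t_sq, mul_assoc, mul_assoc,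
      Φ_mul 72 24 (by norm_num), Φ_mul 24 _ (mulS_lt _ _ (by norm_num)), Φ_mul 72 8 (by norm_num),
      Φ_mul 8 _ (mulS_lt _ _ (by norm_num))]
    intro h
    have h1 := Φ_inj (mulS_lt _ _ (mulS_lt _ _ (by norm_num))) (mulS_lt _ _ (mulS_lt _ _ (by norm_num))) h
    obtain ⟨-, h⟩ := an_spec misc_chk
    obtain ⟨-, h⟩ := an_spec h
    obtain ⟨-, h⟩ := an_spec h
    obtain ⟨-, h⟩ := an_spec h
    obtain ⟨-, h⟩ := an_spec h
    obtain ⟨-, h⟩ := an_spec h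
    obtain ⟨-, h⟩ := an_spec h
    rw [h1, Nat.beq_refl] at h
    exact absurd (nt_spec h) (by decide)

/-- The facts. -/
noncomputable def facts : Facts G3 where
  t := Φ 8
  y := Φ 4
  v := Φ 512
  w := Φ 256
  z := Φ 128
  e0 := Φ 72
  W := W
  Y3 := Y3
  K3 := K3
  S := S
  t_mul := t_sq
  t_ne := t_ne
  y_conj := DM_conj (by norm_num) (an_spec (an_spec (an_spec misc_chk).2).2).1
  ty_conj := by
    rw [Φ_mul _ _ (by norm_num)]
    exact DM_conj (mulS_lt _ _ (by norm_num)) (an_spec (an_spec (an_spec (an_spec misc_chk).2).2).2).1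
  t_y := (com_iff (by norm_num) (by norm_num)).1
    (an_spec (an_spec (an_spec (an_spec (an_spec misc_chk).2).2).2).2).1
  t_S := Φ_S (by norm_num)
  y_S := Φ_S (by norm_num)
  v_nd := NM_nd (by norm_num) (by decide +kernel)
  w_nd := NM_nd (by norm_num) (by decide +kernel)
  z_nd := NM_nd (by norm_num) (by decide +kernel)
  v_w := v_comm (by norm_num)
  v_z := v_comm (by norm_num)
  w_z := comm_Y3 _ (W_Y3 Φ256_W) _ ((Φ_Y3 (by norm_num)).2 (by norm_num))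
  v_ne_w := by
    intro h
    exact absurd (Φ_inj (by norm_num) (by norm_num) h) (by norm_num)
  mem_W := mem_W
  mem_Y3 := mem_Y3
  z_notin := by
    rw [Φ_W (by norm_num)]
    norm_num
  nd_Y3 := nd_Y3
  comm_Y3 := comm_Y3
  two_S := two_S
  syl := syl'.2
  W_S := W_S
  Y3_S := Y3_S
  K3_S := K3_S
  Y3_K3 := Y3_K3
  S_W := S_W
  S_Y3 := S_Y3
  S_K3 := S_K3
  F0 := F0
  Fc := Fc
  F1 := F1
  F2 := F2
  Fa := of_P3 (by norm_num) (by norm_num)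
  Fd := Fd
  Gb := Gb
  Gc := Gc
  H1 := by
    intro p hp h
    obtain ⟨i, hi, rfl⟩ := mem_S.1 hp
    rw [Φ_sq hi, Φ_Y3 (lk_lt _ _)]
    exact (P3_spec hi (P3_of hi h)).1
  comm_K3 := comm_K3
  free_K3 := free_K3
  sq_K3 := sq_K3
  ker_K3 := ker_K3
  inv_K3 := inv_K3
  four_K3 := by
    refine ⟨Φ 16, (Φ_K3 (by norm_num)).2 (by norm_num), ?_⟩
    rw [Φ_sq (by norm_num)]
    intro h
    have h1 := Φ_eq_one (lk_lt _ _) h
    have h2 := (an_spec (an_spec misc_chk).2).1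
    rw [h1] at h2
    exact absurd (nt_spec h2) (by decide)
  P3_cases := by
    intro p hp h
    obtain ⟨i, hi, rfl⟩ := mem_S.1 hp
    rcases (P3_spec hi (P3_of hi h)).2 with h1 | h1 | h1
    · exact Or.inl ((Φ_K3 hi).2 h1)
    · exact Or.inr (Or.inl (DM_conj hi h1))
    · right; right
      rw [e0_inv, Φ_mul _ _ hi, Φ_Y3 (mulS_lt _ _ hi)]
      exact h1
  e0_S := Φ_S (by norm_num)
  e0_Y3 := of_P3 (by norm_num) (by norm_num)
  e0_K3 := by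
    rw [Φ_K3 (by norm_num)]
    norm_num
  e0_mul := e0_sq
  free_E := by
    intro x hx
    obtain ⟨i, hi, hi', rfl⟩ := mem_Y3'.1 hx
    rw [Φ_mul _ _ hi]
    exact (NM_nd (mulS_lt _ _ hi) (e0_spec hi hi').2).2.2
  H6 := H6

theorem facts_t : facts.t = m 0 := t_eq

end Cfsg.Agent.CoThreeStd.HInst
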