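import Cfsg.Agent.CoThreeStd.Collapse
import Cfsg.Agent.CoThreeStd.Model

/-!
# S1750: the group generated by the letters is Conway's group

From part [B] (`Out`) and the bound of part [A] we get `closure (range h) ≃* G3` mapping `h i` to `Model.m i`.
-/

set_option autoImplicit false

namespace Cfsg.Agent.CoThreeStd.GlueB

open Cfsg Cfsg.Agent.CoThreeStd.RelMain Cfsg.Agent.CoThreeStd.MTwelve Cfsg.Agent.LeechPack.X552
  Cfsg.Agent.CoThreeStd.Model

/-- Like `McLType.Glue.nonempty_equiv`, with the images of the generators. -/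
theorem exists_equiv {G M ι : Type*} [Group G] [Group M] [Finite M] [IsSimpleGroup M]
    [Nontrivial G] (g : ι → G) (m : ι → M)
    (hg : Subgroup.closure (Set.range g) = ⊤) (hm : Subgroup.closure (Set.range m) = ⊤)
    (hfin : Finite (Subgroup.closure (Set.range fun i => (g i, m i))))
    (hcard : Nat.card (Subgroup.closure (Set.range fun i => (g i, m i))) ≤ Nat.card M) :
    ∃ e : G ≃* M, ∀ i, e (g i) = m i := by
  set Γ : Subgroup (G × M) := Subgroup.closure (Set.range fun i => (g i, m i)) with hΓ
  let p : Γ →* G := (MonoidHom.fst G M).comp Γ.subtype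
  let q : Γ →* M := (MonoidHom.snd G M).comp Γ.subtype
  have hp : Function.Surjective p := by
    rw [← MonoidHom.range_eq_top, eq_top_iff, ← hg, Subgroup.closure_le]
    rintro _ ⟨i, rfl⟩
    exact ⟨⟨(g i, m i), Subgroup.subset_closure ⟨i, rfl⟩⟩, rfl⟩
  have hq : Function.Surjective q := by
    rw [← MonoidHom.range_eq_top, eq_top_iff, ← hm, Subgroup.closure_le]
    rintro _ ⟨i, rfl⟩
    exact ⟨⟨(g i, m i), Subgroup.subset_closure ⟨i, rfl⟩⟩, rfl⟩
  have hqb : Function.Bijective q := by
    refine (Nat.bijective_iff_surjective_and_card q).2 ⟨hq, le_antisymm hcard ?_⟩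
    exact Nat.card_le_card_of_surjective q hq
  let e : Γ ≃* M := MulEquiv.ofBijective q hqb
  let r : M →* G := p.comp e.symm.toMonoidHom
  have hr : Function.Surjective r := hp.comp e.symm.surjective
  have hk : r.ker = ⊥ := by
    rcases r.normal_ker.eq_bot_or_eq_top with h | h
    · exact h
    · exfalso
      obtain ⟨x, hx⟩ := exists_ne (1 : G)
      obtain ⟨y, rfl⟩ := hr x
      have : y ∈ r.ker := h ▸ Subgroup.mem_top y
      exact hx this
  have hri : ∀ i, r (m i) = g i := by
    intro i
    have h1 : e ⟨(g i, m i), Subgroup.subset_closure ⟨i, rfl⟩⟩ = m i := rfl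
    show p (e.symm (m i)) = g i
    rw [← h1, MulEquiv.symm_apply_apply]
    rfl
  refine ⟨(MulEquiv.ofBijective r ⟨(MonoidHom.ker_eq_bot_iff r).1 hk, hr⟩).symm, fun i => ?_⟩
  rw [MulEquiv.symm_apply_eq]
  exact (hri i).symm

universe u

/-- The form of the bound delivered by part [A]. -/
def Bound (R : List (List (Fin 8))) : Prop :=
  ∀ (K : Type u) [Group K] (h : Fin 8 → K), (∀ r ∈ R, (r.map h).prod = 1) →
    Subgroup.closure (Set.range h) = ⊤ → Finite K ∧ Nat.card K ≤ 495766656000

/-- The bound gives an isomorphism mapping letters to letters. -/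
theorem equiv_of_bound (R : List (List (Fin 8))) (hR : R.all idCheck = true) (hbound : Bound.{u} R)
    {K : Type u} [Group K] [Nontrivial K] (h : Fin 8 → K) (hrel : ∀ r ∈ R, (r.map h).prod = 1)
    (hgen : Subgroup.closure (Set.range h) = ⊤) : ∃ e : K ≃* G3, ∀ i, e (h i) = m i := by
  have hm : ∀ r ∈ R, (r.map m).prod = 1 := fun r hr => word_m (List.all_eq_true.1 hR r hr)
  have h1 : ∀ r ∈ R, (r.map fun i => (h i, m i)).prod = 1 := by
    intro r hr
    have h2 : ∀ l : List (Fin 8), (l.map fun i => (h i, m i)).prod = ((l.map h).prod, (l.map m).prod) := by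
      intro l
      induction l with
      | nil => rfl
      | cons a l ih => rw [List.map_cons, List.prod_cons, ih]; rfl
    rw [h2, hrel r hr, hm r hr]
    rfl
  obtain ⟨hfin, hcard⟩ := hbound (Subgroup.closure (Set.range fun i => (h i, m i)))
    (fun i => ⟨(h i, m i), Subgroup.subset_closure ⟨i, rfl⟩⟩)
    (fun r hr => by
      apply Subtype.ext
      have h3 : ∀ l : List (Fin 8), ((l.map fun i => (⟨(h i, m i), Subgroup.subset_closure ⟨i, rfl⟩⟩ :
          Subgroup.closure (Set.range fun i => (h i, m i)))).prod : K × G3) = (l.map fun i => (h i, m i)).prod := by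
        intro l
        induction l with
        | nil => rfl
        | cons a l ih => rw [List.map_cons, List.prod_cons, List.map_cons, List.prod_cons, ← ih]; rfl
      rw [h3, h1 r hr]
      rfl)
    (by
      have := Subgroup.closure_closure_coe_preimage (k := Set.range fun i => (h i, m i))
      convert this using 2
      ext x
      constructor
      · rintro ⟨i, rfl⟩
        exact ⟨i, rfl⟩
      · rintro ⟨i, hi⟩
        exact ⟨i, Subtype.ext hi⟩)
  exact exists_equiv h m hgen closure_m hfin (by rw [card_G3]; exact hcard)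

variable {G : Type u} [Group G] {t g0 : G} {ι : H →* G} {h : Fin 8 → G}

/-- The words delivered by part [B]. -/
def okA (r : List (Fin 8)) : Bool := okR r || (r == [6, 7, 6, 7, 6, 7, 2, 0])

theorem rel_of_okA (c : Fusion.Ctx t ι) (ho : Out t ι g0 h) {r : List (Fin 8)} (hr : okA r = true) :
    (r.map h).prod = 1 := by
  unfold okA at hr
  rw [Bool.or_eq_true, beq_iff_eq] at hr
  rcases hr with hr | rfl
  · exact ho.rel r hr
  · exact Collapse.alt_of c ho

/-- **[A] + [B]**: the group generated by the letters is `G3`, with the given letters. -/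
theorem exists_iso (c : Fusion.Ctx t ι) (ho : Out t ι g0 h) (R : List (List (Fin 8)))
    (hR1 : R.all okA = true) (hR2 : R.all idCheck = true) (hbound : Bound.{u} R) :
    ∃ e : Subgroup.closure (Set.range h) ≃* G3, ∀ i, e ⟨h i, Subgroup.subset_closure ⟨i, rfl⟩⟩ = m i := by
  have hnt : Nontrivial (Subgroup.closure (Set.range h)) := by
    refine ⟨⟨⟨h 0, Subgroup.subset_closure ⟨0, rfl⟩⟩, 1, fun he => ?_⟩⟩
    have h1 : h 0 = 1 := congrArg Subtype.val he
    rw [ho.zero] at h1
    exact c.t_ne h1
  refine equiv_of_bound R hR2 hbound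
    (fun i => (⟨h i, Subgroup.subset_closure ⟨i, rfl⟩⟩ : Subgroup.closure (Set.range h))) ?_ ?_
  · intro r hr
    apply Subtype.ext
    have h3 : ∀ l : List (Fin 8), ((l.map fun i => (⟨h i, Subgroup.subset_closure ⟨i, rfl⟩⟩ :
        Subgroup.closure (Set.range h))).prod : G) = (l.map h).prod := by
      intro l
      induction l with
      | nil => rfl
      | cons a l ih => rw [List.map_cons, List.prod_cons, List.map_cons, List.prod_cons, ← ih]; rfl
    rw [h3, rel_of_okA c ho (List.all_eq_true.1 hR1 r hr)]
    rfl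
  · have := Subgroup.closure_closure_coe_preimage (k := Set.range h)
    convert this using 2
    ext x
    constructor
    · rintro ⟨i, rfl⟩
      exact ⟨i, rfl⟩
    · rintro ⟨i, hi⟩
      exact ⟨i, Subtype.ext hi⟩

/-- The same as an embedding of `G3`. -/
theorem exists_phi (c : Fusion.Ctx t ι) (ho : Out t ι g0 h) (R : List (List (Fin 8)))
    (hR1 : R.all okA = true) (hR2 : R.all idCheck = true) (hbound : Bound.{u} R) :
    ∃ φ : G3 →* G, Function.Injective φ ∧ (∀ i, φ (m i) = h i) ∧
      φ.range = Subgroup.closure (insert g0 {x | x * t = t * x}) := by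
  obtain ⟨e, he⟩ := exists_iso c ho R hR1 hR2 hbound
  refine ⟨(Subgroup.closure (Set.range h)).subtype.comp e.symm.toMonoidHom, ?_, fun i => ?_, ?_⟩
  · exact (Subgroup.subtype_injective _).comp e.symm.injective
  · show ((e.symm (m i) : Subgroup.closure (Set.range h)) : G) = h i
    rw [← he i, MulEquiv.symm_apply_apply]
  · rw [← ho.cl, MonoidHom.range_comp, MonoidHom.range_eq_top.2 e.symm.surjective,
      ← MonoidHom.range_eq_map, Subgroup.range_subtype]

end Cfsg.Agent.CoThreeStd.GlueB
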