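import Cfsg.Agent.CoThreeStd.CollapseK
import Cfsg.Agent.CoThreeStd.GlueB
import Cfsg.Agent.CoThreeStd.Core.Main

/-!
# S1750: `BetaIso` from the final relator list

Letters `t x s₁ s₂ s₃ s₄ e d = 0 … 7`. `ρ = q p r e r q p e q e r q s e r`. The words available in a group with `Out` are
those with `okF r = true`, provided that `(dρ)³ = (dρ⁻¹)⁷ = 1` (`NOne`).
-/

set_option autoImplicit false

namespace Cfsg.Agent.CoThreeStd.GlueF

open Cfsg Cfsg.Agent.CoThreeStd.RelMain Cfsg.Agent.CoThreeStd.MTwelve Cfsg.Agent.CoThreeStd.Model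
  Cfsg.Agent.CoThreeStd.GlueB Cfsg.Agent.LeechPack.X552

/-- The word of `ρ`. -/
def rhoS : List (Fin 8) := [3, 2, 4, 6, 4, 3, 2, 6, 3, 6, 4, 3, 5, 6, 4]

/-- `(e s d)³` -/
def R1 : List (Fin 8) := [6, 5, 7, 6, 5, 7, 6, 5, 7]

/-- `(d ρ)³` -/
def R3 : List (Fin 8) := (7 :: rhoS) ++ (7 :: rhoS) ++ (7 :: rhoS)

/-- `(d ρ⁻¹)⁷` -/
def R4 : List (Fin 8) := (7 :: rhoS.reverse) ++ (7 :: rhoS.reverse) ++ (7 :: rhoS.reverse) ++ (7 :: rhoS.reverse) ++
  (7 :: rhoS.reverse) ++ (7 :: rhoS.reverse) ++ (7 :: rhoS.reverse)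

/-- The available words. -/
def okF (r : List (Fin 8)) : Bool := okA r || (r == R1) || (r == R3) || (r == R4)

theorem rho_ok : okR (CollapseK.rhoW ++ rhoS.reverse) = true := by decide +kernel

theorem rho_inv_ok : okR (rhoS ++ rhoS.reverse) = true := by decide +kernel

theorem rho_cube_ok : okR (rhoS ++ rhoS ++ rhoS) = true := by decide +kernel

theorem Rs_ok : [R1, R3, R4].all idCheck = true := by decide +kernel

universe u

variable {G : Type u} [Group G] {t g0 : G} {ι : H →* G} {h : Fin 8 → G}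

theorem rho_rev (ho : Out t ι g0 h) : (rhoS.reverse.map h).prod = ((rhoS.map h).prod)⁻¹ := by
  have h1 := ho.rel _ rho_inv_ok
  rw [List.map_append, List.prod_append] at h1
  exact (inv_eq_of_mul_eq_one_right h1).symm

theorem rho_eq (ho : Out t ι g0 h) : (CollapseK.rhoW.map h).prod = (rhoS.map h).prod := by
  have h1 := ho.rel _ rho_ok
  rw [List.map_append, List.prod_append, rho_rev ho] at h1
  exact mul_inv_eq_one.1 h1

theorem R3_prod : (R3.map h).prod = (h 7 * (rhoS.map h).prod) ^ 3 := by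
  have h4 : ((7 :: rhoS).map h).prod = h 7 * (rhoS.map h).prod := by simp
  unfold R3
  generalize (7 :: rhoS : List (Fin 8)) = w at h4
  simp only [List.map_append, List.prod_append, h4, pow_succ, pow_zero, one_mul, mul_assoc]

theorem R4_prod (ho : Out t ι g0 h) : (R4.map h).prod = (h 7 * ((rhoS.map h).prod)⁻¹) ^ 7 := by
  have h4 : ((7 :: rhoS.reverse).map h).prod = h 7 * ((rhoS.map h).prod)⁻¹ := by
    rw [← rho_rev ho]; simp
  unfold R4
  generalize (7 :: rhoS.reverse : List (Fin 8)) = w at h4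
  simp only [List.map_append, List.prod_append, h4, pow_succ, pow_zero, one_mul, mul_assoc]

/-- The output of part (N1). -/
def NOne : Prop :=
  ∀ {G : Type u} [Group G] [Finite G] {t g0 : G} {ι : H →* G} {h : Fin 8 → G} (_ : Fusion.Ctx t ι)
    (_ : Out t ι g0 h), (h 7 * (rhoS.map h).prod) ^ 3 = 1 ∧ (h 7 * ((rhoS.map h).prod)⁻¹) ^ 7 = 1

theorem rel_of_okF (c : Fusion.Ctx t ι) (ho : Out t ι g0 h) (h3 : (h 7 * (rhoS.map h).prod) ^ 3 = 1)
    (h7 : (h 7 * ((rhoS.map h).prod)⁻¹) ^ 7 = 1) {r : List (Fin 8)} (hr : okF r = true) :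
    (r.map h).prod = 1 := by
  unfold okF at hr
  rw [Bool.or_eq_true, Bool.or_eq_true, Bool.or_eq_true, beq_iff_eq, beq_iff_eq, beq_iff_eq] at hr
  rcases hr with ((hr | rfl) | rfl) | rfl
  · exact rel_of_okA c ho hr
  · exact CollapseK.r1 c ho
  · rw [R3_prod]; exact h3
  · rw [R4_prod ho]; exact h7

theorem exists_iso (c : Fusion.Ctx t ι) (ho : Out t ι g0 h) (h3 : (h 7 * (rhoS.map h).prod) ^ 3 = 1)
    (h7 : (h 7 * ((rhoS.map h).prod)⁻¹) ^ 7 = 1) (R : List (List (Fin 8)))
    (hR1 : R.all okF = true) (hR2 : R.all idCheck = true) (hbound : Bound.{u} R) :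
    ∃ e : Subgroup.closure (Set.range h) ≃* G3, ∀ i, e ⟨h i, Subgroup.subset_closure ⟨i, rfl⟩⟩ = m i := by
  have hnt : Nontrivial (Subgroup.closure (Set.range h)) := by
    refine ⟨⟨⟨h 0, Subgroup.subset_closure ⟨0, rfl⟩⟩, 1, fun he => ?_⟩⟩
    have h1 : h 0 = 1 := congrArg Subtype.val he
    rw [ho.zero] at h1
    exact c.t_ne h1
  refine equiv_of_bound R hR2 hbound
    (fun i => (⟨h i, Subgroup.subset_closure ⟨i, rfl⟩⟩ : Subgroup.closure (Set.range h))) ?_ ?_
  · intro r hr
    apply Subtype.ext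
    have h8 : ∀ l : List (Fin 8), ((l.map fun i => (⟨h i, Subgroup.subset_closure ⟨i, rfl⟩⟩ :
        Subgroup.closure (Set.range h))).prod : G) = (l.map h).prod := by
      intro l
      induction l with
      | nil => rfl
      | cons a l ih => rw [List.map_cons, List.prod_cons, List.map_cons, List.prod_cons, ← ih]; rfl
    rw [h8, rel_of_okF c ho h3 h7 (List.all_eq_true.1 hR1 r hr)]
    rfl
  · have := Subgroup.closure_closure_coe_preimage (k := Set.range h)
    convert this using 2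
    ext x
    constructor
    · rintro ⟨i, rfl⟩
      exact ⟨i, rfl⟩
    · rintro ⟨i, hi⟩
      exact ⟨i, Subtype.ext hi⟩

/-- `BetaIso` from (N1) and the bound (N3). -/
theorem betaIso (hN : NOne.{u}) (R : List (List (Fin 8))) (hR1 : R.all okF = true)
    (hR2 : R.all idCheck = true) (hbound : Bound.{u} R) : Core.BetaIso.{u} := by
  intro Γ _ _ t ι c g0 h1 h2
  obtain ⟨h, ho⟩ := RelMain.main c h1 h2
  obtain ⟨h3, h7⟩ := hN c ho
  obtain ⟨e, he⟩ := exists_iso c ho h3 h7 R hR1 hR2 hbound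
  have hr : ((Subgroup.closure (Set.range h)).subtype.comp e.symm.toMonoidHom).range =
      Subgroup.closure (insert g0 {x | x * t = t * x}) := by
    rw [← ho.cl, MonoidHom.range_comp, MonoidHom.range_eq_top.2 e.symm.surjective,
      ← MonoidHom.range_eq_map, Subgroup.range_subtype]
  refine ⟨(Subgroup.closure (Set.range h)).subtype.comp e.symm.toMonoidHom, ?_, ?_, fun g hg => ?_⟩
  · exact (Subgroup.subtype_injective _).comp e.symm.injective
  · show ((e.symm (m 0) : Subgroup.closure (Set.range h)) : Γ) = t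
    rw [← he 0, MulEquiv.symm_apply_apply]
    exact ho.zero
  · rw [hr]
    exact Subgroup.subset_closure (Or.inr hg)

end Cfsg.Agent.CoThreeStd.GlueF
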