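import Cfsg.Agent.CoThreeStd.InvTwo

/-!
# Data of M12 used for pattern δ of S1750 (helper781)

`be, v` commuting 2B-involutions, `C(⟨be, v⟩) = ⟨k1, k2⟩⟨y⟩ = (4 × 4):2`; the list of the 192 elements of `C(be)`.
-/

set_option autoImplicit false

namespace Cfsg.Agent.CoThreeStd.DeltaData

open Cfsg.Agent.CoThreeStd.MTwelve Cfsg.Agent.CoThreeStd.InvTwo Cfsg.Agent.CoThreeStd.Fusion

/-- the numbers attached to the words of the list are increasing -/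
def incS : ℕ → List (List ℕ) → Bool
  | _, [] => true
  | a, m :: l => Nat.ble a (sig m 24) && incS (sig m 24 + 1) l

theorem incS_lt : ∀ {ls : List (List ℕ)} {a : ℕ}, incS a ls = true → ∀ m ∈ ls, a ≤ sig m 24
  | [], _, _, m, hm => by simp at hm
  | m' :: ls, a, h, m, hm => by
    rw [incS, Bool.and_eq_true] at h
    have h1 : a ≤ sig m' 24 := Nat.le_of_ble_eq_true h.1
    rcases List.mem_cons.mp hm with rfl | hm
    · exact h1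
    · have := incS_lt h.2 m hm
      omega

theorem incS_pairwise : ∀ {ls : List (List ℕ)} {a : ℕ}, incS a ls = true →
    ls.Pairwise (fun m m' => sig m 24 < sig m' 24)
  | [], _, _ => List.Pairwise.nil
  | m :: ls, a, h => by
    rw [incS, Bool.and_eq_true] at h
    refine List.Pairwise.cons (fun m' hm' => ?_) (incS_pairwise h.2)
    have := incS_lt h.2 m' hm'
    omega

/-- a list of `|K|` words of distinct elements of `K` exhausts `K` -/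
theorem exhaust (K : Subgroup H) (ls : List (List ℕ)) (h1 : ∀ l ∈ ls, wd l ∈ K) (h2 : incS 0 ls = true)
    (h3 : Nat.card K ≤ ls.length) (m : H) (hm : m ∈ K) : ∃ l ∈ ls, wd l = m := by
  have hp := List.pairwise_iff_getElem.mp (incS_pairwise h2)
  let f : Fin ls.length → K := fun i => ⟨wd ls[i.1], h1 _ (List.getElem_mem i.2)⟩
  have hinj : Function.Injective f := by
    intro i j hij
    have h4 : wd ls[i.1] = wd ls[j.1] := congrArg Subtype.val hij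
    have h5 := sig_eq h4 24 le_rfl
    by_contra hne
    rcases lt_or_gt_of_ne (fun h6 => hne (Fin.ext h6)) with h6 | h6
    · exact absurd h5 (hp i.1 j.1 i.2 j.2 h6).ne
    · exact absurd h5 (hp j.1 i.1 j.2 i.2 h6).ne'
  have hsurj : Function.Surjective f := by
    have hb := (Nat.bijective_iff_injective_and_card f).2 ⟨hinj, le_antisymm (by
      simpa using Nat.card_le_card_of_injective f hinj) (by simpa using h3)⟩
    exact hb.2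
  obtain ⟨i, hi⟩ := hsurj ⟨m, hm⟩
  exact ⟨ls[i.1], List.getElem_mem i.2, congrArg Subtype.val hi⟩

/-- the words of `be`, `v`, `k1`, `k2`, `d` -/
def wbe : List ℕ := [1, 3]
def wv : List ℕ := [2, 1, 3, 2]
def wk1 : List ℕ := [0, 1, 2, 4, 5, 0, 1, 3, 5, 2, 4]
def wk2 : List ℕ := [1, 2, 5, 0, 1, 3, 4, 3, 5, 3]
def wd' : List ℕ := [0, 5, 2, 4, 5, 0]

def be : H := wd [1, 3]
def v : H := wd [2, 1, 3, 2]
def k1 : H := wd [0, 1, 2, 4, 5, 0, 1, 3, 5, 2, 4]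
def k2 : H := wd [1, 2, 5, 0, 1, 3, 4, 3, 5, 3]
def w : H := y * k1
def d : H := wd [0, 5, 2, 4, 5, 0]

/-- the elements of the centraliser of `be` -/
def cbe : List (List ℕ) :=
  [[], [1,5,0,1,3,4,3,5,2,1], [1,2,5,0,1,3,4,3,5,1], [2,1,3,2], [0,1,3,5,2,4,5,0], [2,5,0,1,2,5,1,5,3,4],
  [1,3,2,4,5,3,2,5,1,5], [0,3,5,2,4,5], [2,5,0,1,5,4,3,2,5,2], [4,5,1,2,1,4,5,1,4], [2,4,5,0,5,1,5,1,4,5],
  [0,3,2,5,0,1,4,3,2,5], [0,5,1,5,2,3,5,2,4,3], [1,4,5,1,2,1,4,5,4], [2,5,0,4,5,4,3,2,1,5], [4,5,0,1,2,5,3,4,5,2],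
  [5,2,4,5,0,3], [2,5,4,3,5,0,2,1,5,4], [0,5,1,5,3,4,5,2,1,5], [1,5,2,4,5,1], [1,2,4,5,0,1,3,5,2,4],
  [0,5,0,1,3,4,3,5,2], [1,4,5,0,1,3,5,1,2,4], [0,1,5,0,4,5,0,1,5,0,4,5], [1,2,3,4,5,0,1,3,5,4], [0], [0,2,1,3,2],
  [3,2,1,4,5,0,1,3,5,4], [4,3,5,1,5,0,5,1,2,5], [0,4,5,1,2,1,4,5,1,4], [5,0,1,5,1,5,1,3,5,4], [3,2,5,0,1,4,3,2,5],
  [1,3,5,2,4,5,0], [2,4,5,0,1,2,5,1,5,3], [1,2,4,5,3,2,5,1,5,1], [3,5,2,4,5], [0,5,2,4,5,0,3],
  [5,1,5,1,3,2,4,5,3,2], [5,1,5,3,4,5,2,1,5], [0,1,5,2,4,5,1], [5,1,5,2,3,5,2,4,3], [0,1,4,5,1,2,1,4,5,4],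
  [5,1,4,5,0,2,4,3,2,5], [5,1,3,2,4,5,4,5,3,2], [5,0,1,3,4,3,5,2], [0,1,2,4,5,0,1,3,5,2,4],
  [1,5,0,4,5,0,1,5,0,4,5], [1,3,2,5,0,1,3,4,3,5], [3,4,5,2,1,5,0,5,1,5], [0,3,5,2,4,5,0], [0,1,3,5,2,4,5],
  [3,2,4,5,3,2,5,1,5], [1,4,5,1,2,1,4,5,1,4], [3,5,1,5,0,5,1,2,5,4], [2,5,0,1,4,3,2,5,1], [2,1,5,0,5,2,1,3,5,4],
  [1], [5,0,1,3,4,3,5,2,1], [1,2,1,3,2], [2,5,0,1,3,4,3,5,1], [2,4,5,0,1,3,5,2,4], [4,5,0,1,3,5,4,3,2],
  [0,5,0,4,5,0,1,5,0,4,5], [4,5,0,1,3,5,1,2,4], [2,4,5,2,4,5,4,3,5,2], [1,5,2,4,5,0,3], [5,2,4,5,1],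
  [5,0,2,1,3,4,5,2,1], [4,5,1,2,1,4,5,4], [3,5,1,5,2,3,5,2,4], [5,3,2,4,5,1,4,5,1,2], [0,3,4,5,1,2,1,4,5,0,4],
  [4,3,5,1,3,5,1,5,0,5], [3,5,0,5,1,2,5,0,5,4], [5,1,2,5,4,3,5,1,5], [2,4,5,0,5,2,1,5,4,5], [4,5,2,1,5,0,5,1,5,3],
  [3,5,2,4,5,0], [1,3,5,2,4,5], [2,4,5,3,2,5,1,5,1], [2,3,4,5,0,1,3,5,4], [0,1], [0,2,5,0,1,3,4,3,5,1],
  [0,1,2,1,3,2], [1,5,0,1,3,4,3,5,2], [0,2,4,5,0,1,3,5,2,4], [3,2,5,0,1,3,4,3,5], [5,0,4,5,0,1,5,0,4,5],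
  [0,4,5,1,2,1,4,5,4], [5,1,5,2,3,5,0,2,4], [2,1,3,5,0,1,4,3,2,5], [3,4,5,1,2,1,4,5,0,4], [2,1,5,1,4,5,2,4,3,5],
  [0,1,5,2,4,5,0,3], [0,5,2,4,5,1], [3,5,0,2,1,3,4,5,2], [1,4,5,1,2,1,4,5,0,4], [2,3,5,2,1,4,3,5,1,5],
  [0,1,5,1,5,2,3,5,2,4], [5,0,2,3,2,4,5,1,4,5], [1,5,0,2,1,3,4,5,2], [0,5,2,4,5,3], [0,1,5,2,4,5,0,1],
  [4,5,3,2,1,5,0,4,5,4], [1,2,5,0,1,3,4,3,5], [5,0,2,5,0,3,5,0,2,5], [3,5,0,1,3,4,3,5,2], [0,5,2,4,5,0,5,2,4,5],
  [2,1,4,5,0,1,3,5,4], [0,2,1,3,2,1], [0,5,0,1,3,4,3,5,2,3], [0,3], [4,5,1,2,1,4,5,0,4,3], [2,5,0,1,4,3,2,5],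
  [1,5,0,5,1,2,5,0,5,4], [0,1,4,5,1,2,1,4,5,4,3], [2,4,5,3,2,5,1,5,3], [5,2,4,5], [1,5,2,4,5,0],
  [0,2,4,5,0,1,2,5,1,5], [5,0,2,1,3,4,5,2,3], [5,2,4,5,3], [1,5,2,4,5,0,1], [2,3,5,4,5,2,1,4,3,5],
  [4,5,1,3,2,5,0,5,1,2], [4,5,0,4,5,1,2,3,5,4], [1,5,1,5,2,3,5,2,4], [1,3,4,5,1,2,1,4,5,4],
  [0,5,0,2,5,0,3,5,0,2,5], [0,1,2,5,0,1,3,4,3,5], [5,2,4,5,0,5,2,4,5], [0,3,5,0,1,3,4,3,5,2], [2,1,3,2,1],
  [2,5,0,1,3,4,3,5,3], [3], [5,0,1,3,4,3,5,2,3], [1,2,4,5,3,2,5,1,5], [0,5,2,4,5], [0,1,5,2,4,5,0],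
  [2,4,5,0,1,2,5,1,5], [0,4,5,1,2,1,4,5,0,4,3], [0,2,5,0,1,4,3,2,5], [1,5,1,5,0,5,1,2,5,4], [1,4,5,1,2,1,4,5,4,3],
  [5,0,2,5,1,3,5,0,2,5], [0,2,5,0,1,3,4,3,5], [2,3,4,5,0,1,3,5,4,3], [1,5,2,4,5,0,5,2,4,5], [1,5,2,4,5,3],
  [0,5,0,2,1,3,4,5,2], [2,1,3,4,5,3,2,5,1,5], [5,2,4,5,0,1], [5,1,5,2,3,5,1,4,3,2], [0,4,5,1,2,1,4,5,0,4],
  [3,4,5,1,2,1,4,5,4], [5,1,5,2,3,5,2,4], [2,5,0,1,4,3,2,5,0], [3,2,1,5,0,5,2,1,3,5,4], [4,5,1,2,1,4,5,4,3],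
  [5,1,5,0,5,1,2,5,4], [0,1,5,2,4,5], [2,4,5,3,2,5,1,5], [4,5,2,1,5,0,5,1,5], [0,5,2,4,5,0], [1,2,1,3,2,1],
  [1,2,5,0,1,3,4,3,5,3], [1,5,0,1,3,4,3,5,2,3], [1,3], [2,5,0,1,3,4,3,5], [0,5,0,2,5,1,3,5,0,2,5],
  [0,1,5,2,4,5,0,5,2,4,5], [1,3,5,0,1,3,4,3,5,2], [2,3,4,5,4,5,3,2,5,4], [4,5,1,2,1,4,5,0,4],
  [0,3,4,5,1,2,1,4,5,4], [0,5,1,5,2,3,5,2,4], [0,1,5,2,4,5,3], [5,0,2,1,3,4,5,2], [5,0,2,1,3,4,5,1,3,2],
  [0,5,2,4,5,0,1], [1,5,2,4,5], [0,2,4,5,3,2,5,1,5], [0,4,5,2,1,5,0,5,1,5], [5,2,4,5,0], [1,2,5,0,1,4,3,2,5],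
  [1,4,5,1,2,1,4,5,0,4,3], [0,4,5,1,2,1,4,5,4,3], [5,0,5,1,2,5,0,5,4], [1,2,1,4,5,0,1,3,5,4], [0,1,2,1,3,2,1],
  [0,1,3], [2,3,2,4,5,0,1,3,5,4]]

/-- conjugating elements -/
def csl : List (List ℕ) := [[], [1], [5,2,4,5], [5,2,4,5,1], [5,1,5,2,3,5,2,4], [4,5,1,2,1,4,5,4]]

set_option maxRecDepth 100000 in
theorem cbe_inc : incS 0 cbe = true := by decide +kernel

theorem cbe_len : cbe.length = 192 := by decide +kernel

set_option maxRecDepth 100000 in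
theorem cbe_comm : cbe.all (fun l => eqW (l ++ wbe) (wbe ++ l)) = true := by decide +kernel

theorem mem_cbe (m : H) (hm : m * be = be * m) : ∃ l ∈ cbe, wd l = m := by
  apply exhaust (Subgroup.centralizer {p * r} : Subgroup H) cbe
  · intro l hl
    rw [Subgroup.mem_centralizer_singleton_iff, ← wd_pr]
    have h1 := List.all_eq_true.mp cbe_comm l hl
    have h2 := wd_eq h1
    rwa [wd_append, wd_append] at h2
  · exact cbe_inc
  · rw [card_cent_v, cbe_len]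
  · rw [Subgroup.mem_centralizer_singleton_iff, ← wd_pr]
    exact hm

/-- powers of words -/
def wp (l : List ℕ) : ℕ → List ℕ
  | 0 => []
  | n + 1 => wp l n ++ l

theorem wd_wp (l : List ℕ) (n : ℕ) : wd (wp l n) = wd l ^ n := by
  induction n with
  | zero => rfl
  | succ n ih => rw [wp, wd_append, ih, pow_succ]

/-- the 32 words -/
def w32 : List (List ℕ) :=
  (List.range 32).map (fun n => wp wk1 (n / 8) ++ (wp wk2 (n / 2 % 4) ++ wp [0] (n % 2)))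

def test1 (l : List ℕ) : Bool := !(eqW (l ++ wv) (wv ++ l)) || w32.any (fun x => eqW l x)

set_option maxRecDepth 100000 in
theorem test1_all : cbe.all test1 = true := by decide +kernel

theorem cent_bv (m : H) (h1 : m * be = be * m) (h2 : m * v = v * m) :
    ∃ i j : Fin 4, ∃ l : Fin 2, m = k1 ^ i.1 * k2 ^ j.1 * y ^ l.1 := by
  obtain ⟨l, hl, rfl⟩ := mem_cbe m h1
  have h3 := List.all_eq_true.mp test1_all l hl
  rw [test1, Bool.or_eq_true] at h3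
  rcases h3 with h3 | h3
  · exfalso
    have h4 : eqW (l ++ wv) (wv ++ l) = true := by
      apply eqW_of_wd
      rw [wd_append, wd_append]
      exact h2
    rw [h4] at h3
    exact Bool.noConfusion h3
  · obtain ⟨x, hx, h4⟩ := List.any_eq_true.mp h3
    obtain ⟨n, hn, rfl⟩ := List.mem_map.mp hx
    have hn' : n < 32 := List.mem_range.mp hn
    refine ⟨⟨n / 8, by omega⟩, ⟨n / 2 % 4, by omega⟩, ⟨n % 2, by omega⟩, ?_⟩
    rw [wd_eq h4, wd_append, wd_append, wd_wp, wd_wp, wd_wp, wd_y, mul_assoc]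
    rfl

/-- the word of `k1^i k2^j y^l` -/
def wijl (i j : Fin 4) (l : Fin 2) : List ℕ := wp wk1 i.1 ++ (wp wk2 j.1 ++ wp [0] l.1)

theorem wd_wijl (i j : Fin 4) (l : Fin 2) : wd (wijl i j l) = k1 ^ i.1 * k2 ^ j.1 * y ^ l.1 := by
  rw [wijl, wd_append, wd_append, wd_wp, wd_wp, wd_wp, wd_y, mul_assoc]
  rfl

/-- the word of `be^i v^j x^l` -/
def wbvx (x : List ℕ) (i j l : Fin 2) : List ℕ := wp wbe i.1 ++ (wp wv j.1 ++ wp x l.1)

theorem wd_wbvx (x : List ℕ) (i j l : Fin 2) : wd (wbvx x i j l) = be ^ i.1 * v ^ j.1 * wd x ^ l.1 := by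
  rw [wbvx, wd_append, wd_append, wd_wp, wd_wp, wd_wp, mul_assoc]
  rfl

def test2 (x : List ℕ) (i j : Fin 4) (l : Fin 2) : Bool :=
  !(eqW (wijl i j l ++ x) (x ++ wijl i j l)) ||
    (List.range 8).any (fun n => eqW (wijl i j l)
      (wp wbe (n / 4) ++ (wp wv (n / 2 % 2) ++ wp x (n % 2))))

set_option maxRecDepth 100000 in
theorem test2_y : ∀ i j : Fin 4, ∀ l : Fin 2, test2 [0] i j l = true := by decide +kernel

set_option maxRecDepth 100000 in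
theorem test2_w : ∀ i j : Fin 4, ∀ l : Fin 2, test2 ([0] ++ wk1) i j l = true := by decide +kernel

theorem cent_bvx (x : List ℕ) (hx : ∀ i j : Fin 4, ∀ l : Fin 2, test2 x i j l = true) (m : H)
    (h1 : m * be = be * m) (h2 : m * v = v * m) (h3 : m * wd x = wd x * m) :
    ∃ i j l : Fin 2, m = be ^ i.1 * v ^ j.1 * wd x ^ l.1 := by
  obtain ⟨i, j, l, h4⟩ := cent_bv m h1 h2
  have h5 := hx i j l
  rw [test2, Bool.or_eq_true] at h5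
  rcases h5 with h5 | h5
  · exfalso
    have h6 : eqW (wijl i j l ++ x) (x ++ wijl i j l) = true := by
      apply eqW_of_wd
      rw [wd_append, wd_append, wd_wijl, ← h4]
      exact h3
    rw [h6] at h5
    exact Bool.noConfusion h5
  · obtain ⟨n, hn, h6⟩ := List.any_eq_true.mp h5
    have hn' : n < 8 := List.mem_range.mp hn
    refine ⟨⟨n / 4, by omega⟩, ⟨n / 2 % 2, by omega⟩, ⟨n % 2, by omega⟩, ?_⟩
    rw [h4, ← wd_wijl, wd_eq h6]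
    exact wd_wbvx x ⟨n / 4, by omega⟩ ⟨n / 2 % 2, by omega⟩ ⟨n % 2, by omega⟩

theorem cent_byv (m : H) (h1 : m * be = be * m) (h2 : m * v = v * m) (h3 : m * y = y * m) :
    ∃ i j l : Fin 2, m = be ^ i.1 * v ^ j.1 * y ^ l.1 := by
  have := cent_bvx [0] test2_y m h1 h2 (by rw [wd_y]; exact h3)
  rwa [wd_y] at this

theorem w_eq : w = wd ([0] ++ wk1) := by rw [wd_append, wd_y]; rfl

theorem cent_W (m : H) (h1 : m * be = be * m) (h2 : m * v = v * m) (h3 : m * w = w * m) :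
    ∃ i j l : Fin 2, m = be ^ i.1 * v ^ j.1 * w ^ l.1 := by
  have := cent_bvx ([0] ++ wk1) test2_w m h1 h2 (by rw [← w_eq]; exact h3)
  rwa [← w_eq] at this

/-- `m ^ 4 = 1`, `m ^ 2 ≠ 1`, `be m²` of class 2B: then `m²` is conjugate to `v` in `C(be)` -/
def test4 (l : List ℕ) : Bool :=
  !(eqW (wp l 4) []) || eqW (l ++ l) [] || !(hasFix (wbe ++ (l ++ l))) || eqW (wbe ++ (l ++ l)) [] ||
    csl.any (fun c => eqW (cj (l ++ l) c) wv)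

set_option maxRecDepth 100000 in
theorem test4_all : cbe.all test4 = true := by decide +kernel

theorem csl_comm : csl.all (fun l => eqW (l ++ wbe) (wbe ++ l)) = true := by decide +kernel

theorem sq_conj (m : H) (h1 : m * be = be * m) (h2 : m ^ 4 = 1) (h3 : m * m ≠ 1) (h4 : IsB (be * (m * m))) :
    ∃ c, c * be = be * c ∧ c⁻¹ * (m * m) * c = v := by
  obtain ⟨l, hl, rfl⟩ := mem_cbe m h1
  have h5 := List.all_eq_true.mp test4_all l hl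
  rw [test4, Bool.or_eq_true, Bool.or_eq_true, Bool.or_eq_true, Bool.or_eq_true] at h5
  rcases h5 with (((h5 | h5) | h5) | h5) | h5
  · exfalso
    have h6 : eqW (wp l 4) [] = true := by
      apply eqW_of_wd
      rw [wd_wp, h2, wd_nil]
    rw [h6] at h5
    exact Bool.noConfusion h5
  · exfalso
    apply h3
    rw [← wd_append, wd_eq h5, wd_nil]
  · exfalso
    have h6 : hasFix (wbe ++ (l ++ l)) = false := by
      cases h7 : hasFix (wbe ++ (l ++ l))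
      · rfl
      · rw [h7] at h5; exact Bool.noConfusion h5
    apply not_isB_of_noFix h6
    rw [wd_append, wd_append]
    exact h4
  · exfalso
    have h6 : be * (wd l * wd l) = 1 := by
      have h7 := wd_eq h5
      rw [wd_append, wd_append, wd_nil] at h7
      exact h7
    rw [h6] at h4
    exact (inv2.invB 1 h4).2 rfl
  · obtain ⟨c, hc, h6⟩ := List.any_eq_true.mp h5
    refine ⟨wd c, ?_, ?_⟩
    · have h7 := wd_eq (List.all_eq_true.mp csl_comm c hc)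
      rw [wd_append, wd_append] at h7
      exact h7
    · rw [← wd_append, ← wd_cj, wd_eq h6]
      rfl

/-! ### classes -/

theorem isA_y1 : IsA y := isA_y
theorem isA_ybe : IsA (y * be) := by
  have := isA_wd (l := [0, 1, 3]) (m := [5, 0, 1, 3, 5, 2, 4]) (by decide +kernel)
  rwa [show ([0, 1, 3] : List ℕ) = [0] ++ [1, 3] from rfl, wd_append, wd_y] at this
theorem isA_yv : IsA (y * v) := by
  have := isA_wd (l := [0, 2, 1, 3, 2]) (m := [5, 0, 1, 3, 5, 4]) (by decide +kernel)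
  rwa [show ([0, 2, 1, 3, 2] : List ℕ) = [0] ++ [2, 1, 3, 2] from rfl, wd_append, wd_y] at this
theorem isA_ybev : IsA (y * (be * v)) := by
  have := isA_wd (l := [0] ++ ([1, 3] ++ [2, 1, 3, 2])) (m := [5, 0, 1, 3, 5, 1, 4]) (by decide +kernel)
  rwa [wd_append, wd_append, wd_y] at this
theorem isB_be : IsB be := isB_wd (m := []) (by decide +kernel)
theorem isB_v : IsB v := isB_wd (m := [2]) (by decide +kernel)
theorem isB_bev : IsB (be * v) := by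
  have := isB_wd (l := [1, 3] ++ [2, 1, 3, 2]) (m := [2, 1]) (by decide +kernel)
  rwa [wd_append] at this
theorem isB_d : IsB d := isB_wd (m := [5, 0, 1, 5, 1, 2]) (by decide +kernel)

theorem isB_yk {k : List ℕ} (u m : List ℕ) (h : eqW (cj [1, 3] m) ([0] ++ (k ++ u)) = true) :
    IsB (y * wd k * wd u) := by
  have := isB_wd h
  rwa [wd_append, wd_append, wd_y, ← mul_assoc] at this

theorem isB_yk1 : IsB (y * k1) := by
  have := isB_yk (k := wk1) [] [5, 1, 5, 1, 3, 5] (by decide +kernel)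
  rwa [wd_nil, mul_one] at this
theorem isB_yk1be : IsB (y * k1 * be) := isB_yk (k := wk1) wbe [2, 5, 2, 4, 5] (by decide +kernel)
theorem isB_yk1v : IsB (y * k1 * v) := isB_yk (k := wk1) wv [5, 0, 2, 5, 1] (by decide +kernel)
theorem isB_yk1bev : IsB (y * k1 * (be * v)) := by
  have := isB_yk (k := wk1) (wbe ++ wv) [5, 0, 2, 5] (by decide +kernel)
  rwa [wd_append] at this
theorem isB_yk2 : IsB (y * k2) := by
  have := isB_yk (k := wk2) [] [5, 1, 3, 4, 5] (by decide +kernel)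
  rwa [wd_nil, mul_one] at this
theorem isB_yk2be : IsB (y * k2 * be) := isB_yk (k := wk2) wbe [5, 0, 2, 5, 1, 2] (by decide +kernel)
theorem isB_yk2v : IsB (y * k2 * v) := isB_yk (k := wk2) wv [5, 1, 3, 4, 5, 0] (by decide +kernel)
theorem isB_yk2bev : IsB (y * k2 * (be * v)) := by
  have := isB_yk (k := wk2) (wbe ++ wv) [5, 0, 2, 5, 2] (by decide +kernel)
  rwa [wd_append] at this
theorem isB_yk1k2 : IsB (y * (k1 * k2)) := by
  have := isB_yk (k := wk1 ++ wk2) [] [5, 1, 3, 4, 5, 0, 1] (by decide +kernel)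
  rwa [wd_nil, mul_one, wd_append] at this
theorem isB_yk1k2be : IsB (y * (k1 * k2) * be) := by
  have := isB_yk (k := wk1 ++ wk2) wbe [5, 0, 2, 5, 2, 1] (by decide +kernel)
  rwa [wd_append] at this
theorem isB_yk1k2v : IsB (y * (k1 * k2) * v) := by
  have := isB_yk (k := wk1 ++ wk2) wv [5, 0, 2, 5, 1, 2, 3] (by decide +kernel)
  rwa [wd_append] at this
theorem isB_yk1k2bev : IsB (y * (k1 * k2) * (be * v)) := by
  have := isB_yk (k := wk1 ++ wk2) (wbe ++ wv) [5, 1, 3, 4, 5, 1] (by decide +kernel)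
  rwa [wd_append, wd_append] at this

theorem isB_x1 : IsB (wd [4, 5, 1, 2, 1, 4, 5, 4]) := isB_wd (m := [5, 0, 3, 5, 2]) (by decide +kernel)
theorem isB_x2 : IsB (wd [3, 2, 1, 5, 0, 5, 2, 1, 3, 5, 4]) := isB_wd (m := [5, 1, 3, 2, 5]) (by decide +kernel)

theorem p_eq : p = v * wd [4, 5, 1, 2, 1, 4, 5, 4] * wd [3, 2, 1, 5, 0, 5, 2, 1, 3, 5, 4] := by
  rw [← wd_p, v, ← wd_append, ← wd_append]
  exact wd_eq (by decide +kernel)

end Cfsg.Agent.CoThreeStd.DeltaData
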