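import Cfsg.Agent.CoThreeStd.Collapse
import Cfsg.Agent.CoThreeStd.DeltaData
import Cfsg.Agent.CoThreeStd.Lam
import Cfsg.Agent.CoThreeStd.Sev

/-!
# S1750, part [A]: the relation of the normaliser of `⟨t, y, s⟩` (helper178)

`rho` is an element of order 3 of `M₁₂`: `y ↦ s ↦ ys`. The exactness of `C_G(t)` gives `v := (ρ g ρ⁻¹)^g ∈ M₁₂` and
`v = ρ`.  This is the relation `(R*)` (`star`), which implies `(gρ)³ = 1` and `(gρ⁻¹)⁷ = 1`.
-/

set_option autoImplicit false

namespace Cfsg.Agent.CoThreeStd.RStar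

open Cfsg Cfsg.Agent.CoThreeStd.RelMain Cfsg.Agent.CoThreeStd.MTwelve Cfsg.Agent.CoThreeStd.RelB
  Cfsg.Agent.CoThreeStd.DeltaData Cfsg.Agent.SporadicRecognition.CosetCert

/-- the words of the elements of `C(y)` -/
def cy : List (List ℕ) :=
  [[], [1,4], [2,1,3,2,1,4,3,2,1], [1,2,1,3,2,1,4,3,2], [1,2,1,3,4], [2,3,2,4,3,2], [1,2,3], [3,2,4,3,2,1],
  [2,1,3,2], [1,3,4,3,2], [1,4,3,2,1], [2,1,3,2,1,4], [2,1,3,4,3], [2,4,3], [1,2,3,2,4,3], [1,3,2,1,4,3],
  [1,2,1,4,3,2], [3,2,4], [1,2,1,3,4,3,2,1], [3,2,1], [0,1,2,1,3,2,1,4,3,2], [0], [0,2,1,3,2,1,4,3,2,1], [0,1,4],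
  [0,2,1,3,2], [0,2,1,3,2,1,4], [0,1,4,3,2,1], [0,1,3,4,3,2], [0,1,2,1,4,3,2], [0,3,2,1], [0,3,2,4],
  [0,1,2,1,3,4,3,2,1], [0,2,1,3,4,3], [0,1,3,2,1,4,3], [0,2,4,3], [0,1,2,3,2,4,3], [0,1,2,1,3,4], [0,2,3,2,4,3,2],
  [0,3,2,4,3,2,1], [0,1,2,3], [1,2,1,3,2,1,4,3,2,1], [2,1,3,2,1,4,3,2], [1], [4], [2,1,4,3,2], [2,1,3,4,3,2,1],
  [1,3,2,1], [1,3,2,4], [1,2,1,3,4,3], [3,2,1,4,3], [1,2,4,3], [2,3,2,4,3], [1,2,1,3,2], [4,3,2,1], [1,2,1,3,2,1,4],
  [3,4,3,2], [2,1,3,4], [1,3,2,4,3,2,1], [1,2,3,2,4,3,2], [2,3], [0,4], [0,1,2,1,3,2,1,4,3,2,1], [0,1],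
  [0,2,1,3,2,1,4,3,2], [0,1,2,1,3,4,3], [0,2,3,2,4,3], [0,1,2,4,3], [0,3,2,1,4,3], [0,2,1,3,4], [0,2,3],
  [0,1,3,2,4,3,2,1], [0,1,2,3,2,4,3,2], [0,1,2,1,3,2], [0,3,4,3,2], [0,4,3,2,1], [0,1,2,1,3,2,1,4], [0,2,1,4,3,2],
  [0,2,1,3,4,3,2,1], [0,1,3,2,4], [0,1,3,2,1], [0,1,3,4,3,2,1], [0,1,4,3,2], [0,2,1,3,2,1], [0,2,1,3,2,4],
  [0,3,2,4,3], [0,1,2,3,4,3], [0,2,3,2,1,4,3], [0,1,2,1,4,3], [0,2,3,4,3,2], [0,2,4,3,2,1], [0,1,2,3,2],
  [0,1,2,3,2,1,4], [0,3], [0,2,1,3,2,4,3,2,1], [0,1,3,4], [0,1,2,1,3,2,4,3,2], [0,2,4], [0,1,2,3,2,1,4,3,2,1],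
  [0,1,3,2,1,4,3,2], [0,2,1], [3,2,4,3,2], [1,2,3,4], [2,3,2,4,3,2,1], [1,2,1,3], [1,3,2,1,4], [1,3,2],
  [2,1,4,3,2,1], [2,1,3,4,3,2], [1,2,3,2,1,4,3,2], [2], [1,3,2,1,4,3,2,1], [2,1,4], [2,3,2,1], [2,3,2,4],
  [1,2,4,3,2], [1,2,3,4,3,2,1], [2,1,3,2,1,4,3], [4,3], [1,3,4,3], [1,2,1,3,2,4,3], [1,3,4,3,2,1], [2,1,3,2,4],
  [2,1,3,2,1], [1,4,3,2], [3,2,4,3], [1,2,1,4,3], [2,3,2,1,4,3], [1,2,3,4,3], [2,4], [1,2,3,2,1,4,3,2,1], [2,1],
  [1,3,2,1,4,3,2], [3], [2,1,3,2,4,3,2,1], [1,2,1,3,2,4,3,2], [1,3,4], [2,3,4,3,2], [2,4,3,2,1], [1,2,3,2,1,4],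
  [1,2,3,2], [1,3,2,4,3], [1,2,3,2,1,4,3], [2,3,4,3], [2,1,4,3], [3,4,3,2,1], [1,2,1,3,2,1], [4,3,2], [1,2,1,3,2,4],
  [1,2,4,3,2,1], [1,2,3,4,3,2], [2,3,2,1,4], [2,3,2], [1,2,1,3,2,4,3,2,1], [1,3], [3,4], [2,1,3,2,4,3,2],
  [2,3,2,1,4,3,2,1], [1,2,4], [3,2,1,4,3,2], [1,2,1], [0,3,2,1,4], [0,1,2,1,4,3,2,1], [0,1,2,1,3,4,3,2], [0,3,2],
  [0,1,3,2,4,3,2], [0,1,2,3,2,4,3,2,1], [0,2,1,3], [0,2,3,4], [0,1,2,3,2,4], [0,1,2,3,2,1], [0,2,3,4,3,2,1],
  [0,2,4,3,2], [0,1,2], [0,2,3,2,1,4,3,2], [0,3,2,1,4,3,2,1], [0,1,2,1,4], [0,1,4,3], [0,1,2,1,3,2,1,4,3],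
  [0,2,1,3,2,4,3], [0,3,4,3], [0,1,3,2,4,3], [0,2,1,4,3], [0,1,2,3,2,1,4,3], [0,2,3,4,3], [0,3,4,3,2,1],
  [0,1,2,1,3,2,4], [0,1,2,1,3,2,1], [0,4,3,2], [0,1,2,1,3,2,4,3,2,1], [0,1,3], [0,2,1,3,2,4,3,2], [0,3,4],
  [0,2,3,2,1,4,3,2,1], [0,1,2,4], [0,1,2,1], [0,3,2,1,4,3,2], [0,1,2,4,3,2,1], [0,1,2,3,4,3,2], [0,2,3,2,1,4],
  [0,2,3,2], [3,2,1,4], [1,2,1,3,4,3,2], [3,2], [1,2,1,4,3,2,1], [1,3,2,4,3,2], [2,1,3], [2,3,4], [1,2,3,2,4,3,2,1],
  [1,4,3], [1,2,1,3,2,1,4,3], [2,1,3,2,4,3], [3,4,3], [1,2,3,2,4], [1,2,3,2,1], [2,4,3,2], [2,3,4,3,2,1], [1,2],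
  [2,3,2,1,4,3,2], [1,2,1,4], [3,2,1,4,3,2,1], [0,3,2,4,3,2], [0,1,2,3,4], [0,1,2,1,3], [0,2,3,2,4,3,2,1],
  [0,1,3,2,1,4], [0,1,3,2], [0,2,1,3,4,3,2], [0,2,1,4,3,2,1], [0,1,2,3,2,1,4,3,2], [0,2], [0,2,1,4],
  [0,1,3,2,1,4,3,2,1], [0,2,1,3,2,1,4,3], [0,4,3], [0,1,3,4,3], [0,1,2,1,3,2,4,3], [0,2,3,2,1], [0,2,3,2,4],
  [0,1,2,4,3,2], [0,1,2,3,4,3,2,1]]

set_option maxRecDepth 100000 in
theorem cy_inc : incS 0 cy = true := by decide +kernel

theorem cy_len : cy.length = 240 := by decide +kernel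

theorem cy_comm : cy.all (fun l => eqW (l ++ [0]) ([0] ++ l)) = true := by decide +kernel

theorem mem_cy (m : H) (hm : m * y = y * m) : ∃ l ∈ cy, wd l = m := by
  apply exhaust (Subgroup.centralizer {y} : Subgroup H) cy
  · intro l hl
    rw [Subgroup.mem_centralizer_singleton_iff, ← wd_y]
    have h2 := wd_eq (List.all_eq_true.mp cy_comm l hl)
    rwa [wd_append, wd_append] at h2
  · exact cy_inc
  · rw [card_cent_y, cy_len]
  · rw [Subgroup.mem_centralizer_singleton_iff]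
    exact hm

/-- the word of `ρ` -/
def rho : List (Fin 8) := [3, 2, 4, 6, 4, 3, 2, 6, 3, 6, 4, 3, 5, 6, 4]

/-- letters in `⟨t⟩ × M₁₂` -/
def no7 (w : List (Fin 8)) : Bool := w.all fun k => !(k == 7)

/-- conjugation by `g` -/
def ph (k : Fin 8) : List (Fin 8) := if k = 0 then [1] else if k = 1 then [0, 1] else [1, 0, k]

/-- conjugation by `g` on words -/
def phi (w : List (Fin 8)) : List (Fin 8) := w.flatMap ph

/-- words in `C_C(x)` -/
def le5 (w : List (Fin 8)) : Bool := w.all fun k => Nat.ble k.val 5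

/-- equality of words in `⟨t⟩ × M₁₂` -/
def okC (w w' : List (Fin 8)) : Bool := no7 w' && okR (w ++ w'.reverse)

variable {G : Type*} [Group G] {t g0 : G} {ι : H →* G} {h : Fin 8 → G}

/-- value of a word -/
def E (h : Fin 8 → G) (w : List (Fin 8)) : G := (w.map h).prod

theorem E_append (w w' : List (Fin 8)) : E h (w ++ w') = E h w * E h w' := by simp [E]
theorem E_cons (k : Fin 8) (w : List (Fin 8)) : E h (k :: w) = h k * E h w := by simp [E]
theorem E_nil : E h [] = 1 := rfl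

section

variable (ho : Out t ι g0 h)
include ho

theorem sq {k : Fin 8} (hk : k ≠ 7) : h k * h k = 1 := by
  have h1 : ∀ k : Fin 8, k ≠ 7 → okR [k, k] = true := by decide +kernel
  have := ho.rel _ (h1 k hk)
  simpa using this

theorem E_reverse {w : List (Fin 8)} (hw : no7 w = true) : E h w.reverse = (E h w)⁻¹ := by
  induction w with
  | nil => simp [E]
  | cons k w ih =>
    unfold no7 at hw ih
    rw [List.all_cons, Bool.and_eq_true] at hw
    have hk : k ≠ 7 := by simpa using hw.1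
    rw [List.reverse_cons, E_append, ih hw.2, E_cons k w, mul_inv_rev, E_cons, E_nil, mul_one,
      inv_eq_of_mul_eq_one_left (sq ho hk)]

theorem eqC {w w' : List (Fin 8)} (hc : okC w w' = true) : E h w = E h w' := by
  unfold okC at hc
  rw [Bool.and_eq_true] at hc
  have h1 : E h (w ++ w'.reverse) = 1 := ho.rel _ hc.2
  rw [E_append, E_reverse ho hc.1] at h1
  exact mul_inv_eq_one.1 h1

theorem cube : h 7 * h 7 * h 7 = 1 := by
  have := ho.rel [7, 7, 7] (by decide +kernel)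
  simp only [List.map_cons, List.map_nil, List.prod_cons, List.prod_nil, mul_one] at this
  rw [mul_assoc]; exact this

theorem h77 : h 7 * h 7 = (h 7)⁻¹ := by
  rw [eq_inv_iff_mul_eq_one]; exact cube ho

theorem c0 : C (h 7) (h 0) (h 1) := by
  have h1 := ho.rel [7, 7, 0, 7, 1] (by decide +kernel)
  simp only [List.map_cons, List.map_nil, List.prod_cons, List.prod_nil, mul_one] at h1
  rw [← mul_assoc (h 7) (h 7), h77 ho] at h1
  apply C.of_eq
  have h2 : ((h 7)⁻¹ * h 0 * h 7) * h 1 = 1 := by rw [← h1]; group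
  rw [eq_inv_of_mul_eq_one_left h2, inv_eq_of_mul_eq_one_left (sq ho (by decide))]

theorem c1 : C (h 7) (h 1) (h 0 * h 1) := by
  have h1 := ho.rel [7, 7, 1, 7, 1, 0] (by decide +kernel)
  simp only [List.map_cons, List.map_nil, List.prod_cons, List.prod_nil, mul_one] at h1
  rw [← mul_assoc (h 7) (h 7), h77 ho] at h1
  apply C.of_eq
  have h2 : ((h 7)⁻¹ * h 1 * h 7) * (h 1 * h 0) = 1 := by rw [← h1]; group
  rw [eq_inv_of_mul_eq_one_left h2, mul_inv_rev, inv_eq_of_mul_eq_one_left (sq ho (k := 1) (by decide)),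
    inv_eq_of_mul_eq_one_left (sq ho (k := 0) (by decide))]

theorem ck {k : Fin 8} (h2 : 2 ≤ k.val) (h5 : k.val ≤ 5) : C (h 7) (h k) (h 1 * (h 0 * h k)) := by
  have hR : ∀ k : Fin 8, 2 ≤ k.val → k.val ≤ 5 → okR [7, 7, 0, k, 7, k, 0] = true := by decide +kernel
  have h1 := ho.rel _ (hR k h2 h5)
  simp only [List.map_cons, List.map_nil, List.prod_cons, List.prod_nil, mul_one] at h1
  rw [← mul_assoc (h 7) (h 7), h77 ho] at h1
  have hk7 : k ≠ 7 := by rintro rfl; exact absurd h5 (by decide)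
  have h3 : C (h 7) (h 0 * h k) (h 0 * h k) := by
    apply C.of_eq
    have h4 : ((h 7)⁻¹ * (h 0 * h k) * h 7) * (h k * h 0) = 1 := by rw [← h1]; group
    rw [eq_inv_of_mul_eq_one_left h4, mul_inv_rev, inv_eq_of_mul_eq_one_left (sq ho hk7),
      inv_eq_of_mul_eq_one_left (sq ho (k := 0) (by decide))]
  have h4 := (c0 ho).mul h3
  rwa [← mul_assoc, sq ho (by decide), one_mul] at h4

theorem conj7 {w : List (Fin 8)} (hw : le5 w = true) : C (h 7) (E h w) (E h (phi w)) := by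
  induction w with
  | nil => show _ = _; simp [E, phi]
  | cons k w ih =>
    unfold le5 at hw ih
    rw [List.all_cons, Bool.and_eq_true] at hw
    have hk := Nat.le_of_ble_eq_true hw.1
    have h1 : C (h 7) (h k) (E h (ph k)) := by
      by_cases k0 : k = 0
      · subst k0
        have := c0 ho
        simpa [ph, E] using this
      by_cases k1 : k = 1
      · subst k1
        have := c1 ho
        simpa [ph, E] using this
      · have h2 : 2 ≤ k.val := by
          have a0 : k.val ≠ 0 := fun h => k0 (Fin.ext h)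
          have a1 : k.val ≠ 1 := fun h => k1 (Fin.ext h)
          omega
        have := ck ho h2 hk
        simpa [ph, k0, k1, E] using this
    have h2 := h1.mul (ih hw.2)
    rw [E_cons]
    have e : phi (k :: w) = ph k ++ phi w := rfl
    rw [e, E_append]
    exact h2

/-- `(ρ g ρ⁻¹)^g` -/
theorem pair {a1 b1 l2 A A' : List (Fin 8)} (p1 : le5 a1 = true) (p2 : le5 b1 = true) (p3 : le5 l2 = true)
    (p4 : okC (a1 ++ rho) (rho ++ b1) = true) (p5 : okC (l2 ++ rho) (rho ++ phi b1) = true)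
    (p6 : okC (phi a1) A = true) (p7 : okC (phi l2) A' = true) :
    C ((h 7)⁻¹ * (E h rho * h 7 * (E h rho)⁻¹) * h 7) (E h A) (E h A') := by
  have r1 : C (E h rho) (E h a1) (E h b1) := by
    show _ = _
    rw [← E_append, ← E_append]; exact eqC ho p4
  have r2 : C (E h rho) (E h l2) (E h (phi b1)) := by
    show _ = _
    rw [← E_append, ← E_append]; exact eqC ho p5
  have g1 : C (h 7) (E h a1) (E h A) := by
    rw [← eqC ho p6]; exact conj7 ho p1
  have g2 : C (h 7) (E h l2) (E h A') := by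
    rw [← eqC ho p7]; exact conj7 ho p3
  exact (g1.inv.comp ((r1.comp (conj7 ho p2)).comp r2.inv)).comp g2

end

/-- the word in `M₁₂` -/
def fl (s : ℕ → List ℕ) (w : List (Fin 8)) : List ℕ := (w.map Fin.val).flatMap s

/-- test of the elements of `C(y) ρ` -/
def testV (s : ℕ → List ℕ) (l : List ℕ) : Bool :=
  !(eqW (fl s [1, 5] ++ (l ++ fl s rho)) ((l ++ fl s rho) ++ fl s [1])) ||
  !(eqW (fl s [1, 2] ++ (l ++ fl s rho)) ((l ++ fl s rho) ++ fl s [1, 2, 5])) ||
  !(eqW (fl s [1, 3] ++ (l ++ fl s rho)) ((l ++ fl s rho) ++ fl s [1, 3, 5])) ||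
  !(eqW ((fl s [1, 2, 3, 2, 4, 3, 2, 5, 4, 3, 2] ++ (l ++ fl s rho)) ++
      ((fl s [1, 2, 3, 2, 4, 3, 2, 5, 4, 3, 2] ++ (l ++ fl s rho)) ++
      (fl s [1, 2, 3, 2, 4, 3, 2, 5, 4, 3, 2] ++ (l ++ fl s rho)))) (fl s [2, 5])) ||
  eqW l [] || eqW l (fl s [5])

set_option maxRecDepth 100000 in
theorem testV1 : cy.all (testV sub1) = true := by decide +kernel

set_option maxRecDepth 100000 in
theorem testV2 : cy.all (testV sub2) = true := by decide +kernel

theorem fl_cons (s : ℕ → List ℕ) (k : Fin 8) (w : List (Fin 8)) : fl s (k :: w) = s k.val ++ fl s w := rfl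

theorem fl_append (s : ℕ → List ℕ) (w w' : List (Fin 8)) : fl s (w ++ w') = fl s w ++ fl s w' := by
  simp [fl]

/-- words without `t` -/
theorem E_mid {s : ℕ → List ℕ} (hs : ∀ k : Fin 8, k ≠ 0 → k ≠ 7 → h k = ι (wd (s k.val))) {w : List (Fin 8)}
    (hw : midW w = true) : E h w = ι (wd (fl s w)) := by
  induction w with
  | nil => simp [E, fl, wd]
  | cons k w ih =>
    unfold midW at hw ih
    rw [List.all_cons, Bool.and_eq_true] at hw
    have h1 := hw.1
    simp only [Bool.and_eq_true, Bool.not_eq_true', beq_eq_false_iff_ne, ne_eq] at h1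
    rw [E_cons, ih hw.2, hs k h1.1 h1.2, fl_cons, wd_append, map_mul]

theorem main (c : Fusion.Ctx t ι) (ho : Out t ι g0 h) :
    (h 7)⁻¹ * (E h rho * h 7 * (E h rho)⁻¹) * h 7 = E h rho ∨
    (h 7)⁻¹ * (E h rho * h 7 * (E h rho)⁻¹) * h 7 = h 5 * E h rho := by
  obtain ⟨v, hv⟩ : ∃ v, v = (h 7)⁻¹ * (E h rho * h 7 * (E h rho)⁻¹) * h 7 := ⟨_, rfl⟩
  have q0 := pair ho (a1 := [0, 1]) (b1 := [0, 5]) (l2 := [0, 1]) (A := [0]) (A' := [0]) (by decide) (by decide)
    (by decide) (by decide +kernel) (by decide +kernel) (by decide +kernel) (by decide +kernel)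
  have q1 := pair ho (a1 := [5]) (b1 := [1, 5]) (l2 := [1]) (A := [0, 1, 5]) (A' := [0, 1]) (by decide) (by decide)
    (by decide) (by decide +kernel) (by decide +kernel) (by decide +kernel) (by decide +kernel)
  have q2 := pair ho (a1 := [2]) (b1 := [1, 2]) (l2 := [1, 2, 5]) (A := [0, 1, 2]) (A' := [0, 1, 2, 5]) (by decide)
    (by decide) (by decide) (by decide +kernel) (by decide +kernel) (by decide +kernel) (by decide +kernel)
  have q3 := pair ho (a1 := [3]) (b1 := [1, 3]) (l2 := [1, 3, 5]) (A := [0, 1, 3]) (A' := [0, 1, 3, 5]) (by decide)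
    (by decide) (by decide) (by decide +kernel) (by decide +kernel) (by decide +kernel) (by decide +kernel)
  have q4 := pair ho (a1 := [0]) (b1 := [0]) (l2 := [1, 5]) (A := [1]) (A' := [5]) (by decide)
    (by decide) (by decide) (by decide +kernel) (by decide +kernel) (by decide +kernel) (by decide +kernel)
  rw [← hv] at q0 q1 q2 q3 q4 ⊢
  have h0 := ho.zero
  have qt : t * v = v * t := by
    have : E h [0] * v = v * E h [0] := q0
    simpa [E, h0] using this
  -- the cube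
  have hv3 : v * v * v = 1 := by
    rw [hv]
    have h3 := cube ho
    calc _ = (h 7)⁻¹ * (E h rho * (h 7 * h 7 * h 7) * (E h rho)⁻¹) * h 7 := by group
      _ = 1 := by rw [h3]; group
  obtain ⟨n, hn⟩ : ∃ n, v = ι n := by
    obtain ⟨n, hn | hn⟩ := c.cent v qt.symm
    · exact ⟨n, hn⟩
    · exfalso
      apply c.nmem (n * n * n)
      have h4 : v * v * v = t * ι (n * n * n) := by
        have hc : Commute t (ι n) := (c.comm n).symm
        rw [hn, map_mul, map_mul]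
        calc t * ι n * (t * ι n) * (t * ι n) = t * (ι n * t) * ι n * t * ι n := by group
          _ = t * (t * ι n) * ι n * t * ι n := by rw [hc.eq]
          _ = (t * t) * ι n * (ι n * t) * ι n := by group
          _ = ι n * (t * ι n) * ι n := by rw [c.tt, hc.eq]; group
          _ = (ι n * t) * ι n * ι n := by group
          _ = (t * ι n) * ι n * ι n := by rw [hc.eq]
          _ = _ := by group
      rw [hv3] at h4
      rw [eq_comm, mul_eq_one_iff_inv_eq, inv_eq_of_mul_eq_one_left c.tt] at h4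
      exact h4.symm
  obtain ⟨s, hs, hk⟩ := ho.sub
  have mid : ∀ {w : List (Fin 8)}, midW w = true → E h w = ι (wd (fl s w)) := fun hw => E_mid hk hw
  -- relations in `M₁₂`
  have rel : ∀ {a b : List (Fin 8)}, midW a = true → midW b = true → C v (E h a) (E h b) →
      wd (fl s a) * n = n * wd (fl s b) := by
    intro a b ha hb hab
    have h1 : E h a * v = v * E h b := hab
    rw [mid ha, mid hb, hn, ← map_mul, ← map_mul] at h1
    exact c.inj h1
  have relt : ∀ {a b : List (Fin 8)}, midW a = true → midW b = true → C v (E h (0 :: a)) (E h (0 :: b)) →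
      wd (fl s a) * n = n * wd (fl s b) := by
    intro a b ha hb hab
    apply rel ha hb
    have h1 : E h (0 :: a) * v = v * E h (0 :: b) := hab
    rw [E_cons, E_cons, h0, ← mul_assoc v, ← qt, mul_assoc, mul_assoc] at h1
    exact mul_left_cancel h1
  have m1 := relt (a := [1, 5]) (b := [1]) (by decide) (by decide) q1
  have m2 := relt (a := [1, 2]) (b := [1, 2, 5]) (by decide) (by decide) q2
  have m3 := relt (a := [1, 3]) (b := [1, 3, 5]) (by decide) (by decide) q3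
  have m4 := rel (a := [1]) (b := [5]) (by decide) (by decide) q4
  -- the relation with `e`
  have m5 : wd (fl s [1, 2, 3, 2, 4, 3, 2, 5, 4, 3, 2]) * n * (wd (fl s [1, 2, 3, 2, 4, 3, 2, 5, 4, 3, 2]) * n) *
      (wd (fl s [1, 2, 3, 2, 4, 3, 2, 5, 4, 3, 2]) * n) = wd (fl s [2, 5]) := by
    have alt := Collapse.alt_of c ho
    have a1 : h 6 * h 7 * (h 6 * h 7) * (h 6 * h 7) = E h [0, 2] := by
      simp only [List.map_cons, List.map_nil, List.prod_cons, List.prod_nil, mul_one] at alt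
      have e : (h 6 * h 7 * (h 6 * h 7) * (h 6 * h 7)) * (h 2 * h 0) = 1 := by rw [← alt]; group
      rw [eq_inv_of_mul_eq_one_left e, mul_inv_rev, inv_eq_of_mul_eq_one_left (sq ho (k := 0) (by decide)),
        inv_eq_of_mul_eq_one_left (sq ho (k := 2) (by decide))]
      simp [E]
    -- conjugate by `ρ⁻¹`
    have e2 : C (E h rho) (E h [1, 2, 3, 2, 4, 3, 2, 5, 4, 3, 2]) (h 6) := by
      have : okC ([1, 2, 3, 2, 4, 3, 2, 5, 4, 3, 2] ++ rho) (rho ++ [6]) = true := by decide +kernel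
      have h5 := eqC ho this
      rw [E_append, E_append] at h5
      show _ = _
      rw [h5]; simp [E]
    have e3 : C (E h rho) (E h [0, 1, 2, 5]) (E h [0, 2]) := by
      have : okC ([0, 1, 2, 5] ++ rho) (rho ++ [0, 2]) = true := by decide +kernel
      have h5 := eqC ho this
      rw [E_append, E_append] at h5
      exact h5
    have e2' : E h [1, 2, 3, 2, 4, 3, 2, 5, 4, 3, 2] = E h rho * h 6 * (E h rho)⁻¹ := by
      rw [eq_mul_inv_iff_mul_eq]; exact e2
    have e3' : E h [0, 1, 2, 5] = E h rho * E h [0, 2] * (E h rho)⁻¹ := by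
      rw [eq_mul_inv_iff_mul_eq]; exact e3
    have g1 := (conj7 ho (w := [1, 2, 3, 2, 4, 3, 2, 5, 4, 3, 2]) (by decide)).eq
    have g2 := (conj7 ho (w := [0, 1, 2, 5]) (by decide)).eq
    have g1' : E h (phi [1, 2, 3, 2, 4, 3, 2, 5, 4, 3, 2]) = E h [0, 1, 2, 3, 2, 4, 3, 2, 5, 4, 3, 2] :=
      eqC ho (by decide +kernel)
    have g2' : E h (phi [0, 1, 2, 5]) = E h [0, 2, 5] := eqC ho (by decide +kernel)
    rw [g1'] at g1
    rw [g2'] at g2
    have key : E h [0, 1, 2, 3, 2, 4, 3, 2, 5, 4, 3, 2] * v * (E h [0, 1, 2, 3, 2, 4, 3, 2, 5, 4, 3, 2] * v) *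
        (E h [0, 1, 2, 3, 2, 4, 3, 2, 5, 4, 3, 2] * v) = E h [0, 2, 5] := by
      rw [← g2, e3', ← a1, ← g1, e2', hv]; group
    rw [E_cons, E_cons 0 [2, 5], h0, mid (w := [1, 2, 3, 2, 4, 3, 2, 5, 4, 3, 2]) (by decide),
      mid (w := [2, 5]) (by decide), hn] at key
    generalize wd (fl s [1, 2, 3, 2, 4, 3, 2, 5, 4, 3, 2]) = k at key ⊢
    have h6 : t * ι k * ι n * (t * ι k * ι n) * (t * ι k * ι n) = t * ι (k * n * (k * n) * (k * n)) := by
      have hc : Commute (ι (k * n)) t := c.comm _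
      have e : t * ι k * ι n = t * ι (k * n) := by rw [map_mul, mul_assoc]
      have e3 : ι (k * n * (k * n) * (k * n)) = ι (k * n) * ι (k * n) * ι (k * n) := by
        rw [map_mul ι (k * n * (k * n)), map_mul ι (k * n) (k * n)]
      rw [e, e3]
      generalize ι (k * n) = u at hc
      calc t * u * (t * u) * (t * u)
          = t * (u * t) * u * t * u := by group
        _ = t * (t * u) * u * t * u := by rw [hc.eq]
        _ = (t * t) * u * (u * t) * u := by group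
        _ = u * (t * u) * u := by rw [c.tt, hc.eq]; group
        _ = (u * t) * u * u := by group
        _ = (t * u) * u * u := by rw [hc.eq]
        _ = _ := by group
    rw [h6] at key
    exact c.inj (mul_left_cancel key)
  -- `n ρ⁻¹ ∈ C(y)`
  have hρ : E h rho = ι (wd (fl s rho)) := mid (by decide)
  have r4 : wd (fl s [1]) * wd (fl s rho) = wd (fl s rho) * wd (fl s [5]) := by
    have h1 : okC ([1] ++ rho) (rho ++ [5]) = true := by decide +kernel
    have h2 := eqC ho h1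
    rw [mid (w := [1] ++ rho) (by decide), mid (w := rho ++ [5]) (by decide)] at h2
    have h3 := c.inj h2
    rwa [fl_append, fl_append, wd_append, wd_append] at h3
  have hy : wd (fl s [1]) = y := by
    rcases hs with rfl | rfl <;> exact wd_y
  have hz : (n * (wd (fl s rho))⁻¹) * y = y * (n * (wd (fl s rho))⁻¹) := by
    rw [← hy]
    calc n * (wd (fl s rho))⁻¹ * wd (fl s [1])
        = n * (wd (fl s rho))⁻¹ * (wd (fl s [1]) * wd (fl s rho)) * (wd (fl s rho))⁻¹ := by group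
      _ = n * wd (fl s [5]) * (wd (fl s rho))⁻¹ := by rw [r4]; group
      _ = wd (fl s [1]) * n * (wd (fl s rho))⁻¹ := by rw [m4]
      _ = _ := by group
  obtain ⟨l, hl, hl'⟩ := mem_cy _ hz
  have hn' : n = wd (l ++ fl s rho) := by rw [wd_append, hl']; group
  have test : testV s l = true := by
    rcases hs with rfl | rfl
    · exact List.all_eq_true.mp testV1 l hl
    · exact List.all_eq_true.mp testV2 l hl
  rw [testV] at test
  simp only [Bool.or_eq_true, Bool.not_eq_true'] at test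
  have nf : ∀ {a b : List ℕ}, wd a = wd b → ¬ eqW a b = false := by
    intro a b hab hf
    rw [eqW_of_wd hab] at hf
    exact Bool.noConfusion hf
  rcases test with ((((test | test) | test) | test) | test) | test
  · exact absurd test (nf (by rw [wd_append, wd_append _ (fl s [1]), ← hn']; exact m1))
  · exact absurd test (nf (by rw [wd_append, wd_append _ (fl s [1, 2, 5]), ← hn']; exact m2))
  · exact absurd test (nf (by rw [wd_append, wd_append _ (fl s [1, 3, 5]), ← hn']; exact m3))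
  · refine absurd test (nf ?_)
    rw [wd_append, wd_append (fl s [1, 2, 3, 2, 4, 3, 2, 5, 4, 3, 2] ++ (l ++ fl s rho)), wd_append, ← hn', ← m5]
    group
  · left
    rw [hn, hn', wd_append, wd_eq test, wd_nil, one_mul, ← hρ]
  · right
    rw [hn, hn', wd_append, wd_eq test, map_mul, ← hρ, ← mid (w := [5]) (by decide)]
    simp [E]

/-- letters of `Lam` -/
def lam (x s t m g : G) : ℕ → G
  | 0 => x
  | 1 => s
  | 2 => t
  | 3 => m
  | 4 => m⁻¹
  | 5 => g
  | 6 => g⁻¹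
  | _ => 1

/-- letters of `Sev` -/
def sev (m g : G) : ℕ → G
  | 0 => m
  | 1 => m⁻¹
  | 2 => g
  | 3 => g⁻¹
  | _ => 1

/-- the bad case collapses -/
theorem lam_one {x s t m g : G} (xx : x * x = 1) (ss : s * s = 1) (tt : t * t = 1) (mmm : m * (m * m) = 1)
    (ggg : g * (g * g) = 1) (xs : x * (s * (x * s)) = 1) (tx : t * (x * (t * x)) = 1) (ts : t * (s * (t * s)) = 1)
    (tm : t * m = m * t) (xm : x * m = m * s) (sm : s * m = m * (x * s)) (tg : t * g = g * x)
    (xg : x * g = g * (t * x)) (sg : s * g = g * (x * (t * s))) (bad : g⁻¹ * (m * g * m⁻¹) * g = s * m) : t = 1 := by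
  have hinv : ∀ k, k < 7 → lam x s t m g k * lam x s t m g (LamData.C.inv k) = 1 := by
    intro k hk
    interval_cases k
    · exact xx
    · exact ss
    · exact tt
    · exact mul_inv_cancel m
    · exact inv_mul_cancel m
    · exact mul_inv_cancel g
    · exact inv_mul_cancel g
  have cm : ∀ {a b : G}, a * a = 1 → b * b = 1 → a * (b * (a * b)) = 1 → a * b = b * a := by
    intro a b ha hb hab
    have h1 : (a * b) * (a * b) = 1 := by rw [← hab]; group
    rw [← inv_eq_of_mul_eq_one_left h1, mul_inv_rev, inv_eq_of_mul_eq_one_left ha, inv_eq_of_mul_eq_one_left hb]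
  have cxs := cm xx ss xs
  have ctx := cm tt xx tx
  have cts := cm tt ss ts
  have hrel : ∀ r ∈ LamData.rels, ev (lam x s t m g) r = 1 := by
    intro r hr
    unfold LamData.rels at hr
    simp only [List.mem_cons, List.not_mem_nil, or_false] at hr
    rcases hr with rfl | rfl | rfl | rfl | rfl | rfl | rfl | rfl | rfl | rfl | rfl | rfl
    · show m * (m * (m * 1)) = 1
      rw [mul_one]; exact mmm
    · show g * (g * (g * 1)) = 1
      rw [mul_one]; exact ggg
    · show x * (s * (x * (s * 1))) = 1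
      rw [mul_one]; exact xs
    · show t * (x * (t * (x * 1))) = 1
      rw [mul_one]; exact tx
    · show t * (s * (t * (s * 1))) = 1
      rw [mul_one]; exact ts
    · show t * (m⁻¹ * (t * (m * 1))) = 1
      rw [mul_one, tm, inv_mul_cancel_left, tt]
    · show m⁻¹ * (x * (m * (s * 1))) = 1
      rw [mul_one, ← mul_assoc x, xm, mul_assoc, inv_mul_cancel_left, ss]
    · show g⁻¹ * (t * (g * (x * 1))) = 1
      rw [mul_one, ← mul_assoc t, tg, mul_assoc, inv_mul_cancel_left, xx]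
    · show m⁻¹ * (s * (m * (s * (x * 1)))) = 1
      rw [mul_one, ← mul_assoc s m, sm, mul_assoc, inv_mul_cancel_left, mul_assoc, ← mul_assoc s s, ss, one_mul, xx]
    · show g⁻¹ * (x * (g * (x * (t * 1)))) = 1
      rw [mul_one, ← mul_assoc x g, xg, mul_assoc, inv_mul_cancel_left, mul_assoc, ← mul_assoc x x, xx, one_mul, tt]
    · show g⁻¹ * (s * (g * (x * (t * (s * 1))))) = 1
      rw [mul_one, ← mul_assoc s g, sg, mul_assoc, inv_mul_cancel_left]
      calc x * (t * s) * (x * (t * s)) = x * (t * (s * x) * t * s) := by group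
        _ = x * (t * (x * s) * t * s) := by rw [cxs]
        _ = x * ((t * x) * s * t * s) := by group
        _ = x * ((x * t) * s * t * s) := by rw [ctx]
        _ = (x * x) * (t * (s * (t * s))) := by group
        _ = 1 := by rw [xx, ts, one_mul]
    · show g⁻¹ * (m * (g * (m⁻¹ * (g * (m⁻¹ * (s * 1)))))) = 1
      rw [mul_one]
      calc g⁻¹ * (m * (g * (m⁻¹ * (g * (m⁻¹ * s))))) = (g⁻¹ * (m * g * m⁻¹) * g) * m⁻¹ * s := by group
        _ = 1 := by rw [bad, mul_inv_cancel_right, ss]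
  have := Lam.eq_one (lam x s t m g) hinv hrel [2] (by unfold LamData.targets; simp)
  have h2 : t * 1 = 1 := this
  rwa [mul_one] at h2

/-- `(R*)` gives `7 : 3` -/
theorem sev_one {m g : G} (mmm : m * (m * m) = 1) (ggg : g * (g * g) = 1) (star : g⁻¹ * (m * g * m⁻¹) * g = m) :
    g * (m * (g * (m * (g * m)))) = 1 ∧
      g * (m⁻¹ * (g * (m⁻¹ * (g * (m⁻¹ * (g * (m⁻¹ * (g * (m⁻¹ * (g * (m⁻¹ * (g * m⁻¹)))))))))))) = 1 := by
  have hinv : ∀ k, k < 4 → sev m g k * sev m g (SevData.C.inv k) = 1 := by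
    intro k hk
    interval_cases k
    · exact mul_inv_cancel m
    · exact inv_mul_cancel m
    · exact mul_inv_cancel g
    · exact inv_mul_cancel g
  have hrel : ∀ r ∈ SevData.rels, ev (sev m g) r = 1 := by
    intro r hr
    unfold SevData.rels at hr
    simp only [List.mem_cons, List.not_mem_nil, or_false] at hr
    rcases hr with rfl | rfl | rfl
    · show m * (m * (m * 1)) = 1
      rw [mul_one]; exact mmm
    · show g * (g * (g * 1)) = 1
      rw [mul_one]; exact ggg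
    · show g⁻¹ * (m * (g * (m⁻¹ * (g * (m⁻¹ * 1))))) = 1
      rw [mul_one]
      calc g⁻¹ * (m * (g * (m⁻¹ * (g * m⁻¹)))) = (g⁻¹ * (m * g * m⁻¹) * g) * m⁻¹ := by group
        _ = 1 := by rw [star, mul_inv_cancel]
  have h1 := Sev.eq_one (sev m g) hinv hrel [2, 0, 2, 0, 2, 0] (by unfold SevData.targets; simp)
  have h2 := Sev.eq_one (sev m g) hinv hrel [2, 1, 2, 1, 2, 1, 2, 1, 2, 1, 2, 1, 2, 1] (by unfold SevData.targets; simp)
  have h1' : g * (m * (g * (m * (g * (m * 1))))) = 1 := h1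
  have h2' : g * (m⁻¹ * (g * (m⁻¹ * (g * (m⁻¹ * (g * (m⁻¹ * (g * (m⁻¹ * (g * (m⁻¹ * (g * (m⁻¹ * 1))))))))))))) = 1 :=
    h2
  rw [mul_one] at h1' h2'
  exact ⟨h1', h2'⟩

theorem rho3 (ho : Out t ι g0 h) : E h rho * (E h rho * E h rho) = 1 := by
  have := eqC ho (w := rho ++ (rho ++ rho)) (w' := []) (by decide +kernel)
  rwa [E_append, E_append, E_nil] at this

/-- **(R\*)** the exactness relation -/
theorem star (c : Fusion.Ctx t ι) (ho : Out t ι g0 h) :
    (h 7)⁻¹ * (E h rho * h 7 * (E h rho)⁻¹) * h 7 = E h rho := by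
  rcases main c ho with hm | hm
  · exact hm
  · exfalso
    have a1 : h 7 * (h 7 * h 7) = 1 := by rw [← mul_assoc]; exact cube ho
    have a2 : h 1 * (h 5 * (h 1 * h 5)) = 1 := by
      have := eqC ho (w := [1, 5, 1, 5]) (w' := []) (by decide +kernel)
      simpa [E] using this
    have a3 : h 0 * (h 1 * (h 0 * h 1)) = 1 := by
      have := eqC ho (w := [0, 1, 0, 1]) (w' := []) (by decide +kernel)
      simpa [E] using this
    have a4 : h 0 * (h 5 * (h 0 * h 5)) = 1 := by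
      have := eqC ho (w := [0, 5, 0, 5]) (w' := []) (by decide +kernel)
      simpa [E] using this
    have b0 : h 0 * E h rho = E h rho * h 0 := by
      have := eqC ho (w := [0] ++ rho) (w' := rho ++ [0]) (by decide +kernel)
      rw [E_append, E_append] at this
      simpa [E] using this
    have b1 : h 1 * E h rho = E h rho * h 5 := by
      have := eqC ho (w := [1] ++ rho) (w' := rho ++ [5]) (by decide +kernel)
      rw [E_append, E_append] at this
      simpa [E] using this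
    have b5 : h 5 * E h rho = E h rho * (h 1 * h 5) := by
      have := eqC ho (w := [5] ++ rho) (w' := rho ++ [1, 5]) (by decide +kernel)
      rw [E_append, E_append] at this
      simpa [E] using this
    have d0 : h 0 * h 7 = h 7 * h 1 := c0 ho
    have d1 : h 1 * h 7 = h 7 * (h 0 * h 1) := c1 ho
    have d5 : h 5 * h 7 = h 7 * (h 1 * (h 0 * h 5)) := ck ho (by decide) (by decide)
    have h1 := lam_one (sq ho (by decide)) (sq ho (by decide)) (sq ho (by decide)) (rho3 ho) a1 a2 a3 a4 b0 b1 b5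
      d0 d1 d5 hm
    rw [ho.zero] at h1
    exact c.t_ne h1

/-- the word of `(R*)` -/
def starW : List (Fin 8) := [7, 7] ++ (rho ++ ([7] ++ (rho.reverse ++ ([7] ++ rho.reverse))))

/-- the word `(g ρ)³` -/
def r3W : List (Fin 8) := [7] ++ (rho ++ ([7] ++ (rho ++ ([7] ++ rho))))

/-- the word `(g ρ⁻¹)⁷` -/
def r4W : List (Fin 8) := [7] ++ (rho.reverse ++ ([7] ++ (rho.reverse ++ ([7] ++ (rho.reverse ++ ([7] ++
  (rho.reverse ++ ([7] ++ (rho.reverse ++ ([7] ++ (rho.reverse ++ ([7] ++ rho.reverse))))))))))))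

theorem starW_one (c : Fusion.Ctx t ι) (ho : Out t ι g0 h) : (starW.map h).prod = 1 := by
  have h7 : E h [7] = h 7 := by simp [E]
  have h77' : E h [7, 7] = (h 7)⁻¹ := by rw [← h77 ho]; simp [E]
  show E h starW = 1
  unfold starW
  rw [E_append, E_append, E_append, E_append, E_append, E_reverse ho (by decide), h7, h77']
  calc (h 7)⁻¹ * (E h rho * (h 7 * ((E h rho)⁻¹ * (h 7 * (E h rho)⁻¹))))
      = ((h 7)⁻¹ * (E h rho * h 7 * (E h rho)⁻¹) * h 7) * (E h rho)⁻¹ := by group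
    _ = 1 := by rw [star c ho, mul_inv_cancel]

theorem r3W_one (c : Fusion.Ctx t ι) (ho : Out t ι g0 h) : (r3W.map h).prod = 1 := by
  have h7 : E h [7] = h 7 := by simp [E]
  show E h r3W = 1
  unfold r3W
  rw [E_append, E_append, E_append, E_append, E_append, h7]
  exact (sev_one (rho3 ho) (by rw [← mul_assoc]; exact cube ho) (star c ho)).1

theorem r4W_one (c : Fusion.Ctx t ι) (ho : Out t ι g0 h) : (r4W.map h).prod = 1 := by
  have h7 : E h [7] = h 7 := by simp [E]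
  show E h r4W = 1
  unfold r4W
  simp only [E_append, h7, E_reverse ho (w := rho) (by decide)]
  exact (sev_one (rho3 ho) (by rw [← mul_assoc]; exact cube ho) (star c ho)).2

end Cfsg.Agent.CoThreeStd.RStar
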