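import Cfsg.Agent.CoThreeStd.GlueF
import Cfsg.Agent.CoThreeStd.RStar

/-!
# S1750: the output (N1) (helper178)
-/

set_option autoImplicit false

namespace Cfsg.Agent.CoThreeStd.NOne

open Cfsg Cfsg.Agent.CoThreeStd.RelMain Cfsg.Agent.CoThreeStd.MTwelve Cfsg.Agent.CoThreeStd.Model
  Cfsg.Agent.LeechPack.X552

universe u

variable {G : Type*} [Group G] {t g0 : G} {ι : H →* G} {h : Fin 8 → G}

/-- `(dρ)³ = 1` and `(dρ⁻¹)⁷ = 1` -/
theorem pow_one (c : Fusion.Ctx t ι) (ho : Out t ι g0 h) :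
    (h 7 * (GlueF.rhoS.map h).prod) ^ 3 = 1 ∧ (h 7 * ((GlueF.rhoS.map h).prod)⁻¹) ^ 7 = 1 := by
  have h1 := RStar.sev_one (RStar.rho3 ho) (by rw [← mul_assoc]; exact RStar.cube ho) (RStar.star c ho)
  have e : (GlueF.rhoS.map h).prod = RStar.E h RStar.rho := rfl
  rw [e]
  refine ⟨?_, ?_⟩
  · rw [← h1.1]; simp only [pow_succ, pow_zero, one_mul, mul_assoc]
  · rw [← h1.2]; simp only [pow_succ, pow_zero, one_mul, mul_assoc]

theorem nOne : GlueF.NOne.{u} := fun c ho => pow_one c ho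

/-- `(R*)` is a relator of the model -/
theorem star_ok : idCheck RStar.starW = true := by decide +kernel

end Cfsg.Agent.CoThreeStd.NOne
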