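import Cfsg.Agent.CoThreeStd.CloseLF
import Cfsg.Agent.CoThreeStd.Special

/-!
# The closing of the `Co₃` recognition

`closing`: `φ : K →* G` injective, `K` satisfies `ClosingFacts.Facts` (`K = Co₃`), the centraliser
of `φ t` is contained in the range of `φ`, and the `G`-fusion of `φ t` in the range is controlled.
Then `φ` is surjective.
-/

set_option autoImplicit false
set_option linter.unusedSectionVars false

namespace Cfsg.Agent.CoThreeStd.CloseAlt

open ClosingFacts CloseLF Step Special
open Cfsg.Agent.SporRec.Closing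

/-- three independent commuting involutions generate a group of order 8 -/
theorem closure_eq {K : Type*} [Group K] [Finite K] {A : Subgroup K} (hA : Nat.card A ≤ 8)
    {a b c : K} (ha : a ∈ A) (hb : b ∈ A) (hc : c ∈ A) (ha1 : a ≠ 1) (hb1 : b ≠ 1) (hab : a ≠ b)
    (haa : a * a = 1) (hbb : b * b = 1) (hcomm : a * b = b * a) (hcW : ¬ InW a b c) :
    Subgroup.closure {a, b, c} = A := by
  have e1 : a * (a * b) = b := by rw [← mul_assoc, haa, one_mul]
  have e2 : b * (a * b) = a := by rw [hcomm, ← mul_assoc, hbb, one_mul]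
  have e3 : a * b * a = b := by rw [hcomm, mul_assoc, haa, mul_one]
  have e4 : a * b * b = a := by rw [mul_assoc, hbb, mul_one]
  have e5 : a * b * (a * b) = 1 := by rw [mul_assoc, e2, haa]
  have hai : a⁻¹ = a := inv_eq_of_mul_eq_one_left haa
  have hbi : b⁻¹ = b := inv_eq_of_mul_eq_one_left hbb
  let W : Subgroup K :=
    { carrier := {x | InW a b x}
      one_mem' := Or.inl rfl
      mul_mem' := by
        rintro x y (rfl | rfl | rfl | rfl) (rfl | rfl | rfl | rfl)
        all_goals
          simp only [Set.mem_ofPred_eq, InW, one_mul, mul_one, haa, hbb, e1, e2, e3, e4, e5,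
            ← hcomm, true_or, or_true]
      inv_mem' := by
        rintro x (rfl | rfl | rfl | rfl)
        · exact Or.inl (by simp)
        · exact Or.inr (Or.inl hai)
        · exact Or.inr (Or.inr (Or.inl hbi))
        · exact Or.inr (Or.inr (Or.inr (by rw [mul_inv_rev, hai, hbi, hcomm]))) }
  have hW4 : Nat.card W = 4 := by
    have hab1 : a * b ≠ 1 := by
      intro h
      apply hab
      calc a = a * (b * b) := by rw [hbb, mul_one]
        _ = a * b * b := by rw [mul_assoc]
        _ = b := by rw [h, one_mul]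
    have haab : a * b ≠ a := fun h => hb1 (mul_left_cancel (h.trans (mul_one a).symm))
    have hbab : a * b ≠ b := fun h => ha1 (mul_right_cancel (h.trans (one_mul b).symm))
    have hset : (W : Set K) = ({1, a, b, a * b} : Set K) := by
      ext x
      rfl
    have h1 : Nat.card W = Set.ncard (W : Set K) := rfl
    rw [h1, hset]
    rw [Set.ncard_insert_of_notMem, Set.ncard_insert_of_notMem, Set.ncard_insert_of_notMem,
      Set.ncard_singleton]
    · rintro h; exact hbab (Set.mem_singleton_iff.1 h).symm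
    · rintro (h | h)
      · exact hab h
      · exact haab (Set.mem_singleton_iff.1 h).symm
    · rintro (h | h | h)
      · exact ha1 h.symm
      · exact hb1 h.symm
      · exact hab1 (Set.mem_singleton_iff.1 h).symm
  set B := Subgroup.closure {a, b, c} with hB
  have haB : a ∈ B := Subgroup.subset_closure (Or.inl rfl)
  have hbB : b ∈ B := Subgroup.subset_closure (Or.inr (Or.inl rfl))
  have hcB : c ∈ B := Subgroup.subset_closure (Or.inr (Or.inr rfl))
  have hBA : B ≤ A := by
    rw [hB, Subgroup.closure_le]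
    rintro x (rfl | rfl | rfl)
    exacts [ha, hb, hc]
  have hWB : W ≤ B := by
    rintro x (rfl | rfl | rfl | rfl)
    exacts [B.one_mem, haB, hbB, B.mul_mem haB hbB]
  have hdvd : 4 ∣ Nat.card B := by
    rw [← hW4]
    exact Subgroup.card_dvd_of_le hWB
  have hne : Nat.card B ≠ 4 := by
    intro h4
    have : W = B := Subgroup.eq_of_le_of_card_ge hWB (by rw [hW4, h4])
    exact hcW (this ▸ hcB : c ∈ W)
  have hpos : 0 < Nat.card B := Nat.card_pos
  apply Subgroup.eq_of_le_of_card_ge hBA
  obtain ⟨k, hk⟩ := hdvd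
  have : 2 ≤ k := by
    by_contra hk2
    have hk' : k = 0 ∨ k = 1 := by omega
    rcases hk' with rfl | rfl <;> omega
  omega

section main

variable {G K : Type*} [Group G] [Finite G] [Group K] {φ : K →* G} (hφ : Function.Injective φ)
  {t v w b3 e0 y : K} {S Y3 K3 : Subgroup K} (F : Facts t v w b3 e0 y S Y3 K3)
  (hC : Subgroup.centralizer {φ t} ≤ φ.range)
  (hcl : ∀ g, g * φ t * g⁻¹ ∈ φ.range → ∃ h ∈ φ.range, h * φ t * h⁻¹ = g * φ t * g⁻¹)

include hcl in
theorem mem_cls_iff (hφ : Function.Injective φ) (k : K) : φ k ∈ cls (φ t) ↔ k ∈ cls t := by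
  constructor
  · rintro ⟨g, hg⟩
    obtain ⟨_, ⟨h, rfl⟩, hh⟩ := hcl g (by rw [hg]; exact ⟨k, rfl⟩)
    refine ⟨h, hφ ?_⟩
    rw [map_mul, map_mul, map_inv, hh, hg]
  · rintro ⟨h, rfl⟩
    exact ⟨φ h, by rw [map_mul, map_mul, map_inv]⟩

include hφ F hC hcl

theorem one_fix : ∀ d ∈ cls (φ t), ∀ x y : G ⧸ φ.range, d • x = x → d • y = y → x = y := by
  rintro d ⟨g, rfl⟩ x y hx hy
  exact (z_fix φ.range (φ t) hC hcl g x hx).trans (z_fix φ.range (φ t) hC hcl g y hy).symm

theorem setup : Setup φ.range (cls (φ t)) (Y3.map φ)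
    (S.map φ ⊓ Subgroup.centralizer ((Y3.map φ : Subgroup G) : Set G)) := by
  have hfinK : Finite K := Finite.of_injective φ hφ
  have hcls := fun k => mem_cls_iff (t := t) hcl hφ k
  have hcc : ∀ n : G, n ∈ Subgroup.centralizer ((Y3.map φ : Subgroup G) : Set G) ↔
      ∀ b ∈ Y3.map φ, n * b = b * n := by
    intro n
    rw [Subgroup.mem_centralizer_iff]
    exact ⟨fun h b hb => (h b hb).symm, fun h b hb => (h b hb).symm⟩
  have hYgen : Subgroup.closure {v, w, b3} = Y3 :=
    closure_eq F.Y3card F.vY F.wY F.bY F.nv.1 F.nw.1 F.wv.symm F.nv.2.1 F.nw.2.1 F.vw F.bW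
  have hSle : S.map φ ≤ φ.range := by
    rintro _ ⟨s, -, rfl⟩
    exact ⟨s, rfl⟩
  refine
    { conjD := fun d hd g => cls_conj hd g
      one := one_fix hφ F hC hcl
      comm := ?_
      leH := ?_
      fus := ?_
      two := ?_
      PH := ?_
      PC := ?_
      YP := ?_
      syl := ?_
      meet := ?_ }
  · rintro _ ⟨a, ha, rfl⟩ _ ⟨b, hb, rfl⟩
    rw [← map_mul, F.Y3c a ha b hb, map_mul]
  · rintro _ ⟨a, -, rfl⟩
    exact ⟨a, rfl⟩
  · intro g hg
    obtain ⟨k1, hk1⟩ := hg (φ v) ⟨v, F.vY, rfl⟩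
    obtain ⟨k2, hk2⟩ := hg (φ w) ⟨w, F.wY, rfl⟩
    obtain ⟨k3, hk3⟩ := hg (φ b3) ⟨b3, F.bY, rfl⟩
    -- these are three independent commuting involutions outside the class of `t`
    have inj : ∀ a b : G, g⁻¹ * a * g = g⁻¹ * b * g ↔ a = b := fun a b =>
      ⟨fun hh => mul_left_cancel (mul_right_cancel hh), fun hh => by rw [hh]⟩
    have hmul : ∀ a b : G, g⁻¹ * a * g * (g⁻¹ * b * g) = g⁻¹ * (a * b) * g := fun a b => by group
    have hN : ∀ k x : K, φ k = g⁻¹ * φ x * g → Non (cls t) x → Non (cls t) k := by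
      intro k x hk hx
      refine ⟨?_, ?_, ?_⟩
      · rintro rfl
        rw [map_one] at hk
        have h2 : g⁻¹ * φ x * g = g⁻¹ * 1 * g := by rw [← hk]; group
        have h3 := (inj _ _).1 h2
        rw [← map_one φ] at h3
        exact hx.1 (hφ h3)
      · apply hφ
        rw [map_mul, hk, hmul, ← map_mul, hx.2.1, map_one]
        group
      · intro hh
        have h1 : φ k ∈ cls (φ t) := (hcls k).2 hh
        rw [hk] at h1
        have h2 := cls_conj h1 g
        have e : g * (g⁻¹ * φ x * g) * g⁻¹ = φ x := by group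
        rw [e] at h2
        exact hx.2.2 ((hcls x).1 h2)
    have n1 := hN k1 v hk1 F.nv
    have n2 := hN k2 w hk2 F.nw
    have n3 := hN k3 b3 hk3 F.nb
    have hne : k1 ≠ k2 := by
      rintro rfl
      rw [hk1, inj] at hk2
      exact F.wv (hφ hk2).symm
    have hcomm : ∀ k k' x x' : K, φ k = g⁻¹ * φ x * g → φ k' = g⁻¹ * φ x' * g → x * x' = x' * x →
        k * k' = k' * k := by
      intro k k' x x' h1 h2 h3
      apply hφ
      rw [map_mul, map_mul, h1, h2, hmul, hmul, ← map_mul, ← map_mul, h3]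
    have c12 := hcomm k1 k2 v w hk1 hk2 F.vw
    have c13 := hcomm k1 k3 v b3 hk1 hk3 F.vb
    have c23 := hcomm k2 k3 w b3 hk2 hk3 F.wb
    have hW : ¬ InW k1 k2 k3 := by
      intro h
      apply F.bW
      rcases h with h | h | h | h
      · exact absurd h n3.1
      · right; left
        rw [h, hk1, inj] at hk3
        exact (hφ hk3).symm
      · right; right; left
        rw [h, hk2, inj] at hk3
        exact (hφ hk3).symm
      · right; right; right
        rw [h, map_mul, hk1, hk2, hmul, inj, ← map_mul] at hk3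
        exact (hφ hk3).symm
    obtain ⟨h, m1, m2, m3⟩ := F.F2 k1 n1 k2 n2 hne c12 k3 n3 c13 c23 hW
    refine ⟨φ h, ⟨h, rfl⟩, ?_⟩
    rintro _ ⟨y', hy', rfl⟩
    rw [SetLike.mem_coe, ← hYgen] at hy'
    -- closure induction through a comap
    let ψ : K →* G := ((MulAut.conj (φ h)⁻¹).toMonoidHom.comp (MulAut.conj g⁻¹).toMonoidHom).comp φ
    have hψ : ∀ k, ψ k = (φ h)⁻¹ * (g⁻¹ * φ k * g) * φ h := by
      intro k
      show (φ h)⁻¹ * (g⁻¹ * φ k * g⁻¹⁻¹) * (φ h)⁻¹⁻¹ = _
      rw [inv_inv, inv_inv]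
    have hle : Subgroup.closure {v, w, b3} ≤ (Y3.map φ).comap ψ := by
      rw [Subgroup.closure_le]
      have aux : ∀ k x : K, φ k = g⁻¹ * φ x * g → h⁻¹ * k * h ∈ Y3 →
          x ∈ (Y3.map φ).comap ψ := by
        intro k x hk hm
        rw [Subgroup.mem_comap, hψ, ← hk]
        exact ⟨h⁻¹ * k * h, hm, by rw [map_mul, map_mul, map_inv]⟩
      rintro x (rfl | rfl | rfl)
      exacts [aux k1 x hk1 m1, aux k2 x hk2 m2, aux k3 x hk3 m3]
    have := hle hy'
    rw [Subgroup.mem_comap, hψ] at this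
    exact this
  · exact (F.S2.map φ).to_le inf_le_left
  · exact inf_le_left.trans hSle
  · intro a ha b hb
    exact (hcc a).1 ha.2 b hb
  · intro a ha
    refine ⟨?_, (hcc a).2 ?_⟩
    · obtain ⟨k, hk, rfl⟩ := ha
      exact ⟨k, F.Y3S hk, rfl⟩
    · obtain ⟨k, hk, rfl⟩ := ha
      rintro _ ⟨b, hb, rfl⟩
      rw [← map_mul, F.Y3c k hk b hb, map_mul]
  · apply syl_of_normal φ.range (S.map φ) (Y3.map φ) (F.S2.map φ) hSle
    · rintro _ ⟨s, hs, rfl⟩
      apply Subgroup.mem_normalizer_fintype
      rintro _ ⟨x, hx, rfl⟩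
      exact ⟨s * x * s⁻¹, F.Y3n s hs x hx, by rw [map_mul, map_mul, map_inv]⟩
    · intro R hR hRH
      obtain ⟨c, hc⟩ := F.Ssyl (R.comap φ) (hR.comap_of_injective φ hφ)
      refine ⟨φ c, ⟨c, rfl⟩, ?_⟩
      intro r hr
      obtain ⟨k, rfl⟩ := hRH hr
      exact ⟨c⁻¹ * k * c, hc k hr, by rw [map_mul, map_mul, map_inv]⟩
  · refine ⟨φ t, ⟨⟨t, F.tS, rfl⟩, (hcc _).2 ?_⟩, ⟨1, by group⟩⟩
    rintro _ ⟨b, hb, rfl⟩
    rw [← map_mul, F.tY b hb, map_mul]

/-- **Step 3**: `Y3` fixes only one point. -/
theorem not_two_Y : ¬ Two φ.range (Y3.map φ) := by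
  have hfinK : Finite K := Finite.of_injective φ hφ
  have hcls := fun k => mem_cls_iff (t := t) hcl hφ k
  have hst := setup hφ F hC hcl
  have htt := F.tt
  apply hst.not_two
  intro X hX
  have hDc : ∀ d ∈ cls (φ t), ∀ g : G, g * d * g⁻¹ ∈ cls (φ t) := fun d hd g => cls_conj hd g
  have h1K : ∀ k : K, φ k = 1 ↔ k = 1 := fun k => by rw [← map_one φ]; exact hφ.eq_iff
  -- elements of `X`
  have hXel : ∀ x ∈ X, ∃ k, φ k = x ∧ k ∈ S ∧ ∀ z ∈ Y3, k * z = z * k := by
    intro x hx
    obtain ⟨⟨k, hk, rfl⟩, hc⟩ := hX.le' hx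
    refine ⟨k, rfl, hk, ?_⟩
    intro z hz
    apply hφ
    rw [map_mul, map_mul]
    exact (Subgroup.mem_centralizer_iff.1 hc (φ z) ⟨z, hz, rfl⟩).symm
  have hYX : ∀ z ∈ Y3, φ z ∈ X := fun z hz => hX.le ⟨z, hz, rfl⟩
  have hXD : ∀ k, φ k ∈ X → k ∉ cls t := fun k hk hD => hX.free _ hk ((hcls k).2 hD)
  have hXS : ∀ k, φ k ∈ X → k ∈ S ∧ ∀ z ∈ Y3, k * z = z * k := by
    intro k hk
    obtain ⟨k', h1, h2, h3⟩ := hXel _ hk
    rw [hφ h1] at h2 h3
    exact ⟨h2, h3⟩
  have htX : φ t ∉ X := fun h => hXD t h ⟨1, by group⟩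
  have hYcomm : ∀ p : K, (∀ z ∈ Y3, p * z = z * p) → ∀ b ∈ Y3.map φ, φ p * b = b * φ p := by
    rintro p hp _ ⟨z, hz, rfl⟩
    rw [← map_mul, hp z hz, map_mul]
  by_cases hXK : ∀ k, φ k ∈ X → k ∈ K3
  · -- `X ≤ K3`
    have htN : φ t ∈ Subgroup.normalizer (X : Set G) := by
      apply Subgroup.mem_normalizer_fintype
      intro x hx
      obtain ⟨k, rfl, -, -⟩ := hXel x hx
      have h1 : φ t * φ k * (φ t)⁻¹ = (φ k)⁻¹ := by
        rw [← map_inv, ← map_mul, ← map_mul, F.K3t k (hXK k hx), map_inv]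
      rw [h1]
      exact X.inv_mem hx
    have htt' : φ t * φ t ∈ X := by
      rw [← map_mul, htt, map_one]
      exact X.one_mem
    by_cases hall : ∀ k ∈ K3, φ k ∈ X
    · -- `X = K3`
      obtain ⟨k0, hk0, hk01⟩ := F.K34
      have hyN : φ y ∈ Subgroup.normalizer (X : Set G) := by
        apply Subgroup.mem_normalizer_fintype
        intro x hx
        obtain ⟨k, rfl, -, -⟩ := hXel x hx
        have h1 : φ y * φ k * (φ y)⁻¹ = φ (y * k * y⁻¹) := by
          rw [map_mul, map_mul, map_inv]
        rw [h1]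
        exact hall _ (F.K3n y F.yS k (hXK k hx))
      refine homocyclic hX hst.PH hst.one ?_ ?_ ?_ htN (hYcomm t F.tY) htX htt' (hall k0 hk0) ?_
        (t := φ t) (y := φ y) ⟨1, by group⟩ ((hcls y).2 F.yD) ?_ ⟨t, rfl⟩ ⟨y, rfl⟩ htN hyN ?_ ?_ ?_
      · intro a ha b hb
        obtain ⟨k, rfl, -, -⟩ := hXel a ha
        obtain ⟨k', rfl, -, -⟩ := hXel b hb
        rw [← map_mul, F.K3c k (hXK k ha) k' (hXK k' hb), map_mul]
      · intro a ha
        obtain ⟨k, rfl, h2, h3⟩ := hXel a ha
        exact ⟨k * k, (F.H1 k h2 h3).1, by rw [map_mul]⟩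
      · intro a ha h1
        obtain ⟨k, rfl, -, -⟩ := hXel a ha
        rw [← map_mul, h1K] at h1
        exact ⟨k, F.K3Y k (hXK k ha) h1, rfl⟩
      · intro h
        rw [← map_mul, ← map_mul] at h
        have h1 := hφ h
        apply hk01
        have h2 := F.K3t k0 hk0
        rw [h1, mul_inv_cancel_right] at h2
        calc k0 * k0 = k0 * k0⁻¹ := by rw [← h2]
          _ = 1 := mul_inv_cancel _
      · rw [← map_mul]
        exact (hcls _).2 F.tyD
      · rw [← map_mul, htt, map_one]
      · rw [← map_mul, cls_sq htt F.yD, map_one]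
      · rw [← map_mul, F.ty, map_mul]
    · -- `X < K3`
      push Not at hall
      obtain ⟨k, hk, hkX⟩ := hall
      have hkc : ∀ z ∈ Y3, k * z = z * k := fun z hz => F.K3c k hk z (F.Y3K3 hz)
      have hkN : φ k ∈ Subgroup.normalizer (X : Set G) := by
        apply Subgroup.mem_normalizer_fintype
        intro x hx
        obtain ⟨k', rfl, -, -⟩ := hXel x hx
        have h1 : φ k * φ k' * (φ k)⁻¹ = φ k' := by
          rw [← map_mul, F.K3c k hk k' (hXK k' hx), map_mul, mul_inv_cancel_right]
        rw [h1]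
        exact hx
      have hkk : φ k * φ k ∈ X := by
        rw [← map_mul]
        exact hYX _ (F.H1 k (F.K3S hk) hkc).1
      obtain ⟨x, hx, hxD⟩ := hX.exists_of hDc htN (hYcomm t F.tY) htX htt' hkN (hYcomm k hkc) hkX
        hkk ⟨1, X.one_mem, by rw [mul_one]; exact ⟨1, by group⟩⟩
      obtain ⟨k', rfl, -, -⟩ := hXel x hx
      rw [← map_mul, hcls] at hxD
      exact F.K3D _ (K3.mul_mem hk (hXK k' hx)) hxD
  · -- `X = E`
    push Not at hXK
    obtain ⟨x1, hx1, hx1K⟩ := hXK
    have hcov : ∀ k, φ k ∈ X → k ∈ K3 ∨ e0⁻¹ * k ∈ Y3 := by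
      intro k hk
      rcases F.H2 k (hXS k hk).1 (hXS k hk).2 with h | h | h
      · exact Or.inl h
      · exact absurd h (hXD k hk)
      · exact Or.inr h
    have hx1Y : e0⁻¹ * x1 ∈ Y3 := (hcov x1 hx1).resolve_left hx1K
    have he0 : φ e0 ∈ X := by
      have h1 := X.mul_mem hx1 (X.inv_mem (hYX _ hx1Y))
      rw [← map_inv, ← map_mul] at h1
      have e : x1 * (e0⁻¹ * x1)⁻¹ = e0 := by group
      rwa [e] at h1
    have hE : ∀ k, φ k ∈ X → k ∈ Y3 ∨ e0⁻¹ * k ∈ Y3 := by
      intro k hk
      rcases hcov k hk with h | h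
      · left
        have h2 : φ (x1 * k) ∈ X := by rw [map_mul]; exact X.mul_mem hx1 hk
        rcases hcov _ h2 with h3 | h3
        · exfalso
          apply hx1K
          have := K3.mul_mem h3 (K3.inv_mem h)
          rwa [mul_inv_cancel_right] at this
        · have := Y3.mul_mem (Y3.inv_mem hx1Y) h3
          have e : (e0⁻¹ * x1)⁻¹ * (e0⁻¹ * (x1 * k)) = k := by group
          rwa [e] at this
      · exact Or.inr h
    have hXab : ∀ a ∈ X, ∀ b ∈ X, a * b = b * a := by
      intro a ha b hb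
      obtain ⟨k, rfl, -, hkc⟩ := hXel a ha
      obtain ⟨k', rfl, -, hkc'⟩ := hXel b hb
      rw [← map_mul, ← map_mul]
      congr 1
      rcases hE k ha with h | h
      · exact (hkc' k h).symm
      · rcases hE k' hb with h' | h'
        · exact hkc k' h'
        · -- both in `e0 Y3`
          have e1 : k = e0 * (e0⁻¹ * k) := by group
          have e2 : k' = e0 * (e0⁻¹ * k') := by group
          set y1 := e0⁻¹ * k
          set y2 := e0⁻¹ * k'
          rw [e1, e2]
          calc e0 * y1 * (e0 * y2) = e0 * (y1 * e0) * y2 := by group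
            _ = e0 * (e0 * y1) * y2 := by rw [F.e0Y y1 h]
            _ = e0 * e0 * (y1 * y2) := by group
            _ = e0 * e0 * (y2 * y1) := by rw [F.Y3c y1 h y2 h']
            _ = e0 * (e0 * y2) * y1 := by group
            _ = e0 * (y2 * e0) * y1 := by rw [F.e0Y y2 h']
            _ = e0 * y2 * (e0 * y1) := by group
    have hnorm : ∀ p ∈ S, (∀ z ∈ Y3, p * z = z * p) →
        φ p ∈ Subgroup.normalizer (X : Set G) := by
      intro p hp hpc
      apply Subgroup.mem_normalizer_fintype
      intro x hx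
      obtain ⟨k, rfl, hkS, hkc⟩ := hXel x hx
      have h1 := (F.H1 p hp hpc).2 k hkS hkc
      have h2 : φ p * φ k * (φ p)⁻¹ = φ (p * k * p⁻¹ * k⁻¹) * φ k := by
        rw [← map_inv, ← map_mul, ← map_mul, ← map_mul]
        congr 1
        group
      rw [h2]
      exact X.mul_mem (hYX _ h1) hx
    obtain ⟨d, hdS, hdc, hdD, hd⟩ := F.H6
    have hdX : φ d ∉ X := fun h => hXD d h hdD
    have key := transvection hX hXab (φ e0) he0 (by
      intro x hx
      obtain ⟨k, rfl, -, -⟩ := hXel x hx
      rcases hE k hx with h | h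
      · exact Or.inl ⟨k, h, rfl⟩
      · exact Or.inr ⟨e0⁻¹ * k, h, by rw [map_mul, map_inv]⟩)
      (hnorm d hdS hdc) (hYcomm d hdc) hdX (by rw [← map_mul, cls_sq htt hdD, map_one]; exact X.one_mem)
      (hnorm t F.tS F.tY) (hYcomm t F.tY) htX (by rw [← map_mul, htt, map_one]; exact X.one_mem)
    apply hd
    apply hφ
    rw [map_mul, map_mul, map_inv, map_mul, map_mul, map_inv]
    exact key

/-- the context of steps 2, 1, 0 -/
theorem ctx : Ctx (cls (φ t)) (G ⧸ φ.range) := by
  have hfinK : Finite K := Finite.of_injective φ hφ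
  have hcls := fun k => mem_cls_iff (t := t) hcl hφ k
  have htt : φ t * φ t = 1 := by rw [← map_mul, F.tt, map_one]
  have ht1 : φ t ≠ 1 := fun h => F.t1 (hφ (by rw [h, map_one]))
  refine
    { conjD := fun d hd g => cls_conj hd g
      ne := fun d hd => cls_ne ht1 hd
      sq := fun d hd => cls_sq htt hd
      one := one_fix hφ F hC hcl
      lf := ?_
      s3 := ?_ }
  · intro x
    induction x using QuotientGroup.induction_on with
    | H g =>
      let ψ : K →* G := (MulAut.conj g).toMonoidHom.comp φ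
      have hψ : ∀ k, ψ k = g * φ k * g⁻¹ := fun k => rfl
      have hψi : Function.Injective ψ := fun a b hab => hφ ((MulAut.conj g).injective hab)
      have hr : ψ.range = MulAction.stabilizer G (QuotientGroup.mk g : G ⧸ φ.range) := by
        ext h
        rw [MulAction.mem_stabilizer_iff, smul_mk_eq_iff]
        constructor
        · rintro ⟨k, rfl⟩
          refine ⟨k, ?_⟩
          rw [hψ]; group
        · rintro ⟨k, hk⟩
          refine ⟨k, ?_⟩
          rw [hψ, hk]; group
      rw [← hr]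
      refine LF.map ψ hψi ?_ (lf_of_facts F)
      intro k
      rw [← hcls k, hψ]
      constructor
      · intro h
        have := cls_conj h g⁻¹
        have e : g⁻¹ * (g * φ k * g⁻¹) * g⁻¹⁻¹ = φ k := by group
        rwa [e] at this
      · intro h
        exact cls_conj h g
  · intro z1 z2 z3 n1 n2 h12 c12 n3 c13 c23 hW x y' h1x h2x h3x h1y h2y h3y
    by_contra hxy
    apply not_two_Y hφ F hC hcl
    -- bring `x` to the base point
    induction x using QuotientGroup.induction_on with
    | H g =>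
      rw [smul_mk_eq_iff] at h1x h2x h3x
      obtain ⟨k1, hk1⟩ := h1x
      obtain ⟨k2, hk2⟩ := h2x
      obtain ⟨k3, hk3⟩ := h3x
      have hmul : ∀ a b : G, g⁻¹ * a * g * (g⁻¹ * b * g) = g⁻¹ * (a * b) * g := fun a b => by group
      have inj : ∀ a b : G, g⁻¹ * a * g = g⁻¹ * b * g ↔ a = b := fun a b =>
        ⟨fun hh => mul_left_cancel (mul_right_cancel hh), fun hh => by rw [hh]⟩
      have hN : ∀ (k : K) (x : G), φ k = g⁻¹ * x * g → Non (cls (φ t)) x → Non (cls t) k := by
        intro k x hk hx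
        refine ⟨?_, ?_, ?_⟩
        · rintro rfl
          rw [map_one] at hk
          apply hx.1
          have h2 : g⁻¹ * x * g = g⁻¹ * 1 * g := by rw [← hk]; group
          exact (inj _ _).1 h2
        · apply hφ
          rw [map_mul, hk, hmul, hx.2.1, map_one]
          group
        · intro hh
          have h1 : φ k ∈ cls (φ t) := (hcls k).2 hh
          rw [hk] at h1
          have h2 := cls_conj h1 g
          have e : g * (g⁻¹ * x * g) * g⁻¹ = x := by group
          rw [e] at h2
          exact hx.2.2 h2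
      have m1 := hN k1 z1 hk1 n1
      have m2 := hN k2 z2 hk2 n2
      have m3 := hN k3 z3 hk3 n3
      have hne : k1 ≠ k2 := by
        rintro rfl
        rw [hk1, inj] at hk2
        exact h12 hk2
      have hcomm : ∀ (k k' : K) (x x' : G), φ k = g⁻¹ * x * g → φ k' = g⁻¹ * x' * g →
          x * x' = x' * x → k * k' = k' * k := by
        intro k k' x x' h1 h2 h3
        apply hφ
        rw [map_mul, map_mul, h1, h2, hmul, hmul, h3]
      have hW' : ¬ InW k1 k2 k3 := by
        intro h
        apply hW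
        rcases h with h | h | h | h
        · exact absurd h m3.1
        · right; left
          rw [h, hk1, inj] at hk3
          exact hk3.symm
        · right; right; left
          rw [h, hk2, inj] at hk3
          exact hk3.symm
        · right; right; right
          rw [h, map_mul, hk1, hk2, hmul, inj] at hk3
          exact hk3.symm
      obtain ⟨h, p1, p2, p3⟩ := F.F2 k1 m1 k2 m2 hne (hcomm k1 k2 z1 z2 hk1 hk2 c12) k3 m3
        (hcomm k1 k3 z1 z3 hk1 hk3 c13) (hcomm k2 k3 z2 z3 hk2 hk3 c23) hW'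
      -- the three conjugates generate `Y3`
      have hgen : Subgroup.closure {h⁻¹ * k1 * h, h⁻¹ * k2 * h, h⁻¹ * k3 * h} = Y3 := by
        have a1 := non_conj m1 h⁻¹
        have a2 := non_conj m2 h⁻¹
        rw [inv_inv] at a1 a2
        refine closure_eq F.Y3card p1 p2 p3 a1.1 a2.1 ?_ a1.2.1 a2.2.1 ?_ ?_
        · intro hh
          exact hne (mul_left_cancel (mul_right_cancel hh))
        · exact comm_conj' h (hcomm k1 k2 z1 z2 hk1 hk2 c12)
        · rw [← inW_conj h]
          exact hW'
      -- `z1, z2, z3` fix two points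
      have hTwo : Two φ.range (Subgroup.closure {z1, z2, z3}) := by
        refine ⟨QuotientGroup.mk g, y', ?_, ?_, hxy⟩
        · rw [mk_mem_Fix]
          intro s hs
          have : Subgroup.closure {z1, z2, z3} ≤
              MulAction.stabilizer G (QuotientGroup.mk g : G ⧸ φ.range) := by
            rw [Subgroup.closure_le]
            rintro z (rfl | rfl | rfl)
            all_goals
              show _ • (QuotientGroup.mk g : G ⧸ φ.range) = _
              rw [smul_mk_eq_iff]
            exacts [⟨k1, hk1⟩, ⟨k2, hk2⟩, ⟨k3, hk3⟩]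
          exact (smul_mk_eq_iff _ _ _).1 (this hs)
        · intro s hs
          have : Subgroup.closure {z1, z2, z3} ≤ MulAction.stabilizer G y' := by
            rw [Subgroup.closure_le]
            rintro z (rfl | rfl | rfl)
            exacts [h1y, h2y, h3y]
          exact this hs
      apply hTwo.conj (g * φ h)⁻¹
      rintro _ ⟨y0, hy0, rfl⟩
      rw [SetLike.mem_coe, ← hgen] at hy0
      let ψ : K →* G := (MulAut.conj (g * φ h)).toMonoidHom.comp φ
      have hle : Subgroup.closure {h⁻¹ * k1 * h, h⁻¹ * k2 * h, h⁻¹ * k3 * h} ≤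
          (Subgroup.closure {z1, z2, z3}).comap ψ := by
        rw [Subgroup.closure_le]
        have aux : ∀ (k : K) (z : G), φ k = g⁻¹ * z * g → z ∈ Subgroup.closure {z1, z2, z3} →
            h⁻¹ * k * h ∈ (Subgroup.closure {z1, z2, z3}).comap ψ := by
          intro k z hk hz
          rw [Subgroup.mem_comap]
          have e : ψ (h⁻¹ * k * h) = z := by
            show (g * φ h) * φ (h⁻¹ * k * h) * (g * φ h)⁻¹ = z
            rw [map_mul, map_mul, map_inv, hk]
            group
          rw [e]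
          exact hz
        rintro x (rfl | rfl | rfl)
        · exact aux k1 z1 hk1 (Subgroup.subset_closure (Or.inl rfl))
        · exact aux k2 z2 hk2 (Subgroup.subset_closure (Or.inr (Or.inl rfl)))
        · exact aux k3 z3 hk3 (Subgroup.subset_closure (Or.inr (Or.inr rfl)))
      have h5 := hle hy0
      rw [Subgroup.mem_comap] at h5
      rw [inv_inv]
      exact h5

/-- **The closing theorem.** -/
theorem closing : φ.range = ⊤ := by
  have C := ctx hφ F hC hcl
  rw [Subgroup.eq_top_iff']
  intro g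
  have := C.step0 (QuotientGroup.mk 1) (QuotientGroup.mk g)
  rw [QuotientGroup.eq] at this
  simpa using this

end main

end Cfsg.Agent.CoThreeStd.CloseAlt
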