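import Mathlib

/-!
# The facts about `Co₃` used in the closing of S1750

`K` is a group (`Co₃`), `t v w b3 e0 y : K` elements, `S` a Sylow 2-subgroup, `Y3`, `K3` subgroups.
`D K t` is the class of `t`.
-/

set_option autoImplicit false

namespace Cfsg.Agent.CoThreeStd.ClosingFacts

/-- `z` is an involution which is not in `D` -/
def Non {G : Type*} [Group G] (D : Set G) (z : G) : Prop := z ≠ 1 ∧ z * z = 1 ∧ z ∉ D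

/-- `c` lies in the four-group `{1, z1, z2, z1z2}` -/
def InW {G : Type*} [Group G] (z1 z2 c : G) : Prop := c = 1 ∨ c = z1 ∨ c = z2 ∨ c = z1 * z2

/-- the conjugacy class of `t` -/
def cls {K : Type*} [Group K] (t : K) : Set K := {x | ∃ k : K, k * t * k⁻¹ = x}

/-- The facts. -/
structure Facts {K : Type*} [Group K] (t v w b3 e0 y : K) (S Y3 K3 : Subgroup K) : Prop where
  /-- `t` is an involution -/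
  t1 : t ≠ 1
  tt : t * t = 1
  /-- `v`, `w`, `b3` are involutions of the other class; they commute -/
  nv : Non (cls t) v
  nw : Non (cls t) w
  nb : Non (cls t) b3
  vw : v * w = w * v
  vb : v * b3 = b3 * v
  wb : w * b3 = b3 * w
  wv : w ≠ v
  bW : ¬ InW v w b3
  /-- `t` commutes with `v`, `w` -/
  tv : t * v = v * t
  tw : t * w = w * t
  /-- (F0) -/
  F0 : ∀ z, Non (cls t) z → ∃ h, h⁻¹ * z * h = v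
  /-- (Fc) -/
  Fc : ∀ z, Non (cls t) z → ∀ b, Non (cls t) b → z ≠ b → z * b = b * z → z * b ∉ cls t
  /-- (F1) -/
  F1 : ∀ z1, Non (cls t) z1 → ∀ z2, Non (cls t) z2 → z1 ≠ z2 → z1 * z2 = z2 * z1 →
    ∃ h, InW v w (h⁻¹ * z1 * h) ∧ InW v w (h⁻¹ * z2 * h)
  /-- (F2) -/
  F2 : ∀ z1, Non (cls t) z1 → ∀ z2, Non (cls t) z2 → z1 ≠ z2 → z1 * z2 = z2 * z1 →
    ∀ z3, Non (cls t) z3 → z1 * z3 = z3 * z1 → z2 * z3 = z3 * z2 → ¬ InW z1 z2 z3 →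
    ∃ h, h⁻¹ * z1 * h ∈ Y3 ∧ h⁻¹ * z2 * h ∈ Y3 ∧ h⁻¹ * z3 * h ∈ Y3
  /-- (Fd) -/
  Fd : ∀ u, u * u ≠ 1 → u * u * (u * u) = 1 → (∃ a ∈ cls t, a * u = u * a) ∧
    ∃ b, Non (cls t) b ∧ b ≠ u * u ∧ b * u = u * b
  /-- (Gb) -/
  Gb : ∀ u, u * v = v * u → u * w = w * u → u * u ≠ 1 → InW v w (u * u) →
    (∃ a ∈ cls t, a * v = v * a ∧ a * w = w * a ∧ a * u = u * a) ∧
    ∃ b, Non (cls t) b ∧ ¬ InW v w b ∧ b * v = v * b ∧ b * w = w * b ∧ b * u = u * b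
  /-- (Gc) -/
  Gc : ∀ u, u * v = v * u → u * w = w * u → u * u ≠ 1 → InW v w (u * u) →
    ∀ u', u' * v = v * u' → u' * w = w * u' → u' * u' ≠ 1 → InW v w (u' * u') →
    u' * u = u * u' → u * u ≠ u' * u' →
    ∀ x, x ≠ 1 → x * x = 1 → ¬ InW v w x → x * v = v * x → x * w = w * x → x * u = u * x →
    x * u' * x = u'⁻¹ →
    (∃ a ∈ cls t, a * v = v * a ∧ a * w = w * a ∧ a * u = u * a ∧ a * u' = u' * a) ∧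
    ∃ b, Non (cls t) b ∧ ¬ InW v w b ∧ b * v = v * b ∧ b * w = w * b ∧ b * u = u * b ∧
      b * u' = u' * b
  /-- `S` is a Sylow 2-subgroup -/
  S2 : IsPGroup 2 S
  Ssyl : ∀ R : Subgroup K, IsPGroup 2 R → ∃ c, ∀ r ∈ R, c⁻¹ * r * c ∈ S
  /-- `Y3` is an elementary abelian normal subgroup of `S` of order 8, without elements of `D` -/
  Y3S : Y3 ≤ S
  Y3n : ∀ s ∈ S, ∀ x ∈ Y3, s * x * s⁻¹ ∈ Y3
  Y3c : ∀ x ∈ Y3, ∀ x' ∈ Y3, x * x' = x' * x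
  Y32 : ∀ x ∈ Y3, x * x = 1
  Y3D : ∀ x ∈ Y3, x ∉ cls t
  Y3card : Nat.card Y3 ≤ 8
  vY : v ∈ Y3
  wY : w ∈ Y3
  bY : b3 ∈ Y3
  /-- `t ∈ P3 = C_S(Y3)` -/
  tS : t ∈ S
  tY : ∀ x ∈ Y3, t * x = x * t
  /-- (H1) -/
  H1 : ∀ p ∈ S, (∀ x ∈ Y3, p * x = x * p) → p * p ∈ Y3 ∧
    ∀ p' ∈ S, (∀ x ∈ Y3, p' * x = x * p') → p * p' * p⁻¹ * p'⁻¹ ∈ Y3
  /-- (H2) -/
  K3S : K3 ≤ S
  Y3K3 : Y3 ≤ K3
  K3c : ∀ k ∈ K3, ∀ k' ∈ K3, k * k' = k' * k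
  K3D : ∀ k ∈ K3, k ∉ cls t
  K3Y : ∀ k ∈ K3, k * k = 1 → k ∈ Y3
  K34 : ∃ k ∈ K3, k * k ≠ 1
  K3t : ∀ k ∈ K3, t * k * t⁻¹ = k⁻¹
  K3n : ∀ s ∈ S, ∀ k ∈ K3, s * k * s⁻¹ ∈ K3
  e0S : e0 ∈ S
  e0Y : ∀ x ∈ Y3, e0 * x = x * e0
  H2 : ∀ p ∈ S, (∀ x ∈ Y3, p * x = x * p) → p ∈ K3 ∨ p ∈ cls t ∨ e0⁻¹ * p ∈ Y3
  /-- a `D`-pure four-group `⟨t, y⟩` in `S` -/
  yS : y ∈ S
  yD : y ∈ cls t
  ty : t * y = y * t
  tyD : t * y ∈ cls t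
  /-- (H6) -/
  H6 : ∃ d ∈ S, (∀ x ∈ Y3, d * x = x * d) ∧ d ∈ cls t ∧ d * e0 * d⁻¹ ≠ t * e0 * t⁻¹

end Cfsg.Agent.CoThreeStd.ClosingFacts
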