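import Cfsg.Agent.CoThreeStd.DihAlt
import Cfsg.Agent.CoThreeStd.ClosingFacts

/-!
# Steps 2, 1, 0 of the closing of the `Co₃` recognition

`LF D H`: local facts about a subgroup `H` and a set `D` of involutions, in conjugation invariant
form.  `Ctx D Ω`: the group `G` acts on `Ω`, elements of `D` fix at most one point, all point
stabilisers satisfy `LF`, and three independent commuting involutions outside `D` fix at most one
common point.  Then two points of `Ω` are equal (`Ctx.step0`).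
-/

set_option autoImplicit false

namespace Cfsg.Agent.CoThreeStd.CloseLF

open ClosingFacts

section four

variable {G : Type*} [Group G]

/-- a four-group is determined by two of its involutions -/
theorem inW_of_inW {v w : G} (hv : v * v = 1) (hw : w * w = 1) (hvw : v * w = w * v) {a b : G}
    (ha : InW v w a) (hb : InW v w b) (ha1 : a ≠ 1) (hb1 : b ≠ 1) (hab : a ≠ b) {c : G}
    (hc : InW v w c) : InW a b c := by
  have e1 : v * (v * w) = w := by rw [← mul_assoc, hv, one_mul]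
  have e2 : w * (v * w) = v := by rw [hvw, ← mul_assoc, hw, one_mul]
  have e3 : v * w * v = w := by rw [hvw, mul_assoc, hv, mul_one]
  have e4 : v * w * w = v := by rw [mul_assoc, hw, mul_one]
  rcases ha with rfl | rfl | rfl | rfl
  · exact absurd rfl ha1
  · rcases hb with rfl | rfl | rfl | rfl
    · exact absurd rfl hb1
    · exact absurd rfl hab
    · exact hc
    · rcases hc with rfl | rfl | rfl | rfl
      · exact Or.inl rfl
      · exact Or.inr (Or.inl rfl)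
      · exact Or.inr (Or.inr (Or.inr e1.symm))
      · exact Or.inr (Or.inr (Or.inl rfl))
  · rcases hb with rfl | rfl | rfl | rfl
    · exact absurd rfl hb1
    · rcases hc with rfl | rfl | rfl | rfl
      · exact Or.inl rfl
      · exact Or.inr (Or.inr (Or.inl rfl))
      · exact Or.inr (Or.inl rfl)
      · exact Or.inr (Or.inr (Or.inr hvw))
    · exact absurd rfl hab
    · rcases hc with rfl | rfl | rfl | rfl
      · exact Or.inl rfl
      · exact Or.inr (Or.inr (Or.inr e2.symm))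
      · exact Or.inr (Or.inl rfl)
      · exact Or.inr (Or.inr (Or.inl rfl))
  · rcases hb with rfl | rfl | rfl | rfl
    · exact absurd rfl hb1
    · rcases hc with rfl | rfl | rfl | rfl
      · exact Or.inl rfl
      · exact Or.inr (Or.inr (Or.inl rfl))
      · exact Or.inr (Or.inr (Or.inr e3.symm))
      · exact Or.inr (Or.inl rfl)
    · rcases hc with rfl | rfl | rfl | rfl
      · exact Or.inl rfl
      · exact Or.inr (Or.inr (Or.inr e4.symm))
      · exact Or.inr (Or.inr (Or.inl rfl))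
      · exact Or.inr (Or.inl rfl)
    · exact absurd rfl hab

/-- elements commuting with two generators commute with the four-group -/
theorem comm_inW {v w c d : G} (h1 : d * v = v * d) (h2 : d * w = w * d) (hc : InW v w c) :
    d * c = c * d := by
  rcases hc with rfl | rfl | rfl | rfl
  · rw [mul_one, one_mul]
  · exact h1
  · exact h2
  · rw [← mul_assoc, h1, mul_assoc, h2, mul_assoc]

/-- conjugation of four-groups -/
theorem inW_conj {v w c : G} (h : G) :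
    InW v w c ↔ InW (h⁻¹ * v * h) (h⁻¹ * w * h) (h⁻¹ * c * h) := by
  have e : ∀ a b : G, h⁻¹ * a * h = h⁻¹ * b * h ↔ a = b := fun a b =>
    ⟨fun hh => mul_left_cancel (mul_right_cancel hh), fun hh => by rw [hh]⟩
  have e1 : h⁻¹ * v * h * (h⁻¹ * w * h) = h⁻¹ * (v * w) * h := by group
  have e2 : h⁻¹ * c * h = 1 ↔ c = 1 := by
    rw [← e c 1]
    simp
  rw [InW, InW, e1, e, e, e, e2]

end four

/-- Local facts at a subgroup. -/
structure LF {G : Type*} [Group G] (D : Set G) (H : Subgroup G) : Prop where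
  g0a : ∃ a ∈ H, a ∈ D
  g0b : ∃ b ∈ H, Non D b
  fc : ∀ z ∈ H, Non D z → ∀ b ∈ H, Non D b → z ≠ b → z * b = b * z → z * b ∉ D
  g1a : ∀ z ∈ H, Non D z → ∃ a ∈ H, a ∈ D ∧ a * z = z * a
  g1b : ∀ z ∈ H, Non D z → ∃ b ∈ H, Non D b ∧ b ≠ z ∧ b * z = z * b
  fd : ∀ u ∈ H, u * u ≠ 1 → u * u * (u * u) = 1 → (∃ a ∈ H, a ∈ D ∧ a * u = u * a) ∧
    ∃ b ∈ H, Non D b ∧ b ≠ u * u ∧ b * u = u * b
  ga : ∀ z1 ∈ H, Non D z1 → ∀ z2 ∈ H, Non D z2 → z1 ≠ z2 → z1 * z2 = z2 * z1 →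
    (∃ a ∈ H, a ∈ D ∧ a * z1 = z1 * a ∧ a * z2 = z2 * a) ∧
    ∃ b ∈ H, Non D b ∧ ¬ InW z1 z2 b ∧ b * z1 = z1 * b ∧ b * z2 = z2 * b
  gb : ∀ z1 ∈ H, Non D z1 → ∀ z2 ∈ H, Non D z2 → z1 ≠ z2 → z1 * z2 = z2 * z1 →
    ∀ u ∈ H, u * z1 = z1 * u → u * z2 = z2 * u → u * u ≠ 1 → InW z1 z2 (u * u) →
    (∃ a ∈ H, a ∈ D ∧ a * z1 = z1 * a ∧ a * z2 = z2 * a ∧ a * u = u * a) ∧
    ∃ b ∈ H, Non D b ∧ ¬ InW z1 z2 b ∧ b * z1 = z1 * b ∧ b * z2 = z2 * b ∧ b * u = u * b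
  gc : ∀ z1 ∈ H, Non D z1 → ∀ z2 ∈ H, Non D z2 → z1 ≠ z2 → z1 * z2 = z2 * z1 →
    ∀ u ∈ H, u * z1 = z1 * u → u * z2 = z2 * u → u * u ≠ 1 → InW z1 z2 (u * u) →
    ∀ u' ∈ H, u' * z1 = z1 * u' → u' * z2 = z2 * u' → u' * u' ≠ 1 → InW z1 z2 (u' * u') →
    u' * u = u * u' → u * u ≠ u' * u' →
    ∀ x ∈ H, x ≠ 1 → x * x = 1 → ¬ InW z1 z2 x → x * z1 = z1 * x → x * z2 = z2 * x →
    x * u = u * x → x * u' * x = u'⁻¹ →
    (∃ a ∈ H, a ∈ D ∧ a * z1 = z1 * a ∧ a * z2 = z2 * a ∧ a * u = u * a ∧ a * u' = u' * a) ∧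
    ∃ b ∈ H, Non D b ∧ ¬ InW z1 z2 b ∧ b * z1 = z1 * b ∧ b * z2 = z2 * b ∧ b * u = u * b ∧
      b * u' = u' * b

section facts

variable {K : Type*} [Group K] {t v w b3 e0 y : K} {S Y3 K3 : Subgroup K}

theorem cls_conj {K : Type*} [Group K] {t x : K} (hx : x ∈ cls t) (g : K) : g * x * g⁻¹ ∈ cls t := by
  obtain ⟨k, rfl⟩ := hx
  exact ⟨g * k, by group⟩

theorem cls_conj' {K : Type*} [Group K] {t x : K} (hx : x ∈ cls t) (g : K) :
    g⁻¹ * x * g ∈ cls t := by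
  have := cls_conj hx g⁻¹
  rwa [inv_inv] at this

theorem cls_sq {K : Type*} [Group K] {t x : K} (ht : t * t = 1) (hx : x ∈ cls t) : x * x = 1 := by
  obtain ⟨k, rfl⟩ := hx
  calc k * t * k⁻¹ * (k * t * k⁻¹) = k * (t * t) * k⁻¹ := by group
    _ = 1 := by rw [ht]; group

theorem cls_ne {K : Type*} [Group K] {t x : K} (ht : t ≠ 1) (hx : x ∈ cls t) : x ≠ 1 := by
  obtain ⟨k, rfl⟩ := hx
  intro h
  apply ht
  have : k⁻¹ * (k * t * k⁻¹) * k = k⁻¹ * 1 * k := by rw [h]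
  simpa [mul_assoc] using this

theorem non_conj {K : Type*} [Group K] {t x : K} (hx : Non (cls t) x) (g : K) :
    Non (cls t) (g * x * g⁻¹) := by
  obtain ⟨h1, h2, h3⟩ := hx
  refine ⟨?_, ?_, ?_⟩
  · intro h
    apply h1
    have : g⁻¹ * (g * x * g⁻¹) * g = g⁻¹ * 1 * g := by rw [h]
    simpa [mul_assoc] using this
  · calc g * x * g⁻¹ * (g * x * g⁻¹) = g * (x * x) * g⁻¹ := by group
      _ = 1 := by rw [h2]; group
  · intro h
    apply h3
    have := cls_conj' h g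
    have e : g⁻¹ * (g * x * g⁻¹) * g = x := by group
    rwa [e] at this

theorem comm_conj {K : Type*} [Group K] {a z h : K} (hh : a * (h⁻¹ * z * h) = (h⁻¹ * z * h) * a) :
    h * a * h⁻¹ * z = z * (h * a * h⁻¹) := by
  calc h * a * h⁻¹ * z = h * (a * (h⁻¹ * z * h)) * h⁻¹ := by group
    _ = _ := by rw [hh]; group

theorem comm_conj' {K : Type*} [Group K] {a z : K} (h : K) (hh : a * z = z * a) :
    (h⁻¹ * a * h) * (h⁻¹ * z * h) = (h⁻¹ * z * h) * (h⁻¹ * a * h) := by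
  calc (h⁻¹ * a * h) * (h⁻¹ * z * h) = h⁻¹ * (a * z) * h := by group
    _ = _ := by rw [hh]; group

/-- bring two commuting involutions outside `D` to `v`, `w` -/
theorem pair (F : Facts t v w b3 e0 y S Y3 K3) {z1 z2 : K} (h1 : Non (cls t) z1)
    (h2 : Non (cls t) z2) (h12 : z1 ≠ z2) (hc : z1 * z2 = z2 * z1) :
    ∃ h : K, (∀ c, c * v = v * c → c * w = w * c →
        (h * c * h⁻¹) * z1 = z1 * (h * c * h⁻¹) ∧ (h * c * h⁻¹) * z2 = z2 * (h * c * h⁻¹)) ∧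
      (∀ c, c * z1 = z1 * c → c * z2 = z2 * c →
        (h⁻¹ * c * h) * v = v * (h⁻¹ * c * h) ∧ (h⁻¹ * c * h) * w = w * (h⁻¹ * c * h)) ∧
      ∀ c, InW z1 z2 c ↔ InW v w (h⁻¹ * c * h) := by
  obtain ⟨h, ha, hb⟩ := F.F1 z1 h1 z2 h2 h12 hc
  have hne : ∀ x : K, x ≠ 1 → h⁻¹ * x * h ≠ 1 := by
    intro x hx hh
    apply hx
    have : h * (h⁻¹ * x * h) * h⁻¹ = h * 1 * h⁻¹ := by rw [hh]
    simpa [mul_assoc] using this
  have hd : h⁻¹ * z1 * h ≠ h⁻¹ * z2 * h := by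
    intro hh
    exact h12 (mul_left_cancel (mul_right_cancel hh))
  have hsq1 : h⁻¹ * z1 * h * (h⁻¹ * z1 * h) = 1 := by
    calc h⁻¹ * z1 * h * (h⁻¹ * z1 * h) = h⁻¹ * (z1 * z1) * h := by group
      _ = 1 := by rw [h1.2.1]; group
  have hsq2 : h⁻¹ * z2 * h * (h⁻¹ * z2 * h) = 1 := by
    calc h⁻¹ * z2 * h * (h⁻¹ * z2 * h) = h⁻¹ * (z2 * z2) * h := by group
      _ = 1 := by rw [h2.2.1]; group
  have hcc := comm_conj' h hc
  have hcov : ∀ c, InW v w c → InW (h⁻¹ * z1 * h) (h⁻¹ * z2 * h) c := fun c hc' =>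
    inW_of_inW F.nv.2.1 F.nw.2.1 F.vw ha hb (hne _ h1.1) (hne _ h2.1) hd hc'
  have hv' : InW (h⁻¹ * z1 * h) (h⁻¹ * z2 * h) v := hcov v (Or.inr (Or.inl rfl))
  have hw' : InW (h⁻¹ * z1 * h) (h⁻¹ * z2 * h) w := hcov w (Or.inr (Or.inr (Or.inl rfl)))
  refine ⟨h, ?_, ?_, ?_⟩
  · intro c hcv hcw
    exact ⟨comm_conj (comm_inW hcv hcw ha), comm_conj (comm_inW hcv hcw hb)⟩
  · intro c hc1 hc2
    have e1 := comm_conj' h hc1
    have e2 := comm_conj' h hc2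
    exact ⟨comm_inW e1 e2 hv', comm_inW e1 e2 hw'⟩
  · intro c
    rw [inW_conj h]
    constructor
    · intro hh
      exact inW_of_inW hsq1 hsq2 hcc hv' hw' F.nv.1 F.nw.1 F.wv.symm hh
    · intro hh
      exact hcov _ hh

theorem lf_of_facts (F : Facts t v w b3 e0 y S Y3 K3) : LF (cls t) (⊤ : Subgroup K) := by
  have htop : ∀ k : K, k ∈ (⊤ : Subgroup K) := fun k => Subgroup.mem_top k
  have cc : ∀ (h x : K), h * (h⁻¹ * x * h) * h⁻¹ = x := fun h x => by group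
  constructor
  · exact ⟨t, htop _, ⟨1, by group⟩⟩
  · exact ⟨v, htop _, F.nv⟩
  · intro z _ hz b _ hb
    exact F.Fc z hz b hb
  · intro z _ hz
    obtain ⟨h, hh⟩ := F.F0 z hz
    refine ⟨h * t * h⁻¹, htop _, ⟨h, rfl⟩, ?_⟩
    apply comm_conj
    rw [hh]
    exact F.tv
  · intro z _ hz
    obtain ⟨h, hh⟩ := F.F0 z hz
    refine ⟨h * w * h⁻¹, htop _, non_conj F.nw h, ?_, ?_⟩
    · intro h1
      apply F.wv
      rw [← hh, ← h1]
      group
    · apply comm_conj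
      rw [hh]
      exact F.vw.symm
  · intro u _ h1 h2
    obtain ⟨⟨a, ha, hau⟩, b, hb, hbu, hbc⟩ := F.Fd u h1 h2
    exact ⟨⟨a, htop _, ha, hau⟩, b, htop _, hb, hbu, hbc⟩
  · intro z1 _ h1 z2 _ h2 h12 hc
    obtain ⟨h, hA, hB, hC⟩ := pair F h1 h2 h12 hc
    refine ⟨⟨h * t * h⁻¹, htop _, ⟨h, rfl⟩, hA t F.tv F.tw⟩,
      ⟨h * b3 * h⁻¹, htop _, non_conj F.nb h, ?_, hA b3 F.vb.symm F.wb.symm⟩⟩
    rw [hC]
    have e : h⁻¹ * (h * b3 * h⁻¹) * h = b3 := by group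
    rw [e]
    exact F.bW
  · intro z1 _ h1 z2 _ h2 h12 hc u _ hu1 hu2 hu3 hu4
    obtain ⟨h, hA, hB, hC⟩ := pair F h1 h2 h12 hc
    obtain ⟨hB1, hB2⟩ := hB u hu1 hu2
    have hsq : h⁻¹ * u * h * (h⁻¹ * u * h) = h⁻¹ * (u * u) * h := by group
    obtain ⟨⟨a, ha, hav, haw, hau⟩, b, hb, hbW, hbv, hbw, hbu⟩ := F.Gb (h⁻¹ * u * h) hB1 hB2
      (by
        rw [hsq]
        intro hh
        apply hu3
        have : h * (h⁻¹ * (u * u) * h) * h⁻¹ = h * 1 * h⁻¹ := by rw [hh]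
        simpa [mul_assoc] using this)
      (by rw [hsq]; exact (hC _).1 hu4)
    refine ⟨⟨h * a * h⁻¹, htop _, cls_conj ha h, (hA a hav haw).1, (hA a hav haw).2,
      comm_conj hau⟩, ⟨h * b * h⁻¹, htop _, non_conj hb h, ?_, (hA b hbv hbw).1, (hA b hbv hbw).2,
      comm_conj hbu⟩⟩
    rw [hC]
    have e : h⁻¹ * (h * b * h⁻¹) * h = b := by group
    rw [e]
    exact hbW
  · intro z1 _ h1 z2 _ h2 h12 hc u _ hu1 hu2 hu3 hu4 u' _ hu1' hu2' hu3' hu4' huu hne x _ hx1 hx2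
      hx3 hx4 hx5 hx6 hx7
    obtain ⟨h, hA, hB, hC⟩ := pair F h1 h2 h12 hc
    obtain ⟨hB1, hB2⟩ := hB u hu1 hu2
    obtain ⟨hB1', hB2'⟩ := hB u' hu1' hu2'
    obtain ⟨hX1, hX2⟩ := hB x hx4 hx5
    have hsq : ∀ u : K, h⁻¹ * u * h * (h⁻¹ * u * h) = h⁻¹ * (u * u) * h := fun u => by group
    have hne1 : ∀ x : K, x ≠ 1 → h⁻¹ * x * h ≠ 1 := by
      intro x hx hh
      apply hx
      have : h * (h⁻¹ * x * h) * h⁻¹ = h * 1 * h⁻¹ := by rw [hh]
      simpa [mul_assoc] using this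
    obtain ⟨⟨a, ha, hav, haw, hau, hau'⟩, b, hb, hbW, hbv, hbw, hbu, hbu'⟩ :=
      F.Gc (h⁻¹ * u * h) hB1 hB2 (by rw [hsq]; exact hne1 _ hu3) (by rw [hsq]; exact (hC _).1 hu4)
        (h⁻¹ * u' * h) hB1' hB2' (by rw [hsq]; exact hne1 _ hu3')
        (by rw [hsq]; exact (hC _).1 hu4') (comm_conj' h huu)
        (by
          rw [hsq, hsq]
          intro hh
          exact hne (mul_left_cancel (mul_right_cancel hh)))
        (h⁻¹ * x * h) (hne1 _ hx1) (by rw [hsq, hx2]; group)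
        (fun hh => hx3 ((hC _).2 hh)) hX1 hX2 (comm_conj' h hx6) (by
          calc h⁻¹ * x * h * (h⁻¹ * u' * h) * (h⁻¹ * x * h) = h⁻¹ * (x * u' * x) * h := by group
            _ = (h⁻¹ * u' * h)⁻¹ := by rw [hx7]; group)
    refine ⟨⟨h * a * h⁻¹, htop _, cls_conj ha h, (hA a hav haw).1, (hA a hav haw).2,
      comm_conj hau, comm_conj hau'⟩, ⟨h * b * h⁻¹, htop _, non_conj hb h, ?_, (hA b hbv hbw).1,
      (hA b hbv hbw).2, comm_conj hbu, comm_conj hbu'⟩⟩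
    rw [hC]
    have e : h⁻¹ * (h * b * h⁻¹) * h = b := by group
    rw [e]
    exact hbW

end facts

section transport

/-- transport of the local facts along an injective homomorphism -/
theorem LF.map {K G : Type*} [Group K] [Group G] {D' : Set K} {D : Set G} (φ : K →* G)
    (hφ : Function.Injective φ) (hD : ∀ k, φ k ∈ D ↔ k ∈ D') (F : LF D' (⊤ : Subgroup K)) :
    LF D φ.range := by
  have htop : ∀ k : K, k ∈ (⊤ : Subgroup K) := fun k => Subgroup.mem_top k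
  have hm : ∀ k : K, φ k ∈ φ.range := fun k => ⟨k, rfl⟩
  have h1 : ∀ k : K, φ k = 1 ↔ k = 1 := fun k => by rw [← map_one φ]; exact hφ.eq_iff
  have hN : ∀ k : K, Non D (φ k) ↔ Non D' k := by
    intro k
    rw [Non, Non, hD, ← map_mul, Ne, h1, h1]
  have hW : ∀ a b c : K, InW (φ a) (φ b) (φ c) ↔ InW a b c := by
    intro a b c
    rw [InW, InW, h1, ← map_mul, hφ.eq_iff, hφ.eq_iff, hφ.eq_iff]
  have hC : ∀ a b : K, φ a * φ b = φ b * φ a ↔ a * b = b * a := by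
    intro a b
    rw [← map_mul, ← map_mul, hφ.eq_iff]
  constructor
  · obtain ⟨a, -, ha⟩ := F.g0a
    exact ⟨φ a, hm a, (hD a).2 ha⟩
  · obtain ⟨a, -, ha⟩ := F.g0b
    exact ⟨φ a, hm a, (hN a).2 ha⟩
  · rintro _ ⟨z, rfl⟩ hz _ ⟨b, rfl⟩ hb hne hc
    rw [← map_mul, hD]
    exact F.fc z (htop _) ((hN z).1 hz) b (htop _) ((hN b).1 hb) (fun h => hne (by rw [h]))
      ((hC _ _).1 hc)
  · rintro _ ⟨z, rfl⟩ hz
    obtain ⟨a, -, ha, haz⟩ := F.g1a z (htop _) ((hN z).1 hz)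
    exact ⟨φ a, hm a, (hD a).2 ha, (hC _ _).2 haz⟩
  · rintro _ ⟨z, rfl⟩ hz
    obtain ⟨a, -, ha, hne, haz⟩ := F.g1b z (htop _) ((hN z).1 hz)
    exact ⟨φ a, hm a, (hN a).2 ha, fun h => hne (hφ h), (hC _ _).2 haz⟩
  · rintro _ ⟨u, rfl⟩ hu1 hu2
    obtain ⟨⟨a, -, ha, hau⟩, b, -, hb, hbu, hbc⟩ := F.fd u (htop _)
      (fun h => hu1 (by rw [← map_mul, h, map_one]))
      ((h1 _).1 (by rw [map_mul, map_mul]; exact hu2))
    refine ⟨⟨φ a, hm a, (hD a).2 ha, (hC _ _).2 hau⟩, φ b, hm b, (hN b).2 hb, ?_, (hC _ _).2 hbc⟩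
    rw [← map_mul]
    exact fun h => hbu (hφ h)
  · rintro _ ⟨z1, rfl⟩ hz1 _ ⟨z2, rfl⟩ hz2 hne hc
    obtain ⟨⟨a, -, ha, ha1, ha2⟩, b, -, hb, hbW, hb1, hb2⟩ := F.ga z1 (htop _) ((hN z1).1 hz1) z2
      (htop _) ((hN z2).1 hz2) (fun h => hne (by rw [h])) ((hC _ _).1 hc)
    exact ⟨⟨φ a, hm a, (hD a).2 ha, (hC _ _).2 ha1, (hC _ _).2 ha2⟩, φ b, hm b, (hN b).2 hb,
      fun h => hbW ((hW _ _ _).1 h), (hC _ _).2 hb1, (hC _ _).2 hb2⟩
  · rintro _ ⟨z1, rfl⟩ hz1 _ ⟨z2, rfl⟩ hz2 hne hc _ ⟨u, rfl⟩ hu1 hu2 hu3 hu4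
    obtain ⟨⟨a, -, ha, ha1, ha2, ha3⟩, b, -, hb, hbW, hb1, hb2, hb3⟩ := F.gb z1 (htop _)
      ((hN z1).1 hz1) z2 (htop _) ((hN z2).1 hz2) (fun h => hne (by rw [h])) ((hC _ _).1 hc) u
      (htop _) ((hC _ _).1 hu1) ((hC _ _).1 hu2) (fun h => hu3 (by rw [← map_mul, h, map_one]))
      ((hW _ _ _).1 (by rw [map_mul]; exact hu4))
    exact ⟨⟨φ a, hm a, (hD a).2 ha, (hC _ _).2 ha1, (hC _ _).2 ha2, (hC _ _).2 ha3⟩, φ b, hm b,
      (hN b).2 hb, fun h => hbW ((hW _ _ _).1 h), (hC _ _).2 hb1, (hC _ _).2 hb2, (hC _ _).2 hb3⟩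
  · rintro _ ⟨z1, rfl⟩ hz1 _ ⟨z2, rfl⟩ hz2 hne hc _ ⟨u, rfl⟩ hu1 hu2 hu3 hu4 _ ⟨u', rfl⟩ hu1' hu2'
      hu3' hu4' huu hne' _ ⟨x, rfl⟩ hx1 hx2 hx3 hx4 hx5 hx6 hx7
    obtain ⟨⟨a, -, ha, ha1, ha2, ha3, ha4⟩, b, -, hb, hbW, hb1, hb2, hb3, hb4⟩ := F.gc z1 (htop _)
      ((hN z1).1 hz1) z2 (htop _) ((hN z2).1 hz2) (fun h => hne (by rw [h])) ((hC _ _).1 hc) u
      (htop _) ((hC _ _).1 hu1) ((hC _ _).1 hu2) (fun h => hu3 (by rw [← map_mul, h, map_one]))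
      ((hW _ _ _).1 (by rw [map_mul]; exact hu4)) u' (htop _) ((hC _ _).1 hu1') ((hC _ _).1 hu2')
      (fun h => hu3' (by rw [← map_mul, h, map_one])) ((hW _ _ _).1 (by rw [map_mul]; exact hu4'))
      ((hC _ _).1 huu) (fun h => hne' (by rw [← map_mul, ← map_mul, h])) x (htop _)
      (fun h => hx1 (by rw [h, map_one])) ((h1 _).1 (by rw [map_mul]; exact hx2))
      (fun h => hx3 ((hW _ _ _).2 h)) ((hC _ _).1 hx4) ((hC _ _).1 hx5) ((hC _ _).1 hx6)
      (hφ (by rw [map_mul, map_mul, map_inv]; exact hx7))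
    exact ⟨⟨φ a, hm a, (hD a).2 ha, (hC _ _).2 ha1, (hC _ _).2 ha2, (hC _ _).2 ha3,
      (hC _ _).2 ha4⟩, φ b, hm b, (hN b).2 hb, fun h => hbW ((hW _ _ _).1 h), (hC _ _).2 hb1,
      (hC _ _).2 hb2, (hC _ _).2 hb3, (hC _ _).2 hb4⟩

end transport

/-- The context of steps 2, 1, 0. -/
structure Ctx {G : Type*} [Group G] (D : Set G) (Ω : Type*) [MulAction G Ω] : Prop where
  conjD : ∀ d ∈ D, ∀ g : G, g * d * g⁻¹ ∈ D
  ne : ∀ d ∈ D, d ≠ 1
  sq : ∀ d ∈ D, d * d = 1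
  one : ∀ d ∈ D, ∀ x y : Ω, d • x = x → d • y = y → x = y
  lf : ∀ x : Ω, LF D (MulAction.stabilizer G x)
  s3 : ∀ z1 z2 z3, Non D z1 → Non D z2 → z1 ≠ z2 → z1 * z2 = z2 * z1 → Non D z3 →
    z1 * z3 = z3 * z1 → z2 * z3 = z3 * z2 → ¬ InW z1 z2 z3 → ∀ x y : Ω, z1 • x = x →
    z2 • x = x → z3 • x = x → z1 • y = y → z2 • y = y → z3 • y = y → x = y

section steps

variable {G : Type*} [Group G] {D : Set G} {Ω : Type*} [MulAction G Ω]

/-- an element commuting with `g` maps fixed points of `g` to fixed points -/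
theorem fix_smul {g c : G} {x : Ω} (hx : g • x = x) (h : g * c = c * g) : g • c • x = c • x := by
  rw [smul_smul, h, mul_smul, hx]

/-- the dihedral step -/
theorem Ctx.dih [Finite G] (C : Ctx D Ω) {a b : G} {x y : Ω} (hxy : x ≠ y) (Z : Set G)
    (haD : a ∈ D) (hax : a • x = x) (hb : Non D b) (hby : b • y = y)
    (hZa : ∀ z ∈ Z, z * a = a * z) (hZb : ∀ z ∈ Z, z * b = b * z) (hZx : ∀ z ∈ Z, z • x = x)
    (hZy : ∀ z ∈ Z, z • y = y)
    (huniq : ∀ p : Ω, b • p = p → (∀ z ∈ Z, z • p = p) → p = y) :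
    ∃ c u : G, Non D c ∧ c • x = x ∧ c • y = y ∧ (∀ z ∈ Z, z * c = c * z) ∧
      c * b = b * c ∧ u * u = c ∧ a * u * a = u⁻¹ ∧ b * u * b = u⁻¹ ∧ (∀ z ∈ Z, z * u = u * z) ∧
      u • x = x ∧ u • y = y := by
  have ha2 := C.sq a haD
  have hb2 := hb.2.1
  obtain ⟨c, hc1, hc2, hca, hcb, hcc, hor⟩ := DihAlt.dd ha2 hb2 (by
    rintro ⟨k, rfl⟩
    exact hb.2.2 (C.conjD a haD k))
  have hcZ : ∀ z ∈ Z, z * c = c * z := fun z hz => hcc z (hZa z hz) (hZb z hz)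
  have hcx : c • x = x := C.one a haD _ _ (fix_smul hax hca.symm) hax
  have hcy : c • y = y := huniq _ (fix_smul hby hcb.symm)
    (fun z hz => fix_smul (hZy z hz) (hcZ z hz))
  have hcD : c ∉ D := fun h => hxy (C.one c h x y hcx hcy)
  have hcN : Non D c := ⟨hc1, hc2, hcD⟩
  have hbc : b ≠ c := by
    rintro rfl
    exact hxy (huniq x hcx hZx)
  have hbcD : b * c ∉ D := (C.lf y).fc b hby hb c hcy hcN hbc hcb.symm
  rcases hor with ⟨k, hk⟩ | ⟨u, huc, hau, hbu, hcu⟩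
  · exact absurd (hk ▸ C.conjD a haD k) hbcD
  · have huZ : ∀ z ∈ Z, z * u = u * z := fun z hz => hcu z (hZa z hz) (hZb z hz)
    refine ⟨c, u, hcN, hcx, hcy, hcZ, hcb, huc, hau, hbu, huZ, ?_, ?_⟩
    · -- `u⁻¹ a u ∈ D` and `= a c`
      have hai : a⁻¹ = a := inv_eq_of_mul_eq_one_left ha2
      have e1 : a * u = u⁻¹ * a := by
        calc a * u = a * u * (a * a) := by rw [ha2, mul_one]
          _ = (a * u * a) * a := by group
          _ = u⁻¹ * a := by rw [hau]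
      -- `a u = u⁻¹ a = u (u⁻² a) = u c a`
      have hci : c⁻¹ = c := inv_eq_of_mul_eq_one_left hc2
      have e2 : u⁻¹ = u * c := by
        have : u * c = u⁻¹ := by
          rw [← hci, ← huc]; group
        exact this.symm
      have e3 : a • u • x = u • x := by
        rw [smul_smul, e1, e2, mul_smul, hax, mul_smul, hcx]
      exact C.one a haD _ _ e3 hax
    · have hci : c⁻¹ = c := inv_eq_of_mul_eq_one_left hc2
      have e1 : b * u = u⁻¹ * b := by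
        calc b * u = b * u * (b * b) := by rw [hb2, mul_one]
          _ = (b * u * b) * b := by group
          _ = u⁻¹ * b := by rw [hbu]
      have e2 : u⁻¹ = u * c := by
        have : u * c = u⁻¹ := by
          rw [← hci, ← huc]; group
        exact this.symm
      apply huniq
      · rw [smul_smul, e1, e2, mul_smul, hby, mul_smul, hcy]
      · intro z hz
        exact fix_smul (hZy z hz) (huZ z hz)

/-- the final contradiction -/
theorem fin {a r u : G} (ha : a * a = 1) (har : a * r = r * a) (has : a * (r * u) = r * u * a)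
    (hu : a * u * a = u⁻¹) : u * u = 1 := by
  have h1 : a * u = u * a := by
    have e : a * (r * u) = r * (a * u) := by rw [← mul_assoc, har, mul_assoc]
    rw [e, mul_assoc] at has
    exact mul_left_cancel has
  have h2 : u = u⁻¹ := by
    calc u = u * (a * a) := by rw [ha, mul_one]
      _ = a * u * a := by rw [← mul_assoc, ← h1]
      _ = u⁻¹ := hu
  calc u * u = u * u⁻¹ := by rw [← h2]
    _ = 1 := mul_inv_cancel u

theorem Ctx.step2 [Finite G] (C : Ctx D Ω) {z1 z2 : G} (h1 : Non D z1) (h2 : Non D z2)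
    (h12 : z1 ≠ z2) (hc : z1 * z2 = z2 * z1) {x y : Ω} (h1x : z1 • x = x) (h2x : z2 • x = x)
    (h1y : z1 • y = y) (h2y : z2 • y = y) : x = y := by
  by_contra hxy
  have inW : ∀ c : G, c * c = 1 → c • x = x → c • y = y → z1 * c = c * z1 → z2 * c = c * z2 →
      InW z1 z2 c := by
    intro c hc2 hcx hcy hc1' hc2'
    by_contra hno
    have hc1 : c ≠ 1 := fun h => hno (Or.inl h)
    have hcD : c ∉ D := fun h => hxy (C.one c h x y hcx hcy)
    exact hxy (C.s3 z1 z2 c h1 h2 h12 hc ⟨hc1, hc2, hcD⟩ hc1' hc2' hno x y h1x h2x hcx h1y h2y hcy)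
  have uniq : ∀ b : G, Non D b → ¬ InW z1 z2 b → b * z1 = z1 * b → b * z2 = z2 * b → b • y = y →
      ∀ p : Ω, b • p = p → z1 • p = p → z2 • p = p → p = y := by
    intro b hb hbW hb1 hb2 hby p hp hp1 hp2
    exact C.s3 z1 z2 b h1 h2 h12 hc hb hb1.symm hb2.symm hbW p y hp1 hp2 hp h1y h2y hby
  -- step (1)
  obtain ⟨⟨a, hax, haD, ha1, ha2⟩, -⟩ := (C.lf x).ga z1 h1x h1 z2 h2x h2 h12 hc
  obtain ⟨-, b, hby, hb, hbW, hb1, hb2⟩ := (C.lf y).ga z1 h1y h1 z2 h2y h2 h12 hc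
  obtain ⟨c, u, hcN, hcx, hcy, hcZ, -, huc, -, -, huZ, hux, huy⟩ := C.dih hxy {z1, z2} haD hax hb
    hby (by rintro z (rfl | rfl); exacts [ha1.symm, ha2.symm])
    (by rintro z (rfl | rfl); exacts [hb1.symm, hb2.symm])
    (by rintro z (rfl | rfl); exacts [h1x, h2x]) (by rintro z (rfl | rfl); exacts [h1y, h2y])
    (fun p hp hZ => uniq b hb hbW hb1 hb2 hby p hp (hZ z1 (Or.inl rfl)) (hZ z2 (Or.inr rfl)))
  have hcW := inW c hcN.2.1 hcx hcy (hcZ z1 (Or.inl rfl)) (hcZ z2 (Or.inr rfl))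
  have hu1 := huZ z1 (Or.inl rfl)
  have hu2 := huZ z2 (Or.inr rfl)
  subst huc
  -- step (2)
  obtain ⟨⟨a', hax', haD', ha1', ha2', ha3'⟩, -⟩ := (C.lf x).gb z1 h1x h1 z2 h2x h2 h12 hc u hux
    hu1.symm hu2.symm hcN.1 hcW
  obtain ⟨-, b', hby', hb', hbW', hb1', hb2', hb3'⟩ := (C.lf y).gb z1 h1y h1 z2 h2y h2 h12 hc u huy
    hu1.symm hu2.symm hcN.1 hcW
  obtain ⟨c', u', hcN', hcx', hcy', hcZ', -, huc', hau', hbu', huZ', hux', huy'⟩ :=
    C.dih hxy {z1, z2, u} haD' hax' hb' hby'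
    (by rintro z (rfl | rfl | rfl); exacts [ha1'.symm, ha2'.symm, ha3'.symm])
    (by rintro z (rfl | rfl | rfl); exacts [hb1'.symm, hb2'.symm, hb3'.symm])
    (by rintro z (rfl | rfl | rfl); exacts [h1x, h2x, hux])
    (by rintro z (rfl | rfl | rfl); exacts [h1y, h2y, huy])
    (fun p hp hZ => uniq b' hb' hbW' hb1' hb2' hby' p hp (hZ z1 (Or.inl rfl))
      (hZ z2 (Or.inr (Or.inl rfl))))
  have hcW' := inW c' hcN'.2.1 hcx' hcy' (hcZ' z1 (Or.inl rfl)) (hcZ' z2 (Or.inr (Or.inl rfl)))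
  have hu1' := huZ' z1 (Or.inl rfl)
  have hu2' := huZ' z2 (Or.inr (Or.inl rfl))
  have huu' := huZ' u (Or.inr (Or.inr rfl))
  subst huc'
  have hne : u * u ≠ u' * u' := by
    intro hne
    have hsq : u * u' * (u * u') = 1 := by
      calc u * u' * (u * u') = u * (u' * u) * u' := by group
        _ = (u * u) * (u' * u') := by rw [← huu']; group
        _ = 1 := by rw [← hne]; exact hcN.2.1
    have hW := inW (u * u') hsq (by rw [mul_smul, hux', hux]) (by rw [mul_smul, huy', huy])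
      (by rw [← mul_assoc, hu1, mul_assoc, hu1', mul_assoc])
      (by rw [← mul_assoc, hu2, mul_assoc, hu2', mul_assoc])
    exact hcN'.1 (fin (C.sq a' haD') ha3' (comm_inW ha1' ha2' hW) hau')
  -- step (3)
  have haW' : ¬ InW z1 z2 a' := by
    intro hW
    have : a' • y = y := by
      rcases hW with rfl | rfl | rfl | rfl
      · exact one_smul G y
      · exact h1y
      · exact h2y
      · rw [mul_smul, h2y, h1y]
    exact hxy (C.one a' haD' x y hax' this)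
  obtain ⟨⟨a3, hax3, haD3, ha13, ha23, ha33, ha43⟩, -⟩ := (C.lf x).gc z1 h1x h1 z2 h2x h2 h12 hc u
    hux hu1.symm hu2.symm hcN.1 hcW u' hux' hu1'.symm hu2'.symm hcN'.1 hcW' huu'.symm hne a' hax'
    (C.ne a' haD') (C.sq a' haD') haW' ha1' ha2' ha3' hau'
  obtain ⟨-, b3, hby3, hb3, hbW3, hb13, hb23, hb33, hb43⟩ := (C.lf y).gc z1 h1y h1 z2 h2y h2 h12 hc
    u huy hu1.symm hu2.symm hcN.1 hcW u' huy' hu1'.symm hu2'.symm hcN'.1 hcW' huu'.symm hne b' hby'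
    hb'.1 hb'.2.1 hbW' hb1' hb2' hb3' hbu'
  obtain ⟨c3, u3, hcN3, hcx3, hcy3, hcZ3, -, huc3, hau3, -, huZ3, hux3, huy3⟩ :=
    C.dih hxy {z1, z2, u, u'} haD3 hax3 hb3 hby3
    (by rintro z (rfl | rfl | rfl | rfl); exacts [ha13.symm, ha23.symm, ha33.symm, ha43.symm])
    (by rintro z (rfl | rfl | rfl | rfl); exacts [hb13.symm, hb23.symm, hb33.symm, hb43.symm])
    (by rintro z (rfl | rfl | rfl | rfl); exacts [h1x, h2x, hux, hux'])
    (by rintro z (rfl | rfl | rfl | rfl); exacts [h1y, h2y, huy, huy'])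
    (fun p hp hZ => uniq b3 hb3 hbW3 hb13 hb23 hby3 p hp (hZ z1 (Or.inl rfl))
      (hZ z2 (Or.inr (Or.inl rfl))))
  have hcW3 := inW c3 hcN3.2.1 hcx3 hcy3 (hcZ3 z1 (Or.inl rfl)) (hcZ3 z2 (Or.inr (Or.inl rfl)))
  have hu13 := huZ3 z1 (Or.inl rfl)
  have hu23 := huZ3 z2 (Or.inr (Or.inl rfl))
  have huu3 := huZ3 u (Or.inr (Or.inr (Or.inl rfl)))
  have huu3' := huZ3 u' (Or.inr (Or.inr (Or.inr rfl)))
  subst huc3
  -- a general contradiction
  have key : ∀ r : G, r • x = x → r • y = y → z1 * r = r * z1 → z2 * r = r * z2 → a3 * r = r * a3 →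
      r * u3 = u3 * r → r * r = u3 * u3 → False := by
    intro r hrx hry hr1 hr2 har hru hrr
    have hsq : r * u3 * (r * u3) = 1 := by
      calc r * u3 * (r * u3) = r * (u3 * r) * u3 := by group
        _ = (r * r) * (u3 * u3) := by rw [← hru]; group
        _ = 1 := by rw [hrr]; exact hcN3.2.1
    have hW := inW (r * u3) hsq (by rw [mul_smul, hux3, hrx]) (by rw [mul_smul, huy3, hry])
      (by rw [← mul_assoc, hr1, mul_assoc, hu13, mul_assoc])
      (by rw [← mul_assoc, hr2, mul_assoc, hu23, mul_assoc])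
    exact hcN3.1 (fin (C.sq a3 haD3) har (comm_inW ha13 ha23 hW) hau3)
  rcases inW_of_inW h1.2.1 h2.2.1 hc hcW hcW' hcN.1 hcN'.1 hne hcW3 with h | h | h | h
  · exact hcN3.1 h
  · exact key u hux huy hu1 hu2 ha33 huu3 h.symm
  · exact key u' hux' huy' hu1' hu2' ha43 huu3' h.symm
  · apply key (u * u') (by rw [mul_smul, hux', hux]) (by rw [mul_smul, huy', huy])
      (by rw [← mul_assoc, hu1, mul_assoc, hu1', mul_assoc])
      (by rw [← mul_assoc, hu2, mul_assoc, hu2', mul_assoc])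
      (by rw [← mul_assoc, ha33, mul_assoc, ha43, mul_assoc])
      (by rw [mul_assoc, huu3', ← mul_assoc, huu3, mul_assoc])
    rw [h]
    calc u * u' * (u * u') = u * (u' * u) * u' := by group
      _ = u * u * (u' * u') := by rw [← huu']; group

theorem Ctx.step1 [Finite G] (C : Ctx D Ω) {z : G} (hz : Non D z) {x y : Ω} (hzx : z • x = x)
    (hzy : z • y = y) : x = y := by
  by_contra hxy
  -- involutions fixing both points and commuting with `z`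
  have eqz : ∀ c : G, c * c = 1 → c • x = x → c • y = y → z * c = c * z → c = 1 ∨ c = z := by
    intro c hc2 hcx hcy hzc
    by_contra hno
    push Not at hno
    have hcD : c ∉ D := fun h => hxy (C.one c h x y hcx hcy)
    exact hxy (C.step2 hz ⟨hno.1, hc2, hcD⟩ (Ne.symm hno.2) hzc hzx hcx hzy hcy)
  have uniq : ∀ b : G, Non D b → b ≠ z → b * z = z * b → b • y = y →
      ∀ p : Ω, b • p = p → z • p = p → p = y := by
    intro b hb hbz hbc hby p hp hzp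
    exact C.step2 hb hz hbz hbc hp hzp hby hzy
  obtain ⟨a, hax, haD, haz⟩ := (C.lf x).g1a z hzx hz
  obtain ⟨b, hby, hb, hbz, hbc⟩ := (C.lf y).g1b z hzy hz
  obtain ⟨c, u, hcN, hcx, hcy, hcZ, -, huc, -, -, huZ, hux, huy⟩ := C.dih hxy {z} haD hax hb hby
    (by rintro z' rfl; exact haz.symm) (by rintro z' rfl; exact hbc.symm)
    (by rintro z' rfl; exact hzx) (by rintro z' rfl; exact hzy)
    (fun p hp hZ => uniq b hb hbz hbc hby p hp (hZ z rfl))
  have hcz : c = z := (eqz c hcN.2.1 hcx hcy (hcZ z rfl)).resolve_left hcN.1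
  subst huc
  have hu1 : u * u ≠ 1 := hcN.1
  have hu4 : u * u * (u * u) = 1 := hcN.2.1
  obtain ⟨⟨a', hax', haD', hau'⟩, -⟩ := (C.lf x).fd u hux hu1 hu4
  obtain ⟨-, b', hby', hb', hbu', hbc'⟩ := (C.lf y).fd u huy hu1 hu4
  have haz' : a' * z = z * a' := by
    rw [← hcz, ← mul_assoc, hau', mul_assoc, hau', mul_assoc]
  have hbz' : b' * z = z * b' := by
    rw [← hcz, ← mul_assoc, hbc', mul_assoc, hbc', mul_assoc]
  obtain ⟨c', u', hcN', hcx', hcy', hcZ', -, huc', hau2, hbu2, huZ', hux', huy'⟩ :=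
    C.dih hxy {z, u} haD' hax' hb' hby'
    (by rintro z' (rfl | rfl); exacts [haz'.symm, hau'.symm])
    (by rintro z' (rfl | rfl); exacts [hbz'.symm, hbc'.symm])
    (by rintro z' (rfl | rfl); exacts [hzx, hux]) (by rintro z' (rfl | rfl); exacts [hzy, huy])
    (fun p hp hZ => uniq b' hb' (fun h => hbu' (by rw [h, hcz])) hbz' hby' p hp
      (hZ z (Or.inl rfl)))
  have hcz' : c' = z := (eqz c' hcN'.2.1 hcx' hcy' (hcZ' z (Or.inl rfl))).resolve_left hcN'.1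
  subst huc'
  have huu : u * u' = u' * u := huZ' u (Or.inr rfl)
  have hsq : u * u' * (u * u') = 1 := by
    calc u * u' * (u * u') = u * (u' * u) * u' := by group
      _ = (u * u) * (u' * u') := by rw [← huu]; group
      _ = 1 := by rw [hcz, hcz']; exact hz.2.1
  have hzu : z * (u * u') = u * u' * z := by
    rw [← mul_assoc, huZ z rfl, mul_assoc, huZ' z (Or.inl rfl), mul_assoc]
  have hW := eqz (u * u') hsq (by rw [mul_smul, hux', hux]) (by rw [mul_smul, huy', huy]) hzu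
  refine hcN'.1 (fin (C.sq a' haD') hau' ?_ hau2)
  rcases hW with h | h
  · rw [h, mul_one, one_mul]
  · rw [h]; exact haz'

/-- **Steps 2, 1, 0**: the set `Ω` has at most one element. -/
theorem Ctx.step0 [Finite G] (C : Ctx D Ω) (x y : Ω) : x = y := by
  by_contra hxy
  obtain ⟨a, hax, haD⟩ := (C.lf x).g0a
  obtain ⟨b, hby, hb⟩ := (C.lf y).g0b
  obtain ⟨c, u, hcN, hcx, hcy, -⟩ := C.dih hxy ∅ haD hax hb hby
    (by rintro z ⟨⟩) (by rintro z ⟨⟩) (by rintro z ⟨⟩) (by rintro z ⟨⟩)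
    (fun p hp _ => C.step1 hb hp hby)
  exact hxy (C.step1 hcN hcx hcy)

end steps

end Cfsg.Agent.CoThreeStd.CloseLF
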