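import Cfsg.Agent.CoThreeStd.ColRData

set_option autoImplicit false
set_option maxRecDepth 100000

namespace Cfsg.Agent.CoThreeStd.ColRChk0

open Cfsg.Agent.SporadicRecognition.CosetCert Cfsg.Agent.Lib.CosetPartial Cfsg.Agent.CoThreeStd.ColRData

theorem c0 : PartP C 0 21 := runP_sound C (by decide +kernel : runP C 8 255 0x10002030000000000000000009300010000000000000200000000006301000153000000000000020001000200000000000000010200000000000043020000830000000000010023010200000000000000007302000100000000000201020000000000000001330000000000000202000103000000000000020000000000000001000200000000000000000101000002000000000002000202130001000000000000000100020000000001000002000200000000000200000001000000000000020100020000000000000202000000000202 1 1 0 0 21 = true)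

theorem all : PartP C 0 21 := c0

end Cfsg.Agent.CoThreeStd.ColRChk0
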