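import Cfsg.Agent.Lib.CosetPartial

set_option autoImplicit false
set_option maxRecDepth 100000

namespace Cfsg.Agent.CoThreeStd.ColRData

open Cfsg.Agent.SporadicRecognition.CosetCert

noncomputable def tree : Tr := (.N 16 (.L 0xfffffe244abffffffffffffffffea947ff85dffffff11fffffffffffffef1c3fffff81ee1b7affffffffffffffffefffffffffd2ad9bffb04fffffffffff4ffffff3aa825d5ffffffffffffffffbfffffe986487ffffffffffffffff6ce3ffd32ffe885667fffffffffffffffefffe78fffffffffffffffffffcf0fff1fff1c3fffffffffffffffffffffcd087ff2cdffffff74fffffffffffffefbe7fffff30eeb9a6fff24bffffffffffe9ffffffffffe393ff946fffffffffff6ffe28ffffff20bffd96fffffffffffcfffffe313fffffffe18bffffffffffd3fffffffeab010fff107ffffffffffedffffffff49410bffffffffffd049c8f) (.L 0x1fff267ffd5bb3bffffffffffffffff9fffffffffffe8ffff15fffffffffffa7fffffffef97fffffffffffffc2362c3fffffa1574fffffffffffffffffae11fffffcc9fffcbfffffffffffffffff8))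

noncomputable def wtree : WT := (.N 5 (.N 2 (.N 1 (.L 6 [7,6,7]) (.L 6 [4,6,4])) (.N 3 (.L 8 [7,8,0]) (.N 4 (.L 7 [8,0,9]) (.L 0 [8,0,7,9])))) (.N 7 (.N 6 (.L 7 [0,7,0]) (.L 1 [7,8,7,1,9])) (.N 8 (.L 7 [4,9,4,7,8]) (.N 9 (.L 6 [9,6,9,6,7,1,9]) (.L 6 [4,0,1,6,0])))))

noncomputable def stree : ST := (.L 10 [] [])

noncomputable def C : Cert where
  data := tree
  lm := 15
  rb := 125
  fb := 11
  mask := 2047
  B := 32
  k := 10
  N := 21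
  inv := fun x => bif Nat.beq x 0 then 0 else bif Nat.beq x 1 then 1 else bif Nat.beq x 2 then 2 else bif Nat.beq x 3 then 3 else bif Nat.beq x 4 then 4 else bif Nat.beq x 5 then 5 else bif Nat.beq x 6 then 6 else bif Nat.beq x 7 then 7 else bif Nat.beq x 8 then 9 else bif Nat.beq x 9 then 8 else x
  words := wtree
  subs := stree

/-- letters: 0 = x, 1 = p, 2 = q, 3 = r, 4 = s, 5 = b, 6 = e, 7 = t, 8 = d, 9 = D -/
def rels : List (List Nat) := [[8,8,8], [6,1,6,1], [6,4,6,4], [1,3,1,3], [1,4,1,4], [1,0,1,0], [2,4,2,4], [2,0,2,0], [3,0,3,0], [4,0,4,0], [7,0,7,0], [7,1,7,1], [7,2,7,2], [7,3,7,3], [7,4,7,4], [7,5,7,5], [7,6,7,6], [9,7,8,0], [9,0,8,0,7], [5,2,5,2,5,2], [5,3,5,3,5,3], [6,1,6,3,1,3], [6,1,4,0,6,0], [6,1,0,6,4,0], [6,1,0,6,0,4], [6,1,0,4,6,0], [6,2,4,2,6,4], [6,4,1,0,6,0], [1,2,1,2,1,2], [2,3,2,3,2,3], [3,4,3,4,3,4], [9,7,1,8,1,7], [9,7,2,8,2,7], [9,7,3,8,3,7],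 [9,7,4,8,4,7], [6,8,6,8,6,8,1,7], [5,1,2,5,1,2,5,1,2], [5,3,4,5,3,4,5,3,4], [6,0,5,0,2,3,2,5,0], [5,1,3,5,2,4,5,1,3,5,2,4], [5,1,4,0,5,4,1,0,5,0,1,4], [5,1,0,5,2,0,5,1,0,5,0,2]]

def subw : List (List Nat) := []

/-- targets:  (esd)^3 -/
def targets : List (List Nat) := [[6,4,8,6,4,8,6,4,8]]

end Cfsg.Agent.CoThreeStd.ColRData
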