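import Cfsg.Agent.CoThreeStd.RelMain
import Cfsg.Agent.CoThreeStd.Col

/-!
# S1750, the case `(ed)³ = 1` does not occur

The relators of part [B] together with `(ed)³ = 1` imply that `d e d⁻¹` centralises `t` (certificate `Col`), so `e`
centralises `t^d = x`.
-/

set_option autoImplicit false

namespace Cfsg.Agent.CoThreeStd.Collapse

open Cfsg Cfsg.Agent.CoThreeStd.RelMain Cfsg.Agent.CoThreeStd.MTwelve
  Cfsg.Agent.SporadicRecognition.CosetCert

/-- The letters `x p q r s b e t d d⁻¹` of the certificate as words in the letters `t x s₁ s₂ s₃ s₄ e d`. -/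
def sw : ℕ → List (Fin 8)
  | 0 => [1]
  | 1 => [2]
  | 2 => [3]
  | 3 => [4]
  | 4 => [5]
  | 5 => [3, 4, 5, 6, 4, 3, 6, 3, 4, 5, 6, 4, 3]
  | 6 => [6]
  | 7 => [0]
  | 8 => [7]
  | 9 => [7, 7]
  | _ => []

variable {G : Type*} [Group G]

/-- The letters of the certificate. -/
def gl (h : Fin 8 → G) (k : ℕ) : G := ((sw k).map h).prod

theorem ev_gl (h : Fin 8 → G) (r : List ℕ) : ev (gl h) r = ((r.flatMap sw).map h).prod := by
  induction r with
  | nil => rfl
  | cons k r ih => rw [ev_cons, ih, List.flatMap_cons, List.map_append, List.prod_append]; rfl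

/-- The relators of the certificate are relators of [B]. -/
theorem rels_ok : ColData.rels.all (fun r => okR (r.flatMap sw) || (r.flatMap sw == [6, 7, 6, 7, 6, 7])) = true := by
  decide +kernel

theorem inv_ok : (List.range 10).all (fun k => okR (sw k ++ sw (ColData.C.inv k))) = true := by decide +kernel

theorem sub_ok : ColData.subw.all (fun r => (r.flatMap sw).all fun k => !(k == 7)) = true := by decide +kernel

variable {t g0 : G} {ι : H →* G} {h : Fin 8 → G}

theorem comm_of_mem (c : Fusion.Ctx t ι) (ho : Out t ι g0 h) {k : Fin 8} (hk : k ≠ 7) : t * h k = h k * t := by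
  by_cases h0 : k = 0
  · subst h0; rw [ho.zero]
  · obtain ⟨s, -, hs⟩ := ho.sub
    rw [hs k h0 hk, c.comm]

theorem false_of_cube (c : Fusion.Ctx t ι) (ho : Out t ι g0 h)
    (hcube : ([6, 7, 6, 7, 6, 7].map h).prod = 1) : False := by
  have hrel : ∀ r ∈ ColData.rels, ev (gl h) r = 1 := by
    intro r hr
    have h1 := List.all_eq_true.1 rels_ok r hr
    rw [ev_gl]
    rw [Bool.or_eq_true] at h1
    rcases h1 with h1 | h1
    · exact ho.rel _ h1
    · rw [beq_iff_eq] at h1
      rw [h1]; exact hcube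
  have hinv : ∀ x, x < 10 → gl h x * gl h (ColData.C.inv x) = 1 := by
    intro x hx
    have h1 := List.all_eq_true.1 inv_ok x (List.mem_range.2 hx)
    have h2 := ho.rel _ h1
    rwa [List.map_append, List.prod_append] at h2
  have hsub : ∀ r ∈ ColData.subw, ev (gl h) r ∈ Subgroup.centralizer ({t} : Set G) := by
    intro r hr
    have h1 := List.all_eq_true.1 sub_ok r hr
    rw [ev_gl, Subgroup.mem_centralizer_singleton_iff]
    revert h1
    generalize r.flatMap sw = w
    intro h1
    induction w with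
    | nil => simp
    | cons k w ih =>
      rw [List.all_cons, Bool.and_eq_true] at h1
      have hk : k ≠ 7 := by simpa using h1.1
      rw [List.map_cons, List.prod_cons, mul_assoc, ih h1.2, ← mul_assoc, ← comm_of_mem c ho hk, mul_assoc]
  have hmem := Col.mem (Subgroup.centralizer ({t} : Set G)) (gl h) hinv hrel hsub [8, 6, 9]
    (by unfold ColData.targets; simp)
  have hd : h 7 * (h 7 * h 7) = 1 := by
    have := ho.rel [7, 7, 7] (by decide +kernel)
    simpa using this
  have hx : h 7 * (h 7 * (h 0 * (h 7 * h 1))) = 1 := by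
    have := ho.rel [7, 7, 0, 7, 1] (by decide +kernel)
    simpa using this
  have hxx : h 1 * h 1 = 1 := by
    have := ho.rel [1, 1] (by decide +kernel)
    simpa using this
  have he : ev (gl h) [8, 6, 9] = h 7 * h 6 * (h 7 * h 7) := by
    simp [ev, gl, sw, mul_assoc]
  have h77 : h 7 * h 7 = (h 7)⁻¹ := by
    rw [eq_inv_iff_mul_eq_one, mul_assoc]; exact hd
  rw [he, Subgroup.mem_centralizer_singleton_iff, h77, ← ho.zero] at hmem
  have hx1 : h 1 = (h 7)⁻¹ * h 0 * h 7 := by
    have h1 : (h 7)⁻¹ * (h 0 * (h 7 * h 1)) = 1 := by rw [← h77, mul_assoc]; exact hx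
    have h2 : ((h 7)⁻¹ * h 0 * h 7) * h 1 = 1 := by rw [← h1]; group
    rw [← inv_eq_of_mul_eq_one_left h2]
    exact (inv_eq_of_mul_eq_one_left hxx).symm
  have hcomm : h 6 * h 1 = h 1 * h 6 := by
    rw [hx1]
    calc h 6 * ((h 7)⁻¹ * h 0 * h 7) = (h 7)⁻¹ * (h 7 * h 6 * (h 7)⁻¹ * h 0) * h 7 := by group
      _ = (h 7)⁻¹ * (h 0 * (h 7 * h 6 * (h 7)⁻¹)) * h 7 := by rw [hmem]
      _ = _ := by group
  obtain ⟨s, hs, hsk⟩ := ho.sub
  rw [hsk 6 (by decide) (by decide), hsk 1 (by decide) (by decide), ← map_mul, ← map_mul, ← wd_append,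
    ← wd_append] at hcomm
  have h1 := c.inj hcomm
  rcases hs with rfl | rfl
  · revert h1
    exact wd_ne 4 (by norm_num) (by decide +kernel)
  · revert h1
    exact wd_ne 4 (by norm_num) (by decide +kernel)

theorem alt_of (c : Fusion.Ctx t ι) (ho : Out t ι g0 h) : ([6, 7, 6, 7, 6, 7, 2, 0].map h).prod = 1 := by
  rcases ho.alt with h1 | h1
  · exact (false_of_cube c ho h1).elim
  · exact h1

end Cfsg.Agent.CoThreeStd.Collapse
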