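import Cfsg.Agent.CoThreeStd.Collapse
import Cfsg.Agent.CoThreeStd.ColK
import Cfsg.Agent.CoThreeStd.ColR

/-!
# S1750, the case `(dρ)³ = x s₄` does not occur

`ρ = q b x b s r b x b p` (letters of `Collapse.sw`). The relators of part [B] together with `(d ρ s)³ = 1` imply that
`d e d⁻¹` centralises `t` (certificate `ColK`), so `e` centralises `t^d = x`. Also `(e s d)³ = 1`.
-/

set_option autoImplicit false

namespace Cfsg.Agent.CoThreeStd.CollapseK

open Cfsg Cfsg.Agent.CoThreeStd.RelMain Cfsg.Agent.CoThreeStd.MTwelve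
  Cfsg.Agent.SporadicRecognition.CosetCert Cfsg.Agent.CoThreeStd.Collapse

variable {G : Type*} [Group G]

/-- The word of `ρ` in the letters `t x s₁ s₂ s₃ s₄ e d`. -/
def rhoW : List (Fin 8) := [2, 5, 0, 5, 4, 3, 5, 0, 5, 1].flatMap sw

theorem rels_ok : ColKData.rels.all (fun r => okR (r.flatMap sw) || (r.flatMap sw == [6, 7, 6, 7, 6, 7, 2, 0]) ||
    (r.flatMap sw == (7 :: rhoW ++ [5]) ++ ((7 :: rhoW ++ [5]) ++ (7 :: rhoW ++ [5])))) = true := by
  decide +kernel

theorem inv_ok : (List.range 10).all (fun k => okR (sw k ++ sw (ColKData.C.inv k))) = true := by decide +kernel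

theorem sub_ok : ColKData.subw.all (fun r => (r.flatMap sw).all fun k => !(k == 7)) = true := by decide +kernel

variable {t g0 : G} {ι : H →* G} {h : Fin 8 → G}

/-- `d e d⁻¹` does not centralise `t`. -/
theorem false_of_mem (c : Fusion.Ctx t ι) (ho : Out t ι g0 h)
    (hmem : ev (gl h) [8, 6, 9] ∈ Subgroup.centralizer ({t} : Set G)) : False := by
  have hd : h 7 * (h 7 * h 7) = 1 := by
    have := ho.rel [7, 7, 7] (by decide +kernel)
    simpa using this
  have hx : h 7 * (h 7 * (h 0 * (h 7 * h 1))) = 1 := by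
    have := ho.rel [7, 7, 0, 7, 1] (by decide +kernel)
    simpa using this
  have hxx : h 1 * h 1 = 1 := by
    have := ho.rel [1, 1] (by decide +kernel)
    simpa using this
  have he : ev (gl h) [8, 6, 9] = h 7 * h 6 * (h 7 * h 7) := by
    simp [ev, gl, sw, mul_assoc]
  have h77 : h 7 * h 7 = (h 7)⁻¹ := by
    rw [eq_inv_iff_mul_eq_one, mul_assoc]; exact hd
  rw [he, Subgroup.mem_centralizer_singleton_iff, h77, ← ho.zero] at hmem
  have hx1 : h 1 = (h 7)⁻¹ * h 0 * h 7 := by
    have h1 : (h 7)⁻¹ * (h 0 * (h 7 * h 1)) = 1 := by rw [← h77, mul_assoc]; exact hx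
    have h2 : ((h 7)⁻¹ * h 0 * h 7) * h 1 = 1 := by rw [← h1]; group
    rw [← inv_eq_of_mul_eq_one_left h2]
    exact (inv_eq_of_mul_eq_one_left hxx).symm
  have hcomm : h 6 * h 1 = h 1 * h 6 := by
    rw [hx1]
    calc h 6 * ((h 7)⁻¹ * h 0 * h 7) = (h 7)⁻¹ * (h 7 * h 6 * (h 7)⁻¹ * h 0) * h 7 := by group
      _ = (h 7)⁻¹ * (h 0 * (h 7 * h 6 * (h 7)⁻¹)) * h 7 := by rw [hmem]
      _ = _ := by group
  obtain ⟨s, hs, hsk⟩ := ho.sub
  rw [hsk 6 (by decide) (by decide), hsk 1 (by decide) (by decide), ← map_mul, ← map_mul, ← wd_append,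
    ← wd_append] at hcomm
  have h1 := c.inj hcomm
  rcases hs with rfl | rfl
  · revert h1
    exact wd_ne 4 (by norm_num) (by decide +kernel)
  · revert h1
    exact wd_ne 4 (by norm_num) (by decide +kernel)

/-- `(d ρ s)³ = 1` is impossible. -/
theorem false_of_k (c : Fusion.Ctx t ι) (ho : Out t ι g0 h)
    (hk : (h 7 * (rhoW.map h).prod * h 5) ^ 3 = 1) : False := by
  have h3 : (((7 :: rhoW ++ [5]) ++ ((7 :: rhoW ++ [5]) ++ (7 :: rhoW ++ [5]))).map h).prod = 1 := by
    have h4 : ((7 :: rhoW ++ [5]).map h).prod = h 7 * (rhoW.map h).prod * h 5 := by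
      simp [List.prod_append, mul_assoc]
    generalize (7 :: rhoW ++ [5] : List (Fin 8)) = w at h4
    rw [List.map_append, List.prod_append, List.map_append, List.prod_append, h4, ← hk]
    simp only [pow_succ, pow_zero, one_mul, mul_assoc]
  have hrel : ∀ r ∈ ColKData.rels, ev (gl h) r = 1 := by
    intro r hr
    have h1 := List.all_eq_true.1 rels_ok r hr
    rw [ev_gl]
    rw [Bool.or_eq_true, Bool.or_eq_true] at h1
    rcases h1 with (h1 | h1) | h1
    · exact ho.rel _ h1
    · rw [beq_iff_eq] at h1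
      rw [h1]; exact alt_of c ho
    · rw [beq_iff_eq] at h1
      rw [h1]; exact h3
  have hinv : ∀ x, x < 10 → gl h x * gl h (ColKData.C.inv x) = 1 := by
    intro x hx
    have h1 := List.all_eq_true.1 inv_ok x (List.mem_range.2 hx)
    have h2 := ho.rel _ h1
    rwa [List.map_append, List.prod_append] at h2
  have hsub : ∀ r ∈ ColKData.subw, ev (gl h) r ∈ Subgroup.centralizer ({t} : Set G) := by
    intro r hr
    have h1 := List.all_eq_true.1 sub_ok r hr
    rw [ev_gl, Subgroup.mem_centralizer_singleton_iff]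
    revert h1
    generalize r.flatMap sw = w
    intro h1
    induction w with
    | nil => simp
    | cons k w ih =>
      rw [List.all_cons, Bool.and_eq_true] at h1
      have hk : k ≠ 7 := by simpa using h1.1
      rw [List.map_cons, List.prod_cons, mul_assoc, ih h1.2, ← mul_assoc, ← comm_of_mem c ho hk, mul_assoc]
  exact false_of_mem c ho (ColK.mem (Subgroup.centralizer ({t} : Set G)) (gl h) hinv hrel hsub [8, 6, 9]
    (by unfold ColKData.targets; simp))

theorem relsR_ok : ColRData.rels.all (fun r => okR (r.flatMap sw) || (r.flatMap sw == [6, 7, 6, 7, 6, 7, 2, 0])) =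
    true := by decide +kernel

theorem invR_ok : (List.range 10).all (fun k => okR (sw k ++ sw (ColRData.C.inv k))) = true := by decide +kernel

/-- The relation `(e s d)³ = 1` (R1 of the final list). -/
theorem r1 (c : Fusion.Ctx t ι) (ho : Out t ι g0 h) : ([6, 5, 7, 6, 5, 7, 6, 5, 7].map h).prod = 1 := by
  have hrel : ∀ r ∈ ColRData.rels, ev (gl h) r = 1 := by
    intro r hr
    have h1 := List.all_eq_true.1 relsR_ok r hr
    rw [ev_gl]
    rw [Bool.or_eq_true] at h1
    rcases h1 with h1 | h1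
    · exact ho.rel _ h1
    · rw [beq_iff_eq] at h1
      rw [h1]; exact alt_of c ho
  have hinv : ∀ x, x < 10 → gl h x * gl h (ColRData.C.inv x) = 1 := by
    intro x hx
    have h1 := List.all_eq_true.1 invR_ok x (List.mem_range.2 hx)
    have h2 := ho.rel _ h1
    rwa [List.map_append, List.prod_append] at h2
  have := ColR.eq_one (gl h) hinv hrel [6, 4, 8, 6, 4, 8, 6, 4, 8] (by unfold ColRData.targets; simp)
  rw [ev_gl] at this
  exact this

end Cfsg.Agent.CoThreeStd.CollapseK
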