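import Cfsg.Agent.CoThreeStd.PairBTwo

set_option autoImplicit false

/-!
The reduction: if two conjugates of `K` interact then the order of `K` is not divisible by four.
-/

namespace Cfsg.Agent.CoThreeStd.PairC

open Subgroup Cfsg.Agent.CoThreeStd.FactsDef Cfsg.Agent.CoThreeStd.Frame
open Cfsg.Agent.CoThreeStd.Frame.Fr Cfsg.Agent.CoThreeStd.Frame.Two Cfsg.Agent.CoThreeStd.PairAC
open Cfsg.Agent.CoThreeStd.Fam

variable {G S : Type*} [Group G] [Group S] {IsA IsB : S → Prop} {F : Fr G S}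

theorem all_C [Finite G] (hF : Facts IsA IsB) (hstd : StdF F) (h4 : 4 ∣ Nat.card F.K) {a b : G}
    (hab : a⁻¹ * b ∉ F.M) (hev : Ev (F.cg a) (F.cg b)) : ∃ c, CaseC (F.cg a) (F.cg b) c := by
  have h := two_of' hstd hab
  have h2 : 2 ∣ Nat.card (F.cg a).K := by
    rw [card_cg_K]; exact (by norm_num : 2 ∣ 4).trans h4
  have h4' : 4 ∣ Nat.card (F.cg a).K := by rw [card_cg_K]; exact h4
  have hev' : Ev (F.cg b) (F.cg a) := by
    obtain ⟨y, hy, hyM, hyy, hy1⟩ := hev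
    obtain ⟨k, hk, hkM, hkk, hk1, -⟩ := h.ev_symm h2 hy hyM hyy hy1
    exact ⟨k, hk, hkM, hkk, hk1⟩
  rcases h.cases hF hev with ⟨x, hA⟩ | ⟨x, hB⟩ | hC
  · exfalso
    rcases h.symm.cases hF hev' with ⟨x', hA'⟩ | ⟨x', hB'⟩ | ⟨c', hC'⟩
    · exact caseA_not_four hF h hA (CaseA.toAC hF hA') h4'
    · exact no_mixed hF h (CaseA.toAC hF hA) hB'
    · obtain ⟨a', hac', -⟩ := CaseC.toAC hF hC'
      exact caseA_not_four hF h hA hac' h4'
  · exfalso
    rcases h.symm.cases hF hev' with ⟨x', hA'⟩ | ⟨x', hB'⟩ | ⟨c', hC'⟩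
    · exact no_mixed hF h.symm (CaseA.toAC hF hA') hB
    · have e : F.cg b = (F.cg a).cg (b * a⁻¹) := by
        rw [cg_cg, inv_mul_cancel_right]
      rw [e] at h hB hB'
      exact PairBTwo.caseB_not_four hF (hstd.cg a) h hB hB' h4'
    · obtain ⟨a', hac', -⟩ := CaseC.toAC hF hC'
      exact no_mixed hF h.symm hac' hB
  · exact hC

/-- **The reduction.** -/
theorem not_four [Finite G] (hF : Facts IsA IsB) (hstd : StdF F) {g : G} (hg : g ∉ F.M)
    (hev : Ev F (F.cg g)) : ¬ 4 ∣ Nat.card F.K := by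
  intro h4
  have h2 : 2 ∣ Nat.card F.K := (by norm_num : 2 ∣ 4).trans h4
  have h := two_of hstd hg
  obtain ⟨c, hC⟩ : ∃ c, CaseC F (F.cg g) c := by
    have := all_C (a := 1) (b := g) hF hstd h4 (by rwa [inv_one, one_mul])
      (by rw [cg_one]; exact hev)
    rwa [cg_one] at this
  obtain ⟨y, hy, hyM, hyy, hy1⟩ := hev
  obtain ⟨k, hk, hkM, hkk, hk1, hky⟩ := h.ev_symm h2 hy hyM hyy hy1
  obtain ⟨c', hC'⟩ : ∃ c', CaseC (F.cg g) F c' := by
    have := all_C (a := g) (b := 1) hF hstd h4 (by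
      rw [mul_one]; intro hh; exact hg (by simpa using F.M.inv_mem hh))
      (by rw [cg_one]; exact ⟨k, hk, hkM, hkk, hk1⟩)
    rwa [cg_one] at this
  obtain ⟨a, hac, τ, hτa, hcτ⟩ := CaseC.toAC hF hC
  obtain ⟨a', hac', -⟩ := CaseC.toAC hF hC'
  obtain ⟨F', hF'⟩ : ∃ F', F' = F.cg g := ⟨_, rfl⟩
  rw [← hF'] at h hC hC' hy hkM hac hac'
  have haa := (hF.invA a hac.isA).1
  have ha1 := (hF.invA a hac.isA).2
  have hact_y : F.act y = c :=
    ((hC.eq _).1 ⟨y, hy, hyM, rfl⟩).resolve_left (h.act_ne hy hyM hyy hy1)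
  have hact_k : F'.act k = c' :=
    ((hC'.eq _).1 ⟨k, hk, hkM, rfl⟩).resolve_left (h.symm.act_ne hk hkM hkk hk1)
  have haM : F.ι a ∈ F'.M := hac.mema
  have hcja : MulAut.conj a ∉ Xb F F' := by
    intro hm
    rcases (hC.eq _).1 hm with e | e
    · exact ha1 (cj_inj hF (e.trans (map_one _).symm))
    · exact hC.out (by rw [← e]; exact conj_mem_inn a)
  -- the automorphism `ā`
  have hne1 : F'.act (F.ι a) ≠ 1 := by
    intro e
    apply hcja
    exact ⟨F.ι a, F'.mem_K_of_act haM e, F.mem a, F.act_ι a⟩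
  have hnec : F'.act (F.ι a) ≠ c' := by
    intro e
    apply hcja
    refine ⟨k * F.ι a, F'.mem_K_of_act (F'.M.mul_mem hkM haM) ?_, F.M.mul_mem (F.K_le hk) (F.mem a),
      ?_⟩
    · rw [F'.act_mul hkM haM, hact_k, e, hC'.cc]
    · rw [F.act_mul (F.K_le hk) (F.mem a), F.act_K hk, F.act_ι, one_mul]
  -- `y` commutes with `ι a`
  have hya : y * F.ι a = F.ι a * y := by
    rw [← F.comm_iff hyM, hact_y]
    exact (hC.H a).1 hac.mema
  -- conjugation of `y` by `ι τ`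
  have hyτ : (F.ι τ)⁻¹ * y * F.ι τ = F.ι a * y := by
    have h1 := F.conj y hyM τ
    rw [hact_y, hcτ, map_mul] at h1
    calc (F.ι τ)⁻¹ * y * F.ι τ = (F.ι τ)⁻¹ * (y * F.ι τ * y⁻¹) * y := by group
      _ = (F.ι τ)⁻¹ * (F.ι τ * F.ι a) * y := by rw [h1]
      _ = F.ι a * y := by group
  have hyF' : y ∈ F'.M := F'.K_le hy
  have hacty' : F'.act y = 1 := F'.act_K hy
  have hactay : F'.act (F.ι a * y) = F'.act (F.ι a) := by
    rw [F'.act_mul haM hyF', hacty', mul_one]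
  -- `ā` is outer
  have haout : F'.act (F.ι a) ∉ Inn S := by
    have hy2K : F.ι a * y ∈ (F.cg ((F.ι τ)⁻¹ * g)).K := by
      rw [mem_cg_K, ← hyτ]
      rw [hF', mem_cg_K] at hy
      rwa [show ((F.ι τ)⁻¹ * g)⁻¹ * ((F.ι τ)⁻¹ * y * F.ι τ) * ((F.ι τ)⁻¹ * g) = g⁻¹ * y * g by
        group]
    have hy2n : F.ι a * y ∉ (F.cg g).K := by
      rw [← hF']
      intro hm
      exact hne1 (by rw [← hactay]; exact F'.act_K hm)
    have hsq : F.ι a * y * (F.ι a * y) = 1 := by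
      rw [← hyτ]
      calc (F.ι τ)⁻¹ * y * F.ι τ * ((F.ι τ)⁻¹ * y * F.ι τ) = (F.ι τ)⁻¹ * (y * y) * F.ι τ := by
            group
        _ = 1 := by rw [hyy]; group
    have hne : F.ι a * y ≠ 1 := by
      intro e
      apply hy2n
      rw [e]
      exact one_mem _
    obtain ⟨c2, hC2⟩ := all_C hF hstd h4 (not_mem_of_K hy2K hy2n)
      ⟨_, hy2K, by rw [← hF']; exact F'.M.mul_mem haM hyF', hsq, hne⟩
    rw [← hF'] at hC2
    rcases (hC2.eq _).1 ⟨_, hy2K, F'.M.mul_mem haM hyF', hactay⟩ with e | e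
    · exact absurd e hne1
    · rw [e]; exact hC2.out
  -- conjugation of `k` to `k y`
  obtain ⟨r, hr, hrk⟩ := GrpAux.exists_conj_mul F'.K k y hkk
    (fun hm => hk1 (h.tight k hk hm hkk)) (fun x hx => F'.K_conj hkM hx)
    (by rw [hF', card_cg_K]; exact h4)
    (by
      intro hd
      refine not_four_of_two h.symm c (fun x hx hxM => (hC.eq _).1 ⟨x, hx, hxM, rfl⟩)
        (hd.trans (card_dvd_of_le ?_))
      intro x hx
      exact mem_inf.2 ⟨(mem_inf.1 hx).1, h.cent k hk hkk hk1 x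
        (mem_centralizer_singleton_iff.1 (mem_inf.1 hx).2)⟩)
    hy hyy hy1 hky.symm
  -- the element `y3 = k ι a y`
  have hkyM : k * (F.ι a * y) ∈ F'.M := F'.M.mul_mem hkM (F'.M.mul_mem haM hyF')
  have hact3 : F'.act (k * (F.ι a * y)) = c' * F'.act (F.ι a) := by
    rw [F'.act_mul hkM (F'.M.mul_mem haM hyF'), hact_k, hactay]
  have hact3ne : F'.act (k * (F.ι a * y)) ≠ 1 := by
    rw [hact3]
    intro e
    apply hnec
    have h1 : F'.act (F.ι a) = c' * (c' * F'.act (F.ι a)) := by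
      rw [← mul_assoc, hC'.cc, one_mul]
    rw [h1, e, mul_one]
  have hy3 : ((F.ι τ)⁻¹ * r)⁻¹ * (k * (F.ι a * y)) * ((F.ι τ)⁻¹ * r) = k := by
    have h1 : k * (F.ι a * y) = (F.ι τ)⁻¹ * (k * y) * F.ι τ := by
      rw [← hyτ]
      have h2 : k * (F.ι τ)⁻¹ = (F.ι τ)⁻¹ * k := by
        have := hk τ⁻¹
        rwa [map_inv] at this
      calc k * ((F.ι τ)⁻¹ * y * F.ι τ) = (k * (F.ι τ)⁻¹) * y * F.ι τ := by group
        _ = (F.ι τ)⁻¹ * k * y * F.ι τ := by rw [h2]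
        _ = _ := by group
    rw [h1, ← hrk]
    group
  have hy3K : k * (F.ι a * y) ∈ (F.cg ((F.ι τ)⁻¹ * r)).K := by
    rw [mem_cg_K, hy3]
    exact hk
  have hy3n : k * (F.ι a * y) ∉ (F.cg g).K := by
    rw [← hF']
    intro hm
    exact hact3ne (F'.act_K hm)
  obtain ⟨d, hd⟩ : ∃ d, d = (F.ι τ)⁻¹ * r := ⟨_, rfl⟩
  rw [← hd] at hy3 hy3K
  have hy3' : k * (F.ι a * y) = d * k * d⁻¹ := by
    nth_rewrite 2 [← hy3]
    group
  have hsq3 : k * (F.ι a * y) * (k * (F.ι a * y)) = 1 := by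
    rw [hy3']
    calc d * k * d⁻¹ * (d * k * d⁻¹) = d * (k * k) * d⁻¹ := by group
      _ = 1 := by rw [hkk]; group
  have hne3 : k * (F.ι a * y) ≠ 1 := by
    intro e
    apply hy3n
    rw [e]
    exact one_mem _
  obtain ⟨c3, hC3⟩ := all_C hF hstd h4 (not_mem_of_K hy3K hy3n)
    ⟨_, hy3K, by rw [← hF']; exact hkyM, hsq3, hne3⟩
  rw [← hF'] at hC3
  rcases (hC3.eq _).1 ⟨_, hy3K, hkyM, rfl⟩ with e | e
  · exact hact3ne e
  · apply hC3.out
    rw [← e, hact3]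
    exact hF.out _ _ hC'.out haout

end Cfsg.Agent.CoThreeStd.PairC
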