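import Cfsg.Agent.CoThreeStd.StdFrame
import Cfsg.Agent.CoThreeStd.PairC
import Cfsg.Agent.StdAlt.First

set_option autoImplicit false

/-!
The reduction of S1750: `|C_G(L)|` is not divisible by 4.
-/

namespace Cfsg.Agent.CoThreeStd.Red

open Subgroup Cfsg.Agent.CoThreeStd.FactsDef Cfsg.Agent.CoThreeStd.Frame
open Cfsg.Agent.CoThreeStd.Frame.Fr Cfsg.Agent.CoThreeStd.Fam Cfsg.Agent.CoThreeStd.StdFrame

universe u

variable {G : Type u} {S : Type*} [Group G] [Group S]

/-- A standard simple subgroup of a simple group has an even pair. -/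
theorem even_pair [Finite G] [IsSimpleGroup G] (hcomm : StdAlt.First.CommHalf G) {L : Subgroup G} (hL : Cfsg.IsStandardSubgroup L)
    (hs : IsSimpleGroup L) {s : G} (hsL : s ∈ L) (hs1 : s ≠ 1) (hss : s * s = 1) :
    ∃ g, g ∉ normalizer (L : Set G) ∧ ∃ y ∈ normalizer (L : Set G),
      g⁻¹ * y * g ∈ centralizer (L : Set G) ∧ y ≠ 1 ∧ y * y = 1 := by
  have hte := StdAlt.Conj.TE.of_standard hL hs
  have h2 : 2 ∣ Nat.card (centralizer (L : Set G)) := even_iff_two_dvd.1 hL.2.1.1
  obtain ⟨t, ht⟩ := exists_prime_orderOf_dvd_card' 2 h2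
  have ht' : orderOf (t : G) = 2 := by rw [orderOf_coe]; exact ht
  have ht1 : (t : G) ≠ 1 := by
    intro e
    rw [e, orderOf_one] at ht'
    exact absurd ht' (by norm_num)
  have htt : (t : G) * t = 1 := by rw [← sq, ← ht']; exact pow_orderOf_eq_one _
  by_contra hcon
  push Not at hcon
  have hno : StdAlt.First.NoEven L := by
    intro r hr hr1 hrr g hg
    by_contra hgM
    refine hcon g hgM _ hg ?_ ?_ ?_
    · rw [show g⁻¹ * (g * r * g⁻¹) * g = r by group]
      exact hr
    · intro h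
      apply hr1
      rw [show r = g⁻¹ * (g * r * g⁻¹) * g by group, h]; group
    · rw [show g * r * g⁻¹ * (g * r * g⁻¹) = g * (r * r) * g⁻¹ by group, hrr]; group
  have hn : L.Normal := StdAlt.First.normal_of_noEven hte hs hcomm hno hsL hs1 hss t.2 ht1 htt
  rcases hn.eq_bot_or_eq_top with h | h
  · rw [h, mem_bot] at hsL
    exact hs1 hsL
  · apply ht1
    have htL : (t : G) ∈ L := (SetLike.ext_iff.1 h (t : G)).2 trivial
    exact hte.disj _ htL t.2

variable {IsA IsB : S → Prop}

/-- **The reduction**: the centraliser of `L` has Sylow 2-subgroups of order 2. -/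
theorem not_four [Finite G] [IsSimpleGroup G] (hcomm : StdAlt.First.CommHalf G) {L : Subgroup G} (hL : Cfsg.IsStandardSubgroup L)
    (e : L ≃* S) (hF : Facts IsA IsB) {s : S} (hs1 : s ≠ 1) (hss : s * s = 1) :
    ¬ 4 ∣ Nat.card (centralizer (L : Set G)) := by
  have hsL : IsSimpleGroup L := (MulEquiv.isSimpleGroup_congr e).2 hF.simple
  have hs' : (e.symm s : G) ≠ 1 := by
    intro h
    apply hs1
    rw [← e.apply_symm_apply s, show e.symm s = 1 from Subtype.ext h, map_one]
  have hss' : (e.symm s : G) * e.symm s = 1 := by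
    rw [← coe_mul, ← map_mul, hss, map_one, coe_one]
  obtain ⟨g, hg, y, hy, hyK, hy1, hyy⟩ := even_pair hcomm hL hsL (e.symm s).2 hs' hss'
  have hstd := stdF e hL hF.simple
  have h := PairC.not_four hF hstd (g := g) hg ⟨y, (mem_cg_K _).2 (by rw [frame_K]; exact hyK), hy,
    hyy, hy1⟩
  rwa [frame_K] at h

end Cfsg.Agent.CoThreeStd.Red
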