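import Cfsg.Agent.CoThreeStd.OutCtx

/-!
# S1750, the non-split centraliser `C(t) = f(M₁₂)⟨o⟩`, `o² = t`, `o` acting as `alpha` (helper781)

If `t ~ t b`, `b` a 2B-involution of `f(M₁₂)`, then some `g` fixes `b` and moves `t` to `t b`. But `C(⟨t, b⟩)` contains
48 elements with square `t` and 16 elements with square `t b`.
-/

set_option autoImplicit false

namespace Cfsg.Agent.CoThreeStd.NonSplit

open Cfsg.Agent.CoThreeStd.MTwelve Cfsg.Agent.CoThreeStd.InvTwo Cfsg.Agent.CoThreeStd.Fusion
open Cfsg.Agent.CoThreeStd.DeltaData (be mem_cbe cbe cbe_inc cbe_len cbe_comm incS_pairwise)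
open Cfsg.Agent.CoThreeStd.OutAut Cfsg.Agent.CoThreeStd.OutCtx
open Cfsg.Agent.SporRec.Co3 (P5)

variable {G : Type*} [Group G]

/-- `C_G(t) = f(M₁₂)⟨o⟩`, `o² = t`. -/
structure CtxZ (t o : G) (f : H →* G) : Prop where
  inj : Function.Injective f
  tt : t * t = 1
  t_ne : t ≠ 1
  nmem : ∀ m, f m ≠ t
  oo : o * o = t
  act : ∀ m, o * f m * o⁻¹ = f (alpha m)
  cent : ∀ g, g * t = t * g → ∃ m, g = f m ∨ g = t * f m ∨ g = o * f m ∨ g = t * (o * f m)

variable {t o : G} {f : H →* G}

namespace CtxZ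

theorem inv_t (h : CtxZ t o f) : t⁻¹ = t := inv_eq_of_mul_eq_one_left h.tt

theorem ot (h : CtxZ t o f) : o * t = t * o := by rw [← h.oo, mul_assoc]

theorem of (h : CtxZ t o f) (m : H) : o * f m = f (alpha m) * o := by
  rw [← h.act]; group

theorem fo (h : CtxZ t o f) (m : H) : f m * o = o * f (alpha m) := by
  rw [h.of, alpha_alpha]

theorem comm (h : CtxZ t o f) (m : H) : f m * t = t * f m := by
  rw [← h.oo]
  calc f m * (o * o) = (f m * o) * o := by group
    _ = o * (f (alpha m) * o) := by rw [h.fo]; group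
    _ = o * o * f m := by rw [h.fo, alpha_alpha]; group

/-- `o` is not in `⟨t⟩ f(M₁₂)` -/
theorem o_ne (h : CtxZ t o f) (n : H) : o ≠ f n ∧ o ≠ t * f n := by
  constructor
  · intro h1
    apply alpha_ne_inner n
    intro m
    apply h.inj
    rw [← h.act, h1, map_mul, map_mul, map_inv]
  · intro h1
    apply alpha_ne_inner n
    intro m
    apply h.inj
    rw [← h.act, h1, map_mul, map_mul, map_inv]
    calc t * f n * f m * (t * f n)⁻¹ = t * (f n * f m * (f n)⁻¹) * t⁻¹ := by group
      _ = t * f (n * m * n⁻¹) * t⁻¹ := by rw [map_mul, map_mul, map_inv]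
      _ = f (n * m * n⁻¹) * t * t⁻¹ := by rw [h.comm]
      _ = _ := by rw [map_mul, map_mul, map_inv]; group

/-- conjugation -/
theorem map (h : CtxZ t o f) (g : G) : CtxZ (g * t * g⁻¹) (g * o * g⁻¹) ((MulAut.conj g).toMonoidHom.comp f) where
  inj := (MulAut.conj g).injective.comp h.inj
  tt := by
    calc g * t * g⁻¹ * (g * t * g⁻¹) = g * (t * t) * g⁻¹ := by group
      _ = 1 := by rw [h.tt]; group
  t_ne := by
    intro h1
    apply h.t_ne
    calc t = g⁻¹ * (g * t * g⁻¹) * g := by group
      _ = 1 := by rw [h1]; group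
  nmem := by
    intro m h1
    have h2 : g * f m * g⁻¹ = g * t * g⁻¹ := h1
    exact h.nmem m (mul_left_cancel (mul_right_cancel h2))
  oo := by
    calc g * o * g⁻¹ * (g * o * g⁻¹) = g * (o * o) * g⁻¹ := by group
      _ = _ := by rw [h.oo]
  act := by
    intro m
    show g * o * g⁻¹ * (g * f m * g⁻¹) * (g * o * g⁻¹)⁻¹ = g * f (alpha m) * g⁻¹
    rw [← h.act]; group
  cent := by
    intro x hx
    have h1 : (g⁻¹ * x * g) * t = t * (g⁻¹ * x * g) := by
      calc (g⁻¹ * x * g) * t = g⁻¹ * (x * (g * t * g⁻¹)) * g := by group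
        _ = g⁻¹ * ((g * t * g⁻¹) * x) * g := by rw [hx]
        _ = _ := by group
    have hx' : ∀ z, g⁻¹ * x * g = z → x = g * z * g⁻¹ := by
      rintro z rfl
      group
    obtain ⟨m, h2 | h2 | h2 | h2⟩ := h.cent _ h1
    · exact ⟨m, Or.inl (hx' _ h2)⟩
    · refine ⟨m, Or.inr (Or.inl ?_)⟩
      show x = g * t * g⁻¹ * (g * f m * g⁻¹)
      rw [hx' _ h2]; group
    · refine ⟨m, Or.inr (Or.inr (Or.inl ?_))⟩
      show x = g * o * g⁻¹ * (g * f m * g⁻¹)
      rw [hx' _ h2]; group
    · refine ⟨m, Or.inr (Or.inr (Or.inr ?_))⟩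
      show x = g * t * g⁻¹ * (g * o * g⁻¹ * (g * f m * g⁻¹))
      rw [hx' _ h2]; group

end CtxZ

theorem El_comm (h : CtxZ t o f) (x : Bool × Bool × H) : El t o f x * t = t * El t o f x := by
  obtain ⟨a, b, m⟩ := x
  have h1 : Commute (f m) t := h.comm m
  have h2 : Commute o t := h.ot
  show Commute ((if a then t else 1) * ((if b then o else 1) * f m)) t
  refine Commute.mul_left ?_ (Commute.mul_left ?_ h1)
  · split_ifs
    · exact Commute.refl t
    · exact Commute.one_left t
  · split_ifs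
    · exact h2
    · exact Commute.one_left t

theorem El_inj (h : CtxZ t o f) : Function.Injective (El t o f) := by
  have hc := h.o_ne
  have key : ∀ m n : H, o * f m ≠ f n ∧ o * f m ≠ t * f n ∧ t * f m ≠ f n := by
    intro m n
    refine ⟨fun h1 => (hc (n * m⁻¹)).1 ?_, fun h1 => (hc (n * m⁻¹)).2 ?_, fun h1 => h.nmem (n * m⁻¹) ?_⟩
    · rw [map_mul, map_inv, ← h1, mul_inv_cancel_right]
    · rw [map_mul, map_inv, ← mul_assoc, ← h1, mul_inv_cancel_right]
    · rw [map_mul, map_inv, ← h1, mul_inv_cancel_right]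
  have tt := h.tt
  have k2 : ∀ m n : H, t * (o * f m) ≠ f n := by
    intro m n h1
    apply (key m n).2.1
    rw [← h1, ← mul_assoc, tt, one_mul]
  rintro ⟨a, b, m⟩ ⟨a', b', m'⟩ he
  cases a <;> cases a' <;> cases b <;> cases b' <;>
    simp only [El, if_true, if_false, one_mul, Bool.false_eq_true] at he
  · rw [h.inj he]
  · exact absurd he.symm (key _ _).1
  · exact absurd he (key _ _).1
  · rw [h.inj (mul_left_cancel he)]
  · exact absurd he.symm (key _ _).2.2
  · exact absurd he.symm (k2 _ _)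
  · exact absurd he (key _ _).2.1
  · exfalso
    have h1 : f m = t * f m' := by
      apply mul_left_cancel (a := o)
      rw [he, ← mul_assoc t, ← h.ot, mul_assoc]
    exact (key m' m).2.2 h1.symm
  · exact absurd he (key _ _).2.2
  · exact absurd he.symm (key _ _).2.1
  · exact absurd he (k2 _ _)
  · exfalso
    have h1 : t * f m = f m' := by
      apply mul_left_cancel (a := o)
      rw [← he, ← mul_assoc o t, h.ot, mul_assoc]
    exact (key m m').2.2 h1
  · rw [h.inj (mul_left_cancel he)]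
  · exact absurd (mul_left_cancel he).symm (key _ _).1
  · exact absurd (mul_left_cancel he) (key _ _).1
  · rw [h.inj (mul_left_cancel (mul_left_cancel he))]

theorem El_surj (h : CtxZ t o f) (g : G) (hg : g * t = t * g) : ∃ x, El t o f x = g := by
  obtain ⟨m, h1 | h1 | h1 | h1⟩ := h.cent g hg
  · exact ⟨(false, false, m), by simp [El, h1]⟩
  · exact ⟨(true, false, m), by simp [El, h1]⟩
  · exact ⟨(false, true, m), by simp [El, h1]⟩
  · exact ⟨(true, true, m), by simp [El, h1]⟩

theorem card_pred (h : CtxZ t o f) (P : G → Prop) (Q : H → Prop) (hPQ : ∀ x, P (El t o f x) ↔ Q x.2.2) :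
    Nat.card {g : G // g * t = t * g ∧ P g} = 4 * Nat.card {m : H // Q m} := by
  have h1 : Nat.card {g : G // g * t = t * g ∧ P g} = Nat.card (Bool × Bool × {m : H // Q m}) := by
    symm
    apply Nat.card_congr
    refine Equiv.ofBijective (fun x => ⟨El t o f (x.1, x.2.1, x.2.2.1), El_comm h _, (hPQ _).2 x.2.2.2⟩) ⟨?_, ?_⟩
    · rintro ⟨a, b, m, hm⟩ ⟨a', b', m', hm'⟩ he
      have := El_inj h (congrArg Subtype.val he)
      simp only [Prod.mk.injEq] at this
      obtain ⟨rfl, rfl, rfl⟩ := this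
      rfl
    · rintro ⟨g, hg, hP⟩
      obtain ⟨⟨a, b, m⟩, rfl⟩ := El_surj h g hg
      exact ⟨(a, b, ⟨m, (hPQ _).1 hP⟩), rfl⟩
  rw [h1, Nat.card_prod, Nat.card_prod]
  simp only [Nat.card_eq_fintype_card, Fintype.card_bool]
  ring

/-- elements of `C(t)` commuting with `f u`, `u` fixed by `alpha` -/
theorem comm_El (h : CtxZ t o f) {u : H} (hu : alpha u = u) (x : Bool × Bool × H) :
    El t o f x * f u = f u * El t o f x ↔ x.2.2 * u = u * x.2.2 := by
  obtain ⟨a, b, m⟩ := x
  have k : ∀ {a b x : G}, Commute a x → (Commute (a * b) x ↔ Commute b x) := by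
    intro a b x hax
    constructor
    · intro h1
      have : b = a⁻¹ * (a * b) := by group
      rw [this]
      exact hax.inv_left.mul_left h1
    · intro h1
      exact hax.mul_left h1
  have h1 : Commute (if a then t else 1) (f u) := by
    split_ifs
    · exact (h.comm u).symm
    · exact Commute.one_left _
  have h2 : Commute (if b then o else 1) (f u) := by
    split_ifs
    · show o * f u = f u * o
      rw [h.of, hu]
    · exact Commute.one_left _
  show Commute ((if a then t else 1) * ((if b then o else 1) * f m)) (f u) ↔ m * u = u * m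
  rw [k h1, k h2]
  constructor
  · intro h3
    apply h.inj
    rw [map_mul, map_mul]
    exact h3
  · intro h3
    show f m * f u = f u * f m
    rw [← map_mul, h3, map_mul]

theorem card_comm (h : CtxZ t o f) {u : H} (hu : alpha u = u) :
    Nat.card {g : G // g * t = t * g ∧ g * f u = f u * g} =
      4 * Nat.card (Subgroup.centralizer {u} : Subgroup H) := by
  rw [card_pred h (fun g => g * f u = f u * g) (fun m => m * u = u * m) (comm_El h hu)]
  congr 1
  apply Nat.card_congr
  refine Equiv.subtypeEquivRight (fun m => ?_)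
  rw [Subgroup.mem_centralizer_singleton_iff]

/-! ### counting twisted square roots in the list of `C(be)` -/

theorem card_filter (T : List ℕ → Bool) (P : H → Prop) (hTP : ∀ l, T l = true ↔ P (wd l)) :
    Nat.card {m : H // m * be = be * m ∧ P m} = (cbe.filter T).length := by
  have hp := (incS_pairwise cbe_inc).filter T
  have hp' := List.pairwise_iff_getElem.mp hp
  have hmem : ∀ i : Fin (cbe.filter T).length,
      wd (cbe.filter T)[i.1] * be = be * wd (cbe.filter T)[i.1] ∧ P (wd (cbe.filter T)[i.1]) := by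
    intro i
    obtain ⟨h1, h2⟩ := List.mem_filter.1 (List.getElem_mem i.2)
    refine ⟨?_, (hTP _).1 h2⟩
    have h3 := wd_eq (List.all_eq_true.mp cbe_comm _ h1)
    rwa [wd_append, wd_append] at h3
  have h1 : Nat.card (Fin (cbe.filter T).length) = (cbe.filter T).length := by simp
  rw [← h1]
  symm
  apply Nat.card_congr
  refine Equiv.ofBijective (fun i => ⟨wd (cbe.filter T)[i.1], hmem i⟩) ⟨?_, ?_⟩
  · intro i j hij
    have h4 : wd (cbe.filter T)[i.1] = wd (cbe.filter T)[j.1] := congrArg Subtype.val hij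
    have h5 := sig_eq h4 24 le_rfl
    by_contra hne
    rcases lt_or_gt_of_ne (fun h6 => hne (Fin.ext h6)) with h6 | h6
    · exact absurd h5 (hp' i.1 j.1 i.2 j.2 h6).ne
    · exact absurd h5 (hp' j.1 i.1 j.2 i.2 h6).ne'
  · rintro ⟨m, hm, hP⟩
    obtain ⟨l, hl, rfl⟩ := mem_cbe m hm
    obtain ⟨i, hi, rfl⟩ := List.mem_iff_getElem.1 (List.mem_filter.2 ⟨hl, (hTP _).2 hP⟩)
    exact ⟨⟨i, hi⟩, rfl⟩

set_option maxRecDepth 100000 in
theorem len_one : (cbe.filter (fun l => eqW (aw l ++ l) [])).length = 24 := by decide +kernel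

set_option maxRecDepth 100000 in
theorem len_be : (cbe.filter (fun l => eqW (aw l ++ l) [1, 3])).length = 8 := by decide +kernel

theorem card_one : Nat.card {m : H // m * be = be * m ∧ alpha m * m = 1} = 24 := by
  rw [← len_one]
  apply card_filter (fun l => eqW (aw l ++ l) []) (fun m => alpha m * m = 1)
  intro l
  rw [alpha_wd, ← wd_append, ← wd_nil]
  exact ⟨fun h => wd_eq h, fun h => eqW_of_wd h⟩

theorem card_be : Nat.card {m : H // m * be = be * m ∧ alpha m * m = be} = 8 := by
  rw [← len_be]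
  apply card_filter (fun l => eqW (aw l ++ l) [1, 3]) (fun m => alpha m * m = be)
  intro l
  rw [alpha_wd, ← wd_append]
  exact ⟨fun h => wd_eq h, fun h => eqW_of_wd h⟩

theorem alpha_be : alpha be = be := by
  have := alpha_pr
  rwa [← wd_pr] at this

/-- squares of the elements of `C(t)` -/
theorem El_sq (h : CtxZ t o f) (a b : Bool) (m : H) :
    El t o f (a, b, m) * El t o f (a, b, m) = if b then t * f (alpha m * m) else f (m * m) := by
  have tt := h.tt
  have key : ∀ x : G, x * t = t * x → (t * x) * (t * x) = x * x := by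
    intro x hx
    calc (t * x) * (t * x) = t * (x * t) * x := by group
      _ = (t * t) * (x * x) := by rw [hx]; group
      _ = _ := by rw [tt, one_mul]
  have h1 : (o * f m) * (o * f m) = t * f (alpha m * m) := by
    calc (o * f m) * (o * f m) = o * (f m * o) * f m := by group
      _ = (o * o) * (f (alpha m) * f m) := by rw [h.fo]; group
      _ = _ := by rw [h.oo, map_mul]
  have h2 : (o * f m) * t = t * (o * f m) := by
    have := El_comm h (false, true, m)
    simpa [El] using this
  cases a <;> cases b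
  · simp [El]
  · simp only [El, if_true, Bool.false_eq_true, if_false, one_mul]
    exact h1
  · simp only [El, if_true, Bool.false_eq_true, if_false, one_mul]
    rw [key _ (h.comm m), map_mul]
  · simp only [El, if_true]
    rw [key _ h2, h1]

/-- the elements with square `t z` commuting with `f u` -/
theorem card_sq_t (h : CtxZ t o f) {u : H} (hu : alpha u = u) (z : H) (hzz : ∀ m, f (m * m) ≠ t * f z) :
    Nat.card {x : G // x * t = t * x ∧ (x * f u = f u * x ∧ x * x = t * f z)} =
      2 * Nat.card {m : H // m * u = u * m ∧ alpha m * m = z} := by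
  have h1 : Nat.card {x : G // x * t = t * x ∧ (x * f u = f u * x ∧ x * x = t * f z)} =
      Nat.card (Bool × {m : H // m * u = u * m ∧ alpha m * m = z}) := by
    symm
    apply Nat.card_congr
    refine Equiv.ofBijective (fun x => ⟨El t o f (x.1, true, x.2.1), El_comm h _, ?_, ?_⟩) ⟨?_, ?_⟩
    · exact (comm_El h hu _).2 x.2.2.1
    · rw [El_sq h, if_pos rfl, x.2.2.2]
    · rintro ⟨a, m, hm⟩ ⟨a', m', hm'⟩ he
      have := El_inj h (congrArg Subtype.val he)
      simp only [Prod.mk.injEq] at this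
      obtain ⟨rfl, -, rfl⟩ := this
      rfl
    · rintro ⟨x, hx, hxb, hxx⟩
      obtain ⟨⟨a, b, m⟩, rfl⟩ := El_surj h x hx
      have h2 := (comm_El h hu _).1 hxb
      rw [El_sq h] at hxx
      cases b
      · exfalso
        exact hzz m (by simpa using hxx)
      · rw [if_pos rfl] at hxx
        exact ⟨(a, ⟨m, h2, h.inj (mul_left_cancel hxx)⟩), rfl⟩
  rw [h1, Nat.card_prod, Nat.card_eq_fintype_card, Fintype.card_bool]

/-- the elements with square `f z` commuting with `f u` -/
theorem card_sq_f (h : CtxZ t o f) {u : H} (hu : alpha u = u) (z : H) :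
    Nat.card {x : G // x * t = t * x ∧ (x * f u = f u * x ∧ x * x = f z)} =
      2 * Nat.card {m : H // m * u = u * m ∧ m * m = z} := by
  have h1 : Nat.card {x : G // x * t = t * x ∧ (x * f u = f u * x ∧ x * x = f z)} =
      Nat.card (Bool × {m : H // m * u = u * m ∧ m * m = z}) := by
    symm
    apply Nat.card_congr
    refine Equiv.ofBijective (fun x => ⟨El t o f (x.1, false, x.2.1), El_comm h _, ?_, ?_⟩) ⟨?_, ?_⟩
    · exact (comm_El h hu _).2 x.2.2.1
    · rw [El_sq h, x.2.2.2]; rfl
    · rintro ⟨a, m, hm⟩ ⟨a', m', hm'⟩ he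
      have := El_inj h (congrArg Subtype.val he)
      simp only [Prod.mk.injEq] at this
      obtain ⟨rfl, -, rfl⟩ := this
      rfl
    · rintro ⟨x, hx, hxb, hxx⟩
      obtain ⟨⟨a, b, m⟩, rfl⟩ := El_surj h x hx
      have h2 := (comm_El h hu _).1 hxb
      rw [El_sq h] at hxx
      cases b
      · exact ⟨(a, ⟨m, h2, h.inj (by simpa using hxx)⟩), rfl⟩
      · exfalso
        rw [if_pos rfl] at hxx
        apply h.nmem (z * (alpha m * m)⁻¹)
        rw [map_mul, map_inv, ← hxx, mul_inv_cancel_right]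
  rw [h1, Nat.card_prod, Nat.card_eq_fintype_card, Fintype.card_bool]

/-! ### the numbers -/

set_option maxRecDepth 100000 in
theorem len_sq : (cbe.filter (fun l => eqW (l ++ l) [1, 3])).length = 12 := by decide +kernel

theorem card_be_sq : Nat.card {m : H // m * be = be * m ∧ m * m = be} = 12 := by
  rw [← len_sq]
  apply card_filter (fun l => eqW (l ++ l) [1, 3]) (fun m => m * m = be)
  intro l
  rw [← wd_append]
  exact ⟨fun h => wd_eq h, fun h => eqW_of_wd h⟩

theorem card_centy (P : H → Prop) (Q : P5 → Prop) (h1 : ∀ σ, P (w σ) ↔ Q σ) (h2 : ∀ σ, P (y * w σ) ↔ Q σ) :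
    Nat.card {m : H // m * y = y * m ∧ P m} = 2 * Nat.card {σ : P5 // Q σ} := by
  have h3 : Nat.card {m : H // m * y = y * m ∧ P m} = Nat.card (Bool × {σ : P5 // Q σ}) := by
    symm
    apply Nat.card_congr
    refine Equiv.ofBijective (fun x => ⟨(if x.1 then y else 1) * w x.2.1, ?_, ?_⟩) ⟨?_, ?_⟩
    · have h3 := y_comm x.2.1
      split_ifs
      · rw [mul_assoc, h3]
      · rw [one_mul, h3]
    · split_ifs
      · exact (h2 _).2 x.2.2
      · rw [one_mul]; exact (h1 _).2 x.2.2
    · rintro ⟨a, σ, hσ⟩ ⟨a', σ', hσ'⟩ he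
      have he' : (if a then y else 1) * w σ = (if a' then y else 1) * w σ' := congrArg Subtype.val he
      cases a <;> cases a' <;> simp only [Bool.false_eq_true, if_false, if_true, one_mul] at he'
      · have := w_injective he'
        subst this
        rfl
      · exfalso
        apply y_ne_w (σ * σ'⁻¹)
        rw [map_mul, he', map_inv, mul_inv_cancel_right]
      · exfalso
        apply y_ne_w (σ' * σ⁻¹)
        rw [map_mul, ← he', map_inv, mul_inv_cancel_right]
      · have := w_injective (mul_left_cancel he')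
        subst this
        rfl
    · rintro ⟨m, hm1, hm2⟩
      obtain ⟨σ, rfl | rfl⟩ := cent_y m hm1
      · exact ⟨(false, ⟨σ, (h1 _).1 hm2⟩), by simp⟩
      · exact ⟨(true, ⟨σ, (h2 _).1 hm2⟩), by simp⟩
  rw [h3, Nat.card_prod, Nat.card_eq_fintype_card, Fintype.card_bool]

theorem alpha_w_mul (σ : P5) : alpha (w σ) * w σ =
    (if Equiv.Perm.sign σ = 1 then 1 else y) * w (σ * σ) := by
  rcases Int.units_eq_one_or (Equiv.Perm.sign σ) with h1 | h1
  · rw [alpha_even h1, if_pos h1, one_mul, map_mul]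
  · rw [alpha_odd h1, if_neg (by rw [h1]; decide), mul_assoc, map_mul]

theorem alpha_yw_mul (σ : P5) : alpha (y * w σ) * (y * w σ) = alpha (w σ) * w σ := by
  rw [map_mul, alpha_y]
  have h2 : alpha (w σ) * y = y * alpha (w σ) := by
    have := congrArg alpha (y_comm σ)
    rw [map_mul, map_mul, alpha_y] at this
    exact this.symm
  calc y * alpha (w σ) * (y * w σ) = y * (alpha (w σ) * y) * w σ := by group
    _ = (y * y) * (alpha (w σ) * w σ) := by rw [h2]; group
    _ = _ := by rw [y_sq, one_mul]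

theorem card_y_one : Nat.card {m : H // m * y = y * m ∧ alpha m * m = 1} = 32 := by
  have key : ∀ σ : P5, alpha (w σ) * w σ = 1 ↔ (Equiv.Perm.sign σ = 1 ∧ σ * σ = 1) := by
    intro σ
    rw [alpha_w_mul]
    by_cases h1 : Equiv.Perm.sign σ = 1
    · rw [if_pos h1, one_mul]
      exact ⟨fun h => ⟨h1, w_injective (by rw [h, map_one])⟩, fun h => by rw [h.2, map_one]⟩
    · rw [if_neg h1]
      refine ⟨fun h => ?_, fun h => absurd h.1 h1⟩
      exfalso
      apply y_ne_w (σ * σ)⁻¹
      rw [map_inv]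
      exact eq_inv_of_mul_eq_one_left h
  rw [card_centy (fun m => alpha m * m = 1) (fun σ => Equiv.Perm.sign σ = 1 ∧ σ * σ = 1) key (by
    intro σ
    show alpha (y * w σ) * (y * w σ) = 1 ↔ _
    rw [alpha_yw_mul]
    exact key σ), Nat.card_eq_fintype_card]
  have : Fintype.card {σ : P5 // Equiv.Perm.sign σ = 1 ∧ σ * σ = 1} = 16 := by decide +kernel
  rw [this]

theorem card_y_y : Nat.card {m : H // m * y = y * m ∧ alpha m * m = y} = 20 := by
  have key : ∀ σ : P5, alpha (w σ) * w σ = y ↔ (Equiv.Perm.sign σ ≠ 1 ∧ σ * σ = 1) := by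
    intro σ
    rw [alpha_w_mul]
    by_cases h1 : Equiv.Perm.sign σ = 1
    · rw [if_pos h1, one_mul]
      refine ⟨fun h => absurd h.symm (y_ne_w _), fun h => absurd h1 h.1⟩
    · rw [if_neg h1]
      exact ⟨fun h => ⟨h1, w_injective (by rw [mul_eq_left.1 h, map_one])⟩, fun h => by rw [h.2, map_one, mul_one]⟩
  rw [card_centy (fun m => alpha m * m = y) (fun σ => Equiv.Perm.sign σ ≠ 1 ∧ σ * σ = 1) key (by
    intro σ
    show alpha (y * w σ) * (y * w σ) = y ↔ _
    rw [alpha_yw_mul]
    exact key σ), Nat.card_eq_fintype_card]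
  have : Fintype.card {σ : P5 // Equiv.Perm.sign σ ≠ 1 ∧ σ * σ = 1} = 10 := by decide +kernel
  rw [this]

theorem card_y_sq : Nat.card {m : H // m * y = y * m ∧ m * m = y} = 0 := by
  have key : ∀ σ : P5, w σ * w σ = y ↔ False := by
    intro σ
    rw [← map_mul]
    exact ⟨fun h => y_ne_w _ h.symm, fun h => h.elim⟩
  rw [card_centy (fun m => m * m = y) (fun _ => False) key (by
    intro σ
    show (y * w σ) * (y * w σ) = y ↔ _
    have e : (y * w σ) * (y * w σ) = w σ * w σ := by
      calc (y * w σ) * (y * w σ) = y * (w σ * y) * w σ := by group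
        _ = (y * y) * (w σ * w σ) := by rw [← y_comm]; group
        _ = _ := by rw [y_sq, one_mul]
    rw [e]
    exact key σ)]
  simp

/-- the numbers of square roots differ -/
theorem numbers {u u' : H} (hu : u = y ∨ u = be) (hu' : u' = y ∨ u' = be) :
    Nat.card {m : H // m * u = u * m ∧ alpha m * m = 1} ≠ Nat.card {m : H // m * u' = u' * m ∧ m * m = u'} ∧
    Nat.card {m : H // m * u = u * m ∧ alpha m * m = 1} ≠
      Nat.card {m : H // m * u' = u' * m ∧ alpha m * m = u'} := by
  rcases hu with rfl | rfl <;> rcases hu' with rfl | rfl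
  · rw [card_y_one, card_y_sq, card_y_y]; omega
  · rw [card_y_one, card_be_sq, card_be]; omega
  · rw [card_one, card_y_sq, card_y_y]; omega
  · rw [card_one, card_be_sq, card_be]; omega

theorem alpha_u {u : H} (hu : u = y ∨ u = be) : alpha u = u := by
  rcases hu with rfl | rfl
  · exact alpha_y
  · exact alpha_be

theorem exists_u {n : H} (hnn : n * n = 1) (hn1 : n ≠ 1) : ∃ u c : H, (u = y ∨ u = be) ∧ c⁻¹ * u * c = n := by
  rcases inv2.cases n hnn hn1 with ⟨c, hc⟩ | ⟨c, hc⟩
  · exact ⟨y, c, Or.inl rfl, hc⟩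
  · refine ⟨be, c, Or.inr rfl, ?_⟩
    rw [be, wd_pr]; exact hc

/-- an involution of `C(t)` other than `t` is `f n` or `t f n` -/
theorem inv_cases (h : CtxZ t o f) {x : G} (hx : x * t = t * x) (hxx : x * x = 1) (h1 : x ≠ 1) (h2 : x ≠ t) :
    ∃ n, n * n = 1 ∧ n ≠ 1 ∧ (x = f n ∨ x = t * f n) := by
  obtain ⟨⟨a, b, n⟩, rfl⟩ := El_surj h x hx
  rw [El_sq h] at hxx
  cases b
  · have h3 : n * n = 1 := h.inj (by rw [map_one]; simpa using hxx)
    refine ⟨n, h3, ?_, ?_⟩
    · rintro rfl
      cases a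
      · apply h1; simp [El]
      · apply h2; simp [El]
    · cases a
      · left; simp [El]
      · right; simp [El]
  · exfalso
    rw [if_pos rfl] at hxx
    apply h.nmem (alpha n * n)⁻¹
    rw [map_inv]
    exact (eq_inv_of_mul_eq_one_left hxx).symm

/-- **In the non-split case `t` is isolated in `C(t)`.** -/
theorem isolated [Finite G] (h : CtxZ t o f) {s : G} (hs : IsConj t s) (hst : s * t = t * s) : s = t := by
  by_contra hne
  have tt := h.tt
  obtain ⟨g, hg⟩ := isConj_iff.1 hs
  have hss : s * s = 1 := by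
    rw [← hg]
    calc g * t * g⁻¹ * (g * t * g⁻¹) = g * (t * t) * g⁻¹ := by group
      _ = 1 := by rw [tt]; group
  have hs1 : s ≠ 1 := by
    intro h1
    apply h.t_ne
    calc t = g⁻¹ * (g * t * g⁻¹) * g := by group
      _ = 1 := by rw [hg, h1]; group
  -- `s = t^j f m`
  obtain ⟨m, hmm, hm1, hsm⟩ := inv_cases h hst hss hs1 hne
  -- `g⁻¹ t g = t^i f n`
  have hx : (g⁻¹ * t * g) * t = t * (g⁻¹ * t * g) := by
    calc (g⁻¹ * t * g) * t = g⁻¹ * (t * (g * t * g⁻¹)) * g := by group
      _ = g⁻¹ * ((g * t * g⁻¹) * t) * g := by rw [hg, hst]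
      _ = _ := by group
  obtain ⟨n, hnn, hn1, hn⟩ := inv_cases h hx (by
      calc g⁻¹ * t * g * (g⁻¹ * t * g) = g⁻¹ * (t * t) * g := by group
        _ = 1 := by rw [tt]; group) (by
      intro h1
      apply h.t_ne
      calc t = g * (g⁻¹ * t * g) * g⁻¹ := by group
        _ = 1 := by rw [h1]; group) (by
      intro h1
      apply hne
      rw [← hg]
      calc g * t * g⁻¹ = g * (g⁻¹ * t * g) * g⁻¹ := by rw [h1]
        _ = t := by group)
  obtain ⟨u, a, hu, ha⟩ := exists_u hnn hn1
  obtain ⟨u', b, hu', hb⟩ := exists_u hmm hm1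
  -- `k t k⁻¹ = s'`, `k (f u) k⁻¹ = t` or `s' t`
  obtain ⟨k, hk⟩ : ∃ k, k = f b * g * (f a)⁻¹ := ⟨_, rfl⟩
  obtain ⟨s', hs'⟩ : ∃ s', s' = f b * s * (f b)⁻¹ := ⟨_, rfl⟩
  have hat : (f a)⁻¹ * t = t * (f a)⁻¹ := by rw [← map_inv]; exact h.comm _
  have hat' : f a * t = t * f a := h.comm _
  have hbt : f b * t = t * f b := h.comm _
  have hkt : k * t * k⁻¹ = s' := by
    calc k * t * k⁻¹ = f b * g * ((f a)⁻¹ * t) * f a * g⁻¹ * (f b)⁻¹ := by rw [hk]; group
      _ = f b * (g * t * g⁻¹) * (f b)⁻¹ := by rw [hat]; group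
      _ = _ := by rw [hg, hs']
  have hku : k * f u * k⁻¹ = t ∨ k * f u * k⁻¹ = s' * t := by
    have e1 : k * f u * k⁻¹ = f b * g * f n * g⁻¹ * (f b)⁻¹ := by
      rw [hk, ← ha, map_mul, map_mul, map_inv]; group
    rcases hn with h2 | h2
    · left
      rw [e1, ← h2]
      calc f b * g * (g⁻¹ * t * g) * g⁻¹ * (f b)⁻¹ = (f b * t) * (f b)⁻¹ := by group
        _ = t := by rw [hbt]; group
    · right
      have h3 : f n = t * (g⁻¹ * t * g) := by rw [h2, ← mul_assoc, tt, one_mul]
      rw [e1, h3]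
      calc f b * g * (t * (g⁻¹ * t * g)) * g⁻¹ * (f b)⁻¹ = f b * (g * t * g⁻¹) * t * (f b)⁻¹ := by group
        _ = f b * s * (t * (f b)⁻¹) := by rw [hg]; group
        _ = f b * s * ((f b)⁻¹ * t) := by
          have : (f b)⁻¹ * t = t * (f b)⁻¹ := by rw [← map_inv]; exact h.comm _
          rw [this]
        _ = _ := by rw [hs']; group
  have hsu : s' = f u' ∨ s' = t * f u' := by
    rcases hsm with h2 | h2
    · left
      rw [hs', h2, ← hb, map_mul, map_mul, map_inv]; group
    · right
      rw [hs', h2, ← hb, map_mul, map_mul, map_inv]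
      calc f b * (t * ((f b)⁻¹ * f u' * f b)) * (f b)⁻¹ = (f b * t) * (f b)⁻¹ * f u' := by group
        _ = _ := by rw [hbt]; group
  -- the centralisers
  have hcomm : ∀ x : G, (x * t = t * x ∧ x * f u = f u * x) ↔
      ((k * x * k⁻¹) * t = t * (k * x * k⁻¹) ∧ (k * x * k⁻¹) * f u' = f u' * (k * x * k⁻¹)) := by
    intro x
    have e1 : ∀ z, x * z = z * x ↔ Commute (k * x * k⁻¹) (k * z * k⁻¹) := by
      intro z
      have e2 : (k * x * k⁻¹) * (k * z * k⁻¹) = k * (x * z) * k⁻¹ := by group
      have e3 : (k * z * k⁻¹) * (k * x * k⁻¹) = k * (z * x) * k⁻¹ := by group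
      rw [commute_iff_eq, e2, e3]
      exact ⟨fun h => by rw [h], fun h => mul_left_cancel (mul_right_cancel h)⟩
    rw [e1 t, e1 (f u), hkt, ← commute_iff_eq, ← commute_iff_eq]
    generalize k * x * k⁻¹ = X
    -- `⟨s', k (f u) k⁻¹⟩ = ⟨t, f u'⟩`
    have i1 : Commute X s' → (Commute X (k * f u * k⁻¹) ↔ Commute X t) := by
      intro h1
      rcases hku with h2 | h2
      · rw [h2]
      · rw [h2]
        constructor
        · intro h3
          have := h1.inv_right.mul_right h3
          rwa [inv_mul_cancel_left] at this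
        · intro h3
          exact h1.mul_right h3
    have i2 : Commute X t → (Commute X s' ↔ Commute X (f u')) := by
      intro h1
      rcases hsu with h2 | h2
      · rw [h2]
      · rw [h2]
        constructor
        · intro h3
          have := h1.inv_right.mul_right h3
          rwa [inv_mul_cancel_left] at this
        · intro h3
          exact h1.mul_right h3
    constructor
    · rintro ⟨h1, h2⟩
      have h3 := (i1 h1).1 h2
      exact ⟨h3, (i2 h3).1 h1⟩
    · rintro ⟨h1, h2⟩
      have h3 := (i2 h1).2 h2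
      exact ⟨h3, (i1 h3).2 h1⟩
  have hcard : Nat.card {x : G // x * t = t * x ∧ (x * f u = f u * x ∧ x * x = t * f 1)} =
      Nat.card {x : G // x * t = t * x ∧ (x * f u' = f u' * x ∧ x * x = s')} := by
    apply Nat.card_congr
    refine Equiv.subtypeEquiv (MulAut.conj k).toEquiv (fun x => ?_)
    show x * t = t * x ∧ (x * f u = f u * x ∧ x * x = t * f 1) ↔
      (k * x * k⁻¹) * t = t * (k * x * k⁻¹) ∧ ((k * x * k⁻¹) * f u' = f u' * (k * x * k⁻¹) ∧
        (k * x * k⁻¹) * (k * x * k⁻¹) = s')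
    have e1 : (k * x * k⁻¹) * (k * x * k⁻¹) = s' ↔ x * x = t * f 1 := by
      rw [map_one, mul_one, ← hkt]
      have e2 : (k * x * k⁻¹) * (k * x * k⁻¹) = k * (x * x) * k⁻¹ := by group
      rw [e2]
      exact ⟨fun h => mul_left_cancel (mul_right_cancel h), fun h => by rw [h]⟩
    rw [← and_assoc, ← and_assoc, hcomm x, e1]
  rw [card_sq_t h (alpha_u hu) 1 (by
    intro m h2
    rw [map_one, mul_one] at h2
    exact h.nmem _ h2)] at hcard
  obtain ⟨n1, n2⟩ := numbers hu hu'
  rcases hsu with h2 | h2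
  · rw [h2, card_sq_f h (alpha_u hu')] at hcard
    exact n1 (Nat.eq_of_mul_eq_mul_left (by norm_num) hcard)
  · rw [h2, card_sq_t h (alpha_u hu') u' (by
      intro m h2
      apply h.nmem (m * m * u'⁻¹)
      rw [map_mul, map_inv, h2, mul_inv_cancel_right])] at hcard
    exact n2 (Nat.eq_of_mul_eq_mul_left (by norm_num) hcard)

/-- **The non-split case**, by elements. -/
theorem main [Finite G] (h : CtxZ t o f) (m : H) :
    ¬ IsConj t (f m) ∧ (m ≠ 1 → ¬ IsConj t (t * f m)) := by
  constructor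
  · intro h1
    exact h.nmem m (isolated h h1 (h.comm m))
  · intro hm h1
    have h2 := isolated h h1 (by rw [mul_assoc, h.comm])
    apply hm
    apply h.inj
    rw [map_one]
    exact mul_eq_left.1 h2

/-- the non-split case is impossible when `t ~ t b` -/
theorem false_of [Finite G] (h : CtxZ t o f) (h0 : IsConj t (t * f be)) : False :=
  (main h be).2 (inv2.invB _ Cfsg.Agent.CoThreeStd.DeltaData.isB_be).2 h0

end Cfsg.Agent.CoThreeStd.NonSplit
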