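import Cfsg.Agent.CoThreeStd.DeltaR
import Cfsg.Agent.CoThreeStd.DeltaData

/-!
# Pattern δ of S1750: the relations in `M₁₂` (helper178)
-/

set_option autoImplicit false

namespace Cfsg.Agent.CoThreeStd.DeltaAmb

open Cfsg.Agent.CoThreeStd.MTwelve hiding w cj
open Cfsg.Agent.CoThreeStd.DeltaData Cfsg.Agent.CoThreeStd.InvTwo Cfsg.Agent.CoThreeStd.Fusion
open Cfsg.Agent.CoThreeStd.DeltaRel Cfsg.Agent.CoThreeStd.DeltaLoc

theorem e_bb : be * be = 1 := by
  have := wd_eq (l := wbe ++ wbe) (l' := []) (by decide +kernel)
  simp only [wd_append] at this; exact this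
theorem e_vv : v * v = 1 := by
  have := wd_eq (l := wv ++ wv) (l' := []) (by decide +kernel)
  simp only [wd_append] at this; exact this
theorem e_pp : p * p = 1 := by
  have := wd_eq (l := [1] ++ [1]) (l' := []) (by decide +kernel)
  simp only [wd_append, wd_p] at this; exact this
theorem e_qq : q * q = 1 := by
  have := wd_eq (l := [2] ++ [2]) (l' := []) (by decide +kernel)
  simp only [wd_append, wd_q] at this; exact this
theorem e_dd : d * d = 1 := by
  have := wd_eq (l := wd' ++ wd') (l' := []) (by decide +kernel)
  simp only [wd_append] at this; exact this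
theorem e_b1 : be ≠ 1 := wd_ne (l := wbe) (l' := []) 1 (by norm_num) (by decide +kernel)
theorem e_v1 : v ≠ 1 := by
  intro h
  have h1 : ¬ ∀ x : Fin 24, act wv x.1 = act [] x.1 := by decide +kernel
  apply h1
  intro x
  by_contra hne
  exact wd_ne (l := wv) (l' := []) x.1 x.2 hne h
theorem e_bv1 : be ≠ v := wd_ne (l := wbe) (l' := wv) 0 (by norm_num) (by decide +kernel)
theorem e_vb : v * be = be * v := by
  have := wd_eq (l := wv ++ wbe) (l' := wbe ++ wv) (by decide +kernel)
  simp only [wd_append] at this; exact this
theorem e_yb : y * be = be * y := by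
  have := wd_eq (l := [0] ++ wbe) (l' := wbe ++ [0]) (by decide +kernel)
  simp only [wd_append, wd_y] at this; exact this
theorem e_yv : y * v = v * y := by
  have := wd_eq (l := [0] ++ wv) (l' := wv ++ [0]) (by decide +kernel)
  simp only [wd_append, wd_y] at this; exact this
theorem e_k11 : k1 * k1 = be := by
  have := wd_eq (l := wk1 ++ wk1) (l' := wbe) (by decide +kernel)
  simp only [wd_append] at this; exact this
theorem e_k22 : k2 * k2 = v := by
  have := wd_eq (l := wk2 ++ wk2) (l' := wv) (by decide +kernel)
  simp only [wd_append] at this; exact this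
theorem e_kk : k2 * k1 = k1 * k2 := by
  have := wd_eq (l := wk2 ++ wk1) (l' := wk1 ++ wk2) (by decide +kernel)
  simp only [wd_append] at this; exact this
theorem e_yk1 : y * k1 = k1 * (y * be) := by
  have := wd_eq (l := [0] ++ wk1) (l' := wk1 ++ ([0] ++ wbe)) (by decide +kernel)
  simp only [wd_append, wd_y] at this; exact this
theorem e_yk2 : y * k2 = k2 * (y * v) := by
  have := wd_eq (l := [0] ++ wk2) (l' := wk2 ++ ([0] ++ wv)) (by decide +kernel)
  simp only [wd_append, wd_y] at this; exact this
theorem e_pb : be * p = p * be := by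
  have := wd_eq (l := wbe ++ [1]) (l' := [1] ++ wbe) (by decide +kernel)
  simp only [wd_append, wd_p] at this; exact this
theorem e_pv : v * p = p * (be * v) := by
  have := wd_eq (l := wv ++ [1]) (l' := [1] ++ (wbe ++ wv)) (by decide +kernel)
  simp only [wd_append, wd_p] at this; exact this
theorem e_py : y * p = p * y := by
  have := wd_eq (l := [0] ++ [1]) (l' := [1] ++ [0]) (by decide +kernel)
  simp only [wd_append, wd_p, wd_y] at this; exact this
theorem e_pk1 : k1 * p = p * k1 := by
  have := wd_eq (l := wk1 ++ [1]) (l' := [1] ++ wk1) (by decide +kernel)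
  simp only [wd_append, wd_p] at this; exact this
theorem e_pk2 : k2 * p * (k1 * k2) = p := by
  have := wd_eq (l := wk2 ++ [1] ++ (wk1 ++ wk2)) (l' := [1]) (by decide +kernel)
  simp only [wd_append, wd_p] at this; exact this
theorem e_qb : be * q = q * v := by
  have := wd_eq (l := wbe ++ [2]) (l' := [2] ++ wv) (by decide +kernel)
  simp only [wd_append, wd_q] at this; exact this
theorem e_qv : v * q = q * be := by
  have := wd_eq (l := wv ++ [2]) (l' := [2] ++ wbe) (by decide +kernel)
  simp only [wd_append, wd_q] at this; exact this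
theorem e_qy : y * q = q * y := by
  have := wd_eq (l := [0] ++ [2]) (l' := [2] ++ [0]) (by decide +kernel)
  simp only [wd_append, wd_q, wd_y] at this; exact this
theorem e_qk1 : k1 * q = q * k2 := by
  have := wd_eq (l := wk1 ++ [2]) (l' := [2] ++ wk2) (by decide +kernel)
  simp only [wd_append, wd_q] at this; exact this
theorem e_qk2 : k2 * q = q * k1 := by
  have := wd_eq (l := wk2 ++ [2]) (l' := [2] ++ wk1) (by decide +kernel)
  simp only [wd_append, wd_q] at this; exact this
theorem e_pqp : p * q * p = q * p * q := by
  have := wd_eq (l := [1] ++ [2] ++ [1]) (l' := [2] ++ [1] ++ [2]) (by decide +kernel)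
  simp only [wd_append, wd_q, wd_p] at this; exact this
theorem e_db : be * d = d * be := by
  have := wd_eq (l := wbe ++ wd') (l' := wd' ++ wbe) (by decide +kernel)
  simp only [wd_append] at this; exact this
theorem e_dv : v * d = d * w := by
  have := wd_eq (l := wv ++ wd') (l' := wd' ++ ([0] ++ wk1)) (by decide +kernel)
  simp only [wd_append, wd_y] at this; exact this
theorem e_dw : w * d = d * v := by
  have := wd_eq (l := ([0] ++ wk1) ++ wd') (l' := wd' ++ wv) (by decide +kernel)
  simp only [wd_append, wd_y] at this; exact this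
theorem e_pd : p * d = k1 * v * y * (d * k1) := by
  have := wd_eq (l := [1] ++ wd') (l' := wk1 ++ wv ++ [0] ++ (wd' ++ wk1)) (by decide +kernel)
  simp only [wd_append, wd_y, wd_p] at this; exact this
theorem e_wb : w * be = be * w := by
  have := wd_eq (l := ([0] ++ wk1) ++ wbe) (l' := wbe ++ ([0] ++ wk1)) (by decide +kernel)
  simp only [wd_append, wd_y] at this; exact this
theorem e_wv : w * v = v * w := by
  have := wd_eq (l := ([0] ++ wk1) ++ wv) (l' := wv ++ ([0] ++ wk1)) (by decide +kernel)
  simp only [wd_append, wd_y] at this; exact this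
theorem e_y1 : ¬ InV be v y := by
  rintro (h | h | h | h)
  · exact y_ne h
  · exact wd_ne (l := [0]) (l' := wbe) 0 (by norm_num) (by decide +kernel) (by rw [wd_y]; exact h)
  · exact wd_ne (l := [0]) (l' := wv) 0 (by norm_num) (by decide +kernel) (by rw [wd_y]; exact h)
  · exact wd_ne (l := [0]) (l' := wbe ++ wv) 0 (by norm_num) (by decide +kernel)
      (by rw [wd_y, wd_append]; exact h)

variable {G : Type*} [Group G] {t : G} {f : H →* G}

theorem inV_map (f : H →* G) {u : H} (h : InV be v u) : InV (f be) (f v) (f u) := by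
  rcases h with rfl | rfl | rfl | rfl
  · exact Or.inl (map_one f)
  · exact Or.inr (Or.inl rfl)
  · exact Or.inr (Or.inr (Or.inl rfl))
  · exact Or.inr (Or.inr (Or.inr (map_mul f _ _)))

theorem inW_map (f : H →* G) {u : H} (h : InW be v w u) : InW (f be) (f v) (f w) (f u) := by
  rcases h with h | ⟨u', h, rfl⟩
  · exact Or.inl (inV_map f h)
  · exact Or.inr ⟨_, inV_map f h, map_mul f _ _⟩

theorem inV_mem {u : G} (h : InV (f be) (f v) u) : ∃ m, InV be v m ∧ u = f m := by
  rcases h with rfl | rfl | rfl | rfl
  · exact ⟨1, Or.inl rfl, (map_one f).symm⟩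
  · exact ⟨be, Or.inr (Or.inl rfl), rfl⟩
  · exact ⟨v, Or.inr (Or.inr (Or.inl rfl)), rfl⟩
  · exact ⟨be * v, Or.inr (Or.inr (Or.inr rfl)), (map_mul f _ _).symm⟩

theorem inW_mem {u : G} (h : InW (f be) (f v) (f w) u) : ∃ m, InW be v w m ∧ u = f m := by
  rcases h with h | ⟨u', h, rfl⟩
  · obtain ⟨m, hm, rfl⟩ := inV_mem h
    exact ⟨m, Or.inl hm, rfl⟩
  · obtain ⟨m, hm, rfl⟩ := inV_mem h
    exact ⟨w * m, Or.inr ⟨m, hm, rfl⟩, (map_mul f _ _).symm⟩

theorem inV_pow (i j : Fin 2) : InV be v (be ^ i.1 * v ^ j.1) := by
  fin_cases i <;> fin_cases j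
  · left; simp
  · right; right; left; simp
  · right; left; simp
  · right; right; right; simp

theorem pow_y (l : Fin 2) (x : H) : x ^ l.1 = 1 ∨ x ^ l.1 = x := by
  fin_cases l
  · left; simp
  · right; simp

/-- the relations hold in `C_G(t)` -/
theorem amb (c : Ctx t f) : Amb t (f be) (f v) (f y) (f k1) (f k2) (f w) (f p) (f q) (f d) := by
  have fe : ∀ {x x' : H}, x = x' → f x = f x' := fun h => congrArg f h
  have fn : ∀ {x x' : H}, x ≠ x' → f x ≠ f x' := fun h h' => h (c.inj h')
  have tm : ∀ m, t * f m = f m * t := fun m => (c.comm m).symm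
  have hcomm : ∀ g m x, (g = f m ∨ g = t * f m) → g * f x = f x * g → m * x = x * m := by
    rintro g m x (rfl | rfl) h
    · apply c.inj
      rw [map_mul, map_mul]; exact h
    · apply c.inj
      rw [map_mul, map_mul]
      have h2 : t * (f m * f x) = t * (f x * f m) := by
        rw [← mul_assoc, h, ← mul_assoc, ← mul_assoc, tm x]
      exact mul_left_cancel h2
  exact
    { tt := c.tt
      bb := by simpa only [map_mul, map_one] using fe e_bb
      vv := by simpa only [map_mul, map_one] using fe e_vv
      yy := by simpa only [map_mul, map_one] using fe y_sq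
      pp := by simpa only [map_mul, map_one] using fe e_pp
      qq := by simpa only [map_mul, map_one] using fe e_qq
      dd := by simpa only [map_mul, map_one] using fe e_dd
      b1 := by simpa only [map_one] using fn e_b1
      v1 := by simpa only [map_one] using fn e_v1
      bv1 := fn e_bv1
      y1 := by
        intro h
        obtain ⟨m, hm, h1⟩ := inV_mem h
        rw [← c.inj h1] at hm
        exact e_y1 hm
      t1 := by
        intro x u hx hu h
        obtain ⟨m, -, rfl⟩ := inV_mem hu
        rcases hx with rfl | rfl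
        · exact c.nmem m (by rw [h, one_mul])
        · exact c.nmem (y * m) (by rw [h, map_mul])
      tw1 := by
        intro u hu h
        obtain ⟨m, -, rfl⟩ := inW_mem hu
        exact c.nmem m h.symm
      vb := by simpa only [map_mul] using fe e_vb
      yb := by simpa only [map_mul] using fe e_yb
      yv := by simpa only [map_mul] using fe e_yv
      hw := map_mul f _ _
      k11 := by simpa only [map_mul] using fe e_k11
      k22 := by simpa only [map_mul] using fe e_k22
      kk := by simpa only [map_mul] using fe e_kk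
      yk1 := by rw [cj_eq_iff]; simpa only [map_mul] using fe e_yk1
      yk2 := by rw [cj_eq_iff]; simpa only [map_mul] using fe e_yk2
      pb := by rw [cj_eq_iff]; simpa only [map_mul] using fe e_pb
      pv := by rw [cj_eq_iff]; simpa only [map_mul] using fe e_pv
      py := by rw [cj_eq_iff]; simpa only [map_mul] using fe e_py
      pk1 := by rw [cj_eq_iff]; simpa only [map_mul] using fe e_pk1
      pk2 := by
        rw [cj_eq_iff, eq_mul_inv_iff_mul_eq]; simpa only [map_mul] using fe e_pk2
      qb := by rw [cj_eq_iff]; simpa only [map_mul] using fe e_qb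
      qv := by rw [cj_eq_iff]; simpa only [map_mul] using fe e_qv
      qy := by rw [cj_eq_iff]; simpa only [map_mul] using fe e_qy
      qk1 := by rw [cj_eq_iff]; simpa only [map_mul] using fe e_qk1
      qk2 := by rw [cj_eq_iff]; simpa only [map_mul] using fe e_qk2
      pqp := by simpa only [map_mul] using fe e_pqp
      db := by rw [cj_eq_iff]; simpa only [map_mul] using fe e_db
      dv := by rw [cj_eq_iff]; simpa only [map_mul] using fe e_dv
      dw := by rw [cj_eq_iff]; simpa only [map_mul] using fe e_dw
      pd := by simpa only [map_mul] using fe e_pd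
      ty := tm _
      tk1 := tm _
      tk2 := tm _
      tp := tm _
      tq := tm _
      td := tm _
      cent3 := by
        intro g h1 h2 h3 h4
        obtain ⟨m, hm⟩ := c.cent g h1
        obtain ⟨i, j, l, hl⟩ := cent_byv m (hcomm g m be hm h2) (hcomm g m v hm h3) (hcomm g m y hm h4)
        have hV := inV_pow i j
        have hvy : InV be v (be ^ i.1 * v ^ j.1) → (be ^ i.1 * v ^ j.1) * y ^ l.1 =
            y ^ l.1 * (be ^ i.1 * v ^ j.1) := by
          intro hu
          rcases pow_y l y with h | h <;> rw [h]
          · simp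
          · exact (hu.comm e_yb e_yv).symm
        have hfm : f m = f (y ^ l.1) * f (be ^ i.1 * v ^ j.1) := by
          rw [← map_mul, ← hvy hV, hl]
        have hy : f (y ^ l.1) = 1 ∨ f (y ^ l.1) = f y := by
          rcases pow_y l y with h | h <;> rw [h]
          · left; exact map_one f
          · right; rfl
        rcases hm with hm | hm
        · exact ⟨1, _, _, Or.inl rfl, hy, inV_map f hV, by rw [hm, hfm, one_mul]⟩
        · exact ⟨t, _, _, Or.inr rfl, hy, inV_map f hV, by rw [hm, hfm, mul_assoc]⟩
      centW := by
        intro g h1 h2 h3 h4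
        obtain ⟨m, hm⟩ := c.cent g h1
        obtain ⟨i, j, l, hl⟩ := cent_W m (hcomm g m be hm h2) (hcomm g m v hm h3) (hcomm g m w hm h4)
        have hV := inV_pow i j
        have hW : InW be v w m := by
          rw [hl]
          rcases pow_y l w with h | h <;> rw [h]
          · rw [mul_one]; exact Or.inl hV
          · exact Or.inr ⟨_, hV, (hV.comm e_wb e_wv).symm⟩
        rcases hm with hm | hm
        · exact ⟨1, _, Or.inl rfl, inW_map f hW, by rw [hm, one_mul]⟩
        · exact ⟨t, _, Or.inr rfl, inW_map f hW, hm⟩ }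

end Cfsg.Agent.CoThreeStd.DeltaAmb
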