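import Cfsg.Agent.CoThreeStd.DeltaRel

/-!
# Pattern δ of S1750: the local subgroups (helper178)

`Amb`: the relations in `C_G(t) = ⟨t⟩ × M₁₂` between `t, b, v, y, k1, k2, w, p, q, d`.
-/

set_option autoImplicit false

namespace Cfsg.Agent.CoThreeStd.DeltaLoc

open Cfsg.Agent.CoThreeStd.DeltaRel

variable {G : Type*} [Group G]

/-- conjugation `x ↦ g⁻¹ x g` -/
def cj (g : G) : G →* G := (MulAut.conj g⁻¹).toMonoidHom

theorem cj_apply (g x : G) : cj g x = g⁻¹ * x * g := by
  show g⁻¹ * x * g⁻¹⁻¹ = _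
  rw [inv_inv]

theorem cj_cj (g h x : G) : cj h (cj g x) = cj (g * h) x := by
  simp only [cj_apply]; group

theorem cj_one (x : G) : cj 1 x = x := by
  rw [cj_apply]; group

theorem cj_of_comm {g x : G} (h : x * g = g * x) : cj g x = x := by
  rw [cj_apply, mul_assoc, h]; group

theorem comm_of_cj {g x : G} (h : cj g x = x) : x * g = g * x := by
  rw [cj_apply] at h
  calc x * g = g * (g⁻¹ * x * g) := by group
    _ = g * x := by rw [h]

theorem cj_eq_iff {g x z : G} : cj g x = z ↔ x * g = g * z := by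
  rw [cj_apply]
  constructor
  · rintro rfl; group
  · intro h; rw [mul_assoc, h]; group

theorem cj_injective (g : G) : Function.Injective (cj g) := (MulAut.conj g⁻¹).injective

/-- the relations in `C_G(t)` -/
structure Amb (t b v y k1 k2 w p q d : G) : Prop where
  tt : t * t = 1
  bb : b * b = 1
  vv : v * v = 1
  yy : y * y = 1
  pp : p * p = 1
  qq : q * q = 1
  dd : d * d = 1
  b1 : b ≠ 1
  v1 : v ≠ 1
  bv1 : b ≠ v
  y1 : ¬ InV b v y
  t1 : ∀ c u, (c = 1 ∨ c = y) → InV b v u → t ≠ c * u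
  tw1 : ∀ u, InW b v w u → t ≠ u
  vb : v * b = b * v
  yb : y * b = b * y
  yv : y * v = v * y
  hw : w = y * k1
  k11 : k1 * k1 = b
  k22 : k2 * k2 = v
  kk : k2 * k1 = k1 * k2
  yk1 : cj k1 y = y * b
  yk2 : cj k2 y = y * v
  pb : cj p b = b
  pv : cj p v = b * v
  py : cj p y = y
  pk1 : cj p k1 = k1
  pk2 : cj p k2 = (k1 * k2)⁻¹
  qb : cj q b = v
  qv : cj q v = b
  qy : cj q y = y
  qk1 : cj q k1 = k2
  qk2 : cj q k2 = k1
  pqp : p * q * p = q * p * q
  db : cj d b = b
  dv : cj d v = w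
  dw : cj d w = v
  pd : p * d = k1 * v * y * (d * k1)
  ty : t * y = y * t
  tk1 : t * k1 = k1 * t
  tk2 : t * k2 = k2 * t
  tp : t * p = p * t
  tq : t * q = q * t
  td : t * d = d * t
  cent3 : ∀ g, g * t = t * g → g * b = b * g → g * v = v * g → g * y = y * g →
    ∃ τ c u, (τ = 1 ∨ τ = t) ∧ (c = 1 ∨ c = y) ∧ InV b v u ∧ g = τ * c * u
  centW : ∀ g, g * t = t * g → g * b = b * g → g * v = v * g → g * w = w * g →
    ∃ τ u, (τ = 1 ∨ τ = t) ∧ InW b v w u ∧ g = τ * u

variable {t b v y k1 k2 w p q d : G}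

namespace Amb

variable (A : Amb t b v y k1 k2 w p q d)
include A

theorem k1b : k1 * b = b * k1 := by rw [← A.k11, mul_assoc]
theorem k2v : k2 * v = v * k2 := by rw [← A.k22, mul_assoc]
theorem k2b : k2 * b = b * k2 := by
  rw [← A.k11, ← mul_assoc, A.kk, mul_assoc, A.kk, mul_assoc]
theorem k1v : k1 * v = v * k1 := by
  rw [← A.k22, ← mul_assoc, ← A.kk, mul_assoc, ← A.kk, mul_assoc]
theorem tb : t * b = b * t := by
  rw [← A.k11, ← mul_assoc, A.tk1, mul_assoc, A.tk1, mul_assoc]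
theorem tv : t * v = v * t := by
  rw [← A.k22, ← mul_assoc, A.tk2, mul_assoc, A.tk2, mul_assoc]
theorem tw : t * w = w * t := by
  rw [A.hw, ← mul_assoc, A.ty, mul_assoc, A.tk1, mul_assoc]
theorem wb : w * b = b * w := by
  rw [A.hw, mul_assoc, A.k1b, ← mul_assoc, A.yb, mul_assoc]
theorem wv : w * v = v * w := by
  rw [A.hw, mul_assoc, A.k1v, ← mul_assoc, A.yv, mul_assoc]

/-- the involutions act by inversion -/
theorem inv_b : b⁻¹ = b := inv_eq_of_mul_eq_one_left A.bb
theorem inv_v : v⁻¹ = v := inv_eq_of_mul_eq_one_left A.vv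
theorem inv_y : y⁻¹ = y := inv_eq_of_mul_eq_one_left A.yy
theorem inv_t : t⁻¹ = t := inv_eq_of_mul_eq_one_left A.tt
theorem inv_k1 : k1⁻¹ = k1 * b := by
  apply inv_eq_of_mul_eq_one_left
  rw [mul_assoc, ← A.k1b, ← mul_assoc, A.k11, A.bb]
theorem inv_k2 : k2⁻¹ = k2 * v := by
  apply inv_eq_of_mul_eq_one_left
  rw [mul_assoc, ← A.k2v, ← mul_assoc, A.k22, A.vv]

theorem k1y : cj y k1 = k1⁻¹ := by
  rw [cj_eq_iff, A.inv_k1]
  have h := A.yk1
  rw [cj_eq_iff] at h
  calc k1 * y = k1 * (y * b) * b := by rw [mul_assoc, mul_assoc y, A.bb, mul_one]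
    _ = y * k1 * b := by rw [← h]
    _ = _ := by group

theorem k2y : cj y k2 = k2⁻¹ := by
  rw [cj_eq_iff, A.inv_k2]
  have h := A.yk2
  rw [cj_eq_iff] at h
  calc k2 * y = k2 * (y * v) * v := by rw [mul_assoc, mul_assoc y, A.vv, mul_one]
    _ = y * k2 * v := by rw [← h]
    _ = _ := by group

theorem ww : w * w = 1 := by
  have h := A.k1y
  rw [cj_apply, A.inv_y] at h
  calc w * w = (y * k1 * y) * k1 := by rw [A.hw]; group
    _ = 1 := by rw [h]; group

theorem wk1 : cj k1 w = w * b := by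
  rw [A.hw, map_mul, A.yk1, cj_of_comm rfl]
  rw [mul_assoc, ← A.k1b, mul_assoc]

theorem wk2 : cj k2 w = w * v := by
  rw [A.hw, map_mul, A.yk2, cj_of_comm A.kk.symm]
  rw [mul_assoc, ← A.k1v, mul_assoc]

theorem rb : cj (p * q) b = v := by rw [← cj_cj, A.pb, A.qb]
theorem rv : cj (p * q) v = b * v := by rw [← cj_cj, A.pv, map_mul, A.qb, A.qv, A.vb]
theorem ry : cj (p * q) y = y := by rw [← cj_cj, A.py, A.qy]
theorem rk1 : cj (p * q) k1 = k2 := by rw [← cj_cj, A.pk1, A.qk1]
theorem rk2 : cj (p * q) k2 = (k1 * k2)⁻¹ := by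
  rw [← cj_cj, A.pk2, map_inv, map_mul, A.qk1, A.qk2, A.kk]
theorem rt : cj (p * q) t = t := by
  rw [← cj_cj, cj_of_comm A.tp, cj_of_comm A.tq]
theorem rb' : cj (q * p) b = b * v := by rw [← cj_cj, A.qb, A.pv]
theorem rv' : cj (q * p) v = b := by rw [← cj_cj, A.qv, A.pb]
theorem ry' : cj (q * p) y = y := by rw [← cj_cj, A.qy, A.py]
theorem rt' : cj (q * p) t = t := by
  rw [← cj_cj, cj_of_comm A.tq, cj_of_comm A.tp]

theorem rr (x : G) : cj (p * q) (cj (p * q) x) = cj (q * p) x := by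
  rw [cj_cj]
  congr 1
  have h : p * q * (p * q) = q * p * (q * q) := by
    rw [← mul_assoc, A.pqp]; group
  rw [h, A.qq, mul_one]

theorem rr' (x : G) : cj (p * q) (cj (q * p) x) = x := by
  rw [cj_cj]
  have h : q * p * (p * q) = 1 := by
    calc q * p * (p * q) = q * (p * p) * q := by group
      _ = 1 := by rw [A.pp, mul_one, A.qq]
  rw [h, cj_one]

omit A in
/-- `π ρ = ρ² π` -/
theorem pr1 (x : G) : cj p (cj (p * q) x) = cj (q * p) (cj p x) := by
  rw [cj_cj, cj_cj]; congr 1; group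
theorem pr2 (x : G) : cj p (cj (q * p) x) = cj q x := by
  rw [cj_cj, mul_assoc, A.pp, mul_one]
theorem pr3 (x : G) : cj (p * q) (cj p x) = cj q x := by
  rw [cj_cj, ← mul_assoc, A.pp, one_mul]

theorem mulV {u u' : G} (h : InV b v u) (h' : InV b v u') : InV b v (u * u') := h.mul h' A.bb A.vv A.vb

theorem sqV {u : G} (h : InV b v u) : u * u = 1 := h.sq A.bb A.vv A.vb

theorem invV {u : G} (h : InV b v u) : u⁻¹ = u := inv_eq_of_mul_eq_one_left (A.sqV h)

theorem commVV {u u' : G} (h : InV b v u) (h' : InV b v u') : u * u' = u' * u :=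
  h'.comm (h.comm rfl A.vb.symm).symm (h.comm A.vb rfl).symm

theorem rV {u : G} (h : InV b v u) : InV b v (cj (p * q) u) := by
  rcases h with rfl | rfl | rfl | rfl
  · rw [map_one]; exact Or.inl rfl
  · rw [A.rb]; exact Or.inr (Or.inr (Or.inl rfl))
  · rw [A.rv]; exact Or.inr (Or.inr (Or.inr rfl))
  · rw [map_mul, A.rb, A.rv, ← mul_assoc, A.vb, mul_assoc, A.vv, mul_one]
    exact Or.inr (Or.inl rfl)

theorem rV' {u : G} (h : InV b v u) : InV b v (cj (q * p) u) := by
  rw [← A.rr]; exact A.rV (A.rV h)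

/-- the norm of an element of `V` is trivial -/
theorem normV {u : G} (h : InV b v u) : u * cj (p * q) u * cj (q * p) u = 1 := by
  have e1 : b * v * (b * v) = 1 := by
    rw [← mul_assoc, mul_assoc b, A.vb, ← mul_assoc, A.bb, one_mul, A.vv]
  rcases h with h | h | h | h <;> rw [h]
  · simp
  · rw [A.rb, A.rb', e1]
  · rw [A.rv, A.rv']
    calc v * (b * v) * b = (v * b) * (v * b) := by group
      _ = (b * v) * (b * v) := by rw [A.vb]
      _ = 1 := e1
  · rw [map_mul, map_mul, A.rb, A.rv, A.rb', A.rv']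
    calc b * v * (v * (b * v)) * (b * v * b) = b * (v * v) * (b * v) * (b * v) * b := by group
      _ = b * (b * v * (b * v)) * b := by rw [A.vv]; group
      _ = 1 := by rw [e1, mul_one, A.bb]

theorem rV_eq {u : G} (h : InV b v u) (h2 : cj (p * q) u = u) : u = 1 := by
  have h3 : cj (q * p) u = u := by rw [← A.rr, h2, h2]
  have h4 := A.normV h
  rw [h2, h3, A.sqV h, one_mul] at h4
  exact h4

end Amb

theorem cj_map (g X x : G) : cj (cj g X) (cj g x) = cj g (cj X x) := by
  simp only [cj_apply]; group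

theorem comm_map {X x : G} (g : G) (h : X * x = x * X) : cj g X * cj g x = cj g x * cj g X := by
  rw [← map_mul, h, map_mul]

/-- `X` centralises `b, v, y` and maps `t` to `t x` -/
def Over (t b v y x X : G) : Prop := cj X t = t * x ∧ X * b = b * X ∧ X * v = v * X ∧ X * y = y * X

namespace Amb

variable (A : Amb t b v y k1 k2 w p q d)
include A

theorem over_rho {x X : G} (h : Over t b v y x X) : Over t b v y (cj (p * q) x) (cj (p * q) X) := by
  obtain ⟨h1, h2, h3, h4⟩ := h
  have e1 := comm_map (p * q) h2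
  have e2 := comm_map (p * q) h3
  have e3 := comm_map (p * q) h4
  rw [A.rb] at e1
  rw [A.rv] at e2
  rw [A.ry] at e3
  refine ⟨?_, ?_, e1, e3⟩
  · have h5 := cj_map (p * q) X t
    rw [A.rt, h1, map_mul, A.rt] at h5
    exact h5
  · have : b = b * v * v := by rw [mul_assoc, A.vv, mul_one]
    rw [this, ← mul_assoc, e2, mul_assoc, e1]
    group

theorem over_rho' {x X : G} (h : Over t b v y x X) : Over t b v y (cj (q * p) x) (cj (q * p) X) := by
  rw [← A.rr, ← A.rr]
  exact A.over_rho (A.over_rho h)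

omit A in
theorem _root_.Cfsg.Agent.CoThreeStd.DeltaLoc.Over.mul {x x' X X' : G} (h : Over t b v y x X)
    (h' : Over t b v y x' X') (hx : InV b v x) : Over t b v y (x' * x) (X * X') := by
  obtain ⟨h1, h2, h3, h4⟩ := h
  obtain ⟨g1, g2, g3, g4⟩ := h'
  refine ⟨?_, ?_, ?_, ?_⟩
  · rw [← cj_cj, h1, map_mul, g1, cj_of_comm (hx.comm g2 g3).symm, mul_assoc]
  · rw [mul_assoc, g2, ← mul_assoc, h2, mul_assoc]
  · rw [mul_assoc, g3, ← mul_assoc, h3, mul_assoc]
  · rw [mul_assoc, g4, ← mul_assoc, h4, mul_assoc]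

theorem over_one {X : G} (h : Over t b v y 1 X) :
    ∃ τ c u, (τ = 1 ∨ τ = t) ∧ (c = 1 ∨ c = y) ∧ InV b v u ∧ X = τ * c * u := by
  obtain ⟨h1, h2, h3, h4⟩ := h
  rw [mul_one] at h1
  exact A.cent3 X (comm_of_cj h1).symm h2 h3 h4

/-- properties of `c ∈ {1, t, y, ty}` -/
theorem c_props {τ c : G} (hτ : τ = 1 ∨ τ = t) (hc : c = 1 ∨ c = y) :
    (τ * c) * (τ * c) = 1 ∧ cj (p * q) (τ * c) = τ * c ∧ cj (q * p) (τ * c) = τ * c ∧
    Over t b v y 1 (τ * c) := by
  have ht : τ * t = t * τ := by rcases hτ with rfl | rfl <;> simp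
  have ty' : τ * y = y * τ := by
    rcases hτ with rfl | rfl
    · simp
    · exact A.ty
  have tb' : τ * b = b * τ := by
    rcases hτ with rfl | rfl
    · simp
    · exact A.tb
  have tv' : τ * v = v * τ := by
    rcases hτ with rfl | rfl
    · simp
    · exact A.tv
  have cτ : c * τ = τ * c := by
    rcases hc with rfl | rfl
    · simp
    · exact ty'.symm
  have ct : c * t = t * c := by
    rcases hc with rfl | rfl
    · simp
    · exact A.ty.symm
  have cb : c * b = b * c := by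
    rcases hc with rfl | rfl
    · simp
    · exact A.yb
  have cv : c * v = v * c := by
    rcases hc with rfl | rfl
    · simp
    · exact A.yv
  have cy : c * y = y * c := by
    rcases hc with rfl | rfl <;> simp
  have τ2 : τ * τ = 1 := by
    rcases hτ with rfl | rfl
    · simp
    · exact A.tt
  have c2 : c * c = 1 := by
    rcases hc with rfl | rfl
    · simp
    · exact A.yy
  refine ⟨?_, ?_, ?_, ?_, ?_, ?_, ?_⟩
  · rw [mul_assoc, ← mul_assoc c, cτ, mul_assoc, c2, mul_one, τ2]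
  · rw [map_mul]
    rcases hτ with rfl | rfl <;> rcases hc with rfl | rfl <;> simp [A.rt, A.ry]
  · rw [map_mul]
    rcases hτ with rfl | rfl <;> rcases hc with rfl | rfl <;> simp [A.rt', A.ry']
  · rw [mul_one]
    apply cj_of_comm
    rw [← mul_assoc, ← ht, mul_assoc, ← ct, mul_assoc]
  · rw [mul_assoc, cb, ← mul_assoc, tb', mul_assoc]
  · rw [mul_assoc, cv, ← mul_assoc, tv', mul_assoc]
  · rw [mul_assoc, cy, ← mul_assoc, ty', mul_assoc]

/-- normalisation: `X X^{pq} X^{qp} = 1` -/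
theorem exists_norm {X : G} (h : Over t b v y b X) :
    ∃ τ c, (τ = 1 ∨ τ = t) ∧ (c = 1 ∨ c = y) ∧ Over t b v y b (X * (τ * c)) ∧
      (X * (τ * c)) * cj (p * q) (X * (τ * c)) * cj (q * p) (X * (τ * c)) = 1 := by
  have o1 := A.over_rho h
  have o2 := A.over_rho' h
  rw [A.rb] at o1
  rw [A.rb'] at o2
  have hbV : InV b v b := Or.inr (Or.inl rfl)
  have hvV : InV b v v := Or.inr (Or.inr (Or.inl rfl))
  have o3 := (h.mul o1 hbV).mul o2 (A.mulV hvV hbV)
  have e1 : b * v * (v * b) = 1 := by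
    calc b * v * (v * b) = b * (v * v) * b := by group
      _ = 1 := by rw [A.vv, mul_one, A.bb]
  rw [e1] at o3
  obtain ⟨τ, c, u, hτ, hc, hu, hP⟩ := A.over_one o3
  obtain ⟨c2, rc, rc', oc⟩ := A.c_props hτ hc
  refine ⟨τ, c, hτ, hc, ?_, ?_⟩
  · have := h.mul oc hbV
    rwa [one_mul] at this
  obtain ⟨z, hz⟩ : ∃ z, z = τ * c := ⟨_, rfl⟩
  rw [← hz] at hP c2 rc rc' oc ⊢
  obtain ⟨X1, hX1⟩ : ∃ X1, X1 = cj (p * q) X := ⟨_, rfl⟩
  obtain ⟨X2, hX2⟩ : ∃ X2, X2 = cj (q * p) X := ⟨_, rfl⟩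
  rw [← hX1, ← hX2] at hP
  rw [← hX1] at o1
  rw [← hX2] at o2
  -- `z ^ X1 = z u1`
  obtain ⟨u1, hu1, hzX⟩ : ∃ u1, InV b v u1 ∧ z * X1 = X1 * (z * u1) := by
    have hc1 : cj X1 c = c := by
      rcases hc with rfl | rfl
      · exact map_one _
      · exact cj_of_comm o1.2.2.2.symm
    rcases hτ with h0 | h0
    · refine ⟨1, Or.inl rfl, ?_⟩
      rw [← cj_eq_iff, hz, h0, map_mul, map_one, hc1, mul_one]
    · refine ⟨v, hvV, ?_⟩
      rw [← cj_eq_iff, hz, h0, map_mul, o1.1, hc1, mul_assoc, mul_assoc]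
      congr 1
      rcases hc with rfl | rfl
      · simp
      · exact A.yv.symm
  have zu1 : z * u1 = u1 * z := hu1.comm oc.2.1 oc.2.2.1
  have X2u1 : X2 * u1 = u1 * X2 := hu1.comm o2.2.1 o2.2.2.1
  have key : X * z * cj (p * q) (X * z) * cj (q * p) (X * z) = u * u1 := by
    rw [map_mul, map_mul, rc, rc', ← hX1, ← hX2]
    calc X * z * (X1 * z) * (X2 * z) = X * (z * X1) * z * X2 * z := by group
      _ = X * (X1 * (z * u1)) * z * X2 * z := by rw [hzX]
      _ = X * X1 * (z * u1) * z * X2 * z := by group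
      _ = X * X1 * (u1 * z) * z * X2 * z := by rw [zu1]
      _ = X * X1 * u1 * (z * z) * X2 * z := by group
      _ = X * X1 * (u1 * X2) * z := by rw [c2]; group
      _ = X * X1 * (X2 * u1) * z := by rw [X2u1]
      _ = (X * X1 * X2) * (u1 * z) := by group
      _ = (z * u) * (z * u1) := by rw [hP, zu1]
      _ = z * (u * z) * u1 := by group
      _ = z * (z * u) * u1 := by rw [hu.comm oc.2.1 oc.2.2.1]
      _ = (z * z) * u * u1 := by group
      _ = _ := by rw [c2, one_mul]
  have huu : InV b v (u * u1) := A.mulV hu hu1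
  have hXz : Over t b v y b (X * z) := by
    have := h.mul oc hbV
    rwa [one_mul] at this
  apply A.rV_eq (u := X * z * cj (p * q) (X * z) * cj (q * p) (X * z)) (by rw [key]; exact huu)
  rw [map_mul, map_mul, A.rr, A.rr']
  have h7 : (X * z) * (X * z * cj (p * q) (X * z) * cj (q * p) (X * z)) =
      (X * z * cj (p * q) (X * z) * cj (q * p) (X * z)) * (X * z) := by
    rw [key]
    exact huu.comm hXz.2.1 hXz.2.2.1
  have h8 : (X * z) * (cj (p * q) (X * z) * cj (q * p) (X * z) * (X * z)) =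
      (X * z) * (X * z * cj (p * q) (X * z) * cj (q * p) (X * z)) := by
    rw [h7]; group
  exact mul_left_cancel h8

end Amb

/-- properties of the normalised `X` -/
structure XOK (t b v y k1 k2 p q X u1 u2 c u : G) : Prop where
  ov : Over t b v y b X
  prod : X * cj (p * q) X * cj (q * p) X = 1
  hu1 : InV b v u1
  hu2 : InV b v u2
  hc : c = 1 ∨ c = y
  hu : InV b v u
  k1X : cj X k1 = k1 * u1
  k2X : cj X k2 = k2 * u2
  pX : cj X p = p * (c * u)

namespace Amb

variable (A : Amb t b v y k1 k2 w p q d)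
include A

variable {X u1 u2 c u : G}

omit A in
theorem fixV {x X : G} (o : Over t b v y x X) {u : G} (hu : InV b v u) : cj X u = u :=
  cj_of_comm (hu.comm o.2.1 o.2.2.1).symm

theorem x_sq (h : XOK t b v y k1 k2 p q X u1 u2 c u) : InV b v (X * X) := by
  have hbV : InV b v b := Or.inr (Or.inl rfl)
  have o := h.ov.mul h.ov hbV
  rw [A.bb] at o
  obtain ⟨τ, c', u', hτ, hc', hu', hXX⟩ := A.over_one o
  have hXy : cj X y = y := cj_of_comm h.ov.2.2.2.symm
  have hc'' : cj X c' = c' := by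
    rcases hc' with rfl | rfl
    · exact map_one _
    · exact hXy
  have h1 : cj X (X * X) = X * X := cj_of_comm (mul_assoc X X X)
  rcases hτ with h0 | h0
  · rcases hc' with h0' | h0'
    · rw [hXX, h0, h0', one_mul, one_mul]; exact hu'
    · exfalso
      have h2 : cj (X * X) k1 = k1 := by
        rw [← cj_cj, h.k1X, map_mul, h.k1X, fixV h.ov h.hu1, mul_assoc, A.sqV h.hu1, mul_one]
      rw [hXX, h0, h0', one_mul, ← cj_cj, A.k1y, map_inv,
        cj_of_comm (hu'.comm A.k1b A.k1v)] at h2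
      have h3 : k1 * k1 = 1 := by
        nth_rewrite 1 [← h2]
        group
      rw [A.k11] at h3
      exact A.b1 h3
  · exfalso
    rw [hXX, h0, map_mul, map_mul, h.ov.1, hc'', fixV h.ov hu'] at h1
    have h2 : t * b * c' * u' = t * c' * u' := h1
    have h3 : t * b * c' = t * c' := mul_right_cancel h2
    have h4 : t * b = t := mul_right_cancel h3
    exact A.b1 (mul_eq_left.1 h4)

theorem x_comm (h : XOK t b v y k1 k2 p q X u1 u2 c u) : X * cj (p * q) X = cj (p * q) X * X := by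
  have h0 := A.x_sq h
  have h1 := h.prod
  obtain ⟨X1, hX1⟩ : ∃ X1, X1 = cj (p * q) X := ⟨_, rfl⟩
  obtain ⟨X2, hX2⟩ : ∃ X2, X2 = cj (q * p) X := ⟨_, rfl⟩
  have o1 := A.over_rho h.ov
  rw [A.rb] at o1
  have s1 : X1 * X1 = cj (p * q) (X * X) := by rw [hX1, map_mul]
  have s2 : X2 * X2 = cj (q * p) (X * X) := by rw [hX2, map_mul]
  rw [← hX1, ← hX2] at h1
  rw [← hX1] at o1 ⊢
  have h2 : (X * X1) * (X * X1) = (X2 * X2)⁻¹ := by
    have : X * X1 = X2⁻¹ := eq_inv_of_mul_eq_one_left h1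
    rw [this]; group
  obtain ⟨a, ha⟩ : ∃ a, a = X * X := ⟨_, rfl⟩
  rw [← ha] at h0 s1 s2
  have ha1 := A.rV h0
  have ha2 := A.rV' h0
  rw [s2, A.invV ha2] at h2
  have n := A.normV h0
  -- X1 X = X X1
  have h3 : X * (X1 * X) * X1 = X * (X * X1) * X1 := by
    calc X * (X1 * X) * X1 = (X * X1) * (X * X1) := by group
      _ = cj (q * p) a := h2
      _ = a * cj (p * q) a := by
        have : a * cj (p * q) a = (cj (q * p) a)⁻¹ := eq_inv_of_mul_eq_one_left n
        rw [this, A.invV ha2]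
      _ = (X * X) * (X1 * X1) := by rw [s1, ha]
      _ = _ := by group
  exact (mul_left_cancel (mul_right_cancel h3)).symm

theorem x_prod' (h : XOK t b v y k1 k2 p q X u1 u2 c u) : X * cj (q * p) X * cj (p * q) X = 1 := by
  have h1 := h.prod
  have h2 := A.x_comm h
  have h3 : cj (q * p) X = (X * cj (p * q) X)⁻¹ := eq_inv_of_mul_eq_one_right h1
  rw [h3, h2]
  group

theorem x_p (h : XOK t b v y k1 k2 p q X u1 u2 c u) : c = 1 ∧ cj p X = X * u := by
  have hcu : c * u = u * c := by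
    rcases h.hc with h0 | h0
    · rw [h0]; simp
    · rw [h0]; exact h.hu.comm A.yb A.yv
  have hpX : cj p X = X * (c * u) := by
    have h1 := h.pX
    rw [cj_eq_iff] at h1
    have h2 : X * p = p * (X * (c * u)) := by
      have e2 : (c * u) * (c * u) = 1 := by
        rcases h.hc with h0 | h0
        · rw [h0, one_mul, A.sqV h.hu]
        · have : u * c = c * u := hcu.symm
          calc c * u * (c * u) = c * (u * c) * u := by group
            _ = c * (c * u) * u := by rw [this]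
            _ = (c * c) * (u * u) := by group
            _ = 1 := by rw [A.sqV h.hu, h0, A.yy, one_mul]
      calc X * p = X * (p * (c * u)) * (c * u) := by
            rw [mul_assoc X, mul_assoc p, e2, mul_one]
        _ = p * X * (c * u) := by rw [← h1]
        _ = _ := by group
    rw [cj_eq_iff, h2]
  rcases h.hc with h0 | h0
  · exact ⟨h0, by rw [hpX, h0, one_mul]⟩
  · exfalso
    have h1 : cj p (X * cj (p * q) X * cj (q * p) X) = 1 := by rw [h.prod, map_one]
    rw [map_mul, map_mul, pr1, A.pr2, ← A.pr3, hpX, map_mul (cj (q * p)) X, map_mul (cj (p * q)) X] at h1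
    have o1 := A.over_rho h.ov
    have o2 := A.over_rho' h.ov
    obtain ⟨X1, hX1⟩ : ∃ X1, X1 = cj (p * q) X := ⟨_, rfl⟩
    obtain ⟨X2, hX2⟩ : ∃ X2, X2 = cj (q * p) X := ⟨_, rfl⟩
    have h2 := A.x_prod' h
    have r1 : cj (p * q) (c * u) = c * cj (p * q) u := by rw [map_mul, h0, A.ry]
    have r2 : cj (q * p) (c * u) = c * cj (q * p) u := by rw [map_mul, h0, A.ry']
    rw [r1, r2, ← hX1, ← hX2] at h1
    rw [← hX1, ← hX2] at h2
    rw [← hX1] at o1
    rw [← hX2] at o2
    have hu1' := A.rV h.hu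
    have hu2' := A.rV' h.hu
    have nn := A.normV h.hu
    obtain ⟨a1, ha1⟩ : ∃ a1, a1 = cj (p * q) u := ⟨_, rfl⟩
    obtain ⟨a2, ha2⟩ : ∃ a2, a2 = cj (q * p) u := ⟨_, rfl⟩
    rw [← ha1, ← ha2] at h1 nn
    rw [← ha1] at hu1'
    rw [← ha2] at hu2'
    rw [h0] at h1
    -- move everything
    have g1 : Commute (y * u) X2 := by
      have x1 : Commute X2 y := o2.2.2.2
      have x2 : Commute X2 u := h.hu.comm o2.2.1 o2.2.2.1
      exact (x1.mul_right x2).symm
    have g2 : Commute (y * u) X1 := by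
      have x1 : Commute X1 y := o1.2.2.2
      have x2 : Commute X1 u := h.hu.comm o1.2.1 o1.2.2.1
      exact (x1.mul_right x2).symm
    have g3 : Commute (y * a2) X1 := by
      have x1 : Commute X1 y := o1.2.2.2
      have x2 : Commute X1 a2 := hu2'.comm o1.2.1 o1.2.2.1
      exact (x1.mul_right x2).symm
    have y1 : Commute y u := h.hu.comm A.yb A.yv
    have y2 : Commute y a2 := hu2'.comm A.yb A.yv
    have y3 : Commute y a1 := hu1'.comm A.yb A.yv
    have y4 : Commute a2 a1 := A.commVV hu2' hu1'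
    have h3 : X * (y * u) * (X2 * (y * a2)) * (X1 * (y * a1)) = X * X2 * X1 * y := by
      calc X * (y * u) * (X2 * (y * a2)) * (X1 * (y * a1))
          = X * ((y * u) * X2) * ((y * a2) * X1) * (y * a1) := by group
        _ = X * (X2 * (y * u)) * (X1 * (y * a2)) * (y * a1) := by rw [g1.eq, g3.eq]
        _ = X * X2 * ((y * u) * X1) * (y * a2) * (y * a1) := by group
        _ = X * X2 * (X1 * (y * u)) * (y * a2) * (y * a1) := by rw [g2.eq]
        _ = X * X2 * X1 * (y * (u * y) * (a2 * y) * a1) := by group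
        _ = X * X2 * X1 * (y * (y * u) * (y * a2) * a1) := by rw [y1.eq, y2.eq]
        _ = X * X2 * X1 * ((y * y) * (u * y) * (a2 * a1)) := by group
        _ = X * X2 * X1 * (y * (u * (a1 * a2))) := by rw [A.yy, ← y1.eq, y4.eq]; group
        _ = X * X2 * X1 * (y * (u * a1 * a2)) := by group
        _ = _ := by rw [nn, mul_one]
    rw [h3, h2, one_mul] at h1
    apply A.y1
    rw [h1]
    exact Or.inl rfl

/-- elements of `V` fixed by `p` -/
theorem fix_p {u : G} (h : InV b v u) (h2 : cj p u = u) : u = 1 ∨ u = b := by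
  rcases h with h0 | h0 | h0 | h0
  · exact Or.inl h0
  · exact Or.inr h0
  · exfalso
    rw [h0, A.pv] at h2
    exact A.b1 (mul_eq_right.1 h2)
  · exfalso
    rw [h0, map_mul, A.pb, A.pv, ← mul_assoc, A.bb, one_mul] at h2
    exact A.b1 (mul_eq_right.1 h2.symm)

theorem x_sq' (h : XOK t b v y k1 k2 p q X u1 u2 c u) : X * X = 1 ∨ X * X = b := by
  apply A.fix_p (A.x_sq h)
  rw [map_mul, (A.x_p h).2]
  calc X * u * (X * u) = X * (u * X) * u := by group
    _ = X * (X * u) * u := by rw [(h.hu.comm h.ov.2.1 h.ov.2.2.1)]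
    _ = X * X * (u * u) := by group
    _ = _ := by rw [A.sqV h.hu, mul_one]

theorem x_u1 (h : XOK t b v y k1 k2 p q X u1 u2 c u) : u1 = 1 ∨ u1 = b := by
  apply A.fix_p h.hu1
  have h1 := cj_map p X k1
  rw [h.k1X, map_mul, A.pk1, (A.x_p h).2, ← cj_cj, h.k1X, map_mul,
    cj_of_comm (h.hu.comm A.k1b A.k1v), cj_of_comm (A.commVV h.hu1 h.hu)] at h1
  exact (mul_left_cancel h1).symm

theorem x_u2 (h : XOK t b v y k1 k2 p q X u1 u2 c u) : u2 = u1 * cj (p * q) u1 := by
  have o1 := A.over_rho h.ov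
  have o2 := A.over_rho' h.ov
  have h3 : cj (p * q) (k1 * k2)⁻¹ = k1 := by
    rw [map_inv, map_mul, A.rk1, A.rk2]; group
  have h4 : cj (q * p) k2 = k1 := by rw [← A.rr, A.rk2, h3]
  have kX : cj X (k1 * k2)⁻¹ = (k1 * k2)⁻¹ * (u1 * u2) := by
    have c1 : Commute k2 u1 := h.hu1.comm A.k2b A.k2v
    have c2 : Commute k1 u1 := h.hu1.comm A.k1b A.k1v
    have c3 : Commute k2 u2 := h.hu2.comm A.k2b A.k2v
    have c4 : Commute k1 u2 := h.hu2.comm A.k1b A.k1v
    have c5 : Commute u1 u2 := A.commVV h.hu1 h.hu2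
    rw [map_inv, map_mul, h.k1X, h.k2X]
    have e : k1 * u1 * (k2 * u2) = (u1 * u2) * (k1 * k2) := by
      calc k1 * u1 * (k2 * u2) = (k1 * u1) * (k2 * u2) := by group
        _ = (u1 * k1) * (u2 * k2) := by rw [c2.eq, c3.eq]
        _ = u1 * (k1 * u2) * k2 := by group
        _ = u1 * (u2 * k1) * k2 := by rw [c4.eq]
        _ = _ := by group
    rw [e, mul_inv_rev, A.invV (A.mulV h.hu1 h.hu2)]
  have e1 : cj (cj (p * q) X) k1 = k1 * cj (p * q) (u1 * u2) := by
    have := cj_map (p * q) X (k1 * k2)⁻¹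
    rw [h3, kX, map_mul, h3] at this
    exact this
  have e2 : cj (cj (q * p) X) k1 = k1 * cj (q * p) u2 := by
    have := cj_map (q * p) X k2
    rw [h4, h.k2X, map_mul, h4] at this
    exact this
  have e3 : cj (X * cj (p * q) X * cj (q * p) X) k1 = k1 := by rw [h.prod, cj_one]
  have w1 := A.rV h.hu1
  have w2 := A.rV h.hu2
  have w2' := A.rV' h.hu2
  rw [← cj_cj (X * cj (p * q) X) (cj (q * p) X), ← cj_cj X (cj (p * q) X), h.k1X, map_mul, e1, map_mul,
    map_mul, e2, fixV o1 h.hu1,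
    fixV o2 h.hu1, map_mul, map_mul, fixV o2 w1, fixV o2 w2] at e3
  have n2 := A.normV h.hu2
  obtain ⟨a1, ha1⟩ : ∃ a1, a1 = cj (p * q) u1 := ⟨_, rfl⟩
  obtain ⟨a2, ha2⟩ : ∃ a2, a2 = cj (p * q) u2 := ⟨_, rfl⟩
  obtain ⟨a3, ha3⟩ : ∃ a3, a3 = cj (q * p) u2 := ⟨_, rfl⟩
  rw [← ha1, ← ha2, ← ha3] at e3
  rw [← ha2, ← ha3] at n2
  rw [← ha1] at w1 ⊢
  rw [← ha2] at w2
  rw [← ha3] at w2'
  have e4 : a3 * (a1 * a2) * u1 = 1 := by
    have : k1 * (a3 * (a1 * a2) * u1) = k1 := by
      rw [← mul_assoc, ← mul_assoc]; exact e3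
    exact mul_eq_left.1 this
  -- u2 * a2 * a3 = 1
  have c1 : Commute a3 (a1 * a2) := A.commVV w2' (A.mulV w1 w2)
  have c2 : Commute a3 u1 := A.commVV w2' h.hu1
  have c3 : Commute a2 u1 := A.commVV w2 h.hu1
  have e5 : a1 * u1 * (a2 * a3) = 1 := by
    calc a1 * u1 * (a2 * a3) = a1 * (u1 * a2) * a3 := by group
      _ = a1 * (a2 * u1) * a3 := by rw [c3.eq]
      _ = (a1 * a2) * (u1 * a3) := by group
      _ = (a1 * a2) * (a3 * u1) := by rw [c2.eq]
      _ = ((a1 * a2) * a3) * u1 := by group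
      _ = (a3 * (a1 * a2)) * u1 := by rw [c1.eq]
      _ = 1 := e4
  have e6 : a2 * a3 = u2 := by
    have : u2 * (a2 * a3) = 1 := by rw [← n2]; group
    have h5 : a2 * a3 = u2⁻¹ := eq_inv_of_mul_eq_one_right this
    rw [h5, A.invV h.hu2]
  rw [e6] at e5
  have e7 : a1 * u1 = u2⁻¹ := eq_inv_of_mul_eq_one_left e5
  rw [A.invV h.hu2] at e7
  rw [← e7]
  exact A.commVV w1 h.hu1

end Amb

/-- the element `s` -/
structure SOK (t b v y k1 k2 p q s : G) (f l : Bool) : Prop where
  ov : Over t b v y b s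
  k1s : cj s k1 = k1
  k2s : cj s k2 = if f then k2 * b else k2
  s2 : s * s = if l then b else 1
  comm : s * cj (p * q) s = cj (p * q) s * s
  prod : s * cj (p * q) s * cj (q * p) s = if f then y else 1
  ps : ∃ u, InV b v u ∧ cj p s = s * u

theorem Amb.exists_s (A : Amb t b v y k1 k2 w p q d) {X u1 u2 c u : G}
    (h : XOK t b v y k1 k2 p q X u1 u2 c u) :
    ∃ c' f l, (c' = 1 ∨ c' = y) ∧ SOK t b v y k1 k2 p q (X * c') f l := by
  obtain ⟨l, hl⟩ : ∃ l : Bool, X * X = if l then b else 1 := by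
    rcases A.x_sq' h with h0 | h0
    · exact ⟨false, by simpa using h0⟩
    · exact ⟨true, by simpa using h0⟩
  have h2 := A.x_u2 h
  rcases A.x_u1 h with h0 | h0
  · refine ⟨1, false, l, Or.inl rfl, ?_⟩
    rw [mul_one]
    rw [h0, map_one, mul_one] at h2
    exact
      { ov := h.ov
        k1s := by rw [h.k1X, h0, mul_one]
        k2s := by rw [h.k2X, h2, mul_one]; rfl
        s2 := hl
        comm := A.x_comm h
        prod := h.prod
        ps := ⟨u, h.hu, (A.x_p h).2⟩ }
  · refine ⟨y, true, l, Or.inr rfl, ?_⟩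
    rw [h0, A.rb] at h2
    have hy := h.ov.2.2.2
    have o1 := A.over_rho h.ov
    have o2 := A.over_rho' h.ov
    exact
      { ov := by
          refine ⟨?_, ?_, ?_, ?_⟩
          · rw [← cj_cj, h.ov.1, map_mul, cj_of_comm A.ty, cj_of_comm A.yb.symm]
          · rw [mul_assoc, A.yb, ← mul_assoc, h.ov.2.1, mul_assoc]
          · rw [mul_assoc, A.yv, ← mul_assoc, h.ov.2.2.1, mul_assoc]
          · exact ((show Commute X y from hy).mul_left (Commute.refl y)).eq
        k1s := by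
          rw [← cj_cj, h.k1X, map_mul, A.k1y, h0, cj_of_comm A.yb.symm, A.inv_k1, mul_assoc, A.bb,
            mul_one]
        k2s := by
          rw [← cj_cj, h.k2X, map_mul, A.k2y, h2, map_mul, cj_of_comm A.yb.symm, cj_of_comm A.yv.symm,
            A.inv_k2, if_pos rfl, ← A.vb, mul_assoc, ← mul_assoc v, A.vv, one_mul]
        s2 := by
          rw [← hl]
          calc X * y * (X * y) = X * (y * X) * y := by group
            _ = X * (X * y) * y := by rw [hy]
            _ = X * X * (y * y) := by group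
            _ = _ := by rw [A.yy, mul_one]
        comm := by
          have hc := A.x_comm h
          rw [map_mul, A.ry]
          calc X * y * (cj (p * q) X * y) = X * (y * cj (p * q) X) * y := by group
            _ = X * (cj (p * q) X * y) * y := by rw [o1.2.2.2]
            _ = (X * cj (p * q) X) * y * y := by group
            _ = (cj (p * q) X * X) * y * y := by rw [hc]
            _ = cj (p * q) X * (X * y) * y := by group
            _ = cj (p * q) X * (y * X) * y := by rw [hy]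
            _ = _ := by group
        prod := by
          rw [map_mul, map_mul, A.ry, A.ry', if_pos rfl]
          calc X * y * (cj (p * q) X * y) * (cj (q * p) X * y)
              = X * (y * cj (p * q) X) * (y * cj (q * p) X) * y := by group
            _ = X * (cj (p * q) X * y) * (cj (q * p) X * y) * y := by rw [← o1.2.2.2, ← o2.2.2.2]
            _ = X * cj (p * q) X * (y * cj (q * p) X) * (y * y) := by group
            _ = X * cj (p * q) X * (cj (q * p) X * y) * (y * y) := by rw [← o2.2.2.2]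
            _ = (X * cj (p * q) X * cj (q * p) X) * y * (y * y) := by group
            _ = _ := by rw [h.prod, A.yy, one_mul, mul_one]
        ps := by
          refine ⟨u, h.hu, ?_⟩
          rw [map_mul, (A.x_p h).2, A.py, mul_assoc, ← h.hu.comm A.yb A.yv, ← mul_assoc] }

end Cfsg.Agent.CoThreeStd.DeltaLoc
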