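import Cfsg.Agent.CoThreeStd.DeltaLoc

/-!
# Pattern δ of S1750: the elements `r_v`, `r_w` and the end of the proof (helper178)
-/

set_option autoImplicit false

namespace Cfsg.Agent.CoThreeStd.DeltaR

open Cfsg.Agent.CoThreeStd.DeltaRel Cfsg.Agent.CoThreeStd.DeltaLoc

variable {G : Type*} [Group G] {t b v y k1 k2 w p q d : G}

/-- the element `r_v` -/
def rvE (f : Bool) (sv k2 t : G) : G := if f then sv * k2 * t else sv

section W

variable (A : Amb t b v y k1 k2 w p q d)
include A

theorem wV {u : G} (h : InV b v u) : w * u = u * w := h.comm A.wb A.wv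

theorem mulW {u u' : G} (h : InW b v w u) (h' : InW b v w u') : InW b v w (u * u') := by
  rcases h with h | ⟨a, ha, rfl⟩
  · rcases h' with h' | ⟨a', ha', rfl⟩
    · exact Or.inl (A.mulV h h')
    · refine Or.inr ⟨u * a', A.mulV h ha', ?_⟩
      rw [← mul_assoc, ← wV A h, mul_assoc]
  · rcases h' with h' | ⟨a', ha', rfl⟩
    · exact Or.inr ⟨a * u', A.mulV ha h', by rw [mul_assoc]⟩
    · refine Or.inl ?_
      have : w * a * (w * a') = a * a' := by
        calc w * a * (w * a') = w * (a * w) * a' := by group
          _ = w * (w * a) * a' := by rw [wV A ha]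
          _ = (w * w) * a * a' := by group
          _ = _ := by rw [A.ww, one_mul]
      rw [this]
      exact A.mulV ha ha'

theorem sqW {u : G} (h : InW b v w u) : u * u = 1 := by
  rcases h with h | ⟨a, ha, rfl⟩
  · exact A.sqV h
  · calc w * a * (w * a) = w * (a * w) * a := by group
      _ = w * (w * a) * a := by rw [wV A ha]
      _ = (w * w) * (a * a) := by group
      _ = 1 := by rw [A.ww, A.sqV ha, one_mul]

theorem invW {u : G} (h : InW b v w u) : u⁻¹ = u := inv_eq_of_mul_eq_one_left (sqW A h)

theorem w_ne_v : w ≠ v := by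
  intro h
  have h1 := A.wk1
  rw [h, cj_of_comm A.k1v.symm] at h1
  exact A.b1 (mul_eq_left.1 h1.symm)

theorem w_ne_one : w ≠ 1 := by
  intro h
  have h1 := A.wk1
  rw [h, map_one, one_mul] at h1
  exact A.b1 h1.symm

theorem dV {u : G} (h : InV b v u) : InW b v w (cj d u) := by
  rcases h with h | h | h | h <;> rw [h]
  · rw [map_one]; exact Or.inl (Or.inl rfl)
  · rw [A.db]; exact Or.inl (Or.inr (Or.inl rfl))
  · rw [A.dv]; exact Or.inr ⟨1, Or.inl rfl, (mul_one w).symm⟩
  · rw [map_mul, A.db, A.dv]; exact Or.inr ⟨b, Or.inr (Or.inl rfl), A.wb.symm⟩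

theorem dW {u : G} (h : InW b v w u) : InW b v w (cj d u) := by
  rcases h with h | ⟨a, ha, rfl⟩
  · exact dV A h
  · rw [map_mul, A.dw]
    exact mulW A (Or.inl (Or.inr (Or.inr (Or.inl rfl)))) (dV A ha)

theorem k1V {u : G} (h : InV b v u) : cj k1 u = u := cj_of_comm (h.comm A.k1b A.k1v).symm
theorem k2V {u : G} (h : InV b v u) : cj k2 u = u := cj_of_comm (h.comm A.k2b A.k2v).symm

theorem k1W {u : G} (h : InW b v w u) : InW b v w (cj k1 u) := by
  rcases h with h | ⟨a, ha, rfl⟩
  · rw [k1V A h]; exact Or.inl h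
  · rw [map_mul, A.wk1, k1V A ha, mul_assoc]
    exact Or.inr ⟨b * a, A.mulV (Or.inr (Or.inl rfl)) ha, rfl⟩

/-- squares of elements of `R` outside `C(t)` are in `W` -/
theorem sq_mem {r x : G} (hb : r * b = b * r) (hv : r * v = v * r) (hw : r * w = w * r)
    (ht : cj r t = t * x) (hx : InW b v w x) (hx1 : x ≠ 1) : InW b v w (r * r) := by
  have hrx : cj r x = x := cj_of_comm (hx.comm hb hv hw).symm
  have h1 : cj (r * r) t = t := by
    rw [← cj_cj, ht, map_mul, ht, hrx, mul_assoc, sqW A hx, mul_one]
  have hbr : (r * r) * b = b * (r * r) := by rw [mul_assoc, hb, ← mul_assoc, hb, mul_assoc]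
  have hvr : (r * r) * v = v * (r * r) := by rw [mul_assoc, hv, ← mul_assoc, hv, mul_assoc]
  have hwr : (r * r) * w = w * (r * r) := by rw [mul_assoc, hw, ← mul_assoc, hw, mul_assoc]
  obtain ⟨τ, e, hτ, he, hre⟩ := A.centW (r * r) (comm_of_cj h1).symm hbr hvr hwr
  rcases hτ with h0 | h0
  · rw [hre, h0, one_mul]; exact he
  · exfalso
    have h2 : cj r (r * r) = r * r := cj_of_comm (mul_assoc r r r)
    rw [hre, h0, map_mul, ht, cj_of_comm (he.comm hb hv hw).symm] at h2
    have h3 : t * x = t := mul_right_cancel h2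
    exact hx1 (mul_eq_left.1 h3)

end W

/-- the facts about `r_v` -/
structure RV (t b v y k1 k2 w p s R : G) (f l : Bool) : Prop where
  Rb : R * b = b * R
  Rv : R * v = v * R
  Rw : R * w = w * R
  tR : cj R t = t * v
  Rs : R * s = s * R
  RR : R * R = if l then v else 1
  k1R : cj k1 R = if f then R * v else R
  k2R : cj k2 R = R
  yR : ∃ u, InV b v u ∧ cj y R = R * u
  pR : ∃ u, InW b v w u ∧ R * cj p R = s⁻¹ * u

variable {s : G} {f l : Bool}

theorem rv_facts (A : Amb t b v y k1 k2 w p q d) (h : SOK t b v y k1 k2 p q s f l) :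
    RV t b v y k1 k2 w p s (rvE f (cj (p * q) s) k2 t) f l := by
  have o1 := A.over_rho h.ov
  have o2 := A.over_rho' h.ov
  rw [A.rb] at o1
  rw [A.rb'] at o2
  have hcomm := h.comm
  have hprod := h.prod
  -- action of `sv` on `k1`, `k2`
  have sk2 : cj (cj (p * q) s) k2 = k2 := by
    have := cj_map (p * q) s k1
    rwa [A.rk1, h.k1s, A.rk1] at this
  have sk1 : cj (cj (p * q) s) k1 = if f then k1 * v else k1 := by
    have h3 : cj (p * q) (k1 * k2)⁻¹ = k1 := by
      rw [map_inv, map_mul, A.rk1, A.rk2]; group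
    have := cj_map (p * q) s (k1 * k2)⁻¹
    rw [h3, map_inv, map_mul, h.k1s, h.k2s] at this
    cases f
    · simp only [Bool.false_eq_true, if_false] at this ⊢
      rw [this, h3]
    · simp only [if_true] at this ⊢
      have e : (k1 * (k2 * b))⁻¹ = (k1 * k2)⁻¹ * b := by
        rw [← mul_assoc, mul_inv_rev, A.inv_b]
        have c1 : Commute b (k1 * k2) :=
          (show Commute b k1 from A.k1b.symm).mul_right A.k2b.symm
        exact c1.inv_right.eq
      rw [this, e, map_mul, h3, A.rb]
  have svsq : cj (p * q) s * cj (p * q) s = if l then v else 1 := by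
    rw [← map_mul, h.s2]
    cases l
    · simp
    · simp [A.rb]
  obtain ⟨u, hu, hps⟩ := h.ps
  -- cj p sv
  have hpsv : cj p (cj (p * q) s) = cj (q * p) s * cj (q * p) u := by
    rw [Amb.pr1, hps, map_mul]
  have hu' := A.rV' hu
  obtain ⟨sv, hsv⟩ : ∃ sv, sv = cj (p * q) s := ⟨_, rfl⟩
  obtain ⟨sw, hsw⟩ : ∃ sw, sw = cj (q * p) s := ⟨_, rfl⟩
  obtain ⟨u', hu''⟩ : ∃ u', u' = cj (q * p) u := ⟨_, rfl⟩
  rw [← hsv] at o1 hcomm hprod sk2 sk1 svsq hpsv ⊢
  rw [← hsw] at o2 hprod hpsv
  rw [← hu''] at hpsv hu'
  have svy := o1.2.2.2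
  cases f
  · -- f = false
    simp only [Bool.false_eq_true, if_false] at sk1 hprod
    simp only [rvE, Bool.false_eq_true, if_false]
    have svk1 : sv * k1 = k1 * sv := (comm_of_cj sk1).symm
    have svk2 : sv * k2 = k2 * sv := (comm_of_cj sk2).symm
    exact
      { Rb := o1.2.1
        Rv := o1.2.2.1
        Rw := by
          rw [A.hw]
          exact ((show Commute sv y from svy).mul_right svk1).eq
        tR := o1.1
        Rs := hcomm.symm
        RR := svsq
        k1R := by simp only [Bool.false_eq_true, if_false]; exact cj_of_comm svk1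
        k2R := cj_of_comm svk2
        yR := ⟨1, Or.inl rfl, by rw [mul_one]; exact cj_of_comm svy⟩
        pR := by
          refine ⟨u', Or.inl hu', ?_⟩
          rw [hpsv]
          have e1 : sv * sw = s⁻¹ := eq_inv_of_mul_eq_one_right (by rw [← mul_assoc]; exact hprod)
          rw [← mul_assoc, e1] }
  · -- f = true
    simp only [if_true] at sk1 hprod
    simp only [rvE, if_true]
    have svk2 : sv * k2 = k2 * sv := (comm_of_cj sk2).symm
    have tb := A.tb
    have tv := A.tv
    have ck2 : ∀ {z : G}, InV b v z → Commute z k2 := fun hz => (hz.comm A.k2b A.k2v).symm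
    have vsv : Commute v sv := o1.2.2.1.symm
    have vk2 : Commute v k2 := A.k2v.symm
    have vt : Commute v t := A.tv.symm
    have bsv : Commute b sv := o1.2.1.symm
    have bk2 : Commute b k2 := A.k2b.symm
    have bt : Commute b t := A.tb.symm
    have tsv : t * sv = sv * (t * v) := cj_eq_iff.1 o1.1
    have ts : t * s = s * (t * b) := cj_eq_iff.1 h.ov.1
    have k2s : k2 * s = s * (k2 * b) := by
      have := h.k2s
      rw [cj_eq_iff] at this
      simpa using this
    have k1sv : k1 * sv = sv * (k1 * v) := cj_eq_iff.1 sk1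
    exact
      { Rb := ((bsv.mul_right bk2).mul_right bt).symm.eq
        Rv := ((vsv.mul_right vk2).mul_right vt).symm.eq
        Rw := by
          -- `w ^ sv = w v`, `w ^ k2 = w v`, `w ^ t = w`
          apply Eq.symm
          rw [← cj_eq_iff, ← cj_cj, ← cj_cj]
          have e1 : cj sv w = w * v := by
            rw [A.hw, map_mul, sk1, cj_of_comm svy.symm, mul_assoc]
          rw [e1, map_mul, A.wk2, cj_of_comm vk2.eq, mul_assoc w, A.vv, mul_one]
          exact cj_of_comm A.tw.symm
        tR := by
          rw [← cj_cj, ← cj_cj, o1.1, map_mul, map_mul, cj_of_comm A.tk2, cj_of_comm vk2.eq,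
            cj_of_comm rfl, cj_of_comm vt.eq]
        Rs := by
          calc sv * k2 * t * s = sv * k2 * (t * s) := by group
            _ = sv * k2 * (s * (t * b)) := by rw [ts]
            _ = sv * (k2 * s) * (t * b) := by group
            _ = sv * (s * (k2 * b)) * (t * b) := by rw [k2s]
            _ = (sv * s) * k2 * (b * t) * b := by group
            _ = (s * sv) * k2 * (t * b) * b := by rw [← hcomm, bt.eq]
            _ = s * (sv * k2 * t) * (b * b) := by group
            _ = _ := by rw [A.bb, mul_one]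
        RR := by
          rw [← svsq]
          calc sv * k2 * t * (sv * k2 * t) = sv * k2 * (t * sv) * (k2 * t) := by group
            _ = sv * k2 * (sv * (t * v)) * (k2 * t) := by rw [tsv]
            _ = sv * (k2 * sv) * t * (v * k2) * t := by group
            _ = sv * (sv * k2) * t * (k2 * v) * t := by rw [← svk2, vk2.eq]
            _ = sv * sv * k2 * (t * k2) * (v * t) := by group
            _ = sv * sv * k2 * (k2 * t) * (t * v) := by rw [A.tk2, vt.eq]
            _ = sv * sv * (k2 * k2) * (t * t) * v := by group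
            _ = sv * sv * (v * v) := by rw [A.k22, A.tt]; group
            _ = _ := by rw [A.vv, mul_one]
        k1R := by
          simp only [if_true]
          rw [map_mul, map_mul, cj_of_comm A.kk, cj_of_comm A.tk1]
          have : cj k1 sv = sv * v := by
            rw [cj_eq_iff]
            calc sv * k1 = sv * (k1 * v) * v := by
                  rw [mul_assoc, mul_assoc k1, A.vv, mul_one]
              _ = k1 * sv * v := by rw [← k1sv]
              _ = _ := by group
          rw [this]
          calc sv * v * k2 * t = sv * (v * k2) * t := by group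
            _ = sv * (k2 * v) * t := by rw [vk2.eq]
            _ = sv * k2 * (v * t) := by group
            _ = sv * k2 * (t * v) := by rw [vt.eq]
            _ = _ := by group
        k2R := by
          rw [map_mul, map_mul, cj_of_comm svk2, cj_of_comm rfl, cj_of_comm A.tk2]
        yR := by
          refine ⟨v, Or.inr (Or.inr (Or.inl rfl)), ?_⟩
          rw [map_mul, map_mul, cj_of_comm svy, A.k2y, cj_of_comm A.ty, A.inv_k2]
          calc sv * (k2 * v) * t = sv * k2 * (v * t) := by group
            _ = sv * k2 * (t * v) := by rw [vt.eq]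
            _ = _ := by group
        pR := by
          -- `k2 ^ sw = k2 v`-type relations
          have hsw' : sw = sv⁻¹ * s⁻¹ * y := by
            calc sw = sv⁻¹ * s⁻¹ * (s * sv * sw) := by group
              _ = _ := by rw [hprod]
          have tsw : t * sw = sw * (t * (b * v)) := cj_eq_iff.1 o2.1
          have k2sw : k2 * sw = sw * (k2⁻¹ * b) := by
            rw [← cj_eq_iff, hsw', ← cj_cj, ← cj_cj]
            have e1 : cj sv⁻¹ k2 = k2 := by
              apply cj_of_comm
              exact (show Commute k2 sv from svk2.symm).inv_right.eq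
            have e2 : cj s⁻¹ k2 = k2 * b := by
              rw [cj_eq_iff]
              have hbs : Commute b s := h.ov.2.1.symm
              calc k2 * s⁻¹ = s⁻¹ * (s * (k2 * b)) * b * s⁻¹ := by
                    calc k2 * s⁻¹ = k2 * (b * b) * s⁻¹ := by rw [A.bb, mul_one]
                      _ = _ := by group
                _ = s⁻¹ * (k2 * s) * b * s⁻¹ := by rw [k2s]
                _ = s⁻¹ * k2 * (s * b) * s⁻¹ := by group
                _ = s⁻¹ * k2 * (b * s) * s⁻¹ := by rw [hbs.eq]
                _ = _ := by group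
            rw [e1, e2, map_mul, A.k2y, cj_of_comm A.yb.symm]
          have hbu : InV b v (b * u') := A.mulV (Or.inr (Or.inl rfl)) hu'
          have hsvsw : sv * sw = s⁻¹ * y := by rw [← hprod]; group
          have c1 : Commute (v * u') (k1⁻¹) := (show Commute k1 (v * u') from
            (A.mulV (Or.inr (Or.inr (Or.inl rfl))) hu').comm A.k1b A.k1v).inv_left.symm
          have c2 : Commute (b * v * u') t := (show Commute t (b * v * u') from
            (A.mulV (Or.inr (Or.inr (Or.inr rfl))) hu').comm tb tv).symm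
          have c2' : Commute (b * v * u') (k1 * k2)⁻¹ := by
            have h1 : Commute k1 (b * v * u') :=
              (A.mulV (Or.inr (Or.inr (Or.inr rfl))) hu').comm A.k1b A.k1v
            have h2 : Commute k2 (b * v * u') :=
              (A.mulV (Or.inr (Or.inr (Or.inr rfl))) hu').comm A.k2b A.k2v
            exact (h1.mul_left h2).inv_left.symm
          have c3 : Commute t (k1 * k2)⁻¹ :=
            ((show Commute t k1 from A.tk1).mul_right A.tk2).inv_right
          refine ⟨w * (b * u'), Or.inr ⟨_, hbu, rfl⟩, ?_⟩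
          rw [map_mul, map_mul, hpsv, A.pk2, cj_of_comm A.tp]
          calc sv * k2 * t * (sw * u' * (k1 * k2)⁻¹ * t)
              = sv * k2 * (t * sw) * u' * (k1 * k2)⁻¹ * t := by group
            _ = sv * k2 * (sw * (t * (b * v))) * u' * (k1 * k2)⁻¹ * t := by rw [tsw]
            _ = sv * (k2 * sw) * t * ((b * v * u') * (k1 * k2)⁻¹) * t := by group
            _ = sv * (sw * (k2⁻¹ * b)) * t * ((k1 * k2)⁻¹ * (b * v * u')) * t := by
              rw [k2sw, c2'.eq]
            _ = sv * sw * k2⁻¹ * b * (t * (k1 * k2)⁻¹) * ((b * v * u') * t) := by group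
            _ = sv * sw * k2⁻¹ * b * ((k1 * k2)⁻¹ * t) * (t * (b * v * u')) := by rw [c3.eq, c2.eq]
            _ = sv * sw * k2⁻¹ * b * (k1 * k2)⁻¹ * (t * t) * (b * v * u') := by group
            _ = sv * sw * k2⁻¹ * (b * (k1 * k2)⁻¹) * (b * v * u') := by rw [A.tt]; group
            _ = sv * sw * k2⁻¹ * ((k1 * k2)⁻¹ * b) * (b * v * u') := by
              have c4 : Commute b (k1 * k2)⁻¹ :=
                ((show Commute b k1 from A.k1b.symm).mul_right A.k2b.symm).inv_right
              rw [c4.eq]
            _ = sv * sw * (k2 * k2)⁻¹ * k1⁻¹ * (b * b) * (v * u') := by group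
            _ = sv * sw * v * (k1⁻¹ * (v * u')) := by
              rw [A.k22, A.bb, A.inv_v]; group
            _ = sv * sw * v * ((v * u') * k1⁻¹) := by rw [c1.eq]
            _ = sv * sw * (v * v) * (u' * k1⁻¹) := by group
            _ = sv * sw * (k1⁻¹ * u') := by
              have c5 : Commute u' k1⁻¹ := (show Commute k1 u' from hu'.comm A.k1b A.k1v).inv_left.symm
              rw [A.vv, mul_one, c5.eq]
            _ = s⁻¹ * y * (k1 * b * u') := by rw [hsvsw, A.inv_k1]
            _ = s⁻¹ * (w * (b * u')) := by rw [A.hw]; group }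

/-- the facts about `r_w` -/
structure RW (t b v k1 k2 w s R Q e1 e2 τ : G) (f l : Bool) : Prop where
  Qb : Q * b = b * Q
  Qv : Q * v = v * Q
  Qw : Q * w = w * Q
  tQ : t * Q = Q * t * w
  Qs : Q * s = s * Q
  QQ : Q * Q = if l then w else 1
  he1 : InW b v w e1
  he2 : InW b v w e2
  hτ : τ = 1 ∨ τ = t
  k1Q : cj k1 Q = Q⁻¹ * s⁻¹ * e1
  k2Q : cj k2 Q = Q⁻¹ * R⁻¹ * τ * e2
  hβ : InW b v w (Q⁻¹ * R⁻¹ * Q * R)

theorem rw_facts (A : Amb t b v y k1 k2 w p q d) (h : SOK t b v y k1 k2 p q s f l) {R : G}
    (r : RV t b v y k1 k2 w p s R f l) (hd : ∃ w1, InW b v w w1 ∧ cj d s = s * w1) :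
    ∃ e1 e2 τ, RW t b v k1 k2 w s R (cj d R) e1 e2 τ f l := by
  obtain ⟨w1, hw1, hds⟩ := hd
  have sw : s * w = w * s := by
    rw [A.hw]
    exact ((show Commute s y from h.ov.2.2.2).mul_right (comm_of_cj h.k1s).symm).eq
  obtain ⟨Q, hQ⟩ : ∃ Q, Q = cj d R := ⟨_, rfl⟩
  rw [← hQ]
  have Qb : Q * b = b * Q := by
    have := comm_map d r.Rb
    rwa [A.db, ← hQ] at this
  have Qv : Q * v = v * Q := by
    have := comm_map d r.Rw
    rwa [A.dw, ← hQ] at this
  have Qw : Q * w = w * Q := by
    have := comm_map d r.Rv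
    rwa [A.dv, ← hQ] at this
  have sW : ∀ {z}, InW b v w z → s * z = z * s := fun hz => hz.comm h.ov.2.1 h.ov.2.2.1 sw
  have QW : ∀ {z}, InW b v w z → Q * z = z * Q := fun hz => hz.comm Qb Qv Qw
  have RW' : ∀ {z}, InW b v w z → R * z = z * R := fun hz => hz.comm r.Rb r.Rv r.Rw
  have dt : cj d t = t := cj_of_comm A.td
  have ctQ : cj Q t = t * w := by
    have := cj_map d R t
    rwa [r.tR, map_mul, dt, A.dv, ← hQ] at this
  have tQ : t * Q = Q * t * w := by rw [mul_assoc]; exact cj_eq_iff.1 ctQ
  have Qs : Q * s = s * Q := by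
    have h1 := comm_map d r.Rs
    rw [hds, ← hQ] at h1
    have h2 : Q * s * w1 = s * Q * w1 := by
      rw [mul_assoc, h1, mul_assoc, ← QW hw1, ← mul_assoc]
    exact mul_right_cancel h2
  have QQ : Q * Q = if l then w else 1 := by
    rw [hQ, ← map_mul, r.RR]
    cases l
    · simp
    · simp [A.dv]
  -- `cj k1 Q`
  obtain ⟨uy, huy, hyR⟩ := r.yR
  obtain ⟨up, hup, hpR⟩ := r.pR
  have hvV : InV b v v := Or.inr (Or.inr (Or.inl rfl))
  have g1 : ∃ u, InV b v u ∧ cj (k1 * v * y) R = R * u := by
    rw [← cj_cj, ← cj_cj, r.k1R]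
    cases f
    · simp only [Bool.false_eq_true, if_false]
      rw [cj_of_comm r.Rv]
      exact ⟨uy, huy, hyR⟩
    · simp only [if_true]
      rw [map_mul, cj_of_comm r.Rv, cj_of_comm rfl, map_mul, hyR, cj_of_comm A.yv.symm, mul_assoc]
      exact ⟨_, A.mulV huy hvV, rfl⟩
  obtain ⟨ug, hug, hgR⟩ := g1
  have hk1 : cj d (cj p R) = cj k1 Q * cj k1 (cj d ug) := by
    rw [cj_cj, A.pd, ← cj_cj (k1 * v * y), hgR, ← cj_cj d k1, map_mul, map_mul, ← hQ]
  have hee : InW b v w (cj k1 (cj d ug)) := k1W A (dV A hug)
  obtain ⟨ee, hee'⟩ : ∃ ee, ee = cj k1 (cj d ug) := ⟨_, rfl⟩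
  rw [← hee'] at hk1 hee
  have hdup := dW A hup
  have hk1Q : cj k1 Q = Q⁻¹ * s⁻¹ * (w1 * cj d up * ee) := by
    have h1 : Q * (cj k1 Q * ee) = (s * w1)⁻¹ * cj d up := by
      rw [← hk1, hQ, ← map_mul, hpR, map_mul, map_inv, hds]
    have h2 : ee * ee = 1 := sqW A hee
    calc cj k1 Q = Q⁻¹ * (Q * (cj k1 Q * ee)) * ee := by
          calc cj k1 Q = cj k1 Q * (ee * ee) := by rw [h2, mul_one]
            _ = _ := by group
      _ = Q⁻¹ * (w1⁻¹ * s⁻¹ * cj d up) * ee := by rw [h1]; group
      _ = Q⁻¹ * (s⁻¹ * w1⁻¹ * cj d up) * ee := by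
        rw [(show Commute s w1 from sW hw1).inv_left.inv_right.eq]
      _ = _ := by rw [invW A hw1]; group
  -- `cj k2 Q`
  obtain ⟨P, hP⟩ : ∃ P, P = cj k2 Q := ⟨_, rfl⟩
  have Pb : P * b = b * P := by
    have := comm_map k2 Qb
    rwa [← hP, cj_of_comm A.k2b.symm] at this
  have Pv : P * v = v * P := by
    have := comm_map k2 Qv
    rwa [← hP, cj_of_comm A.k2v.symm] at this
  have Pw : P * w = w * P := by
    have := comm_map k2 Qw
    rw [← hP, A.wk2] at this
    have h2 : P * w * v = w * P * v := by
      rw [mul_assoc, this, mul_assoc, ← Pv, ← mul_assoc]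
    exact mul_right_cancel h2
  have ctP : cj P t = t * (w * v) := by
    have := cj_map k2 Q t
    rwa [ctQ, map_mul, cj_of_comm A.tk2, A.wk2, ← hP] at this
  have PW : ∀ {z}, InW b v w z → P * z = z * P := fun hz => hz.comm Pb Pv Pw
  have hwW : InW b v w w := Or.inr ⟨1, Or.inl rfl, (mul_one w).symm⟩
  have hvW : InW b v w v := Or.inl hvV
  have hRQP : cj (R * Q * P) t = t := by
    rw [← cj_cj, ← cj_cj, r.tR, map_mul, ctQ, cj_of_comm (QW hvW).symm, map_mul, map_mul, ctP,
      cj_of_comm (PW hvW).symm, cj_of_comm (PW hwW).symm]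
    calc t * (w * v) * w * v = t * (w * (v * w) * v) := by group
      _ = t * ((w * w) * (v * v)) := by rw [← A.wv]; group
      _ = t := by rw [A.ww, A.vv, mul_one, mul_one]
  have hcen : ∀ {z}, InW b v w z → (R * Q * P) * z = z * (R * Q * P) := fun hz =>
    (((show Commute R _ from RW' hz).mul_left (QW hz)).mul_left (PW hz)).eq
  obtain ⟨τ, e2, hτ, he2, hRQ⟩ := A.centW (R * Q * P) (comm_of_cj hRQP).symm
    (hcen (Or.inl (Or.inr (Or.inl rfl)))) (hcen hvW) (hcen hwW)
  have hk2Q : cj k2 Q = Q⁻¹ * R⁻¹ * τ * e2 := by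
    rw [← hP, mul_assoc, ← hRQ]; group
  -- `β`
  have hβ : InW b v w (Q⁻¹ * R⁻¹ * Q * R) := by
    have hRR : InV b v (R * R) := by
      rw [r.RR]
      cases l
      · exact Or.inl rfl
      · exact hvV
    have hQQ : InW b v w (Q * Q) := by
      rw [QQ]
      cases l
      · exact Or.inl (Or.inl rfl)
      · exact hwW
    have h1 : InW b v w ((Q * R) * (Q * R)) := by
      have hx : InW b v w (v * w) := mulW A hvW hwW
      refine sq_mem A (x := v * w) ?_ ?_ ?_ ?_ hx ?_
      · exact ((show Commute Q b from Qb).mul_left r.Rb).eq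
      · exact ((show Commute Q v from Qv).mul_left r.Rv).eq
      · exact ((show Commute Q w from Qw).mul_left r.Rw).eq
      · rw [← cj_cj, ctQ, map_mul, r.tR, cj_of_comm (RW' hwW).symm, mul_assoc]
      · intro h1
        apply w_ne_v A
        have : v * w = v * v := by rw [h1, A.vv]
        exact mul_left_cancel this
    have hz := A.sqV hRR
    have hRi : R⁻¹ = R * (R * R) := by
      apply inv_eq_of_mul_eq_one_left
      calc R * (R * R) * R = (R * R) * (R * R) := by group
        _ = 1 := hz
    have hQi : Q⁻¹ = Q * (Q * Q) := by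
      apply inv_eq_of_mul_eq_one_left
      calc Q * (Q * Q) * Q = (Q * Q) * (Q * Q) := by group
        _ = 1 := sqW A hQQ
    have e : Q⁻¹ * R⁻¹ * Q * R = (Q * Q) * (R * R) * ((Q * R) * (Q * R)) := by
      have c1 : Commute (Q * Q) Q := (show Commute Q (Q * Q) from QW hQQ).symm
      have c2 : Commute (R * R) Q := (show Commute Q (R * R) from QW (Or.inl hRR)).symm
      have c3 : Commute (R * R) R := (show Commute R (R * R) from RW' (Or.inl hRR)).symm
      rw [hQi, hRi]
      calc Q * (Q * Q) * (R * (R * R)) * Q * R = (Q * Q) * Q * R * ((R * R) * Q) * R := by group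
        _ = (Q * Q) * Q * R * (Q * (R * R)) * R := by rw [c2.eq]
        _ = (Q * Q) * (Q * R * Q * ((R * R) * R)) := by group
        _ = (Q * Q) * ((Q * R * (Q * R)) * (R * R)) := by group
        _ = (Q * Q) * ((R * R) * (Q * R * (Q * R))) := by
          have c4 : Commute (Q * R * (Q * R)) (R * R) :=
            ((c2.symm.mul_left c3.symm).mul_left (c2.symm.mul_left c3.symm))
          rw [c4.eq]
        _ = _ := by group
    rw [e]
    exact mulW A (mulW A hQQ (Or.inl hRR)) h1
  exact ⟨_, _, _,
    { Qb := Qb, Qv := Qv, Qw := Qw, tQ := tQ, Qs := Qs, QQ := QQ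
      he1 := mulW A (mulW A hw1 hdup) hee
      he2 := he2
      hτ := hτ
      k1Q := hk1Q
      k2Q := hk2Q
      hβ := hβ }⟩

theorem isConj_cj (g x : G) : IsConj x (cj g x) := isConj_iff.2 ⟨g⁻¹, by rw [cj_apply]; group⟩

/-- the end of the proof -/
theorem final (A : Amb t b v y k1 k2 w p q d) (h : SOK t b v y k1 k2 p q s f l)
    (hd : ∃ w1, InW b v w w1 ∧ cj d s = s * w1) :
    ∃ u u', InV b v u ∧ InV b v u' ∧ IsConj (t * (y * u)) (t * (y * (k1 * k2) * u')) := by
  have r := rv_facts A h
  obtain ⟨R, hR⟩ : ∃ R, R = rvE f (cj (p * q) s) k2 t := ⟨_, rfl⟩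
  rw [← hR] at r
  obtain ⟨e1, e2, τ, g⟩ := rw_facts A h r hd
  obtain ⟨Q, hQ⟩ : ∃ Q, Q = cj d R := ⟨_, rfl⟩
  rw [← hQ] at g
  have sw : s * w = w * s := by
    rw [A.hw]
    exact ((show Commute s y from h.ov.2.2.2).mul_right (comm_of_cj h.k1s).symm).eq
  have rvt : t * R = R * t * v := by rw [mul_assoc]; exact cj_eq_iff.1 r.tR
  have bs : Commute b s := h.ov.2.1.symm
  have k2s' : cj k2 s = if f then s * b else s := by
    have h1 := h.k2s
    rw [cj_eq_iff] at h1
    cases f
    · simp only [Bool.false_eq_true, if_false] at h1 ⊢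
      exact cj_of_comm h1.symm
    · simp only [if_true] at h1 ⊢
      rw [cj_eq_iff]
      calc s * k2 = s * (k2 * b) * b := by rw [mul_assoc, mul_assoc, A.bb, mul_one]
        _ = k2 * s * b := by rw [← h1]
        _ = _ := by group
  obtain ⟨hτ1, he1, he2, hQR, hlf⟩ := rel_main (cj k1) (cj k2) l f A.bb A.vv A.ww A.vb A.wb A.wv A.b1 A.v1
    A.bv1 h.ov.2.1 h.ov.2.2.1 sw r.Rb r.Rv r.Rw g.Qb g.Qv g.Qw A.tb A.tv rvt r.Rs g.Qs h.s2 r.RR g.QQ
    (cj_of_comm A.k1b.symm) (cj_of_comm A.k1v.symm) A.wk1 (cj_of_comm (comm_of_cj h.k1s).symm) r.k1R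
    (cj_of_comm A.k2b.symm) (cj_of_comm A.k2v.symm) A.wk2 k2s' r.k2R g.hτ g.he1 g.he2 g.k1Q g.k2Q
    (by rw [cj_cj, A.k11]; exact cj_of_comm g.Qb)
    (by rw [cj_cj, A.k22]; exact cj_of_comm g.Qv)
    (by rw [cj_cj, cj_cj, A.kk]) g.hβ
  subst hlf
  have hb : InV b v b := Or.inr (Or.inl rfl)
  have o1 := A.over_rho h.ov
  rw [A.rb] at o1
  have sk1 : cj (cj (p * q) s) k1 = if l then k1 * v else k1 := by
    have h3 : cj (p * q) (k1 * k2)⁻¹ = k1 := by
      rw [map_inv, map_mul, A.rk1, A.rk2]; group
    have := cj_map (p * q) s (k1 * k2)⁻¹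
    rw [h3, map_inv, map_mul, h.k1s, h.k2s] at this
    cases l
    · simp only [Bool.false_eq_true, if_false] at this ⊢
      rw [this, h3]
    · simp only [if_true] at this ⊢
      have e : (k1 * (k2 * b))⁻¹ = (k1 * k2)⁻¹ * b := by
        rw [← mul_assoc, mul_inv_rev, A.inv_b]
        have c1 : Commute b (k1 * k2) :=
          (show Commute b k1 from A.k1b.symm).mul_right A.k2b.symm
        exact c1.inv_right.eq
      rw [this, e, map_mul, h3, A.rb]
  have sk2 : cj (cj (p * q) s) k2 = k2 := by
    have := cj_map (p * q) s k1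
    rwa [A.rk1, h.k1s, A.rk1] at this
  have sV : ∀ {z}, InV b v z → s * z = z * s := fun hz => hz.comm h.ov.2.1 h.ov.2.2.1
  have k1Q : k1⁻¹ * Q * k1 = Q⁻¹ * s⁻¹ * e1 := by rw [← cj_apply]; exact g.k1Q
  cases l
  · -- case (I)
    have hRs : R = cj (p * q) s := by rw [hR]; rfl
    have k2Q : k2⁻¹ * Q * k2 = Q⁻¹ * R⁻¹ * e2 := by
      rw [← cj_apply, g.k2Q, hτ1, mul_one]
    have s2 : s * s = 1 := by have := h.s2; simpa using this
    have Q2 : Q * Q = 1 := by have := g.QQ; simpa using this
    have R2 : R * R = 1 := by have := r.RR; simpa using this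
    have k2R : cj k2 R = R := r.k2R
    have f1 := fin_zero s2 Q2 g.tQ g.Qs.symm (comm_of_cj h.k1s).symm (sV he1) (A.sqV he1) k1Q
    have f2 := fin_zero R2 Q2 g.tQ hQR.symm (comm_of_cj k2R) (he2.comm r.Rb r.Rv) (A.sqV he2) k2Q
    rw [← cj_apply] at f1 f2
    refine ⟨b * e1, e2, A.mulV hb he1, he2, ?_⟩
    have x1 : IsConj (t * s * k1) (t * (y * (b * e1))) := by
      have := isConj_cj Q (t * s * k1)
      rw [f1] at this
      have e : t * (w * (k1 * e1)) = t * (y * (b * e1)) := by
        rw [A.hw, ← A.k11]; group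
      rwa [e] at this
    have x2 : IsConj (t * R * k2) (t * (y * (k1 * k2) * e2)) := by
      have := isConj_cj Q (t * R * k2)
      rw [f2] at this
      have e : t * (w * (k2 * e2)) = t * (y * (k1 * k2) * e2) := by
        rw [A.hw]; group
      rwa [e] at this
    have x3 : IsConj (t * s * k1) (t * R * k2) := by
      have := isConj_cj (p * q) (t * s * k1)
      rwa [map_mul, map_mul, A.rt, A.rk1, ← hRs] at this
    exact x1.symm.trans (x3.trans x2)
  · -- case (II)
    obtain ⟨sv, hsv⟩ : ∃ sv, sv = cj (p * q) s := ⟨_, rfl⟩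
    have hRs : R = sv * k2 * t := by rw [hR, hsv]; rfl
    rw [← hsv] at sk1 sk2 o1
    have svk2 : sv * k2 = k2 * sv := (comm_of_cj sk2).symm
    have k2Q : k2⁻¹ * Q * k2 = Q⁻¹ * (sv * k2 * t)⁻¹ * e2 := by
      rw [← cj_apply, g.k2Q, hτ1, mul_one, hRs]
    have Q2 : Q * Q = w := by have := g.QQ; simpa using this
    have k1sv : sv * k1 = k1 * sv * v := by
      simp only [if_true] at sk1
      rw [cj_eq_iff] at sk1
      rw [sk1, mul_assoc, mul_assoc, A.vv, mul_one]
    have ce : ∀ {e}, InV b v e → ∀ x ∈ ({y, t, k1, k2, s, sv, Q, b, v} : Set G), Commute e x := by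
      intro e he x hx
      simp only [Set.mem_insert_iff, Set.mem_singleton_iff] at hx
      apply Commute.symm
      rcases hx with hx | hx | hx | hx | hx | hx | hx | hx | hx <;> rw [hx]
      · exact he.comm A.yb A.yv
      · exact he.comm A.tb A.tv
      · exact he.comm A.k1b A.k1v
      · exact he.comm A.k2b A.k2v
      · exact he.comm h.ov.2.1 h.ov.2.2.1
      · exact he.comm o1.2.1 o1.2.2.1
      · exact he.comm g.Qb g.Qv
      · exact he.comm rfl A.vb.symm
      · exact he.comm A.vb rfl
    have cV : ∀ {e e'}, InV b v e → InV b v e' → Commute e e' := fun he he' => A.commVV he he'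
    have hv : InV b v v := Or.inr (Or.inr (Or.inl rfl))
    have T : Two b v w y t k1 k2 s sv Q e1 e2 :=
      { hw := A.hw
        bb := A.bb
        vv := A.vv
        ww := A.ww
        k11 := A.k11
        k22 := A.k22
        kk := A.kk
        yk1 := by rw [← cj_apply]; exact A.yk1
        tt := A.tt
        ty := A.ty
        tk1 := A.tk1
        tk2 := A.tk2
        ts := by rw [mul_assoc]; exact cj_eq_iff.1 h.ov.1
        tsv := by rw [mul_assoc]; exact cj_eq_iff.1 o1.1
        tr := g.tQ
        s_y := h.ov.2.2.2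
        s_k1 := (comm_of_cj h.k1s).symm
        sv_y := o1.2.2.2
        sv_k1 := k1sv
        sv_k2 := svk2
        sr := g.Qs.symm
        wr := g.Qw.symm
        rr := Q2
        e11 := A.sqV he1
        e22 := A.sqV he2
        cb := by
          intro x hx
          simp only [Set.mem_insert_iff, Set.mem_singleton_iff] at hx
          rcases hx with hx | hx | hx | hx | hx | hx | hx | hx | hx | hx
          · exact ce hb x (by simp [hx])
          · exact ce hb x (by simp [hx])
          · exact ce hb x (by simp [hx])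
          · exact ce hb x (by simp [hx])
          · exact ce hb x (by simp [hx])
          · exact ce hb x (by simp [hx])
          · exact ce hb x (by simp [hx])
          · exact ce hb x (by simp [hx])
          · rw [hx]; exact cV hb he1
          · rw [hx]; exact cV hb he2
        cv := by
          intro x hx
          simp only [Set.mem_insert_iff, Set.mem_singleton_iff] at hx
          rcases hx with hx | hx | hx | hx | hx | hx | hx | hx | hx
          · exact ce hv x (by simp [hx])
          · exact ce hv x (by simp [hx])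
          · exact ce hv x (by simp [hx])
          · exact ce hv x (by simp [hx])
          · exact ce hv x (by simp [hx])
          · exact ce hv x (by simp [hx])
          · exact ce hv x (by simp [hx])
          · rw [hx]; exact cV hv he1
          · rw [hx]; exact cV hv he2
        ce1 := by
          intro x hx
          simp only [Set.mem_insert_iff, Set.mem_singleton_iff] at hx
          rcases hx with hx | hx | hx | hx | hx | hx | hx | hx
          · exact ce he1 x (by simp [hx])
          · exact ce he1 x (by simp [hx])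
          · exact ce he1 x (by simp [hx])
          · exact ce he1 x (by simp [hx])
          · exact ce he1 x (by simp [hx])
          · exact ce he1 x (by simp [hx])
          · exact ce he1 x (by simp [hx])
          · rw [hx]; exact cV he1 he2
        ce2 := by
          intro x hx
          simp only [Set.mem_insert_iff, Set.mem_singleton_iff] at hx
          rcases hx with hx | hx | hx | hx | hx | hx | hx
          · exact ce he2 x (by simp [hx])
          · exact ce he2 x (by simp [hx])
          · exact ce he2 x (by simp [hx])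
          · exact ce he2 x (by simp [hx])
          · exact ce he2 x (by simp [hx])
          · exact ce he2 x (by simp [hx])
          · exact ce he2 x (by simp [hx])
        h1 := k1Q
        h2 := k2Q }
    -- all `t s y V` are conjugate
    have sy : s * y = y * s := h.ov.2.2.2
    have sk1' : cj k1 s = s := cj_of_comm (comm_of_cj h.k1s).symm
    simp only [if_true] at k2s'
    have ck : ∀ {e}, InV b v e → cj k1 e = e ∧ cj k2 e = e := fun he => ⟨k1V A he, k2V A he⟩
    have c1 : ∀ u, InV b v u → IsConj (t * (s * y) * u) (t * (s * y) * (b * u)) := by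
      intro u hu
      have := isConj_cj k1 (t * (s * y) * u)
      rw [map_mul, map_mul, map_mul, cj_of_comm A.tk1, sk1', A.yk1, (ck hu).1] at this
      have e : t * (s * (y * b)) * u = t * (s * y) * (b * u) := by group
      rwa [e] at this
    have c2 : ∀ u, InV b v u → IsConj (t * (s * y) * u) (t * (s * y) * (b * v * u)) := by
      intro u hu
      have := isConj_cj k2 (t * (s * y) * u)
      rw [map_mul, map_mul, map_mul, cj_of_comm A.tk2, k2s', A.yk2, (ck hu).2] at this
      have e : t * (s * b * (y * v)) * u = t * (s * y) * (b * v * u) := by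
        calc t * (s * b * (y * v)) * u = t * (s * (b * y) * v) * u := by group
          _ = t * (s * (y * b) * v) * u := by rw [A.yb]
          _ = _ := by group
      rwa [e] at this
    have c3 : ∀ u, InV b v u → IsConj (t * (s * y) * u) (t * (s * y)) := by
      intro u hu
      have hbv : InV b v (b * v) := Or.inr (Or.inr (Or.inr rfl))
      rcases hu with h0 | h0 | h0 | h0
      · rw [h0, mul_one]
      · have := c1 b hb
        rw [A.bb, mul_one] at this
        rw [h0]; exact this
      · have x1 := c1 v hv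
        have x2 := c2 (b * v) hbv
        rw [A.sqV hbv, mul_one] at x2
        rw [h0]; exact x1.trans x2
      · have x2 := c2 (b * v) hbv
        rw [A.sqV hbv, mul_one] at x2
        rw [h0]; exact x2
    have d1 : ∀ u, InV b v u → IsConj (s * (y * k2) * u) (s * (y * k2) * (b * u)) := by
      intro u hu
      have := isConj_cj k1 (s * (y * k2) * u)
      rw [map_mul, map_mul, map_mul, sk1', A.yk1, cj_of_comm A.kk, (ck hu).1] at this
      have e : s * (y * b * k2) * u = s * (y * k2) * (b * u) := by
        calc s * (y * b * k2) * u = s * (y * (b * k2)) * u := by group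
          _ = s * (y * (k2 * b)) * u := by rw [A.k2b]
          _ = _ := by group
      rwa [e] at this
    have d2 : ∀ u, InV b v u → IsConj (s * (y * k2) * u) (s * (y * k2) * (b * v * u)) := by
      intro u hu
      have := isConj_cj k2 (s * (y * k2) * u)
      rw [map_mul, map_mul, map_mul, k2s', A.yk2, cj_of_comm rfl, (ck hu).2] at this
      have e : s * b * (y * v * k2) * u = s * (y * k2) * (b * v * u) := by
        calc s * b * (y * v * k2) * u = s * (b * y) * (v * k2) * u := by group
          _ = s * (y * b) * (k2 * v) * u := by rw [A.yb, A.k2v]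
          _ = s * y * (b * k2) * v * u := by group
          _ = s * y * (k2 * b) * v * u := by rw [A.k2b]
          _ = _ := by group
      rwa [e] at this
    have d3 : ∀ u, InV b v u → IsConj (s * (y * k2) * u) (s * (y * k2)) := by
      intro u hu
      have hbv : InV b v (b * v) := Or.inr (Or.inr (Or.inr rfl))
      rcases hu with h0 | h0 | h0 | h0
      · rw [h0, mul_one]
      · have := d1 b hb
        rw [A.bb, mul_one] at this
        rw [h0]; exact this
      · have x1 := d1 v hv
        have x2 := d2 (b * v) hbv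
        rw [A.sqV hbv, mul_one] at x2
        rw [h0]; exact x1.trans x2
      · have x2 := d2 (b * v) hbv
        rw [A.sqV hbv, mul_one] at x2
        rw [h0]; exact x2
    have al := T.alpha
    have be := T.beta
    have ga := T.gamma
    rw [← cj_apply] at al be ga
    have z1 : IsConj (t * (s * y)) (t * (y * e1)) := by
      have := isConj_cj Q (t * (s * y))
      rwa [al] at this
    have z2 : IsConj (t * (k2 * w)) (w * e2 * sv) := by
      have := isConj_cj Q (t * (k2 * w))
      rwa [be] at this
    have z3 : IsConj (s * (y * k2)) (t * (sv * y) * (b * v * e1 * e2)) := by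
      have := isConj_cj Q (s * (y * k2))
      rwa [ga] at this
    -- apply `q` to `w e2 sv`
    obtain ⟨u, hu, hps⟩ := h.ps
    have qsv : cj q sv = s * u := by
      rw [hsv, cj_cj, mul_assoc, A.qq, mul_one, hps]
    have qe2 : InV b v (cj q e2) := by
      have := he2.map (cj q)
      rw [A.qb, A.qv] at this
      rcases this with h0 | h0 | h0 | h0
      · exact Or.inl h0
      · exact Or.inr (Or.inr (Or.inl h0))
      · exact Or.inr (Or.inl h0)
      · rw [A.vb] at h0; exact Or.inr (Or.inr (Or.inr h0))
    have z4 : IsConj (w * e2 * sv) (s * (y * k2) * (cj q e2 * u * b)) := by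
      have := isConj_cj q (w * e2 * sv)
      have qw : cj q w = y * k2 := by rw [A.hw, map_mul, A.qy, A.qk1]
      rw [map_mul, map_mul, qw, qsv] at this
      have e : y * k2 * cj q e2 * (s * u) = s * (y * k2) * (cj q e2 * u * b) := by
        obtain ⟨z, hz⟩ : ∃ z, z = cj q e2 := ⟨_, rfl⟩
        rw [← hz] at qe2 ⊢
        have ks : k2 * s = s * (k2 * b) := by
          have h1 := h.k2s
          rw [cj_eq_iff] at h1
          simpa using h1
        have cz : Commute s z := sV qe2
        have cbz : Commute b z := cV hb qe2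
        have cbu : Commute b u := cV hb hu
        calc y * k2 * z * (s * u) = y * k2 * (z * s) * u := by group
          _ = y * k2 * (s * z) * u := by rw [cz.eq]
          _ = y * (k2 * s) * z * u := by group
          _ = y * (s * (k2 * b)) * z * u := by rw [ks]
          _ = (y * s) * k2 * (b * z) * u := by group
          _ = (s * y) * k2 * (z * b) * u := by rw [sy, cbz.eq]
          _ = s * y * k2 * z * (b * u) := by group
          _ = s * y * k2 * z * (u * b) := by rw [cbu.eq]
          _ = _ := by group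
      rwa [e] at this
    have z5 := d3 _ (A.mulV (A.mulV qe2 hu) hb)
    -- `t sv y V` from `t s y V`
    have z6 : IsConj (t * (sv * y) * (b * v * e1 * e2)) (t * (s * y)) := by
      have hE : InV b v (b * v * e1 * e2) := A.mulV (A.mulV (A.mulV hb hv) he1) he2
      have hE' := A.rV' hE
      have x1 := isConj_cj (p * q) (t * (s * y) * cj (q * p) (b * v * e1 * e2))
      rw [map_mul (cj (p * q)), map_mul (cj (p * q)), map_mul (cj (p * q)), A.rt, A.ry, ← hsv, A.rr'] at x1
      exact x1.symm.trans (c3 _ hE')
    refine ⟨e1, v, he1, hv, ?_⟩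
    have z7 : t * (k2 * w) = t * (y * (k1 * k2) * v) := by
      have := A.k2y
      rw [cj_eq_iff] at this
      rw [A.hw, ← mul_assoc k2, this, A.inv_k2]
      have h1 : k2 * v * k1 = k1 * k2 * v := by
        rw [mul_assoc, ← A.k1v, ← mul_assoc, A.kk]
      calc t * (y * (k2 * v) * k1) = t * (y * (k2 * v * k1)) := by group
        _ = _ := by rw [h1]; group
    rw [← z7]
    exact z1.symm.trans (z6.symm.trans (z3.symm.trans (z5.symm.trans (z4.symm.trans z2.symm))))

end Cfsg.Agent.CoThreeStd.DeltaR
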