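import Mathlib

/-!
# Pattern δ of S1750: relations in the local subgroup `R` (helper178)
-/

set_option autoImplicit false

namespace Cfsg.Agent.CoThreeStd.DeltaRel

variable {G : Type*} [Group G]

/-- `u ∈ {1, b, v, bv}` -/
def InV (b v u : G) : Prop := u = 1 ∨ u = b ∨ u = v ∨ u = b * v

/-- `u ∈ V ∪ wV` -/
def InW (b v w u : G) : Prop := InV b v u ∨ ∃ u', InV b v u' ∧ u = w * u'

theorem InV.comm {b v u x : G} (h : InV b v u) (hb : x * b = b * x) (hv : x * v = v * x) : x * u = u * x := by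
  rcases h with rfl | rfl | rfl | rfl
  · rw [mul_one, one_mul]
  · exact hb
  · exact hv
  · rw [← mul_assoc, hb, mul_assoc, hv, mul_assoc]

theorem InW.comm {b v w u x : G} (h : InW b v w u) (hb : x * b = b * x) (hv : x * v = v * x)
    (hw : x * w = w * x) : x * u = u * x := by
  rcases h with h | ⟨u', h, rfl⟩
  · exact h.comm hb hv
  · rw [← mul_assoc, hw, mul_assoc, h.comm hb hv, mul_assoc]

theorem InV.map {b v u : G} {F : Type*} [FunLike F G G] [MonoidHomClass F G G] (h : InV b v u) (c : F) :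
    InV (c b) (c v) (c u) := by
  rcases h with rfl | rfl | rfl | rfl
  · exact Or.inl (map_one c)
  · exact Or.inr (Or.inl rfl)
  · exact Or.inr (Or.inr (Or.inl rfl))
  · exact Or.inr (Or.inr (Or.inr (map_mul c _ _)))

theorem InV.fix {b v u : G} {F : Type*} [FunLike F G G] [MonoidHomClass F G G] (h : InV b v u) (c : F)
    (hb : c b = b) (hv : c v = v) : c u = u := by
  rcases h with rfl | rfl | rfl | rfl
  · exact map_one c
  · exact hb
  · exact hv
  · rw [map_mul, hb, hv]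

theorem InV.sq {b v u : G} (h : InV b v u) (bb : b * b = 1) (vv : v * v = 1) (bv : v * b = b * v) : u * u = 1 := by
  rcases h with rfl | rfl | rfl | rfl
  · rw [one_mul]
  · exact bb
  · exact vv
  · rw [mul_assoc, ← mul_assoc v, bv, mul_assoc b v v, vv, mul_one, bb]

theorem InV.mul {b v u u' : G} (h : InV b v u) (h' : InV b v u') (bb : b * b = 1) (vv : v * v = 1)
    (bv : v * b = b * v) : InV b v (u * u') := by
  have e1 : v * (b * v) = b := by rw [← mul_assoc, bv, mul_assoc, vv, mul_one]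
  have e2 : b * v * b = v := by rw [mul_assoc, bv, ← mul_assoc, bb, one_mul]
  have e3 : b * (b * v) = v := by rw [← mul_assoc, bb, one_mul]
  have e4 : b * v * v = b := by rw [mul_assoc, vv, mul_one]
  have e5 : b * v * (b * v) = 1 := by rw [← mul_assoc, e2, vv]
  rcases h with rfl | rfl | rfl | rfl
  · rwa [one_mul]
  · rcases h' with rfl | rfl | rfl | rfl
    · rw [mul_one]; exact Or.inr (Or.inl rfl)
    · rw [bb]; exact Or.inl rfl
    · exact Or.inr (Or.inr (Or.inr rfl))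
    · rw [e3]; exact Or.inr (Or.inr (Or.inl rfl))
  · rcases h' with rfl | rfl | rfl | rfl
    · rw [mul_one]; exact Or.inr (Or.inr (Or.inl rfl))
    · rw [bv]; exact Or.inr (Or.inr (Or.inr rfl))
    · rw [vv]; exact Or.inl rfl
    · rw [e1]; exact Or.inr (Or.inl rfl)
  · rcases h' with rfl | rfl | rfl | rfl
    · rw [mul_one]; exact Or.inr (Or.inr (Or.inr rfl))
    · rw [e2]; exact Or.inr (Or.inr (Or.inl rfl))
    · rw [e4]; exact Or.inr (Or.inl rfl)
    · rw [e5]; exact Or.inl rfl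

/-- The relations between `r_b`, `r_v`, `r_w`. -/
theorem rel_main {b v w t rb rv rw_ τ e1 e2 : G} (c1 c2 : G →* G) (l f : Bool)
    (bb : b * b = 1) (vv : v * v = 1) (ww : w * w = 1)
    (vb : v * b = b * v) (wb : w * b = b * w) (wv : w * v = v * w)
    (b1 : b ≠ 1) (v1 : v ≠ 1) (bv1 : b ≠ v)
    (rb_b : rb * b = b * rb) (rb_v : rb * v = v * rb) (rb_w : rb * w = w * rb)
    (rv_b : rv * b = b * rv) (rv_v : rv * v = v * rv) (rv_w : rv * w = w * rv)
    (rw_b : rw_ * b = b * rw_) (rw_v : rw_ * v = v * rw_) (rw_w : rw_ * w = w * rw_)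
    (t_b : t * b = b * t) (t_v : t * v = v * t)
    (rv_t : t * rv = rv * t * v)
    (rvb : rv * rb = rb * rv) (rwb : rw_ * rb = rb * rw_)
    (rb2 : rb * rb = if l then b else 1) (rv2 : rv * rv = if l then v else 1)
    (rw2 : rw_ * rw_ = if l then w else 1)
    (c1b : c1 b = b) (c1v : c1 v = v) (c1w : c1 w = w * b) (c1rb : c1 rb = rb)
    (c1rv : c1 rv = if f then rv * v else rv)
    (c2b : c2 b = b) (c2v : c2 v = v) (c2w : c2 w = w * v) (c2rb : c2 rb = if f then rb * b else rb)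
    (c2rv : c2 rv = rv)
    (hτ : τ = 1 ∨ τ = t)
    (he1 : InW b v w e1) (he2 : InW b v w e2)
    (c1rw : c1 rw_ = rw_⁻¹ * rb⁻¹ * e1) (c2rw : c2 rw_ = rw_⁻¹ * rv⁻¹ * τ * e2)
    (c11 : c1 (c1 rw_) = rw_) (c22 : c2 (c2 rw_) = rw_) (c12 : c1 (c2 rw_) = c2 (c1 rw_))
    (hβ : InW b v w (rw_⁻¹ * rv⁻¹ * rw_ * rv)) :
    τ = 1 ∧ InV b v e1 ∧ InV b v e2 ∧ rw_ * rv = rv * rw_ ∧ l = f := by
  have e1rw := he1.comm rw_b rw_v rw_w
  have e1rb := he1.comm rb_b rb_v rb_w
  have e1rv := he1.comm rv_b rv_v rv_w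
  have e2rw := he2.comm rw_b rw_v rw_w
  have e2rb := he2.comm rb_b rb_v rb_w
  have e2rv := he2.comm rv_b rv_v rv_w
  -- step 1
  have s1 : c1 e1 = e1 := by
    have h := c11
    rw [c1rw, map_mul, map_mul, map_inv, map_inv, c1rw, c1rb] at h
    have h2 : rw_ * (e1⁻¹ * c1 e1) = rw_ := by
      calc rw_ * (e1⁻¹ * c1 e1) = (rw_ * e1⁻¹) * c1 e1 := by group
        _ = (e1⁻¹ * rw_) * c1 e1 := by
          rw [(show Commute rw_ e1 from e1rw).inv_right.eq]
        _ = e1⁻¹ * (rb * rw_) * rb⁻¹ * c1 e1 := by rw [← rwb]; group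
        _ = (rw_⁻¹ * rb⁻¹ * e1)⁻¹ * rb⁻¹ * c1 e1 := by group
        _ = rw_ := h
    have h3 := mul_eq_left.1 h2
    exact (inv_mul_eq_one.1 h3).symm
  have he1V : InV b v e1 := by
    rcases he1 with h | ⟨u, hu, rfl⟩
    · exact h
    · exfalso
      rw [map_mul, c1w, hu.fix c1 c1b c1v] at s1
      have h2 : w * b = w := mul_right_cancel s1
      exact b1 (mul_eq_left.1 h2)
  -- step 2: β
  obtain ⟨β, hβd⟩ : ∃ β, β = rw_⁻¹ * rv⁻¹ * rw_ * rv := ⟨_, rfl⟩
  rw [← hβd] at hβ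
  have βrw : rw_ * β = β * rw_ := hβ.comm rw_b rw_v rw_w
  have βrv : rv * β = β * rv := hβ.comm rv_b rv_v rv_w
  have βrb : rb * β = β * rb := hβ.comm rb_b rb_v rb_w
  have hrwrv : rw_ * rv = rv * rw_ * β := by rw [hβd]; group
  have wβ2 : ∀ u, InW b v w u → u * u = 1 := by
    rintro u (hu | ⟨u', hu, rfl⟩)
    · exact hu.sq bb vv vb
    · have h1 := hu.comm wb wv
      calc w * u' * (w * u') = w * (u' * w) * u' := by group
        _ = w * (w * u') * u' := by rw [h1]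
        _ = (w * w) * (u' * u') := by group
        _ = 1 := by rw [ww, hu.sq bb vv vb, one_mul]
  have β2 : β * β = 1 := wβ2 β hβ
  have βinv : β⁻¹ = β := inv_eq_of_mul_eq_one_left β2
  -- c1 β = β
  have c1β : c1 β = β := by
    have h1 : c1 rw_ * c1 rv = c1 rv * c1 rw_ * c1 β := by
      rw [← map_mul, ← map_mul, ← map_mul, hrwrv]
    have h2 : (rw_⁻¹ * rb⁻¹ * e1) * rv = rv * (rw_⁻¹ * rb⁻¹ * e1) * β := by
      have k1 : rw_⁻¹ * rv = rv * rw_⁻¹ * β := by
        have : rv * rw_ = rw_ * rv * β := by rw [hrwrv, mul_assoc, β2, mul_one]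
        calc rw_⁻¹ * rv = rw_⁻¹ * (rv * rw_) * rw_⁻¹ := by group
          _ = rw_⁻¹ * (rw_ * rv * β) * rw_⁻¹ := by rw [this]
          _ = rv * (β * rw_⁻¹) := by group
          _ = rv * (rw_⁻¹ * β) := by rw [(show Commute rw_ β from βrw).inv_left.eq]
          _ = _ := by group
      calc (rw_⁻¹ * rb⁻¹ * e1) * rv = rw_⁻¹ * rb⁻¹ * (e1 * rv) := by group
        _ = rw_⁻¹ * rb⁻¹ * (rv * e1) := by rw [e1rv]
        _ = rw_⁻¹ * (rb⁻¹ * rv) * e1 := by group
        _ = rw_⁻¹ * (rv * rb⁻¹) * e1 := by rw [(show Commute rv rb from rvb).inv_right.eq]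
        _ = (rw_⁻¹ * rv) * rb⁻¹ * e1 := by group
        _ = (rv * rw_⁻¹ * β) * rb⁻¹ * e1 := by rw [k1]
        _ = rv * rw_⁻¹ * (β * rb⁻¹) * e1 := by group
        _ = rv * rw_⁻¹ * (rb⁻¹ * β) * e1 := by rw [(show Commute rb β from βrb).inv_left.eq]
        _ = rv * rw_⁻¹ * rb⁻¹ * (β * e1) := by group
        _ = rv * rw_⁻¹ * rb⁻¹ * (e1 * β) := by
          rw [he1V.comm (x := β) _ _]
          · rw [← hβ.comm (x := b) rfl vb.symm wb.symm]
          · rw [← hβ.comm (x := v) vb rfl wv.symm]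
        _ = _ := by group
    have h3 : c1 rw_ * c1 rv = c1 rv * c1 rw_ * β := by
      rw [c1rw, c1rv]
      cases f
      · simpa using h2
      · have hv1 : (rw_⁻¹ * rb⁻¹ * e1) * v = v * (rw_⁻¹ * rb⁻¹ * e1) := by
          have a1 : Commute rw_ v := rw_v
          have a2 : Commute rb v := rb_v
          have a3 : Commute v e1 := he1V.comm vb rfl
          exact ((a1.inv_left.mul_left a2.inv_left).mul_left a3.symm).eq
        have hv2 : v * β = β * v := hβ.comm (x := v) vb rfl wv.symm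
        simp only [if_true]
        calc (rw_⁻¹ * rb⁻¹ * e1) * (rv * v) = ((rw_⁻¹ * rb⁻¹ * e1) * rv) * v := by group
          _ = rv * (rw_⁻¹ * rb⁻¹ * e1) * β * v := by rw [h2]
          _ = rv * (rw_⁻¹ * rb⁻¹ * e1) * (β * v) := by group
          _ = rv * (rw_⁻¹ * rb⁻¹ * e1) * (v * β) := by rw [hv2]
          _ = rv * ((rw_⁻¹ * rb⁻¹ * e1) * v) * β := by group
          _ = rv * (v * (rw_⁻¹ * rb⁻¹ * e1)) * β := by rw [hv1]
          _ = _ := by group
    rw [h1] at h3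
    exact mul_left_cancel h3
  have hβV : InV b v β := by
    rcases hβ with h | ⟨u, hu, hu'⟩
    · exact h
    · exfalso
      rw [hu', map_mul, c1w, hu.fix c1 c1b c1v] at c1β
      have h2 : w * b = w := mul_right_cancel c1β
      exact b1 (mul_eq_left.1 h2)
  have c2β : c2 β = β := hβV.fix c2 c2b c2v
  -- i = 0
  have key2 : c2 rw_ * rv = rv * c2 rw_ * β := by
    have h1 : c2 rw_ * c2 rv = c2 rv * c2 rw_ * c2 β := by
      rw [← map_mul, ← map_mul, ← map_mul, hrwrv]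
    rwa [c2rv, c2β] at h1
  have k1 : rw_⁻¹ * rv = rv * rw_⁻¹ * β := by
    have : rv * rw_ = rw_ * rv * β := by rw [hrwrv, mul_assoc, β2, mul_one]
    calc rw_⁻¹ * rv = rw_⁻¹ * (rv * rw_) * rw_⁻¹ := by group
      _ = rw_⁻¹ * (rw_ * rv * β) * rw_⁻¹ := by rw [this]
      _ = rv * (β * rw_⁻¹) := by group
      _ = rv * (rw_⁻¹ * β) := by rw [(show Commute rw_ β from βrw).inv_left.eq]
      _ = _ := by group
  have hτ1 : τ = 1 := by
    rcases hτ with h | h
    · exact h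
    · exfalso
      rw [c2rw, h] at key2
      have h3 : rw_⁻¹ * rv⁻¹ * t * e2 * rv = rv * (rw_⁻¹ * rv⁻¹ * t * e2) * β * v := by
        have hve : Commute v e2 := he2.comm vb rfl wv.symm
        have hβe : Commute β e2 := by
          refine (hβV.comm (x := e2) ?_ ?_ : e2 * β = β * e2).symm
          · exact (he2.comm (x := b) rfl vb.symm wb.symm).symm
          · exact (he2.comm (x := v) vb rfl wv.symm).symm
        have hβt : Commute β t := (hβV.comm t_b t_v : t * β = β * t).symm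
        have hβv : Commute β v := (hβ.comm (x := v) vb rfl wv.symm : v * β = β * v).symm
        have hvt : Commute v t := (t_v : t * v = v * t).symm
        calc rw_⁻¹ * rv⁻¹ * t * e2 * rv = rw_⁻¹ * rv⁻¹ * t * (e2 * rv) := by group
          _ = rw_⁻¹ * rv⁻¹ * t * (rv * e2) := by rw [e2rv]
          _ = rw_⁻¹ * rv⁻¹ * (t * rv) * e2 := by group
          _ = rw_⁻¹ * rv⁻¹ * (rv * t * v) * e2 := by rw [rv_t]
          _ = (rw_⁻¹ * rv) * rv⁻¹ * (t * v) * e2 := by group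
          _ = (rv * rw_⁻¹ * β) * rv⁻¹ * (t * v) * e2 := by rw [k1]
          _ = rv * rw_⁻¹ * (β * rv⁻¹) * (t * v) * e2 := by group
          _ = rv * rw_⁻¹ * (rv⁻¹ * β) * (t * v) * e2 := by
            rw [(show Commute rv β from βrv).inv_left.eq]
          _ = rv * rw_⁻¹ * rv⁻¹ * (β * (t * v * e2)) := by group
          _ = rv * rw_⁻¹ * rv⁻¹ * ((t * v * e2) * β) := by
            rw [((hβt.mul_right hβv).mul_right hβe).eq]
          _ = rv * rw_⁻¹ * rv⁻¹ * t * (v * (e2 * β)) := by group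
          _ = rv * rw_⁻¹ * rv⁻¹ * t * ((e2 * β) * v) := by rw [(hve.mul_right hβv.symm).eq]
          _ = _ := by group
      rw [h3] at key2
      exact v1 (mul_eq_left.1 key2)
  subst hτ1
  rw [mul_one] at c2rw
  -- squares: β = 1
  have k2 : rv⁻¹ * rw_⁻¹ = rw_⁻¹ * rv⁻¹ * β := by
    have h1 : (rw_ * rv)⁻¹ = (rv * rw_ * β)⁻¹ := by rw [hrwrv]
    rw [mul_inv_rev, mul_inv_rev, mul_inv_rev, βinv] at h1
    rw [h1]
    have a1 : Commute rw_ β := βrw
    have a2 : Commute rv β := βrv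
    exact (a1.inv_left.mul_left a2.inv_left).symm.eq
  have e22 : e2 * e2 = 1 := wβ2 e2 he2
  have hsq : c2 rw_ * c2 rw_ = (rw_ * rw_)⁻¹ * (rv * rv)⁻¹ * β := by
    have a1 : Commute rw_ e2 := e2rw
    have a2 : Commute rv e2 := e2rv
    have a3 : Commute rv β := βrv
    rw [c2rw]
    calc rw_⁻¹ * rv⁻¹ * e2 * (rw_⁻¹ * rv⁻¹ * e2) = rw_⁻¹ * rv⁻¹ * (e2 * (rw_⁻¹ * rv⁻¹)) * e2 := by group
      _ = rw_⁻¹ * rv⁻¹ * ((rw_⁻¹ * rv⁻¹) * e2) * e2 := by
        rw [(a1.inv_left.mul_left a2.inv_left).symm.eq]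
      _ = rw_⁻¹ * (rv⁻¹ * rw_⁻¹) * rv⁻¹ * (e2 * e2) := by group
      _ = rw_⁻¹ * (rw_⁻¹ * rv⁻¹ * β) * rv⁻¹ * 1 := by rw [k2, e22]
      _ = rw_⁻¹ * rw_⁻¹ * rv⁻¹ * (β * rv⁻¹) := by group
      _ = rw_⁻¹ * rw_⁻¹ * rv⁻¹ * (rv⁻¹ * β) := by rw [a3.inv_left.symm.eq]
      _ = _ := by group
  have hβ1 : β = 1 := by
    rw [← map_mul, rw2, rv2] at hsq
    cases l
    · simp only [Bool.false_eq_true, if_false, map_one, inv_one, one_mul] at hsq
      exact hsq.symm
    · simp only [if_true] at hsq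
      have wi : w⁻¹ = w := inv_eq_of_mul_eq_one_left ww
      have vi : v⁻¹ = v := inv_eq_of_mul_eq_one_left vv
      rw [c2w, wi, vi] at hsq
      exact (mul_eq_left.1 hsq.symm)
  have hcomm : rw_ * rv = rv * rw_ := by rw [hrwrv, hβ1, mul_one]
  -- e2
  have s2 : c2 e2 = e2 := by
    have h := c22
    rw [c2rw, map_mul, map_mul, map_inv, map_inv, c2rw, c2rv] at h
    have h2 : rw_ * (e2⁻¹ * c2 e2) = rw_ := by
      calc rw_ * (e2⁻¹ * c2 e2) = (rw_ * e2⁻¹) * c2 e2 := by group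
        _ = (e2⁻¹ * rw_) * c2 e2 := by
          rw [(show Commute rw_ e2 from e2rw).inv_right.eq]
        _ = e2⁻¹ * (rv * rw_) * rv⁻¹ * c2 e2 := by rw [← hcomm]; group
        _ = (rw_⁻¹ * rv⁻¹ * e2)⁻¹ * rv⁻¹ * c2 e2 := by group
        _ = rw_ := h
    have h3 := mul_eq_left.1 h2
    exact (inv_mul_eq_one.1 h3).symm
  have he2V : InV b v e2 := by
    rcases he2 with h | ⟨u, hu, rfl⟩
    · exact h
    · exfalso
      rw [map_mul, c2w, hu.fix c2 c2b c2v] at s2
      have h2 : w * v = w := mul_right_cancel s2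
      exact v1 (mul_eq_left.1 h2)
  refine ⟨rfl, he1V, he2V, hcomm, ?_⟩
  -- the last relation
  have h := c12
  have c1e2 : c1 e2 = e2 := he2V.fix c1 c1b c1v
  have c2e1 : c2 e1 = e1 := he1V.fix c2 c2b c2v
  rw [c2rw, c1rw, map_mul, map_mul, map_mul, map_mul, map_inv, map_inv, map_inv, map_inv, c1rw, c2rw,
    c1e2, c2e1] at h
  have e12 : Commute e1 e2 := (he2V.comm (he1V.comm rfl vb.symm).symm (he1V.comm vb rfl).symm)
  have a1 : Commute rw_ e1 := e1rw
  have a2 : Commute rb e1 := e1rb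
  have a3 : Commute rv e1 := e1rv
  have a4 : Commute rw_ e2 := e2rw
  have a5 : Commute rb e2 := e2rb
  have a6 : Commute rv e2 := e2rv
  have e11 : e1 * e1 = 1 := he1V.sq bb vv vb
  have e1i : e1⁻¹ = e1 := inv_eq_of_mul_eq_one_left e11
  have e2i : e2⁻¹ = e2 := inv_eq_of_mul_eq_one_left e22
  have hA : ∀ x y : G, Commute e1 y → Commute e2 y → Commute e1 x → Commute e2 x →
      (e1⁻¹ * x) * y * e2 = e1 * e2 * (x * y) := by
    intro x y h1 h2 h3 h4
    rw [e1i]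
    calc e1 * x * y * e2 = e1 * (x * (y * e2)) := by group
      _ = e1 * (x * (e2 * y)) := by rw [h2.eq]
      _ = e1 * ((x * e2) * y) := by group
      _ = e1 * ((e2 * x) * y) := by rw [h4.eq]
      _ = _ := by group
  have h' : rb * rw_ * (c1 rv)⁻¹ = rv * rw_ * (c2 rb)⁻¹ := by
    have b1' : Commute e1 (c1 rv)⁻¹ := by
      rw [c1rv]
      cases f
      · simpa using a3.symm
      · simp only [if_true]
        exact (a3.symm.mul_right (he1V.comm vb rfl : v * e1 = e1 * v).symm).inv_right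
    have b2' : Commute e2 (c1 rv)⁻¹ := by
      rw [c1rv]
      cases f
      · simpa using a6.symm
      · simp only [if_true]
        exact (a6.symm.mul_right (he2V.comm vb rfl : v * e2 = e2 * v).symm).inv_right
    have b3' : Commute e1 (c2 rb)⁻¹ := by
      rw [c2rb]
      cases f
      · simpa using a2.symm
      · simp only [if_true]
        exact (a2.symm.mul_right (he1V.comm rfl vb.symm : b * e1 = e1 * b).symm).inv_right
    have b4' : Commute e2 (c2 rb)⁻¹ := by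
      rw [c2rb]
      cases f
      · simpa using a5.symm
      · simp only [if_true]
        exact (a5.symm.mul_right (he2V.comm rfl vb.symm : b * e2 = e2 * b).symm).inv_right
    have l1 : (rw_⁻¹ * rb⁻¹ * e1)⁻¹ * (c1 rv)⁻¹ * e2 = e1 * e2 * (rb * rw_ * (c1 rv)⁻¹) := by
      rw [← hA (rb * rw_) _ b1' b2' (a2.symm.mul_right a1.symm) (a5.symm.mul_right a4.symm)]
      group
    have l2 : (rw_⁻¹ * rv⁻¹ * e2)⁻¹ * (c2 rb)⁻¹ * e1 = e1 * e2 * (rv * rw_ * (c2 rb)⁻¹) := by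
      have x1 : Commute e1 (rv * rw_) := a3.symm.mul_right a1.symm
      rw [mul_inv_rev, mul_inv_rev, inv_inv, inv_inv, e2i]
      calc e2 * (rv * rw_) * (c2 rb)⁻¹ * e1 = e2 * (rv * rw_) * ((c2 rb)⁻¹ * e1) := by group
        _ = e2 * (rv * rw_) * (e1 * (c2 rb)⁻¹) := by rw [b3'.eq]
        _ = e2 * ((rv * rw_) * e1) * (c2 rb)⁻¹ := by group
        _ = e2 * (e1 * (rv * rw_)) * (c2 rb)⁻¹ := by rw [x1.eq]
        _ = (e2 * e1) * (rv * rw_ * (c2 rb)⁻¹) := by group
        _ = _ := by rw [e12.eq]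
    rw [l1, l2] at h
    exact mul_left_cancel h
  -- rb * (c1 rv)⁻¹ = rv * (c2 rb)⁻¹
  have c1rvrw : Commute rw_ (c1 rv) := by
    rw [c1rv]
    cases f
    · exact (hcomm : Commute rw_ rv)
    · simp only [if_true]
      exact (show Commute rw_ rv from hcomm).mul_right rw_v
  have c2rbrw : Commute rw_ (c2 rb) := by
    rw [c2rb]
    cases f
    · exact (rwb : Commute rw_ rb)
    · simp only [if_true]
      exact (show Commute rw_ rb from rwb).mul_right rw_b
  have h2 : rb * (c1 rv)⁻¹ = rv * (c2 rb)⁻¹ := by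
    have x1 : rb * rw_ * (c1 rv)⁻¹ = rb * (c1 rv)⁻¹ * rw_ := by
      rw [mul_assoc, c1rvrw.inv_right.eq, ← mul_assoc]
    have x2 : rv * rw_ * (c2 rb)⁻¹ = rv * (c2 rb)⁻¹ * rw_ := by
      rw [mul_assoc, c2rbrw.inv_right.eq, ← mul_assoc]
    rw [x1, x2] at h'
    exact mul_right_cancel h'
  -- rb * c2 rb = rv * c1 rv
  have h3 : rb * c2 rb = rv * c1 rv := by
    have y1 : Commute (c1 rv) (c2 rb) := by
      rw [c1rv, c2rb]
      have z0 : Commute rv rb := rvb
      have z1 : Commute rv b := rv_b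
      have z2 : Commute v rb := (rb_v : rb * v = v * rb).symm
      have z3 : Commute v b := vb
      cases f
      · simpa using z0
      · simp only [if_true]
        exact (z0.mul_right z1).mul_left (z2.mul_right z3)
    have y2 : Commute rb (c2 rb) := by
      rw [c2rb]
      cases f
      · simp
      · simp only [if_true]
        exact (Commute.refl rb).mul_right rb_b
    have y3 : Commute rv (c2 rb) := by
      rw [c2rb]
      have z0 : Commute rv rb := rvb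
      have z1 : Commute rv b := rv_b
      cases f
      · simpa using z0
      · simp only [if_true]
        exact z0.mul_right z1
    calc rb * c2 rb = rb * (c1 rv)⁻¹ * (c1 rv * c2 rb) := by group
      _ = rv * (c2 rb)⁻¹ * (c1 rv * c2 rb) := by rw [h2]
      _ = rv * (c2 rb)⁻¹ * (c2 rb * c1 rv) := by rw [y1.eq]
      _ = _ := by group
  rw [c1rv, c2rb] at h3
  cases l <;> cases f
  · rfl
  · exfalso
    simp only [if_true, ← mul_assoc, rb2, rv2, Bool.false_eq_true, if_false, one_mul] at h3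
    exact bv1 h3
  · exfalso
    simp only [if_true, rb2, rv2, Bool.false_eq_true, if_false] at h3
    exact bv1 h3
  · rfl

section Final

variable {b v w y t k1 k2 s sv rw_ e1 e2 : G}

/-- `k^r` from `r^k` -/
theorem conj_swap {k r x : G} (h : k⁻¹ * r * k = r⁻¹ * x⁻¹ * e1) : r⁻¹ * k * r = k * (e1⁻¹ * x * r * r) := by
  calc r⁻¹ * k * r = k * (k⁻¹ * r * k)⁻¹ * r := by group
    _ = _ := by rw [h]; group

/-- case (I) -/
theorem fin_zero (s2 : s * s = 1) (r2 : rw_ * rw_ = 1) (tr : t * rw_ = rw_ * t * w) (sr : s * rw_ = rw_ * s)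
    (sk : s * k1 = k1 * s) (se : s * e1 = e1 * s) (ee : e1 * e1 = 1)
    (h : k1⁻¹ * rw_ * k1 = rw_⁻¹ * s⁻¹ * e1) :
    rw_⁻¹ * (t * s * k1) * rw_ = t * (w * (k1 * e1)) := by
  have e1i : e1⁻¹ = e1 := inv_eq_of_mul_eq_one_left ee
  have h1 := conj_swap h
  have h2 : rw_⁻¹ * t * rw_ = t * w := by
    calc rw_⁻¹ * t * rw_ = rw_⁻¹ * (t * rw_) := by group
      _ = _ := by rw [tr]; group
  have h3 : rw_⁻¹ * s * rw_ = s := by
    calc rw_⁻¹ * s * rw_ = rw_⁻¹ * (s * rw_) := by group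
      _ = _ := by rw [sr]; group
  calc rw_⁻¹ * (t * s * k1) * rw_ = (rw_⁻¹ * t * rw_) * (rw_⁻¹ * s * rw_) * (rw_⁻¹ * k1 * rw_) := by group
    _ = t * w * s * (k1 * (e1⁻¹ * s * rw_ * rw_)) := by rw [h1, h2, h3]
    _ = t * w * s * (k1 * (e1 * s * (rw_ * rw_))) := by rw [e1i]; group
    _ = t * w * (s * k1) * (e1 * s) := by rw [r2]; group
    _ = t * w * (k1 * s) * (s * e1) := by rw [sk, se]
    _ = t * w * k1 * (s * s) * e1 := by group
    _ = _ := by rw [s2]; group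

/-- hypotheses of case (II) -/
structure Two (b v w y t k1 k2 s sv rw_ e1 e2 : G) : Prop where
  hw : w = y * k1
  bb : b * b = 1
  vv : v * v = 1
  ww : w * w = 1
  k11 : k1 * k1 = b
  k22 : k2 * k2 = v
  kk : k2 * k1 = k1 * k2
  yk1 : k1⁻¹ * y * k1 = y * b
  tt : t * t = 1
  ty : t * y = y * t
  tk1 : t * k1 = k1 * t
  tk2 : t * k2 = k2 * t
  ts : t * s = s * t * b
  tsv : t * sv = sv * t * v
  tr : t * rw_ = rw_ * t * w
  s_y : s * y = y * s
  s_k1 : s * k1 = k1 * s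
  sv_y : sv * y = y * sv
  sv_k1 : sv * k1 = k1 * sv * v
  sv_k2 : sv * k2 = k2 * sv
  sr : s * rw_ = rw_ * s
  wr : w * rw_ = rw_ * w
  rr : rw_ * rw_ = w
  e11 : e1 * e1 = 1
  e22 : e2 * e2 = 1
  /-- `b`, `v`, `e1`, `e2` are central -/
  cb : ∀ x ∈ ({y, t, k1, k2, s, sv, rw_, v, e1, e2} : Set G), Commute b x
  cv : ∀ x ∈ ({y, t, k1, k2, s, sv, rw_, e1, e2} : Set G), Commute v x
  ce1 : ∀ x ∈ ({y, t, k1, k2, s, sv, rw_, e2} : Set G), Commute e1 x
  ce2 : ∀ x ∈ ({y, t, k1, k2, s, sv, rw_} : Set G), Commute e2 x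
  h1 : k1⁻¹ * rw_ * k1 = rw_⁻¹ * s⁻¹ * e1
  h2 : k2⁻¹ * rw_ * k2 = rw_⁻¹ * (sv * k2 * t)⁻¹ * e2

theorem Two.conj_k1 (h : Two b v w y t k1 k2 s sv rw_ e1 e2) : rw_⁻¹ * k1 * rw_ = k1 * (e1 * s * w) := by
  rw [conj_swap h.h1, inv_eq_of_mul_eq_one_left h.e11]
  calc k1 * (e1 * s * rw_ * rw_) = k1 * (e1 * s * (rw_ * rw_)) := by group
    _ = _ := by rw [h.rr]

theorem Two.conj_k2 (h : Two b v w y t k1 k2 s sv rw_ e1 e2) :
    rw_⁻¹ * k2 * rw_ = k2 * (e2 * (sv * k2 * t) * w) := by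
  rw [conj_swap h.h2, inv_eq_of_mul_eq_one_left h.e22]
  calc k2 * (e2 * (sv * k2 * t) * rw_ * rw_) = k2 * (e2 * (sv * k2 * t) * (rw_ * rw_)) := by group
    _ = _ := by rw [h.rr]

theorem Two.conj_w (h : Two b v w y t k1 k2 s sv rw_ e1 e2) : rw_⁻¹ * w * rw_ = w := by
  calc rw_⁻¹ * w * rw_ = rw_⁻¹ * (w * rw_) := by group
    _ = _ := by rw [h.wr]; group

theorem Two.conj_t (h : Two b v w y t k1 k2 s sv rw_ e1 e2) : rw_⁻¹ * t * rw_ = t * w := by
  calc rw_⁻¹ * t * rw_ = rw_⁻¹ * (t * rw_) := by group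
    _ = _ := by rw [h.tr]; group

theorem Two.conj_s (h : Two b v w y t k1 k2 s sv rw_ e1 e2) : rw_⁻¹ * s * rw_ = s := by
  calc rw_⁻¹ * s * rw_ = rw_⁻¹ * (s * rw_) := by group
    _ = _ := by rw [h.sr]; group

theorem Two.conj_y (h : Two b v w y t k1 k2 s sv rw_ e1 e2) : rw_⁻¹ * y * rw_ = s⁻¹ * k1⁻¹ * e1 := by
  have hy : y = w * k1⁻¹ := by rw [h.hw]; group
  have c1 : Commute e1 k1 := h.ce1 k1 (by simp)
  calc rw_⁻¹ * y * rw_ = (rw_⁻¹ * w * rw_) * (rw_⁻¹ * k1 * rw_)⁻¹ := by rw [hy]; group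
    _ = w * (k1 * (e1 * s * w))⁻¹ := by rw [h.conj_w, h.conj_k1]
    _ = s⁻¹ * (e1⁻¹ * k1⁻¹) := by group
    _ = s⁻¹ * (k1⁻¹ * e1⁻¹) := by rw [c1.inv_left.inv_right.eq]
    _ = _ := by rw [inv_eq_of_mul_eq_one_left h.e11]; group

/-- (α) -/
theorem Two.alpha (h : Two b v w y t k1 k2 s sv rw_ e1 e2) : rw_⁻¹ * (t * (s * y)) * rw_ = t * (y * e1) := by
  calc rw_⁻¹ * (t * (s * y)) * rw_ = (rw_⁻¹ * t * rw_) * (rw_⁻¹ * s * rw_) * (rw_⁻¹ * y * rw_) := by group
    _ = t * w * s * (s⁻¹ * k1⁻¹ * e1) := by rw [h.conj_t, h.conj_s, h.conj_y]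
    _ = t * (w * k1⁻¹) * e1 := by group
    _ = t * (y * k1 * k1⁻¹) * e1 := by rw [h.hw]
    _ = _ := by group

/-- (β) -/
theorem Two.beta (h : Two b v w y t k1 k2 s sv rw_ e1 e2) : rw_⁻¹ * (t * (k2 * w)) * rw_ = w * e2 * sv := by
  have tw : t * w = w * t := by
    rw [h.hw, ← mul_assoc, h.ty, mul_assoc, h.tk1, mul_assoc]
  have c1 : Commute e2 t := h.ce2 t (by simp)
  have c2 : Commute e2 k2 := h.ce2 k2 (by simp)
  have c3 : Commute v k2 := h.cv k2 (by simp)
  have c4 : Commute v t := h.cv t (by simp)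
  have c5 : Commute v e2 := h.cv e2 (by simp)
  have c6 : Commute v sv := h.cv sv (by simp)
  calc rw_⁻¹ * (t * (k2 * w)) * rw_ = (rw_⁻¹ * t * rw_) * (rw_⁻¹ * k2 * rw_) * (rw_⁻¹ * w * rw_) := by group
    _ = t * w * (k2 * (e2 * (sv * k2 * t) * w)) * w := by rw [h.conj_t, h.conj_k2, h.conj_w]
    _ = (t * w) * k2 * e2 * sv * k2 * t * (w * w) := by group
    _ = (w * t) * k2 * e2 * sv * k2 * t := by rw [tw, h.ww, mul_one]
    _ = w * (t * k2) * e2 * sv * k2 * t := by group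
    _ = w * (k2 * t) * e2 * sv * k2 * t := by rw [h.tk2]
    _ = w * k2 * (t * e2) * sv * k2 * t := by group
    _ = w * k2 * (e2 * t) * sv * k2 * t := by rw [c1.eq]
    _ = w * k2 * e2 * (t * sv) * k2 * t := by group
    _ = w * k2 * e2 * (sv * t * v) * k2 * t := by rw [h.tsv]
    _ = w * k2 * e2 * sv * t * (v * k2) * t := by group
    _ = w * k2 * e2 * sv * t * (k2 * v) * t := by rw [c3.eq]
    _ = w * k2 * e2 * sv * (t * k2) * (v * t) := by group
    _ = w * k2 * e2 * sv * (k2 * t) * (t * v) := by rw [h.tk2, c4.eq]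
    _ = w * k2 * e2 * (sv * k2) * (t * t) * v := by group
    _ = w * k2 * e2 * (k2 * sv) * v := by rw [h.sv_k2, h.tt, mul_one]
    _ = w * k2 * (e2 * k2) * (sv * v) := by group
    _ = w * k2 * (k2 * e2) * (v * sv) := by rw [c2.eq, c6.eq]
    _ = w * (k2 * k2) * e2 * v * sv := by group
    _ = w * v * (e2 * v) * sv := by rw [h.k22]; group
    _ = w * v * (v * e2) * sv := by rw [c5.eq]
    _ = w * (v * v) * e2 * sv := by group
    _ = _ := by rw [h.vv, mul_one]

/-- (γ) -/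
theorem Two.gamma (h : Two b v w y t k1 k2 s sv rw_ e1 e2) :
    rw_⁻¹ * (s * (y * k2)) * rw_ = t * (sv * y) * (b * v * e1 * e2) := by
  have tw : t * w = w * t := by
    rw [h.hw, ← mul_assoc, h.ty, mul_assoc, h.tk1, mul_assoc]
  have a1 : Commute e1 k2 := h.ce1 k2 (by simp)
  have a2 : Commute e1 sv := h.ce1 sv (by simp)
  have a3 : Commute e1 y := h.ce1 y (by simp)
  have a4 : Commute e1 t := h.ce1 t (by simp)
  have a5 : Commute e1 k1 := h.ce1 k1 (by simp)
  have c1 : Commute e2 t := h.ce2 t (by simp)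
  have c2 : Commute e2 k2 := h.ce2 k2 (by simp)
  have c3 : Commute e2 sv := h.ce2 sv (by simp)
  have c4 : Commute e2 y := h.ce2 y (by simp)
  have c5 : Commute e2 k1 := h.ce2 k1 (by simp)
  have v1 : Commute v k2 := h.cv k2 (by simp)
  have v2 : Commute v t := h.cv t (by simp)
  have v3 : Commute v sv := h.cv sv (by simp)
  have v4 : Commute v y := h.cv y (by simp)
  have v5 : Commute v k1 := h.cv k1 (by simp)
  have b1 : Commute b sv := h.cb sv (by simp)
  have b2 : Commute b t := h.cb t (by simp)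
  -- move `e1`, `e2` to the right
  have f1 : Commute (e1 * e2) (k2 * (sv * k2 * t) * w) := by
    have g1 : Commute e1 (k2 * (sv * k2 * t) * w) := by
      rw [h.hw]
      exact (a1.mul_right ((a2.mul_right a1).mul_right a4)).mul_right (a3.mul_right a5)
    have g2 : Commute e2 (k2 * (sv * k2 * t) * w) := by
      rw [h.hw]
      exact (c2.mul_right ((c3.mul_right c2).mul_right c1)).mul_right (c4.mul_right c5)
    exact g1.mul_left g2
  have f2 : k2 * (sv * k2 * t) * w = v * (y * k1) * (sv * v) * t := by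
    calc k2 * (sv * k2 * t) * w = k2 * (sv * k2) * (t * w) := by group
      _ = k2 * (k2 * sv) * (w * t) := by rw [h.sv_k2, tw]
      _ = (k2 * k2) * sv * (y * k1) * t := by rw [h.hw]; group
      _ = v * (sv * y) * k1 * t := by rw [h.k22]; group
      _ = v * (y * sv) * k1 * t := by rw [h.sv_y]
      _ = v * y * (sv * k1) * t := by group
      _ = v * y * (k1 * sv * v) * t := by rw [h.sv_k1]
      _ = _ := by group
  have f3 : sv * t = t * sv * v := by
    rw [h.tsv]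
    calc sv * t = sv * t * (v * v) := by rw [h.vv, mul_one]
      _ = _ := by group
  calc rw_⁻¹ * (s * (y * k2)) * rw_ = (rw_⁻¹ * s * rw_) * (rw_⁻¹ * y * rw_) * (rw_⁻¹ * k2 * rw_) := by group
    _ = s * (s⁻¹ * k1⁻¹ * e1) * (k2 * (e2 * (sv * k2 * t) * w)) := by
      rw [h.conj_s, h.conj_y, h.conj_k2]
    _ = k1⁻¹ * (e1 * ((k2 * e2) * ((sv * k2 * t) * w))) := by group
    _ = k1⁻¹ * (e1 * ((e2 * k2) * ((sv * k2 * t) * w))) := by rw [c2.eq]
    _ = k1⁻¹ * ((e1 * e2) * (k2 * (sv * k2 * t) * w)) := by group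
    _ = k1⁻¹ * ((k2 * (sv * k2 * t) * w) * (e1 * e2)) := by rw [f1.eq]
    _ = k1⁻¹ * ((v * (y * k1) * (sv * v) * t) * (e1 * e2)) := by rw [f2]
    _ = (k1⁻¹ * v) * y * k1 * (sv * v) * t * (e1 * e2) := by group
    _ = (v * k1⁻¹) * y * k1 * (v * sv) * t * (e1 * e2) := by rw [v5.inv_right.eq, v3.eq]
    _ = v * (k1⁻¹ * y * k1) * v * (sv * t) * (e1 * e2) := by group
    _ = v * (y * b) * v * (t * sv * v) * (e1 * e2) := by rw [h.yk1, f3]
    _ = (v * y) * (b * v) * t * sv * (v * (e1 * e2)) := by group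
    _ = (y * v) * (v * b) * t * sv * (v * (e1 * e2)) := by
      rw [v4.eq, (h.cb v (by simp)).eq]
    _ = y * (v * v) * (b * t) * sv * (v * (e1 * e2)) := by group
    _ = y * (t * b) * sv * (v * (e1 * e2)) := by rw [h.vv, mul_one, b2.eq]
    _ = (y * t) * (b * sv) * (v * (e1 * e2)) := by group
    _ = (t * y) * (sv * b) * (v * (e1 * e2)) := by rw [h.ty, b1.eq]
    _ = t * (y * sv) * b * (v * (e1 * e2)) := by group
    _ = t * (sv * y) * b * (v * (e1 * e2)) := by rw [h.sv_y]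
    _ = _ := by group

end Final

end Cfsg.Agent.CoThreeStd.DeltaRel
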