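import Mathlib

/-!
# The dihedral lemma for two involutions

Two involutions `a`, `b` of a finite group are conjugate, or there is an involution `c ∈ ⟨ab⟩`
commuting with both such that `a` is conjugate to `b c` or `c = u²` with `u ∈ ⟨ab⟩` inverted by
`a` and `b`.
-/

set_option autoImplicit false

namespace Cfsg.Agent.CoThreeStd.DihAlt

variable {G : Type*} [Group G]

/-- involutions whose product has odd order are conjugate -/
theorem conj_of_odd {a b : G} (ha : a * a = 1) (hb : b * b = 1) (h : Odd (orderOf (a * b))) :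
    ∃ k : G, k * a * k⁻¹ = b := by
  have hai : a⁻¹ = a := inv_eq_of_mul_eq_one_left ha
  have hinva : a * (a * b) * a⁻¹ = (a * b)⁻¹ := by
    rw [mul_inv_rev, hai, inv_eq_of_mul_eq_one_left hb, ← mul_assoc, ha, one_mul]
  have hpowa : ∀ n : ℕ, a * (a * b) ^ n * a⁻¹ = ((a * b) ^ n)⁻¹ := by
    intro n
    rw [← conj_pow, hinva, inv_pow]
  obtain ⟨m, hm⟩ := h
  refine ⟨(a * b) ^ m, ?_⟩
  have h1 : (a * b) ^ m * a = a * ((a * b) ^ m)⁻¹ := by
    have := hpowa m
    rw [← this, ← mul_assoc, ← mul_assoc, hai, ha, one_mul]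
  rw [h1, mul_assoc, ← mul_inv_rev, ← pow_add]
  have h2 : (a * b) ^ (m + m) * (a * b) = 1 := by
    rw [← pow_succ, show m + m + 1 = orderOf (a * b) by omega]
    exact pow_orderOf_eq_one _
  have h3 : ((a * b) ^ (m + m))⁻¹ = a * b := inv_eq_of_mul_eq_one_right h2
  rw [h3, ← mul_assoc, ha, one_mul]

/-- **The dihedral lemma.** -/
theorem dd [Finite G] {a b : G} (ha : a * a = 1) (hb : b * b = 1)
    (hab : ¬ ∃ k : G, k * a * k⁻¹ = b) :
    ∃ c : G, c ≠ 1 ∧ c * c = 1 ∧ c * a = a * c ∧ c * b = b * c ∧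
      (∀ w : G, w * a = a * w → w * b = b * w → w * c = c * w) ∧
      ((∃ k : G, k * a * k⁻¹ = b * c) ∨
        ∃ u : G, u * u = c ∧ a * u * a = u⁻¹ ∧ b * u * b = u⁻¹ ∧
          ∀ w : G, w * a = a * w → w * b = b * w → w * u = u * w) := by
  have hai : a⁻¹ = a := inv_eq_of_mul_eq_one_left ha
  have hbi : b⁻¹ = b := inv_eq_of_mul_eq_one_left hb
  have hinva : a * (a * b) * a = (a * b)⁻¹ := by
    rw [mul_inv_rev, hai, hbi, ← mul_assoc, ha, one_mul]
  have hinvb : b * (a * b) * b = (a * b)⁻¹ := by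
    rw [mul_inv_rev, hai, hbi, mul_assoc b (a * b) b, mul_assoc a b b, hb, mul_one]
  have hpowa : ∀ n : ℕ, a * (a * b) ^ n * a = ((a * b) ^ n)⁻¹ := by
    intro n
    have : a * (a * b) ^ n * a⁻¹ = ((a * b) ^ n)⁻¹ := by
      rw [← conj_pow, hai, hinva, inv_pow]
    rwa [hai] at this
  have hpowb : ∀ n : ℕ, b * (a * b) ^ n * b = ((a * b) ^ n)⁻¹ := by
    intro n
    have : b * (a * b) ^ n * b⁻¹ = ((a * b) ^ n)⁻¹ := by
      rw [← conj_pow, hbi, hinvb, inv_pow]
    rwa [hbi] at this
  have hcent : ∀ n : ℕ, ∀ w : G, w * a = a * w → w * b = b * w →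
      w * (a * b) ^ n = (a * b) ^ n * w := by
    intro n w h1 h2
    have h3 : Commute w (a * b) := by
      show w * (a * b) = a * b * w
      rw [← mul_assoc, h1, mul_assoc, h2, mul_assoc]
    exact (h3.pow_right n)
  have heven : Even (orderOf (a * b)) := by
    rw [← Nat.not_odd_iff_even]
    intro ho
    exact hab (conj_of_odd ha hb ho)
  obtain ⟨m, hm⟩ := heven
  have hpos : 0 < orderOf (a * b) := orderOf_pos _
  have hmpos : 0 < m := by omega
  set c := (a * b) ^ m with hc
  have hc1 : c ≠ 1 := by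
    intro h
    have := orderOf_dvd_of_pow_eq_one h
    have := Nat.le_of_dvd hmpos this
    omega
  have hc2 : c * c = 1 := by
    rw [hc, ← pow_add, ← hm]
    exact pow_orderOf_eq_one _
  have hci : c⁻¹ = c := inv_eq_of_mul_eq_one_left hc2
  have hca : c * a = a * c := by
    have h1 := hpowa m
    rw [← hc, hci] at h1
    calc c * a = a * c * a * a := by rw [h1]
      _ = a * c := by rw [mul_assoc, ha, mul_one]
  have hcb : c * b = b * c := by
    have h1 := hpowb m
    rw [← hc, hci] at h1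
    calc c * b = b * c * b * b := by rw [h1]
      _ = b * c := by rw [mul_assoc, hb, mul_one]
  refine ⟨c, hc1, hc2, hca, hcb, fun w h1 h2 => hcent m w h1 h2, ?_⟩
  rcases Nat.even_or_odd m with ⟨k, hk⟩ | ⟨k, hk⟩
  · right
    refine ⟨(a * b) ^ k, ?_, hpowa k, hpowb k, fun w h1 h2 => hcent k w h1 h2⟩
    rw [← pow_add, ← hk]
  · left
    -- `a * (b c) = (ab)^(m+1)` has odd order `m`
    apply conj_of_odd ha
    · calc b * c * (b * c) = b * (c * b) * c := by group
        _ = (b * b) * (c * c) := by rw [hcb]; group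
        _ = 1 := by rw [hb, hc2, one_mul]
    · have e : a * (b * c) = (a * b) ^ (m + 1) := by
        rw [← mul_assoc, hc, pow_succ']
      rw [e]
      have h1 : ((a * b) ^ (m + 1)) ^ m = 1 := by
        rw [← pow_mul, show (m + 1) * m = (m + m) * (k + 1) by
          have : m + 1 = 2 * (k + 1) := by omega
          rw [this]; ring, ← hm, pow_mul, pow_orderOf_eq_one, one_pow]
      have h2 : orderOf ((a * b) ^ (m + 1)) ∣ m := orderOf_dvd_of_pow_eq_one h1
      have hmo : Odd m := ⟨k, hk⟩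
      exact Odd.of_dvd_nat hmo h2

end Cfsg.Agent.CoThreeStd.DihAlt
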