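import Cfsg.Agent.CoThreeStd.PairAC

set_option autoImplicit false

/-!
The family of the conjugates of a frame belonging to a standard subgroup.
-/

namespace Cfsg.Agent.CoThreeStd.Fam

open Subgroup Cfsg.Agent.CoThreeStd.FactsDef Cfsg.Agent.CoThreeStd.Frame
open Cfsg.Agent.CoThreeStd.Frame.Fr

variable {G S : Type*} [Group G] [Group S]

/-- A frame belonging to a standard subgroup. -/
structure StdF (F : Fr G S) : Prop where
  cent : ∀ y ∈ F.K, y * y = 1 → y ≠ 1 → ∀ x, x * y = y * x → x ∈ F.M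
  tight : ∀ g, g ∉ F.M → ∀ y ∈ F.K, g⁻¹ * y * g ∈ F.K → y * y = 1 → y = 1
  nc : ∀ g, g ∉ F.M → ∃ s s', F.ι s * (g * F.ι s' * g⁻¹) ≠ (g * F.ι s' * g⁻¹) * F.ι s

variable {F : Fr G S}

theorem fr_ext {F F' : Fr G S} (h1 : F.M = F'.M) (h2 : F.ι = F'.ι) (h3 : F.act = F'.act) :
    F = F' := by
  cases F
  cases F'
  simp only at h1 h2 h3
  subst h1 h2 h3
  rfl

theorem cg_cg (F : Fr G S) (g h : G) : (F.cg g).cg h = F.cg (h * g) := by
  apply fr_ext
  · ext x
    rw [mem_cg_M, mem_cg_M, mem_cg_M]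
    rw [show g⁻¹ * (h⁻¹ * x * h) * g = (h * g)⁻¹ * x * (h * g) by group]
  · ext s
    rw [cg_ι, cg_ι, cg_ι]
    group
  · funext x
    rw [cg_act, cg_act, cg_act]
    rw [show g⁻¹ * (h⁻¹ * x * h) * g = (h * g)⁻¹ * x * (h * g) by group]

theorem cg_one (F : Fr G S) : F.cg 1 = F := by
  apply fr_ext
  · ext x
    rw [mem_cg_M]
    simp
  · ext s
    rw [cg_ι]
    simp
  · funext x
    rw [cg_act]
    simp

theorem mem_M_iff_K (F : Fr G S) {g : G} (hg : g ∈ F.M) {k : G} : g⁻¹ * k * g ∈ F.K ↔ k ∈ F.K := by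
  constructor
  · intro h
    have := F.K_conj hg h
    rwa [show g * (g⁻¹ * k * g) * g⁻¹ = k by group] at this
  · intro h
    have := F.K_conj (F.M.inv_mem hg) h
    rwa [inv_inv] at this

theorem StdF.cg (hs : StdF F) (g : G) : StdF (F.cg g) where
  cent := by
    intro y hy hyy hy1 x hxy
    rw [mem_cg_K] at hy
    rw [mem_cg_M]
    refine hs.cent _ hy ?_ ?_ _ ?_
    · calc g⁻¹ * y * g * (g⁻¹ * y * g) = g⁻¹ * (y * y) * g := by group
        _ = 1 := by rw [hyy]; group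
    · intro h
      apply hy1
      calc y = g * (g⁻¹ * y * g) * g⁻¹ := by group
        _ = 1 := by rw [h]; group
    · calc g⁻¹ * x * g * (g⁻¹ * y * g) = g⁻¹ * (x * y) * g := by group
        _ = g⁻¹ * (y * x) * g := by rw [hxy]
        _ = g⁻¹ * y * g * (g⁻¹ * x * g) := by group
  tight := by
    intro h hh y hy hy' hyy
    rw [mem_cg_M] at hh
    rw [mem_cg_K] at hy hy'
    have h1 := hs.tight _ hh (g⁻¹ * y * g) hy (by
      rwa [show (g⁻¹ * h * g)⁻¹ * (g⁻¹ * y * g) * (g⁻¹ * h * g) = g⁻¹ * (h⁻¹ * y * h) * g by group])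
      (by
        calc g⁻¹ * y * g * (g⁻¹ * y * g) = g⁻¹ * (y * y) * g := by group
          _ = 1 := by rw [hyy]; group)
    calc y = g * (g⁻¹ * y * g) * g⁻¹ := by group
      _ = 1 := by rw [h1]; group
  nc := by
    intro h hh
    rw [mem_cg_M] at hh
    obtain ⟨s, s', h1⟩ := hs.nc _ hh
    refine ⟨s, s', fun e => h1 ?_⟩
    rw [cg_ι, cg_ι] at e
    calc F.ι s * (g⁻¹ * h * g * F.ι s' * (g⁻¹ * h * g)⁻¹) =
          g⁻¹ * (g * F.ι s * g⁻¹ * (h * (g * F.ι s' * g⁻¹) * h⁻¹)) * g := by group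
      _ = g⁻¹ * (h * (g * F.ι s' * g⁻¹) * h⁻¹ * (g * F.ι s * g⁻¹)) * g := by rw [e]
      _ = _ := by group

/-- Two different conjugates of the frame. -/
theorem two_of (hs : StdF F) {g : G} (hg : g ∉ F.M) : Two F (F.cg g) where
  cent := hs.cent
  cent' := (hs.cg g).cent
  tight := by
    intro y hy hy' hyy
    rw [mem_cg_K] at hy'
    exact hs.tight g hg y hy hy' hyy
  nc := hs.nc g hg

theorem two_of' (hs : StdF F) {g h : G} (hgh : g⁻¹ * h ∉ F.M) : Two (F.cg g) (F.cg h) := by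
  have h1 : h * g⁻¹ ∉ (F.cg g).M := by
    rw [mem_cg_M, show g⁻¹ * (h * g⁻¹) * g = g⁻¹ * h by group]
    exact hgh
  have h2 := two_of (hs.cg g) h1
  rwa [cg_cg, show h * g⁻¹ * g = h by group] at h2

/-- If an element of `(F.cg h).K` is not in `(F.cg g).K` then the frames are different. -/
theorem not_mem_of_K {g h y : G} (hy : y ∈ (F.cg h).K) (hy' : y ∉ (F.cg g).K) :
    g⁻¹ * h ∉ F.M := by
  intro hm
  apply hy'
  rw [mem_cg_K] at hy ⊢
  rw [← mem_M_iff_K F hm]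
  rwa [show (g⁻¹ * h)⁻¹ * (g⁻¹ * y * g) * (g⁻¹ * h) = h⁻¹ * y * h by group]

end Cfsg.Agent.CoThreeStd.Fam
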