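import Mathlib
import Cfsg.Agent.Lib.SylowNormalInf

set_option autoImplicit false

/-!
Auxiliary facts on involutions acting on finite groups.
-/

namespace Cfsg.Agent.CoThreeStd.GrpAux

open Subgroup

theorem odd_of_no_inv {G : Type*} [Group G] [Finite G] (W : Subgroup G)
    (h : ∀ x ∈ W, x * x = 1 → x = 1) : Odd (Nat.card W) := by
  rw [← Nat.not_even_iff_odd, even_iff_two_dvd]
  intro h2
  obtain ⟨x, hx⟩ := exists_prime_orderOf_dvd_card' 2 h2
  have h3 : (x : G) = 1 := by
    apply h x x.2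
    have h4 := pow_orderOf_eq_one x
    rw [hx, sq] at h4
    exact congrArg Subtype.val h4
  have h5 : x = 1 := Subtype.ext h3
  rw [h5, orderOf_one] at hx
  exact absurd hx (by norm_num)

/-- An element whose square is in a group without involutions has an odd power of square `1`. -/
theorem exists_odd_pow {G : Type*} [Group G] [Finite G] (W : Subgroup G)
    (h : ∀ x ∈ W, x * x = 1 → x = 1) (x : G) (hx : x * x ∈ W) :
    ∃ m : ℕ, Odd m ∧ x ^ m * x ^ m = 1 := by
  refine ⟨Nat.card W, odd_of_no_inv W h, ?_⟩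
  have h1 : (⟨x * x, hx⟩ : W) ^ Nat.card W = 1 := pow_card_eq_one'
  have h2 : (x * x) ^ Nat.card W = 1 := congrArg Subtype.val h1
  rw [← pow_add, ← two_mul, pow_mul, sq]
  exact h2

/-- The centraliser of an involution in a group of order divisible by four has order divisible
by four. -/
theorem four_dvd_centralizer {H : Type*} [Group H] [Finite H] (k : H) (hk : k * k = 1)
    (h4 : 4 ∣ Nat.card H) : 4 ∣ Nat.card (centralizer ({k} : Set H)) := by
  by_cases hk1 : k = 1
  · have : centralizer ({k} : Set H) = ⊤ := by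
      rw [hk1, eq_top_iff]
      intro x _
      rw [mem_centralizer_singleton_iff]; simp
    rw [this, card_top]; exact h4
  have hp : IsPGroup 2 (zpowers k) := by
    apply IsPGroup.of_card (n := 1)
    rw [Nat.card_zpowers, pow_one]
    exact orderOf_eq_prime (by rw [sq]; exact hk) hk1
  obtain ⟨P, hP⟩ := hp.exists_le_sylow
  have hkP : k ∈ P := hP (mem_zpowers k)
  have h4P : 4 ∣ Nat.card P := by
    have h1 : (2 : ℕ) ^ 2 ∣ Nat.card P := P.pow_dvd_card_of_pow_dvd_card (by simpa using h4)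
    simpa using h1
  -- the centraliser in `P`
  set C : Subgroup P := centralizer {(⟨k, hkP⟩ : P)} with hC
  have hCd : Nat.card C ∣ Nat.card (centralizer ({k} : Set H)) := by
    have h1 : C.map (P : Subgroup H).subtype ≤ centralizer ({k} : Set H) := by
      rintro _ ⟨x, hx, rfl⟩
      have hx := mem_centralizer_singleton_iff.1 (SetLike.mem_coe.1 hx)
      rw [mem_centralizer_singleton_iff]
      exact congrArg Subtype.val hx
    have h2 := card_dvd_of_le h1
    rwa [Nat.card_congr (C.equivMapOfInjective _ (P : Subgroup H).subtype_injective).symm.toEquiv]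
      at h2
  refine dvd_trans ?_ hCd
  obtain ⟨n, hn⟩ := IsPGroup.iff_card.1 (P.isPGroup'.to_subgroup C)
  by_contra hcon
  have hn1 : n ≤ 1 := by
    by_contra hlt
    apply hcon
    rw [hn]
    have h1 : (2 : ℕ) ^ 2 ∣ 2 ^ n := pow_dvd_pow 2 (by omega)
    simpa using h1
  have hkC : (⟨k, hkP⟩ : P) ∈ C := by rw [hC, mem_centralizer_singleton_iff]
  have hcard : Nat.card C = 2 := by
    have h1 : Nat.card C ≠ 1 := by
      intro h
      have := (card_eq_one.1 h)
      rw [this, mem_bot] at hkC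
      exact hk1 (congrArg Subtype.val hkC)
    interval_cases n
    · exact absurd (by simpa using hn) h1
    · simpa using hn
  -- every element of `C` is `1` or `k`
  have hall : ∀ x ∈ C, x = 1 ∨ x = ⟨k, hkP⟩ := by
    intro x hx
    obtain ⟨a, ha, hb⟩ := (Nat.card_eq_two_iff' (1 : C)).1 hcard
    by_cases hx1 : x = 1
    · exact Or.inl hx1
    · right
      have e1 := hb ⟨x, hx⟩ (fun h => hx1 (congrArg Subtype.val h))
      have e2 := hb ⟨⟨k, hkP⟩, hkC⟩ (fun h => hk1 (congrArg (fun z : C => ((z : P) : H)) h))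
      exact congrArg Subtype.val (e1.trans e2.symm)
  -- the centre of `P`
  have hnt : Nontrivial P := by
    refine ⟨⟨⟨k, hkP⟩, 1, fun h => hk1 (congrArg Subtype.val h)⟩⟩
  have hcn := P.isPGroup'.center_nontrivial
  obtain ⟨⟨c, hc⟩, hc1⟩ := exists_ne (1 : center P)
  have hcC : c ∈ C := by
    rw [hC, mem_centralizer_singleton_iff]
    exact (mem_center_iff.1 hc _).symm
  have hck : c = ⟨k, hkP⟩ := (hall c hcC).resolve_left fun h => hc1 (Subtype.ext h)
  have hCtop : C = ⊤ := by
    rw [eq_top_iff]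
    intro x _
    rw [hC, mem_centralizer_singleton_iff, ← hck]
    exact mem_center_iff.1 hc x
  rw [hCtop, card_top] at hcard
  rw [hcard] at h4P
  exact absurd h4P (by norm_num)

/-- The same inside a subgroup. -/
theorem four_dvd_inf_centralizer {G : Type*} [Group G] [Finite G] (K : Subgroup G) (k : G)
    (hkK : k ∈ K) (hk : k * k = 1) (h4 : 4 ∣ Nat.card K) :
    4 ∣ Nat.card (K ⊓ centralizer ({k} : Set G) : Subgroup G) := by
  have h1 := four_dvd_centralizer (⟨k, hkK⟩ : K) (Subtype.ext hk) h4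
  refine h1.trans ?_
  have h2 : (centralizer ({(⟨k, hkK⟩ : K)} : Set K)).map K.subtype ≤
      K ⊓ centralizer ({k} : Set G) := by
    rintro _ ⟨x, hx, rfl⟩
    have hx := mem_centralizer_singleton_iff.1 hx
    exact mem_inf.2 ⟨x.2, mem_centralizer_singleton_iff.2 (congrArg Subtype.val hx)⟩
  have h3 := card_dvd_of_le h2
  rwa [Nat.card_congr ((centralizer ({(⟨k, hkK⟩ : K)} : Set K)).equivMapOfInjective _
    K.subtype_injective).symm.toEquiv] at h3

/-- An element of square `1` normalising a group of even order centralises an involution of it. -/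
theorem exists_commute {G : Type*} [Group G] [Finite G] (K : Subgroup G) (y : G) (hy : y * y = 1)
    (hn : ∀ x ∈ K, y * x * y⁻¹ ∈ K) (h2 : 2 ∣ Nat.card K) :
    ∃ k ∈ K, k ≠ 1 ∧ k * k = 1 ∧ k * y = y * k := by
  classical
  have hfin : Fintype K := Fintype.ofFinite K
  rw [Nat.card_eq_fintype_card] at h2
  -- the solutions of `x² = 1`
  let I := {x : K // x⁻¹ = x}
  have hI : 2 ∣ Fintype.card I := by
    let f : Function.End K := fun x => x⁻¹
    have hf : f ^ 2 ^ 1 = 1 := by
      rw [pow_one, sq]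
      funext x
      show (x⁻¹)⁻¹ = x
      exact inv_inv x
    have h3 := Equiv.Perm.card_fixedPoints_modEq (p := 2) (n := 1) hf
    have h4 : Fintype.card (Function.fixedPoints f) = Fintype.card I := by
      apply Fintype.card_congr
      exact Equiv.refl _
    rw [h4] at h3
    exact (Nat.ModEq.dvd_iff h3 (dvd_refl 2)).1 h2
  let g : Function.End I := fun x => ⟨⟨y * (x : K) * y⁻¹, hn _ (x : K).2⟩, by
    have h3 := congrArg (fun t : K => (t : G)) x.2
    apply Subtype.ext
    show (y * (x : K) * y⁻¹ : G)⁻¹ = y * (x : K) * y⁻¹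
    have h4 : (((x : K) : G))⁻¹ = ((x : K) : G) := h3
    rw [mul_inv_rev, mul_inv_rev, inv_inv, h4, mul_assoc]⟩
  have hg : g ^ 2 ^ 1 = 1 := by
    rw [pow_one, sq]
    funext x
    apply Subtype.ext
    apply Subtype.ext
    show y * (y * ((x : K) : G) * y⁻¹) * y⁻¹ = ((x : K) : G)
    have h3 : y⁻¹ = y := inv_eq_of_mul_eq_one_left hy
    calc y * (y * ((x : K) : G) * y⁻¹) * y⁻¹ = (y * y) * ((x : K) : G) * (y * y)⁻¹ := by group
      _ = _ := by rw [hy]; group
  have h3 := Equiv.Perm.card_fixedPoints_modEq (p := 2) (n := 1) hg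
  have h4 : 2 ∣ Fintype.card (Function.fixedPoints g) := (Nat.ModEq.dvd_iff h3 (dvd_refl 2)).1 hI
  have h5 : (⟨1, inv_one⟩ : I) ∈ Function.fixedPoints g := by
    show g ⟨1, inv_one⟩ = ⟨1, inv_one⟩
    apply Subtype.ext
    apply Subtype.ext
    show y * 1 * y⁻¹ = (1 : G)
    group
  have h6 : 1 < Fintype.card (Function.fixedPoints g) := by
    have : 0 < Fintype.card (Function.fixedPoints g) := Fintype.card_pos_iff.2 ⟨⟨_, h5⟩⟩
    obtain ⟨c, hc⟩ := h4
    omega
  obtain ⟨⟨x, hx⟩, hne⟩ := Fintype.exists_ne_of_one_lt_card h6 ⟨_, h5⟩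
  have hx1 : y * ((x : K) : G) * y⁻¹ = ((x : K) : G) :=
    congrArg (fun t : I => ((t : K) : G)) (show g x = x from hx)
  have hx2 : (((x : K) : G))⁻¹ = ((x : K) : G) := congrArg (fun t : K => (t : G)) x.2
  refine ⟨((x : K) : G), (x : K).2, ?_, ?_, ?_⟩
  · intro h
    apply hne
    apply Subtype.ext
    apply Subtype.ext
    exact Subtype.ext h
  · nth_rewrite 1 [← hx2]
    exact inv_mul_cancel _
  · exact (mul_inv_eq_iff_eq_mul.1 hx1).symm

/-- The situation of an involution `y` acting on a group `K` of order divisible by four with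
`C_K(y)` of order not divisible by four: type-level form. -/
theorem exists_conj_mul_aux {Y : Type*} [Group Y] [Finite Y] (K : Subgroup Y) [K.Normal] (y k : Y)
    (hidx : ∀ a b, a ∉ K → b ∉ K → a * b ∈ K)
    (hy : y * y = 1) (hyK : y ∉ K) (h4 : 4 ∣ Nat.card K)
    (hc : ¬ 4 ∣ Nat.card (K ⊓ centralizer ({y} : Set Y) : Subgroup Y)) (hk : k ∈ K)
    (hkk : k * k = 1) (hk1 : k ≠ 1) (hky : k * y = y * k) : ∃ r ∈ K, r * y * r⁻¹ = y * k := by
  have : Fact (Nat.Prime 2) := ⟨Nat.prime_two⟩
  -- a Sylow 2-subgroup containing `y` and `k`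
  let E0 : Subgroup Y :=
    { carrier := {x | x = 1 ∨ x = y ∨ x = k ∨ x = y * k}
      one_mem' := Or.inl rfl
      mul_mem' := by
        have e1 : y * (y * k) = k := by rw [← mul_assoc, hy, one_mul]
        have e2 : k * (y * k) = y := by rw [hky.symm, ← mul_assoc, hkk, one_mul]
        have e3 : y * k * y = k := by rw [← hky, mul_assoc, hy, mul_one]
        have e4 : y * k * k = y := by rw [mul_assoc, hkk, mul_one]
        have e5 : y * k * (y * k) = 1 := by rw [← mul_assoc, e3, hkk]
        rintro a b (rfl | rfl | rfl | rfl) (rfl | rfl | rfl | rfl) <;>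
          simp [hy, hkk, hky, e1, e2, e3, e4, e5]
      inv_mem' := by
        have e1 : y⁻¹ = y := inv_eq_of_mul_eq_one_left hy
        have e2 : k⁻¹ = k := inv_eq_of_mul_eq_one_left hkk
        rintro a (rfl | rfl | rfl | rfl)
        · left; simp
        · right; left; exact e1
        · right; right; left; exact e2
        · right; right; right; rw [mul_inv_rev, e1, e2, hky] }
  have hE0 : IsPGroup 2 E0 := by
    intro x
    refine ⟨1, ?_⟩
    apply Subtype.ext
    show (x : Y) ^ 2 ^ 1 = 1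
    rw [pow_one, sq]
    rcases x.2 with h | h | h | h <;> rw [h]
    · simp
    · exact hy
    · exact hkk
    · rw [← mul_assoc, mul_assoc y k y, hky, ← mul_assoc, hy, one_mul, hkk]
  obtain ⟨P, hP⟩ := hE0.exists_le_sylow
  have hyP : y ∈ P := hP (show y = 1 ∨ y = y ∨ y = k ∨ y = y * k from Or.inr (Or.inl rfl))
  have hkP : k ∈ P := hP (show k = 1 ∨ k = y ∨ k = k ∨ k = y * k from Or.inr (Or.inr (Or.inl rfl)))
  -- `P ∩ K` has order divisible by four
  have h4P : 4 ∣ Nat.card ((P : Subgroup Y) ⊓ K : Subgroup Y) := by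
    have h1 := Cfsg.Agent.Lib.SylowNormalInf.card_inf_mul_relIndex (P : Subgroup Y) K
    have h2 := Cfsg.Agent.Lib.SylowNormalInf.not_dvd_relIndex P K
    rw [← h1] at h4
    have h3 : Nat.Coprime 4 ((P : Subgroup Y).relIndex K) := by
      have : Nat.Coprime 2 ((P : Subgroup Y).relIndex K) :=
        (Nat.Prime.coprime_iff_not_dvd Nat.prime_two).2 h2
      exact Nat.Coprime.pow_left 2 this
    exact h3.dvd_of_dvd_mul_right h4
  have hnil : Group.IsNilpotent P := P.isPGroup'.isNilpotent
  set E : Subgroup P := centralizer {(⟨y, hyP⟩ : P)} with hE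
  have hlt : E < ⊤ := by
    rw [lt_top_iff_ne_top]
    intro htop
    apply hc
    refine h4P.trans (card_dvd_of_le ?_)
    intro x hx
    refine mem_inf.2 ⟨(mem_inf.1 hx).2, ?_⟩
    have h1 : (⟨x, (mem_inf.1 hx).1⟩ : P) ∈ E := by rw [htop]; trivial
    rw [hE, mem_centralizer_singleton_iff] at h1
    exact mem_centralizer_singleton_iff.2 (congrArg Subtype.val h1)
  obtain ⟨n, hn, hnE⟩ := SetLike.exists_of_lt (Group.normalizerCondition_of_isNilpotent E hlt)
  have hyE : (⟨y, hyP⟩ : P) ∈ E := by rw [hE, mem_centralizer_singleton_iff]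
  have h1 := (mem_normalizer_iff.1 hn _).1 hyE
  rw [hE, mem_centralizer_singleton_iff] at h1
  -- `κ = y⁻¹ n y n⁻¹`
  obtain ⟨v, hv⟩ : ∃ v : Y, v = (n : Y) * y * (n : Y)⁻¹ := ⟨_, rfl⟩
  have hvy : v * y = y * v := by rw [hv]; exact congrArg Subtype.val h1
  have hvv : v * v = 1 := by
    rw [hv]
    calc (n : Y) * y * (n : Y)⁻¹ * ((n : Y) * y * (n : Y)⁻¹) = (n : Y) * (y * y) * (n : Y)⁻¹ := by
          group
      _ = 1 := by rw [hy]; group
  have hvne : v ≠ y := by
    intro h
    apply hnE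
    rw [hE, mem_centralizer_singleton_iff]
    apply Subtype.ext
    show (n : Y) * y = y * n
    rw [hv] at h
    exact mul_inv_eq_iff_eq_mul.1 h
  have hyi : y⁻¹ = y := inv_eq_of_mul_eq_one_left hy
  have hκK : y * v ∈ K := by
    rw [hv]
    by_cases hnK : (n : Y) ∈ K
    · have e : y * ((n : Y) * y * (n : Y)⁻¹) = (y * (n : Y) * y⁻¹) * (n : Y)⁻¹ := by
        rw [hyi]; group
      rw [e]
      exact K.mul_mem (Normal.conj_mem inferInstance _ hnK y) (K.inv_mem hnK)
    · have e : y * ((n : Y) * y * (n : Y)⁻¹) = (y * (n : Y)) * (y * (n : Y)⁻¹) := by group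
      rw [e]
      exact K.mul_mem (hidx _ _ hyK hnK) (hidx _ _ hyK (fun h => hnK (by simpa using K.inv_mem h)))
  have hvP : v ∈ P := by
    rw [hv]
    exact P.mul_mem (P.mul_mem n.2 hyP) (P.inv_mem n.2)
  -- the 2-group `Z₀ = P ∩ K ∩ C(y)` has order two
  set Z₀ : Subgroup Y := (P : Subgroup Y) ⊓ (K ⊓ centralizer ({y} : Set Y)) with hZ₀
  have hZp : IsPGroup 2 Z₀ := P.isPGroup'.to_le inf_le_left
  obtain ⟨m, hm⟩ := IsPGroup.iff_card.1 hZp
  have hm1 : m ≤ 1 := by
    by_contra hlt
    apply hc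
    have h3 : (2 : ℕ) ^ 2 ∣ 2 ^ m := pow_dvd_pow 2 (by omega)
    rw [← hm] at h3
    refine (by simpa using h3 : 4 ∣ Nat.card Z₀).trans (card_dvd_of_le inf_le_right)
  have hkZ : k ∈ Z₀ := mem_inf.2 ⟨hkP, mem_inf.2 ⟨hk, mem_centralizer_singleton_iff.2 hky⟩⟩
  have hκZ : y * v ∈ Z₀ := by
    refine mem_inf.2 ⟨P.mul_mem hyP hvP, mem_inf.2 ⟨hκK, mem_centralizer_singleton_iff.2 ?_⟩⟩
    rw [mul_assoc, hvy]
  have hcard : Nat.card Z₀ = 2 := by
    have h3 : Nat.card Z₀ ≠ 1 := by
      intro h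
      have h4 := (card_eq_one.1 h)
      rw [h4, mem_bot] at hkZ
      exact hk1 hkZ
    interval_cases m
    · exact absurd (by simpa using hm) h3
    · simpa using hm
  have hκk : y * v = k := by
    obtain ⟨a, ha, hb⟩ := (Nat.card_eq_two_iff' (1 : Z₀)).1 hcard
    have e1 := hb ⟨y * v, hκZ⟩ (fun h => hvne (by
      have h3 : y * v = 1 := congrArg Subtype.val h
      rw [mul_eq_one_iff_eq_inv'] at h3
      rw [h3, hyi]))
    have e2 := hb ⟨k, hkZ⟩ (fun h => hk1 (congrArg Subtype.val h))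
    exact congrArg Subtype.val (e1.trans e2.symm)
  have hvk : v = y * k := by rw [← hκk, ← mul_assoc, hy, one_mul]
  by_cases hnK : (n : Y) ∈ K
  · exact ⟨n, hnK, by rw [← hv, hvk]⟩
  · refine ⟨(n : Y) * y, hidx _ _ hnK hyK, ?_⟩
    rw [← hvk, hv]
    group

/-- An involution `y` acting on a group `K` of order divisible by four with `C_K(y)` of order not
divisible by four: `y` is conjugate under `K` to `y k` for every involution `k` of `C_K(y)`. -/
theorem exists_conj_mul {G : Type*} [Group G] [Finite G] (K : Subgroup G) (y k : G)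
    (hy : y * y = 1) (hyK : y ∉ K) (hn : ∀ x ∈ K, y * x * y⁻¹ ∈ K) (h4 : 4 ∣ Nat.card K)
    (hc : ¬ 4 ∣ Nat.card (K ⊓ centralizer ({y} : Set G) : Subgroup G)) (hk : k ∈ K)
    (hkk : k * k = 1) (hk1 : k ≠ 1) (hky : k * y = y * k) : ∃ r ∈ K, r * y * r⁻¹ = y * k := by
  have hyi : y⁻¹ = y := inv_eq_of_mul_eq_one_left hy
  have hyy : ∀ x : G, y * (y * x) = x := fun x => by rw [← mul_assoc, hy, one_mul]
  let Y : Subgroup G :=
    { carrier := {x | x ∈ K ∨ y * x ∈ K}
      one_mem' := Or.inl K.one_mem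
      mul_mem' := by
        rintro a b (ha | ha) (hb | hb)
        · exact Or.inl (K.mul_mem ha hb)
        · right
          have e : y * (a * b) = (y * a * y⁻¹) * (y * b) := by group
          rw [e]
          exact K.mul_mem (hn a ha) hb
        · right
          rw [← mul_assoc]
          exact K.mul_mem ha hb
        · left
          have e : a * b = (y * (y * a) * y⁻¹) * (y * b) := by
            rw [hyy]; group
          rw [e]
          exact K.mul_mem (hn _ ha) hb
      inv_mem' := by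
        rintro a (ha | ha)
        · exact Or.inl (K.inv_mem ha)
        · right
          have e : y * a⁻¹ = y * (y * a)⁻¹ * y⁻¹ := by
            calc y * a⁻¹ = y * a⁻¹ * (y * y)⁻¹ := by rw [hy, inv_one, mul_one]
              _ = _ := by rw [mul_inv_rev, mul_inv_rev]; group
          rw [e]
          exact hn _ (K.inv_mem ha) }
  have hKY : K ≤ Y := fun x hx => Or.inl hx
  have hyY : y ∈ Y := Or.inr (by rw [hy]; exact K.one_mem)
  have hnorm : (K.subgroupOf Y).Normal := by
    refine ⟨fun x hx g => ?_⟩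
    rw [mem_subgroupOf] at hx ⊢
    show (g : G) * x * (g : G)⁻¹ ∈ K
    rcases g.2 with hg | hg
    · exact K.mul_mem (K.mul_mem hg hx) (K.inv_mem hg)
    · have e : (g : G) * x * (g : G)⁻¹ = y * ((y * g) * x * (y * g)⁻¹) * y⁻¹ := by
        rw [mul_inv_rev, hyi]
        calc (g : G) * x * (g : G)⁻¹ = (y * y) * (g : G) * x * ((g : G)⁻¹ * (y * y)) := by
              rw [hy]; group
          _ = _ := by group
      rw [e]
      exact hn _ (K.mul_mem (K.mul_mem hg hx) (K.inv_mem hg))
  have hidx : ∀ a b : Y, a ∉ K.subgroupOf Y → b ∉ K.subgroupOf Y → a * b ∈ K.subgroupOf Y := by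
    intro a b ha hb
    rw [mem_subgroupOf] at ha hb ⊢
    have ha' : y * (a : G) ∈ K := (show (a : G) ∈ K ∨ y * (a : G) ∈ K from a.2).resolve_left ha
    have hb' : y * (b : G) ∈ K := (show (b : G) ∈ K ∨ y * (b : G) ∈ K from b.2).resolve_left hb
    have e : (a : G) * b = (y * (y * a) * y⁻¹) * (y * b) := by
      rw [hyy]; group
    show (a : G) * b ∈ K
    rw [e]
    exact K.mul_mem (hn _ ha') hb'
  obtain ⟨r, hr, h⟩ := exists_conj_mul_aux (K.subgroupOf Y) ⟨y, hyY⟩ ⟨k, hKY hk⟩ hidx
    (Subtype.ext hy) (by rw [mem_subgroupOf]; exact hyK)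
    (by rw [Nat.card_congr (subgroupOfEquivOfLe hKY).toEquiv]; exact h4)
    (by
      intro h
      apply hc
      refine h.trans ?_
      have h2 : (K.subgroupOf Y ⊓ centralizer ({(⟨y, hyY⟩ : Y)} : Set Y)).map Y.subtype ≤
          K ⊓ centralizer ({y} : Set G) := by
        rintro _ ⟨x, hx, rfl⟩
        have hx1 := (mem_inf.1 hx).1
        have hx2 := mem_centralizer_singleton_iff.1 (mem_inf.1 hx).2
        exact mem_inf.2 ⟨mem_subgroupOf.1 hx1,
          mem_centralizer_singleton_iff.2 (congrArg Subtype.val hx2)⟩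
      have h3 := card_dvd_of_le h2
      rwa [Nat.card_congr ((K.subgroupOf Y ⊓ centralizer ({(⟨y, hyY⟩ : Y)} : Set Y)
        ).equivMapOfInjective _ Y.subtype_injective).symm.toEquiv] at h3)
    (mem_subgroupOf.2 hk) (Subtype.ext hkk) (fun h => hk1 (congrArg Subtype.val h))
    (Subtype.ext hky)
  exact ⟨r, mem_subgroupOf.1 hr, congrArg Subtype.val h⟩

end Cfsg.Agent.CoThreeStd.GrpAux
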