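import Cfsg.Agent.CoThreeStd.FactsDef
import Cfsg.Agent.CoThreeStd.GrpAux

set_option autoImplicit false

/-!
Frames: a subgroup `M` of `G` with a copy `ι S` of the group `S` normalised by `M`, and the action of `M`
on it; pairs of frames coming from two conjugates of a standard subgroup.
-/

namespace Cfsg.Agent.CoThreeStd.Frame

open Subgroup Cfsg.Agent.CoThreeStd.FactsDef

variable {G S : Type*} [Group G] [Group S]

/-- A copy of `S` in `G` with its normaliser. -/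
structure Fr (G S : Type*) [Group G] [Group S] where
  M : Subgroup G
  ι : S →* G
  act : G → MulAut S
  mem : ∀ s, ι s ∈ M
  inj : Function.Injective ι
  conj : ∀ x ∈ M, ∀ s, x * ι s * x⁻¹ = ι (act x s)
  cent : ∀ x, (∀ s, x * ι s = ι s * x) → x ∈ M

namespace Fr

variable (F : Fr G S)

/-- The centraliser of the copy of `S`. -/
def K : Subgroup G where
  carrier := {x | ∀ s, x * F.ι s = F.ι s * x}
  one_mem' := fun s => by rw [one_mul, mul_one]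
  mul_mem' := by
    intro a b ha hb s
    rw [mul_assoc, hb s, ← mul_assoc, ha s, mul_assoc]
  inv_mem' := by
    intro a ha s
    calc a⁻¹ * F.ι s = a⁻¹ * (F.ι s * a) * a⁻¹ := by group
      _ = a⁻¹ * (a * F.ι s) * a⁻¹ := by rw [ha s]
      _ = F.ι s * a⁻¹ := by group

theorem mem_K {x : G} : x ∈ F.K ↔ ∀ s, x * F.ι s = F.ι s * x := Iff.rfl

theorem K_le : F.K ≤ F.M := fun x hx => F.cent x hx

theorem act_mul {x y : G} (hx : x ∈ F.M) (hy : y ∈ F.M) : F.act (x * y) = F.act x * F.act y := by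
  ext s
  apply F.inj
  rw [← F.conj _ (F.M.mul_mem hx hy), MulAut.mul_apply, ← F.conj _ hx, ← F.conj _ hy]
  group

theorem act_one : F.act 1 = 1 := by
  ext s
  apply F.inj
  rw [← F.conj _ F.M.one_mem]
  simp

theorem act_inv {x : G} (hx : x ∈ F.M) : F.act x⁻¹ = (F.act x)⁻¹ := by
  rw [eq_inv_iff_mul_eq_one, ← F.act_mul (F.M.inv_mem hx) hx, inv_mul_cancel, F.act_one]

theorem act_pow {x : G} (hx : x ∈ F.M) (n : ℕ) : F.act (x ^ n) = F.act x ^ n := by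
  induction n with
  | zero => rw [pow_zero, pow_zero, F.act_one]
  | succ n ih => rw [pow_succ, pow_succ, F.act_mul (F.M.pow_mem hx n) hx, ih]

theorem act_ι (s : S) : F.act (F.ι s) = MulAut.conj s := by
  ext r
  apply F.inj
  rw [← F.conj _ (F.mem s), MulAut.conj_apply, map_mul, map_mul, map_inv]

theorem act_K {x : G} (hx : x ∈ F.K) : F.act x = 1 := by
  ext s
  apply F.inj
  rw [← F.conj _ (F.K_le hx), MulAut.one_apply, hx s, mul_inv_cancel_right]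

theorem mem_K_of_act {x : G} (hx : x ∈ F.M) (h : F.act x = 1) : x ∈ F.K := by
  intro s
  have h1 := F.conj x hx s
  rw [h, MulAut.one_apply] at h1
  exact mul_inv_eq_iff_eq_mul.1 h1

theorem K_conj {x k : G} (hx : x ∈ F.M) (hk : k ∈ F.K) : x * k * x⁻¹ ∈ F.K := by
  apply F.mem_K_of_act (F.M.mul_mem (F.M.mul_mem hx (F.K_le hk)) (F.M.inv_mem hx))
  rw [F.act_mul (F.M.mul_mem hx (F.K_le hk)) (F.M.inv_mem hx), F.act_mul hx (F.K_le hk),
    F.act_K hk, mul_one, F.act_inv hx, mul_inv_cancel]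

/-- An element inducing an inner automorphism. -/
theorem mem_K_of_inner {x : G} {s : S} (hx : x ∈ F.M) (h : F.act x = MulAut.conj s) :
    (F.ι s)⁻¹ * x ∈ F.K := by
  apply F.mem_K_of_act (F.M.mul_mem (F.M.inv_mem (F.mem s)) hx)
  rw [F.act_mul (F.M.inv_mem (F.mem s)) hx, F.act_inv (F.mem s), F.act_ι, h, inv_mul_cancel]

theorem comm_iff {x : G} (hx : x ∈ F.M) (s : S) : F.act x s = s ↔ x * F.ι s = F.ι s * x := by
  rw [← F.inj.eq_iff, ← F.conj x hx, mul_inv_eq_iff_eq_mul]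

/-- The conjugate of a frame. -/
def cg (g : G) : Fr G S where
  M := F.M.map (MulAut.conj g).toMonoidHom
  ι := (MulAut.conj g).toMonoidHom.comp F.ι
  act := fun x => F.act (g⁻¹ * x * g)
  mem := fun s => ⟨F.ι s, F.mem s, rfl⟩
  inj := (MulAut.conj g).injective.comp F.inj
  conj := by
    rintro _ ⟨x, hx, rfl⟩ s
    show g * x * g⁻¹ * (g * F.ι s * g⁻¹) * (g * x * g⁻¹)⁻¹ =
      g * F.ι (F.act (g⁻¹ * (g * x * g⁻¹) * g) s) * g⁻¹
    have e1 : g⁻¹ * (g * x * g⁻¹) * g = x := by group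
    rw [e1, ← F.conj x hx]
    group
  cent := by
    intro x h
    refine ⟨g⁻¹ * x * g, F.cent _ fun s => ?_, by
      show g * (g⁻¹ * x * g) * g⁻¹ = x
      group⟩
    have h1 : x * (g * F.ι s * g⁻¹) = g * F.ι s * g⁻¹ * x := h s
    calc g⁻¹ * x * g * F.ι s = g⁻¹ * (x * (g * F.ι s * g⁻¹)) * g := by group
      _ = g⁻¹ * (g * F.ι s * g⁻¹ * x) * g := by rw [h1]
      _ = F.ι s * (g⁻¹ * x * g) := by group

theorem cg_ι (g : G) (s : S) : (F.cg g).ι s = g * F.ι s * g⁻¹ := rfl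

theorem cg_act (g x : G) : (F.cg g).act x = F.act (g⁻¹ * x * g) := rfl

theorem mem_cg_M {g x : G} : x ∈ (F.cg g).M ↔ g⁻¹ * x * g ∈ F.M := by
  constructor
  · rintro ⟨y, hy, rfl⟩
    show g⁻¹ * (g * y * g⁻¹) * g ∈ F.M
    rw [show g⁻¹ * (g * y * g⁻¹) * g = y by group]
    exact hy
  · intro h
    exact ⟨_, h, by show g * (g⁻¹ * x * g) * g⁻¹ = x; group⟩

theorem mem_cg_K {g x : G} : x ∈ (F.cg g).K ↔ g⁻¹ * x * g ∈ F.K := by
  rw [mem_K, mem_K]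
  constructor
  · intro h s
    have h1 : x * (g * F.ι s * g⁻¹) = g * F.ι s * g⁻¹ * x := h s
    calc g⁻¹ * x * g * F.ι s = g⁻¹ * (x * (g * F.ι s * g⁻¹)) * g := by group
      _ = g⁻¹ * (g * F.ι s * g⁻¹ * x) * g := by rw [h1]
      _ = F.ι s * (g⁻¹ * x * g) := by group
  · intro h s
    show x * (g * F.ι s * g⁻¹) = g * F.ι s * g⁻¹ * x
    calc x * (g * F.ι s * g⁻¹) = g * (g⁻¹ * x * g * F.ι s) * g⁻¹ := by group
      _ = g * (F.ι s * (g⁻¹ * x * g)) * g⁻¹ := by rw [h s]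
      _ = g * F.ι s * g⁻¹ * x := by group

theorem cg_cg_K (g h : G) : ((F.cg g).cg h).K = (F.cg (h * g)).K := by
  ext x
  rw [mem_cg_K, mem_cg_K, mem_cg_K]
  have e : g⁻¹ * (h⁻¹ * x * h) * g = (h * g)⁻¹ * x * (h * g) := by group
  rw [e]

theorem card_cg_K (g : G) : Nat.card (F.cg g).K = Nat.card F.K := by
  refine Nat.card_congr ⟨fun x => ⟨g⁻¹ * x * g, F.mem_cg_K.1 x.2⟩,
    fun x => ⟨g * x * g⁻¹, F.mem_cg_K.2 (by
      rw [show g⁻¹ * (g * (x : G) * g⁻¹) * g = x by group]; exact x.2)⟩, ?_, ?_⟩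
  · intro x
    apply Subtype.ext
    show g * (g⁻¹ * (x : G) * g) * g⁻¹ = x
    group
  · intro x
    apply Subtype.ext
    show g⁻¹ * (g * (x : G) * g⁻¹) * g = x
    group

/-- The image of `F'.K ∩ F.M` in the automorphism group of `S`. -/
def Xb (F F' : Fr G S) : Subgroup (MulAut S) where
  carrier := {φ | ∃ x ∈ F'.K, x ∈ F.M ∧ F.act x = φ}
  one_mem' := ⟨1, F'.K.one_mem, F.M.one_mem, F.act_one⟩
  mul_mem' := by
    rintro _ _ ⟨x, hx, hx', rfl⟩ ⟨y, hy, hy', rfl⟩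
    exact ⟨x * y, F'.K.mul_mem hx hy, F.M.mul_mem hx' hy', F.act_mul hx' hy'⟩
  inv_mem' := by
    rintro _ ⟨x, hx, hx', rfl⟩
    exact ⟨x⁻¹, F'.K.inv_mem hx, F.M.inv_mem hx', F.act_inv hx'⟩

theorem mem_Xb {F F' : Fr G S} {φ : MulAut S} :
    φ ∈ Xb F F' ↔ ∃ x ∈ F'.K, x ∈ F.M ∧ F.act x = φ := Iff.rfl

/-- The elements of `S` whose image is in `F'.M`. -/
def HS (F F' : Fr G S) : Subgroup S := F'.M.comap F.ι

theorem mem_HS {F F' : Fr G S} {s : S} : s ∈ HS F F' ↔ F.ι s ∈ F'.M := Iff.rfl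

end Fr

/-- Two different frames from a tightly embedded standard subgroup. -/
structure Two (F F' : Fr G S) : Prop where
  cent : ∀ y ∈ F.K, y * y = 1 → y ≠ 1 → ∀ x, x * y = y * x → x ∈ F.M
  cent' : ∀ y ∈ F'.K, y * y = 1 → y ≠ 1 → ∀ x, x * y = y * x → x ∈ F'.M
  tight : ∀ y ∈ F.K, y ∈ F'.K → y * y = 1 → y = 1
  nc : ∃ s s', F.ι s * F'.ι s' ≠ F'.ι s' * F.ι s

theorem Two.symm {F F' : Fr G S} (h : Two F F') : Two F' F where
  cent := h.cent'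
  cent' := h.cent
  tight := fun y h1 h2 h3 => h.tight y h2 h1 h3
  nc := by
    obtain ⟨s, s', h1⟩ := h.nc
    exact ⟨s', s, fun e => h1 e.symm⟩

/-- `F'.K ∩ F.M` has even order. -/
def Ev (F F' : Fr G S) : Prop := ∃ y ∈ F'.K, y ∈ F.M ∧ y * y = 1 ∧ y ≠ 1

namespace Two

variable {F F' : Fr G S}

open Fr

theorem act_ne (h : Two F F') {y : G} (hy : y ∈ F'.K) (hyM : y ∈ F.M) (hyy : y * y = 1)
    (hy1 : y ≠ 1) : F.act y ≠ 1 := fun h1 =>
  hy1 (h.tight y (F.mem_K_of_act hyM h1) hy hyy)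

/-- The intersection of the two centralisers. -/
def W (F F' : Fr G S) : Subgroup G := F.K ⊓ F'.K

theorem W_no_inv (h : Two F F') : ∀ x ∈ W F F', x * x = 1 → x = 1 := fun x hx =>
  h.tight x (mem_inf.1 hx).1 (mem_inf.1 hx).2

/-- Involutions of the image lift. -/
theorem lift [Finite G] (h : Two F F') {v : MulAut S} (hv : v ∈ Xb F F') (hvv : v * v = 1)
    (hv1 : v ≠ 1) : ∃ y ∈ F'.K, y ∈ F.M ∧ y * y = 1 ∧ y ≠ 1 ∧ F.act y = v := by
  obtain ⟨x, hx, hxM, rfl⟩ := hv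
  have hW : x * x ∈ W F F' := mem_inf.2 ⟨F.mem_K_of_act (F.M.mul_mem hxM hxM) (by
    rw [F.act_mul hxM hxM, hvv]), F'.K.mul_mem hx hx⟩
  obtain ⟨m, hm, hmm⟩ := GrpAux.exists_odd_pow _ h.W_no_inv x hW
  have hact : F.act (x ^ m) = F.act x := by
    obtain ⟨l, rfl⟩ := hm
    rw [F.act_pow hxM, pow_succ, pow_mul, sq, hvv, one_pow, one_mul]
  refine ⟨x ^ m, F'.K.pow_mem hx m, F.M.pow_mem hxM m, hmm, fun h1 => hv1 ?_, hact⟩
  rw [← hact, h1, F.act_one]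

/-- A 2-power element of the image lifts to a 2-element. -/
theorem K'_conj {s : S} (hs : s ∈ HS F F') {x : G} (hx : x ∈ F'.K) :
    F.ι s * x * (F.ι s)⁻¹ ∈ F'.K := F'.K_conj hs hx

theorem HS_conj {s : S} (hs : s ∈ HS F F') {φ : MulAut S} (hφ : φ ∈ Xb F F') :
    MulAut.conj s * φ * (MulAut.conj s)⁻¹ ∈ Xb F F' := by
  obtain ⟨x, hx, hxM, rfl⟩ := hφ
  refine ⟨F.ι s * x * (F.ι s)⁻¹, K'_conj hs hx,
    F.M.mul_mem (F.M.mul_mem (F.mem s) hxM) (F.M.inv_mem (F.mem s)), ?_⟩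
  rw [F.act_mul (F.M.mul_mem (F.mem s) hxM) (F.M.inv_mem (F.mem s)), F.act_mul (F.mem s) hxM,
    F.act_inv (F.mem s), F.act_ι]

theorem HS_cent [Finite G] (h : Two F F') {v : MulAut S} (hv : v ∈ Xb F F') (hvv : v * v = 1)
    (hv1 : v ≠ 1) {s : S} (hs : v s = s) : s ∈ HS F F' := by
  obtain ⟨y, hy, hyM, hyy, hy1, rfl⟩ := h.lift hv hvv hv1
  exact h.cent' y hy hyy hy1 _ ((F.comm_iff hyM s).1 hs).symm

theorem HS_ne_top [Finite G] (hS : IsSimpleGroup S) (h : Two F F') (hev : Ev F F') :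
    HS F F' ≠ ⊤ := by
  intro htop
  have hall : ∀ s, F.ι s ∈ F'.M := fun s => by
    have : s ∈ HS F F' := by rw [htop]; trivial
    exact this
  let N : Subgroup S := F'.K.comap F.ι
  have hN : N.Normal := ⟨fun n hn g => by
    show F.ι (g * n * g⁻¹) ∈ F'.K
    rw [map_mul, map_mul, map_inv]
    exact F'.K_conj (hall g) hn⟩
  rcases hN.eq_bot_or_eq_top with h1 | h1
  · obtain ⟨y, hy, hyM, hyy, hy1⟩ := hev
    apply h.act_ne hy hyM hyy hy1
    ext s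
    rw [MulAut.one_apply]
    have h2 : s * (F.act y s)⁻¹ ∈ N := by
      show F.ι (s * (F.act y s)⁻¹) ∈ F'.K
      rw [map_mul, map_inv, ← F.conj y hyM]
      have e : F.ι s * (y * F.ι s * y⁻¹)⁻¹ = (F.ι s * y * (F.ι s)⁻¹) * y⁻¹ := by group
      rw [e]
      exact F'.K.mul_mem (F'.K_conj (hall s) hy) (F'.K.inv_mem hy)
    rw [h1, mem_bot] at h2
    exact (mul_inv_eq_one.1 h2).symm
  · obtain ⟨s, s', hss⟩ := h.nc
    apply hss
    have h2 : s ∈ N := by rw [h1]; trivial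
    exact h2 s'

/-- The three cases. -/
structure CaseA (F F' : Fr G S) (IsA : S → Prop) (a : S) : Prop where
  isA : IsA a
  mem : MulAut.conj a ∈ Xb F F'
  H : ∀ s, s ∈ HS F F' ↔ s * a = a * s
  fix : ∀ x ∈ Xb F F', ∀ f ∈ FA a, x f = f

structure CaseB (F F' : Fr G S) (IsB : S → Prop) (b : S) : Prop where
  isB : IsB b
  mem : MulAut.conj b ∈ Xb F F'
  H : ∀ s, s ∈ HS F F' ↔ s * b = b * s
  uniq : ∀ x ∈ Xb F F', x * x = 1 → x = 1 ∨ x = MulAut.conj b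
  pg : ∀ x ∈ Xb F F', ∃ n : ℕ, x ^ 2 ^ n = 1
  inner : ∀ s, MulAut.conj s ∈ Xb F F' → s ∈ PB b

structure CaseC (F F' : Fr G S) (c : MulAut S) : Prop where
  out : c ∉ Inn S
  cc : c * c = 1
  eq : ∀ x, x ∈ Xb F F' ↔ x = 1 ∨ x = c
  H : ∀ s, s ∈ HS F F' ↔ c s = s

variable {IsA IsB : S → Prop}

theorem cases [Finite G] (hF : Facts IsA IsB) (h : Two F F') (hev : Ev F F') :
    (∃ a, CaseA F F' IsA a) ∨ (∃ b, CaseB F F' IsB b) ∨ ∃ c, CaseC F F' c := by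
  have h1 : ∃ v ∈ Xb F F', v * v = 1 ∧ v ≠ 1 := by
    obtain ⟨y, hy, hyM, hyy, hy1⟩ := hev
    refine ⟨F.act y, ⟨y, hy, hyM, rfl⟩, ?_, h.act_ne hy hyM hyy hy1⟩
    rw [← F.act_mul hyM hyM, hyy, F.act_one]
  rcases hF.main (Xb F F') (HS F F') h1 (fun s hs x hx => HS_conj hs hx)
    (fun v hv hvv hv1 s hs => h.HS_cent hv hvv hv1 hs) (h.HS_ne_top hF.simple hev) with
    ⟨a, h2, h3, h4, h5⟩ | ⟨b, h2, h3, h4, h5, h6, h7⟩ | ⟨c, h2, h3, h4, h5⟩
  · exact Or.inl ⟨a, h2, h3, h4, h5⟩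
  · exact Or.inr (Or.inl ⟨b, h2, h3, h4, h5, h6, h7⟩)
  · exact Or.inr (Or.inr ⟨c, h2, h3, h4, h5⟩)

/-- The centraliser in `F.K` of an involution of `F'.K ∩ F.M` has even order: the reversed pair. -/
theorem ev_symm [Finite G] (h : Two F F') (hK : 2 ∣ Nat.card F.K) {y : G} (hy : y ∈ F'.K)
    (hyM : y ∈ F.M) (hyy : y * y = 1) (hy1 : y ≠ 1) :
    ∃ k ∈ F.K, k ∈ F'.M ∧ k * k = 1 ∧ k ≠ 1 ∧ k * y = y * k := by
  obtain ⟨k, hk, hk1, hkk, hky⟩ := GrpAux.exists_commute F.K y hyy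
    (fun x hx => F.K_conj hyM hx) hK
  exact ⟨k, hk, h.cent' y hy hyy hy1 k hky, hkk, hk1, hky⟩

end Two

end Cfsg.Agent.CoThreeStd.Frame
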