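import Cfsg.Agent.CoThreeStd.Fusion
import Cfsg.Agent.CoThreeStd.MTwelveCent

/-!
# S1750, pattern γ: the part of `Ctx` used for the relations (helper781)

It holds for `C_G(t) = ⟨t⟩ × M₁₂` and for `C_G(t) = ⟨t⟩ × M₁₂:2`.
-/

set_option autoImplicit false

namespace Cfsg.Agent.CoThreeStd.Gamma

open Cfsg.Agent.CoThreeStd.MTwelve Cfsg.Agent.CoThreeStd.Fusion Cfsg.Agent.SporRec.Co3

variable {G : Type*} [Group G]

/-- the context of the relations -/
structure Cx (t : G) (f : H →* G) : Prop where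
  inj : Function.Injective f
  tt : t * t = 1
  t_ne : t ≠ 1
  comm : ∀ m, f m * t = t * f m
  nmem : ∀ m, f m ≠ t
  cent2 : ∀ g, g * t = t * g → g * f y = f y * g → ∀ σ : P5, Equiv.Perm.sign σ = -1 →
    g * f (w σ) = f (w σ) * g → ∃ m, g = f m ∨ g = t * f m

variable {t : G} {f : H →* G}

theorem Cx.inv_t (c : Cx t f) : t⁻¹ = t := inv_eq_of_mul_eq_one_left c.tt

theorem toCx (c : Ctx t f) : Cx t f where
  inj := c.inj
  tt := c.tt
  t_ne := c.t_ne
  comm := c.comm
  nmem := c.nmem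
  cent2 := fun g h _ _ _ _ => c.cent g h

end Cfsg.Agent.CoThreeStd.Gamma
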