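import Cfsg.Agent.CoThreeStd.GammaBase
import Cfsg.Agent.CoThreeStd.GammaCx

/-!
# S1750, pattern γ, the element `g` (helper781)
-/

set_option autoImplicit false

namespace Cfsg.Agent.CoThreeStd.Gamma

open Cfsg.Agent.CoThreeStd.MTwelve Cfsg.Agent.CoThreeStd.Fusion Cfsg.Agent.SporRec.Co3

variable {G : Type*} [Group G] {t : G} {f : H →* G}

/-- The four-group `⟨t, y⟩`. -/
def inV (t : G) (f : H →* G) (v : G) : Prop := ∃ i j : ℕ, v = t ^ i * f y ^ j

theorem inV_one : inV t f 1 := ⟨0, 0, by simp⟩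

theorem inV_mul (c : Cx t f) {u v : G} (hu : inV t f u) (hv : inV t f v) : inV t f (u * v) := by
  obtain ⟨i, j, rfl⟩ := hu
  obtain ⟨k, l, rfl⟩ := hv
  have h : Commute (f y) t := c.comm y
  have h1 : f y ^ j * t ^ k = t ^ k * f y ^ j := h.pow_pow j k
  refine ⟨i + k, j + l, ?_⟩
  calc t ^ i * f y ^ j * (t ^ k * f y ^ l) = t ^ i * (f y ^ j * t ^ k) * f y ^ l := by group
    _ = t ^ i * (t ^ k * f y ^ j) * f y ^ l := by rw [h1]
    _ = _ := by rw [pow_add, pow_add]; group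

theorem inV_comm_w (c : Cx t f) {u : G} (hu : inV t f u) (σ : P5) : u * f (w σ) = f (w σ) * u := by
  obtain ⟨i, j, rfl⟩ := hu
  have h1 : Commute t (f (w σ)) := (c.comm _).symm
  have h2 : Commute (f y) (f (w σ)) := by
    show f y * f (w σ) = f (w σ) * f y
    rw [← map_mul, y_comm, map_mul]
  exact (h1.pow_left i).mul_left (h2.pow_left j)

theorem inV_comm (c : Cx t f) {u v : G} (hu : inV t f u) (hv : inV t f v) : u * v = v * u := by
  obtain ⟨i, j, rfl⟩ := hu
  obtain ⟨k, l, rfl⟩ := hv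
  have h : Commute (f y) t := c.comm y
  exact (((Commute.refl t).pow_pow i k).mul_right (h.symm.pow_pow i l)).mul_left
    ((h.pow_pow j k).mul_right ((Commute.refl (f y)).pow_pow j l))

theorem inV_sq (c : Cx t f) {u : G} (hu : inV t f u) : u * u = 1 := by
  have h : Commute (f y) t := c.comm y
  obtain ⟨i, j, rfl⟩ := hu
  have h1 : f y ^ j * t ^ i = t ^ i * f y ^ j := h.pow_pow j i
  calc t ^ i * f y ^ j * (t ^ i * f y ^ j) = t ^ i * (f y ^ j * t ^ i) * f y ^ j := by group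
    _ = t ^ i * (t ^ i * f y ^ j) * f y ^ j := by rw [h1]
    _ = (t * t) ^ i * (f y * f y) ^ j := by
      rw [(Commute.refl t).mul_pow, (Commute.refl (f y)).mul_pow]; group
    _ = 1 := by rw [c.tt, ← map_mul, y_sq, map_one, one_pow, one_pow, one_mul]

theorem pow_two_cases {K : Type*} [Group K] {a : K} (ha : a * a = 1) (i : ℕ) : a ^ i = 1 ∨ a ^ i = a := by
  rcases Nat.even_or_odd' i with ⟨k, rfl | rfl⟩
  · left; rw [pow_mul, pow_two, ha, one_pow]
  · right; rw [pow_succ, pow_mul, pow_two, ha, one_pow, one_mul]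

theorem inV_cases (c : Cx t f) {u : G} (hu : inV t f u) : u = 1 ∨ u = t ∨ u = f y ∨ u = t * f y := by
  obtain ⟨i, j, rfl⟩ := hu
  have hy : f y * f y = 1 := by rw [← map_mul, y_sq, map_one]
  rcases pow_two_cases c.tt i with h1 | h1 <;> rcases pow_two_cases hy j with h2 | h2 <;> rw [h1, h2] <;> simp

theorem inV_w (c : Cx t f) {σ : P5} (h : inV t f (f (w σ))) : σ = 1 := by
  rcases inV_cases c h with h1 | h1 | h1 | h1
  · apply w_injective
    apply c.inj
    rw [h1, map_one, map_one]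
  · exact absurd h1 (c.nmem _)
  · exact absurd (c.inj h1).symm (y_ne_w σ)
  · exfalso
    apply c.nmem (w σ * y⁻¹)
    rw [map_mul, h1, map_inv, mul_inv_cancel_right]

theorem uniq (c : Cx t f) {u v : G} (hu : inV t f u) (hv : inV t f v) {σ τ : P5}
    (h : u * f (w σ) = v * f (w τ)) : u = v ∧ σ = τ := by
  have h1 : f (w (σ * τ⁻¹)) = u * v := by
    rw [map_mul, map_mul, map_inv, map_inv]
    have e : f (w σ) = u * (v * f (w τ)) := by
      rw [← h, ← mul_assoc, inV_sq c hu, one_mul]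
    rw [e]; group
  have h2 : σ * τ⁻¹ = 1 := by
    apply inV_w c
    rw [h1]
    exact inV_mul c hu hv
  have h3 : σ = τ := mul_inv_eq_one.1 h2
  subst h3
  exact ⟨mul_right_cancel h, rfl⟩

/-- `C(t) ∩ C(y) = ⟨t, y⟩ × S₅`. -/
theorem decomp (c : Ctx t f) {z : G} (h1 : z * t = t * z) (h2 : z * f y = f y * z) :
    ∃ σ u, inV t f u ∧ z = u * f (w σ) := by
  obtain ⟨m, hm⟩ := c.cent z h1
  have hmy : m * y = y * m := by
    apply c.inj
    rw [map_mul, map_mul]
    rcases hm with rfl | rfl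
    · exact h2
    · apply mul_left_cancel (a := t)
      calc t * (f m * f y) = t * f m * f y := by group
        _ = f y * (t * f m) := h2
        _ = (f y * t) * f m := by group
        _ = (t * f y) * f m := by rw [c.comm]
        _ = _ := by group
  obtain ⟨σ, h3⟩ := cent_y m hmy
  rcases hm with rfl | rfl <;> rcases h3 with rfl | rfl
  · exact ⟨σ, 1, inV_one, by rw [one_mul]⟩
  · exact ⟨σ, f y, ⟨0, 1, by simp⟩, by rw [map_mul]⟩
  · exact ⟨σ, t, ⟨1, 0, by simp⟩, rfl⟩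
  · exact ⟨σ, t * f y, ⟨1, 1, by simp⟩, by rw [map_mul]; group⟩

/-- `C(t) ∩ C(y) = ⟨t, y⟩ × S₅` on elements commuting with an odd element. -/
theorem decomp2 (c : Cx t f) {z : G} (h1 : z * t = t * z) (h2 : z * f y = f y * z) {τ : P5}
    (hτ : Equiv.Perm.sign τ = -1) (h3 : z * f (w τ) = f (w τ) * z) :
    ∃ σ u, inV t f u ∧ z = u * f (w σ) := by
  obtain ⟨m, hm⟩ := c.cent2 z h1 h2 τ hτ h3
  have hmy : m * y = y * m := by
    apply c.inj
    rw [map_mul, map_mul]
    rcases hm with rfl | rfl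
    · exact h2
    · apply mul_left_cancel (a := t)
      calc t * (f m * f y) = t * f m * f y := by group
        _ = f y * (t * f m) := h2
        _ = (f y * t) * f m := by group
        _ = (t * f y) * f m := by rw [c.comm]
        _ = _ := by group
  obtain ⟨σ, h4⟩ := cent_y m hmy
  rcases hm with rfl | rfl <;> rcases h4 with rfl | rfl
  · exact ⟨σ, 1, inV_one, by rw [one_mul]⟩
  · exact ⟨σ, f y, ⟨0, 1, by simp⟩, by rw [map_mul]⟩
  · exact ⟨σ, t, ⟨1, 0, by simp⟩, rfl⟩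
  · exact ⟨σ, t * f y, ⟨1, 1, by simp⟩, by rw [map_mul]; group⟩

/-- the word `d` -/
def wdD : List ℕ := [2, 5, 0, 5, 4, 3, 5, 0, 5, 1]

theorem d_y : (wd wdD)⁻¹ * y * wd wdD = s := by
  rw [← wd_y, ← wd_cj, ← wd_s]
  exact wd_eq (by decide +kernel)

theorem d_s : (wd wdD)⁻¹ * s * wd wdD = y * s := by
  rw [← wd_s, ← wd_cj, ← wd_y, ← wd_append]
  exact wd_eq (by decide +kernel)

theorem d_ys : (wd wdD)⁻¹ * (y * s) * wd wdD = y := by
  rw [← wd_s, ← wd_y, ← wd_append, ← wd_cj]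
  exact wd_eq (by decide +kernel)

theorem s_sq : s * s = 1 := gen_sq 4

theorem ys_comm : y * s = s * y := by rw [← w_s, y_comm]

/-- `yp` is in the class of `y` -/
theorem yp_class : ∃ n, n⁻¹ * y * n = y * p := by
  refine ⟨wd [5, 0, 1, 2, 5, 1, 5], ?_⟩
  rw [← wd_p, ← wd_y, ← wd_append, ← wd_cj]
  exact wd_eq (by decide +kernel)

theorem p_class : ∃ n, n⁻¹ * y * n = p := by
  refine ⟨wd [5, 1, 5, 2, 3, 5, 2], ?_⟩
  rw [← wd_p, ← wd_y, ← wd_cj]
  exact wd_eq (by decide +kernel)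

/-- there is no `m` commuting with `y` and exchanging `s` and `ys` -/
theorem no_twist (m : H) (h1 : m * y = y * m) (h2 : m * s * m⁻¹ = y * s) : False := by
  obtain ⟨σ, h3⟩ := cent_y m h1
  have h4 : m * s * m⁻¹ = w (σ * Equiv.swap 3 4 * σ⁻¹) := by
    rw [map_mul, map_mul, map_inv, w_s]
    rcases h3 with rfl | rfl
    · rfl
    · calc y * w σ * s * (y * w σ)⁻¹ = y * (w σ * s * (w σ)⁻¹) * y⁻¹ := by group
        _ = y * w (σ * Equiv.swap 3 4 * σ⁻¹) * y⁻¹ := by rw [map_mul, map_mul, map_inv, w_s]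
        _ = w (σ * Equiv.swap 3 4 * σ⁻¹) := by rw [y_comm]; group
        _ = _ := by rw [map_mul, map_mul, map_inv, w_s]
  apply y_ne_w (σ * Equiv.swap 3 4 * σ⁻¹ * (Equiv.swap 3 4)⁻¹)
  rw [map_mul, ← h4, h2, map_inv, w_s, mul_inv_cancel_right]

/-- conjugation by elements of `C(t)` on `f H` -/
theorem cent_act (c : Ctx t f) {k : G} (hk : k * t = t * k) : ∃ m : H, ∀ n, k * f n * k⁻¹ = f (m * n * m⁻¹) := by
  obtain ⟨m, hm⟩ := c.cent k hk
  refine ⟨m, fun n => ?_⟩
  rcases hm with rfl | rfl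
  · rw [map_mul, map_mul, map_inv]
  · calc t * f m * f n * (t * f m)⁻¹ = t * (f m * f n * (f m)⁻¹) * t⁻¹ := by group
      _ = t * f (m * n * m⁻¹) * t⁻¹ := by rw [map_mul, map_mul, map_inv]
      _ = f (m * n * m⁻¹) * t * t⁻¹ := by rw [c.comm]
      _ = _ := by group

theorem kill_twist (c : Ctx t f) {x : G} (h1 : x * t * x⁻¹ = t * f y) (h2 : x * f y * x⁻¹ = f y)
    (h3 : x * f s * x⁻¹ = f y * f s) : False := by
  set d := wd wdD
  set x2 := (f d)⁻¹ * x * f d with hx2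
  have hdt : ∀ g : G, (f d)⁻¹ * (t * g) * f d = t * ((f d)⁻¹ * g * f d) := by
    intro g
    have : (f d)⁻¹ * t = t * (f d)⁻¹ := by rw [← map_inv]; exact c.comm _
    calc (f d)⁻¹ * (t * g) * f d = ((f d)⁻¹ * t) * g * f d := by group
      _ = _ := by rw [this]; group
  have hd : ∀ n, (f d)⁻¹ * f n * f d = f (d⁻¹ * n * d) := by intro n; rw [map_mul, map_mul, map_inv]
  -- the action of `x2`
  have ey : f y = (f d)⁻¹ * (f y * f s) * f d := by rw [← map_mul, hd, d_ys]
  have es : f s = (f d)⁻¹ * f y * f d := by rw [hd, d_y]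
  have eys : f y * f s = (f d)⁻¹ * f s * f d := by rw [hd, d_s, map_mul]
  have hcx : ∀ g : G, x2 * ((f d)⁻¹ * g * f d) * x2⁻¹ = (f d)⁻¹ * (x * g * x⁻¹) * f d := by
    intro g; rw [hx2]; group
  have hyy : f y * f y = 1 := by rw [← map_mul, y_sq, map_one]
  have hss : f s * f s = 1 := by rw [← map_mul, s_sq, map_one]
  have hys : f y * f s = f s * f y := by rw [← map_mul, ys_comm, map_mul]
  have a1 : x * (f y * f s) * x⁻¹ = f s := by
    calc x * (f y * f s) * x⁻¹ = (x * f y * x⁻¹) * (x * f s * x⁻¹) := by group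
      _ = (f y * f y) * f s := by rw [h2, h3]; group
      _ = f s := by rw [hyy, one_mul]
  have b0 : x2 * t * x2⁻¹ = t * f s := by
    have e : t = (f d)⁻¹ * (t * 1) * f d := by rw [hdt]; group
    calc x2 * t * x2⁻¹ = x2 * ((f d)⁻¹ * (t * 1) * f d) * x2⁻¹ := by rw [← e]
      _ = (f d)⁻¹ * (x * t * x⁻¹) * f d := by rw [hcx, mul_one]
      _ = t * f s := by rw [h1, hdt, ← es]
  have b1 : x2 * f s * x2⁻¹ = f s := by
    calc x2 * f s * x2⁻¹ = x2 * ((f d)⁻¹ * f y * f d) * x2⁻¹ := by rw [← es]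
      _ = f s := by rw [hcx, h2, ← es]
  have b2 : x2 * (f y * f s) * x2⁻¹ = f y := by
    calc x2 * (f y * f s) * x2⁻¹ = x2 * ((f d)⁻¹ * f s * f d) * x2⁻¹ := by rw [← eys]
      _ = f y := by rw [hcx, h3, ← ey]
  have b3 : x2 * f y * x2⁻¹ = f y * f s := by
    calc x2 * f y * x2⁻¹ = x2 * ((f y * f s) * f s) * x2⁻¹ := by rw [mul_assoc (f y), hss, mul_one]
      _ = (x2 * (f y * f s) * x2⁻¹) * (x2 * f s * x2⁻¹) := by group
      _ = f y * f s := by rw [b1, b2]
  -- `k = x x2 x`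
  set k := x * x2 * x with hk
  have hcomp : ∀ g : G, k * g * k⁻¹ = x * (x2 * (x * g * x⁻¹) * x2⁻¹) * x⁻¹ := by intro g; rw [hk]; group
  have k0 : k * t * k⁻¹ = t := by
    rw [hcomp, h1]
    have e : x2 * (t * f y) * x2⁻¹ = t * f y := by
      calc x2 * (t * f y) * x2⁻¹ = (x2 * t * x2⁻¹) * (x2 * f y * x2⁻¹) := by group
        _ = t * (f s * (f y * f s)) := by rw [b0, b3]; group
        _ = t * f y := by rw [hys, ← mul_assoc (f s), hss, one_mul]
    rw [e]
    calc x * (t * f y) * x⁻¹ = (x * t * x⁻¹) * (x * f y * x⁻¹) := by group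
      _ = t * (f y * f y) := by rw [h1, h2]; group
      _ = t := by rw [hyy, mul_one]
  have k1 : k * f y * k⁻¹ = f s := by rw [hcomp, h2, b3, a1]
  have k2 : k * f s * k⁻¹ = f y := by rw [hcomp, h3, b2, h2]
  obtain ⟨m, hm⟩ := cent_act c (show k * t = t * k by rw [← mul_inv_eq_iff_eq_mul]; exact k0)
  have m1 : m * y * m⁻¹ = s := c.inj (by rw [← hm, k1])
  have m2 : m * s * m⁻¹ = y := c.inj (by rw [← hm, k2])
  have dy : d * y * d⁻¹ = y * s := by
    calc d * y * d⁻¹ = d * (d⁻¹ * (y * s) * d) * d⁻¹ := by rw [d_ys]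
      _ = _ := by group
  have ds : d * s * d⁻¹ = y := by
    calc d * s * d⁻¹ = d * (d⁻¹ * y * d) * d⁻¹ := by rw [d_y]
      _ = _ := by group
  refine no_twist (d⁻¹ * m * d) ?_ ?_
  · rw [← mul_inv_eq_iff_eq_mul]
    calc d⁻¹ * m * d * y * (d⁻¹ * m * d)⁻¹ = d⁻¹ * (m * (d * y * d⁻¹) * m⁻¹) * d := by group
      _ = d⁻¹ * ((m * y * m⁻¹) * (m * s * m⁻¹)) * d := by rw [dy]; group
      _ = d⁻¹ * (y * s) * d := by rw [m1, m2, ys_comm]
      _ = y := d_ys
  · calc d⁻¹ * m * d * s * (d⁻¹ * m * d)⁻¹ = d⁻¹ * (m * (d * s * d⁻¹) * m⁻¹) * d := by group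
      _ = d⁻¹ * s * d := by rw [ds, m1]
      _ = y * s := d_s

/-- the element `g` -/
theorem exists_g [Finite G] (c : Ctx t f) (h1 : IsConj t (t * f y)) (h2 : ¬ IsConj t (f y))
    (h3 : ¬ IsConj t (f (p * r))) :
    ∃ g : G, g * g = 1 ∧ g * t * g⁻¹ = t * f y ∧ ∀ m, m * y = y * m → f m * g = g * f m := by
  obtain ⟨x, hxt, hxy⟩ := exists_swap_t c h1 h2 h3
  have cx := toCx c
  have hyy : f y * f y = 1 := by rw [← map_mul, y_sq, map_one]
  have hxty : x * (t * f y) * x⁻¹ = t := by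
    calc x * (t * f y) * x⁻¹ = (x * t * x⁻¹) * (x * f y * x⁻¹) := by group
      _ = t * (f y * f y) := by rw [hxt, hxy]; group
      _ = t := by rw [hyy, mul_one]
  -- the induced map on `S₅`
  have hstep : ∀ σ : P5, ∃ τ u, inV t f u ∧ x * f (w σ) * x⁻¹ = u * f (w τ) := by
    intro σ
    apply decomp c
    · have e : f (w σ) * (t * f y) = (t * f y) * f (w σ) := by
        have e1 : f (w σ) * f y = f y * f (w σ) := by rw [← map_mul, ← y_comm, map_mul]
        calc f (w σ) * (t * f y) = (f (w σ) * t) * f y := by group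
          _ = t * (f (w σ) * f y) := by rw [c.comm]; group
          _ = _ := by rw [e1]; group
      calc x * f (w σ) * x⁻¹ * t = x * f (w σ) * x⁻¹ * (x * (t * f y) * x⁻¹) := by rw [hxty]
        _ = x * (f (w σ) * (t * f y)) * x⁻¹ := by group
        _ = (x * (t * f y) * x⁻¹) * (x * f (w σ) * x⁻¹) := by rw [e]; group
        _ = _ := by rw [hxty]
    · have e1 : f (w σ) * f y = f y * f (w σ) := by rw [← map_mul, ← y_comm, map_mul]
      calc x * f (w σ) * x⁻¹ * f y = x * f (w σ) * x⁻¹ * (x * f y * x⁻¹) := by rw [hxy]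
        _ = x * (f (w σ) * f y) * x⁻¹ := by group
        _ = (x * f y * x⁻¹) * (x * f (w σ) * x⁻¹) := by rw [e1]; group
        _ = _ := by rw [hxy]
  choose α u hu hα using hstep
  have hmul : ∀ σ τ, u (σ * τ) = u σ * u τ ∧ α (σ * τ) = α σ * α τ := by
    intro σ τ
    apply uniq cx (hu _) (inV_mul cx (hu _) (hu _))
    rw [← hα]
    calc x * f (w (σ * τ)) * x⁻¹ = (x * f (w σ) * x⁻¹) * (x * f (w τ) * x⁻¹) := by
          rw [map_mul, map_mul]; group
      _ = u σ * (f (w (α σ)) * u τ) * f (w (α τ)) := by rw [hα, hα]; group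
      _ = u σ * (u τ * f (w (α σ))) * f (w (α τ)) := by rw [inV_comm_w cx (hu τ)]
      _ = _ := by rw [map_mul, map_mul]; group
  let A : P5 →* P5 := MonoidHom.mk' α (fun σ τ => (hmul σ τ).2)
  have hxV : ∀ v, inV t f v → inV t f (x⁻¹ * v * x) := by
    rintro v ⟨i, j, rfl⟩
    have e1 : x⁻¹ * t * x = t * f y := by
      calc x⁻¹ * t * x = x⁻¹ * (x * (t * f y) * x⁻¹) * x := by rw [hxty]
        _ = _ := by group
    have e2 : x⁻¹ * f y * x = f y := by
      calc x⁻¹ * f y * x = x⁻¹ * (x * f y * x⁻¹) * x := by rw [hxy]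
        _ = _ := by group
    have e3 : x⁻¹ * (t ^ i * f y ^ j) * x = (x⁻¹ * t * x) ^ i * (x⁻¹ * f y * x) ^ j := by
      have := (MulAut.conj x⁻¹).map_mul (t ^ i) (f y ^ j)
      rw [map_pow, map_pow] at this
      simpa [MulAut.conj_apply] using this
    rw [e3, e1, e2]
    have h : Commute t (f y) := (c.comm y).symm
    rw [h.mul_pow]
    exact ⟨i, i + j, by rw [pow_add]; group⟩
  have hinj : Function.Injective A := by
    rw [injective_iff_map_eq_one]
    intro σ hσ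
    have h4 : x * f (w σ) * x⁻¹ = u σ := by
      rw [hα, show α σ = 1 from hσ, map_one, map_one, mul_one]
    apply inV_w cx
    have h5 : f (w σ) = x⁻¹ * u σ * x := by rw [← h4]; group
    rw [h5]
    exact hxV _ (hu σ)
  obtain ⟨κ, hκ⟩ := Cfsg.Agent.CoThreeStd.SymFive.inner A hinj
  -- adjust
  obtain ⟨x1, hx1⟩ : ∃ x1, x1 = (f (w κ))⁻¹ * x := ⟨_, rfl⟩
  have hkc : ∀ v, inV t f v → (f (w κ))⁻¹ * v * f (w κ) = v := by
    intro v hv
    rw [mul_assoc, inV_comm_w cx hv]; group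
  have hVt : inV t f t := ⟨1, 0, by simp⟩
  have hVy : inV t f (f y) := ⟨0, 1, by simp⟩
  have hx1t : x1 * t * x1⁻¹ = t * f y := by
    calc x1 * t * x1⁻¹ = (f (w κ))⁻¹ * (x * t * x⁻¹) * f (w κ) := by rw [hx1]; group
      _ = _ := by rw [hxt, hkc _ (inV_mul cx hVt hVy)]
  have hx1y : x1 * f y * x1⁻¹ = f y := by
    calc x1 * f y * x1⁻¹ = (f (w κ))⁻¹ * (x * f y * x⁻¹) * f (w κ) := by rw [hx1]; group
      _ = _ := by rw [hxy, hkc _ hVy]
  have hx1w : ∀ σ, x1 * f (w σ) * x1⁻¹ = u σ * f (w σ) := by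
    intro σ
    calc x1 * f (w σ) * x1⁻¹ = (f (w κ))⁻¹ * (x * f (w σ) * x⁻¹) * f (w κ) := by rw [hx1]; group
      _ = ((f (w κ))⁻¹ * u σ * f (w κ)) * ((f (w κ))⁻¹ * f (w (A σ)) * f (w κ)) := by
        rw [hα]; show _ = _ * ((f (w κ))⁻¹ * f (w (α σ)) * f (w κ)); group
      _ = u σ * f (w σ) := by
        rw [hkc _ (hu σ), hκ, map_mul, map_mul, map_mul, map_mul, map_inv, map_inv]; group
  -- `u` is constant on the transpositions
  let U : P5 →* G := MonoidHom.mk' u (fun σ τ => (hmul σ τ).1)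
  have hUsw : ∀ a b a' b' : Fin 5, a ≠ b → a' ≠ b' → u (Equiv.swap a b) = u (Equiv.swap a' b') := by
    intro a b a' b' hab hab'
    obtain ⟨τ, hτ⟩ := isConj_iff.1 (Equiv.Perm.isConj_swap hab hab')
    have e : U (Equiv.swap a' b') = U τ * U (Equiv.swap a b) * (U τ)⁻¹ := by
      rw [← hτ, map_mul, map_mul, map_inv]
    have e2 : u τ * u (Equiv.swap a b) = u (Equiv.swap a b) * u τ := inV_comm cx (hu _) (hu _)
    have e3 : u (Equiv.swap a' b') = u τ * u (Equiv.swap a b) * (u τ)⁻¹ := e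
    rw [e3, e2]; group
  have hsp : ∀ e : H, (∃ n, n⁻¹ * y * n = e) → x1 * f p * x1⁻¹ = t * f e → False := by
    intro e he h4
    apply h2
    have h5 : IsConj t (x1 * f p * x1⁻¹) := by rw [h4]; exact conj_t_class c h1 he
    have h6 : IsConj t (f p) := h5.trans (isConj_iff.2 ⟨x1⁻¹, by group⟩)
    exact conj_of_class h6 p_class
  have hp := hx1w (Equiv.swap 0 1)
  rw [w_p] at hp
  have hall : ∀ σ, u σ = 1 := by
    have h4 : u (Equiv.swap 0 1) = 1 := by
      rcases inV_cases cx (hu (Equiv.swap 0 1)) with h5 | h5 | h5 | h5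
      · exact h5
      · exfalso
        rw [h5] at hp
        exact hsp p p_class hp
      · exfalso
        have h6 := hx1w (Equiv.swap 3 4)
        rw [w_s, hUsw 3 4 0 1 (by decide) (by decide), h5] at h6
        exact kill_twist c hx1t hx1y h6
      · exfalso
        rw [h5] at hp
        exact hsp (y * p) yp_class (by rw [hp, map_mul]; group)
    intro σ
    show U σ = 1
    induction σ using Equiv.Perm.swap_induction_on with
    | one => exact map_one U
    | swap_mul σ a b hab ih =>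
      rw [map_mul, ih, mul_one]
      show u _ = 1
      rw [hUsw a b 0 1 hab (by decide), h4]
  have hx1w' : ∀ σ, f (w σ) * x1 = x1 * f (w σ) := by
    intro σ
    have := hx1w σ
    rw [hall, one_mul, mul_inv_eq_iff_eq_mul] at this
    exact this.symm
  have hx1y' : f y * x1 = x1 * f y := by
    rw [mul_inv_eq_iff_eq_mul] at hx1y
    exact hx1y.symm
  have hcomm : ∀ m, m * y = y * m → f m * x1 = x1 * f m := by
    intro m hm
    obtain ⟨σ, rfl | rfl⟩ := cent_y m hm
    · exact hx1w' σ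
    · rw [map_mul, mul_assoc, hx1w', ← mul_assoc, hx1y', mul_assoc]
  -- the square
  have hsqt : (x1 * x1) * t = t * (x1 * x1) := by
    rw [← mul_inv_eq_iff_eq_mul]
    calc x1 * x1 * t * (x1 * x1)⁻¹ = x1 * (x1 * t * x1⁻¹) * x1⁻¹ := by group
      _ = x1 * (t * f y) * x1⁻¹ := by rw [hx1t]
      _ = (x1 * t * x1⁻¹) * (x1 * f y * x1⁻¹) := by group
      _ = t * (f y * f y) := by rw [hx1t, hx1y]; group
      _ = t := by rw [hyy, mul_one]
  have hsqc : ∀ m, m * y = y * m → (x1 * x1) * f m = f m * (x1 * x1) := by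
    intro m hm
    have := hcomm m hm
    rw [← mul_assoc, this, mul_assoc x1 (f m), this, mul_assoc]
  obtain ⟨σ, v, hv, hσ⟩ := decomp c hsqt (hsqc y rfl)
  have hσ1 : σ = 1 := by
    apply perm5_central
    intro τ
    have h4 := hsqc (w τ) (y_comm τ).symm
    rw [hσ] at h4
    have h5 : v * f (w (σ * τ)) = v * f (w (τ * σ)) := by
      rw [map_mul, map_mul, map_mul, map_mul, ← mul_assoc, h4, ← mul_assoc, ← mul_assoc, inV_comm_w cx hv]
    exact w_injective (c.inj (mul_left_cancel h5))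
  rw [hσ1, map_one, map_one, mul_one] at hσ
  have hnt : x1 * t ≠ t * x1 := by
    intro h4
    rw [h4] at hx1t
    have h5 : f y = f 1 := by
      rw [map_one]
      apply mul_left_cancel (a := t)
      rw [← hx1t]; group
    exact y_ne_one (c.inj h5)
  have htt := c.tt
  rcases inV_cases cx hv with h5 | h5 | h5 | h5
  · exact ⟨x1, by rw [hσ, h5], hx1t, hcomm⟩
  · exfalso
    apply hnt
    rw [← h5, ← hσ]; group
  · refine ⟨t * x1, ?_, ?_, ?_⟩
    · calc t * x1 * (t * x1) = t * (x1 * t * x1⁻¹) * (x1 * x1) := by group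
        _ = (t * t) * (f y * f y) := by rw [hx1t, hσ, h5]; group
        _ = 1 := by rw [hyy, c.tt, one_mul]
    · calc t * x1 * t * (t * x1)⁻¹ = t * (x1 * t * x1⁻¹) * t⁻¹ := by group
        _ = t * (t * f y) * t⁻¹ := by rw [hx1t]
        _ = t * (f y * t) * t⁻¹ := by rw [c.comm]
        _ = _ := by group
    · intro m hm
      calc f m * (t * x1) = (f m * t) * x1 := by group
        _ = t * (f m * x1) := by rw [c.comm]; group
        _ = _ := by rw [hcomm m hm]; group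
  · exfalso
    apply hnt
    have h6 : x1 * (t * f y) = (t * f y) * x1 := by rw [← h5, ← hσ]; group
    calc x1 * t = x1 * (t * f y) * (f y)⁻¹ := by group
      _ = t * (f y * x1) * (f y)⁻¹ := by rw [h6]; group
      _ = t * x1 := by rw [hx1y']; group

end Cfsg.Agent.CoThreeStd.Gamma
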