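import Cfsg.Agent.CoThreeStd.Fusion
import Cfsg.Agent.CoThreeStd.MTwelveCent
import Cfsg.Agent.CoThreeStd.SymFive

/-!
# S1750, pattern γ, first step (helper781)

`C_G(t) = ⟨t⟩ × f(M₁₂)`, `t ~ t y` with `y ∈ 2A`, `t` not conjugate into `f(M₁₂)`. Then there is an involution `g`
with `g t g⁻¹ = t y` commuting with `f(C(y))` (`exists_g`).
-/

set_option autoImplicit false

namespace Cfsg.Agent.CoThreeStd.Gamma

open Cfsg.Agent.CoThreeStd.MTwelve Cfsg.Agent.CoThreeStd.Fusion

variable {G : Type*} [Group G] {t : G} {f : H →* G}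

/-- `C(t) ∩ C(t f m)` has order `2 |C(m)|`. -/
theorem card_cc (c : Ctx t f) (m : H) :
    Nat.card {g : G // g * t = t * g ∧ g * (t * f m) = (t * f m) * g} =
      Nat.card (Subgroup.centralizer {m} : Subgroup H) + Nat.card (Subgroup.centralizer {m} : Subgroup H) := by
  have hfin : Finite (Subgroup.centralizer {m} : Subgroup H) := inferInstance
  rw [← Nat.card_sum]
  symm
  apply Nat.card_congr
  have hm : ∀ n : (Subgroup.centralizer {m} : Subgroup H), f n.1 * (t * f m) = (t * f m) * f n.1 := by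
    intro n
    have h1 := Subgroup.mem_centralizer_singleton_iff.1 n.2
    calc f n.1 * (t * f m) = (f n.1 * t) * f m := by group
      _ = t * (f (n.1 * m)) := by rw [c.comm, map_mul]; group
      _ = t * f (m * n.1) := by rw [h1]
      _ = _ := by rw [map_mul]; group
  have ht : t * (t * f m) = t * f m * t := by rw [mul_assoc t (f m) t, c.comm]
  refine Equiv.ofBijective (fun x => Sum.elim (fun n => ⟨f n.1, c.comm n.1, hm n⟩)
    (fun n => ⟨t * f n.1, ?_, ?_⟩) x) ⟨?_, ?_⟩
  · rw [mul_assoc, c.comm]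
  · calc t * f n.1 * (t * f m) = t * (f n.1 * (t * f m)) := by group
      _ = t * ((t * f m) * f n.1) := by rw [hm]
      _ = (t * (t * f m)) * f n.1 := by group
      _ = (t * f m * t) * f n.1 := by rw [ht]
      _ = _ := by group
  · rintro (a | a) (b | b) h
    · exact congrArg _ (Subtype.ext (c.inj (congrArg Subtype.val h)))
    · exfalso
      have h1 : f a.1 = t * f b.1 := congrArg Subtype.val h
      exact c.nmem (a.1 * b.1⁻¹) (by rw [map_mul, map_inv, h1, mul_inv_cancel_right])
    · exfalso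
      have h1 : t * f a.1 = f b.1 := congrArg Subtype.val h
      exact c.nmem (b.1 * a.1⁻¹) (by rw [map_mul, map_inv, ← h1, mul_inv_cancel_right])
    · exact congrArg _ (Subtype.ext (c.inj (mul_left_cancel (congrArg Subtype.val h : t * f a.1 = t * f b.1))))
  · rintro ⟨g, hg, hg2⟩
    obtain ⟨n, hn⟩ := c.cent g hg
    have hn2 : f n * (t * f m) = (t * f m) * f n := by
      rcases hn with rfl | rfl
      · exact hg2
      · have h1 : t * (f n * (t * f m)) = t * ((t * f m) * f n) := by
          calc t * (f n * (t * f m)) = t * f n * (t * f m) := by group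
            _ = t * f m * (t * f n) := hg2
            _ = (t * f m * t) * f n := by group
            _ = (t * (t * f m)) * f n := by rw [ht]
            _ = _ := by group
        exact mul_left_cancel h1
    have hn3 : n ∈ (Subgroup.centralizer {m} : Subgroup H) := by
      rw [Subgroup.mem_centralizer_singleton_iff]
      apply c.inj
      rw [map_mul, map_mul]
      apply mul_left_cancel (a := t)
      calc t * (f n * f m) = (t * f n) * f m := by group
        _ = f n * (t * f m) := by rw [← c.comm]; group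
        _ = (t * f m) * f n := hn2
        _ = _ := by group
    rcases hn with rfl | rfl
    · exact ⟨Sum.inl ⟨n, hn3⟩, rfl⟩
    · exact ⟨Sum.inr ⟨n, hn3⟩, rfl⟩

theorem conj_of_class {g₀ : G} {e m : H} (h : IsConj g₀ (f m)) (he : ∃ n, n⁻¹ * e * n = m) :
    IsConj g₀ (f e) := by
  obtain ⟨n, rfl⟩ := he
  refine h.trans (isConj_iff.2 ⟨f n, ?_⟩)
  rw [map_mul, map_mul, map_inv]
  group

theorem conj_t_class (c : Ctx t f) {e m : H} (h : IsConj t (t * f e)) (he : ∃ n, n⁻¹ * e * n = m) :
    IsConj t (t * f m) := by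
  obtain ⟨n, rfl⟩ := he
  refine h.trans (isConj_iff.2 ⟨(f n)⁻¹, ?_⟩)
  rw [map_mul, map_mul, map_inv]
  have h1 : (f n)⁻¹ * t = t * (f n)⁻¹ := by rw [← map_inv]; exact c.comm _
  calc (f n)⁻¹ * (t * f e) * (f n)⁻¹⁻¹ = ((f n)⁻¹ * t) * f e * f n := by group
    _ = (t * (f n)⁻¹) * f e * f n := by rw [h1]
    _ = _ := by group

theorem exists_swap_t [Finite G] (c : Ctx t f) (h1 : IsConj t (t * f y)) (h2 : ¬ IsConj t (f y))
    (h3 : ¬ IsConj t (f (p * r))) :
    ∃ x : G, x * t * x⁻¹ = t * f y ∧ x * f y * x⁻¹ = f y := by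
  obtain ⟨x, hx⟩ := isConj_iff.1 h1
  set t' := x⁻¹ * t * x with ht'
  have hxt' : x * t' * x⁻¹ = t := by rw [ht']; group
  have hcomm : t' * t = t * t' := by
    have h4 : x * (t' * t) * x⁻¹ = x * (t * t') * x⁻¹ := by
      calc x * (t' * t) * x⁻¹ = (x * t' * x⁻¹) * (x * t * x⁻¹) := by group
        _ = t * (t * f y) := by rw [hxt', hx]
        _ = t * (f y * t) := by rw [c.comm]
        _ = (t * f y) * t := by group
        _ = (x * t * x⁻¹) * (x * t' * x⁻¹) := by rw [hxt', hx]
        _ = _ := by group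
    exact mul_left_cancel (mul_right_cancel h4)
  have hcj : IsConj t t' := isConj_iff.2 ⟨x⁻¹, by rw [ht']; group⟩
  have hsq : t' * t' = 1 := by
    calc t' * t' = x⁻¹ * (t * t) * x := by rw [ht']; group
      _ = 1 := by rw [c.tt]; group
  obtain ⟨m, hm⟩ := c.cent t' hcomm
  have hm1 : m ≠ 1 := by
    rintro rfl
    rw [map_one, mul_one] at hm
    rcases hm with hm | hm
    · rw [hm] at hcj
      exact c.t_ne (isConj_one_left.1 hcj)
    · rw [hm] at hxt'
      rw [hxt'] at hx
      have h5 : f y = f 1 := by rw [map_one]; exact mul_left_cancel (hx.symm.trans (mul_one t).symm)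
      exact y_ne_one (c.inj h5)
  have hmm : m * m = 1 := by
    apply c.inj
    rw [map_mul, map_one]
    rcases hm with hm | hm
    · rw [← hm]; exact hsq
    · rw [hm] at hsq
      calc f m * f m = t * t * (f m * f m) := by rw [c.tt, one_mul]
        _ = t * (t * f m) * f m := by group
        _ = t * (f m * t) * f m := by rw [c.comm]
        _ = (t * f m) * (t * f m) := by group
        _ = 1 := hsq
  rcases hm with hm | hm
  · exfalso
    rw [hm] at hcj
    rcases inv_class m hm1 hmm with h | h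
    · exact h2 (conj_of_class hcj h)
    · exact h3 (conj_of_class hcj h)
  -- the cardinalities
  have hcard : Nat.card {g : G // g * t = t * g ∧ g * (t * f m) = (t * f m) * g} =
      Nat.card {g : G // g * t = t * g ∧ g * (t * f y) = (t * f y) * g} := by
    have hx' : x * (t * f m) * x⁻¹ = t := by rw [← hm]; exact hxt'
    have hc : ∀ (g a b : G), x * a * x⁻¹ = b → (g * a = a * g ↔ (x * g * x⁻¹) * b = b * (x * g * x⁻¹)) := by
      rintro g a b rfl
      have e1 : (x * g * x⁻¹) * (x * a * x⁻¹) = x * (g * a) * x⁻¹ := by group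
      have e2 : (x * a * x⁻¹) * (x * g * x⁻¹) = x * (a * g) * x⁻¹ := by group
      rw [e1, e2]
      constructor
      · intro h; rw [h]
      · intro h; exact mul_left_cancel (mul_right_cancel h)
    apply Nat.card_congr
    refine Equiv.subtypeEquiv (MulAut.conj x).toEquiv (fun g => ?_)
    show g * t = t * g ∧ g * (t * f m) = (t * f m) * g ↔
      (x * g * x⁻¹) * t = t * (x * g * x⁻¹) ∧ (x * g * x⁻¹) * (t * f y) = (t * f y) * (x * g * x⁻¹)
    rw [hc g t _ hx, hc g _ _ hx', and_comm]
  rw [card_cc c, card_cc c, card_cent_y] at hcard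
  obtain ⟨n, hn⟩ := conj_of_card m hm1 hmm (by omega)
  have hnt : (f n)⁻¹ * t = t * (f n)⁻¹ := by rw [← map_inv]; exact c.comm _
  have e1 : (x * (f n)⁻¹) * t * (x * (f n)⁻¹)⁻¹ = t * f y := by
    calc (x * (f n)⁻¹) * t * (x * (f n)⁻¹)⁻¹ = x * ((f n)⁻¹ * t) * f n * x⁻¹ := by group
      _ = x * t * x⁻¹ := by rw [hnt]; group
      _ = _ := hx
  have e2 : (x * (f n)⁻¹) * (t * f y) * (x * (f n)⁻¹)⁻¹ = t := by
    calc (x * (f n)⁻¹) * (t * f y) * (x * (f n)⁻¹)⁻¹ = x * (((f n)⁻¹ * t) * f y * f n) * x⁻¹ := by group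
      _ = x * (t * f (n⁻¹ * y * n)) * x⁻¹ := by rw [hnt, map_mul, map_mul, map_inv]; group
      _ = x * t' * x⁻¹ := by rw [hn, hm]
      _ = t := hxt'
  refine ⟨x * (f n)⁻¹, e1, ?_⟩
  set z := x * (f n)⁻¹
  calc z * f y * z⁻¹ = z * (t * (t * f y)) * z⁻¹ := by rw [← mul_assoc t t, c.tt, one_mul]
    _ = (z * t * z⁻¹) * (z * (t * f y) * z⁻¹) := by group
    _ = (t * f y) * t := by rw [e1, e2]
    _ = t * (f y * t) := by group
    _ = t * (t * f y) := by rw [c.comm]
    _ = f y := by rw [← mul_assoc, c.tt, one_mul]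

end Cfsg.Agent.CoThreeStd.Gamma
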