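import Cfsg.Agent.CoThreeStd.GammaKappa

/-!
# S1750, pattern γ, the dichotomy (helper781)
-/

set_option autoImplicit false

namespace Cfsg.Agent.CoThreeStd.Gamma

open Cfsg.Agent.CoThreeStd.MTwelve Cfsg.Agent.CoThreeStd.Fusion Cfsg.Agent.SporRec.Co3

variable {G : Type*} [Group G] {t : G} {f : H →* G} {L : H → G}

/-- the word `y'` -/
def wy : List ℕ := [1, 5, 2, 4, 5, 0, 5, 2, 4, 5]

theorem commute_of_conj {a m : G} (h : m⁻¹ * a * m = a) : Commute m a := by
  show m * a = a * m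
  calc m * a = m * (m⁻¹ * a * m) := by rw [h]
    _ = _ := by group

set_option maxHeartbeats 1000000 in
theorem kappa (c : Cx t f) (S : Sys t f L) :
    Lw L [1] * (Lw L [0] * Lw L wB) * Lw L [1] * (Lw L [0] * Lw L wB) = Lw L [1] * Lw L [3] ∨
    Lw L [1] * (Lw L [0] * Lw L wB) * Lw L [1] * (Lw L [0] * Lw L wB) = Lw L [1] * Lw L [3] * F f [1, 3] := by
  have h := facts c S
  have y1 := S.cmw [1] wy (by decide +kernel)
  have y2 := S.cjw (x := [0]) (x' := wA) wy (by decide +kernel)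
  have y3 := S.cjw (x := wA) (x' := [0]) wy (by decide +kernel)
  have y4 := S.cjw (x := wB) (x' := wC) wy (by decide +kernel)
  have hnc := inV_commL c S (v := 1)
  have hL0 : ∀ v, inV t f v → Commute (Lw L [0]) v → v = 1 ∨ v = F f [0] := fun v hv h => inV_commL c S hv h
  have hLw : ∀ σ : P5, Commute (Lw L [0]) (f (w σ)) := by
    intro σ
    rw [Lw, wd_y]
    exact (S.comm (y_comm σ).symm : f (w σ) * L y = L y * f (w σ)).symm
  set Y := Lw L [0]
  set P := Lw L [1]
  set R := Lw L [3]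
  set A := Lw L wA
  set B := Lw L wB
  set C := Lw L wC
  have yX : Commute (F f wy) (Y * B) := by
    apply commute_of_conj
    calc (F f wy)⁻¹ * (Y * B) * F f wy = ((F f wy)⁻¹ * Y * F f wy) * ((F f wy)⁻¹ * B * F f wy) := by group
      _ = A * C := by rw [y2, y4]
      _ = Y * B := h.AC
  have yZ : Commute (F f wy) (P * R) := by
    rw [h.PR]
    apply commute_of_conj
    calc (F f wy)⁻¹ * (Y * A) * F f wy = ((F f wy)⁻¹ * Y * F f wy) * ((F f wy)⁻¹ * A * F f wy) := by group
      _ = A * Y := by rw [y2, y3]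
      _ = Y * A := h.cYA.eq.symm
  have tk := h.tkappa
  have tz := h.tZ
  have pX := h.pX
  have rX := h.rX
  have dX := h.dX
  have dP := h.dP
  have cZX := h.cZX
  have cZP := h.cZP
  have ZZ := h.ZZ
  have XX := h.XX
  have zX := h.zX
  have zZ := h.zZ
  have cYX : Commute Y (Y * B) := (Commute.refl Y).mul_right h.cYB
  have cYZ := h.cZY.symm
  have yX' := h.yX
  have yZ' := h.yZ
  have hRPZ : R * P = P * R := h.cPR.eq.symm
  have pZ := h.pZ
  obtain ⟨Z, hZ⟩ : ∃ Z, Z = P * R := ⟨_, rfl⟩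
  obtain ⟨X, hX⟩ : ∃ X, X = Y * B := ⟨_, rfl⟩
  simp only [← hZ, ← hX] at *
  obtain ⟨κ, hκ⟩ : ∃ κ, κ = P * X * P * X := ⟨_, rfl⟩
  rw [← hκ] at tk ⊢
  have PP := h.PP
  -- commutations of `κ`
  have hcκ : ∀ g : G, Commute g P → Commute g X → Commute g κ := by
    intro g h1 h2
    rw [hκ]
    exact ((h1.mul_right h2).mul_right h1).mul_right h2
  have hc0 : ∀ g : G, Commute g P → Commute g X → Commute g Z → Commute g (κ * Z) :=
    fun g h1 h2 h3 => (hcκ g h1 h2).mul_right h3
  have kt : Commute t (κ * Z) := by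
    have e1 : t * (κ * Z) * t = κ * Z := by
      calc t * (κ * Z) * t = (t * κ * t) * (t * Z * t) := by
            have : (t * κ * t) * (t * Z * t) = t * (κ * (t * t) * Z) * t := by group
            rw [this, c.tt, mul_one]
        _ = κ * (F f [1, 3] * Z) * F f [1, 3] := by rw [tk, tz]; group
        _ = κ * Z * (F f [1, 3] * F f [1, 3]) := by rw [zZ.eq]; group
        _ = κ * Z := by rw [F_sq (by decide +kernel), mul_one]
    show t * (κ * Z) = κ * Z * t
    calc t * (κ * Z) = (t * (κ * Z) * t) * t⁻¹ := by group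
      _ = _ := by rw [e1, c.inv_t]
  have ky := hc0 _ h.yP yX' yZ'
  have kz := hc0 _ h.zP zX zZ
  have kw := hc0 _ y1 yX yZ
  have kY := hc0 _ h.cYP cYX cYZ
  -- `κ Z` commutes with `p`
  have kp : Commute (F f [1]) (κ * Z) := by
    have e1 : F f [1] * κ = κ * F f [1] := by
      calc F f [1] * κ = (F f [1] * P) * X * P * X := by rw [hκ]; group
        _ = P * (F f [1] * X) * P * X := by rw [h.pP.eq]; group
        _ = P * Z * X * (F f [1] * P) * X := by rw [pX]; group
        _ = P * Z * X * P * (F f [1] * X) := by rw [h.pP.eq]; group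
        _ = P * (Z * X) * (P * Z) * X * F f [1] := by rw [pX]; group
        _ = P * X * (Z * Z) * P * X * F f [1] := by rw [cZX.eq, ← cZP.eq]; group
        _ = κ * F f [1] := by rw [ZZ, hκ]; group
    exact (show Commute (F f [1]) κ from e1).mul_right pZ
  obtain ⟨σ, v, hv, hσ⟩ := decomp2 c kt.eq.symm (by
    have := ky.eq
    rw [F, wd_y] at this
    exact this.symm) (τ := Equiv.swap 0 1) (Equiv.Perm.sign_swap (by decide)) (by
    rw [w_p, ← wd_p]
    exact kp.eq.symm)
  have hσz := comm_sigma c hv hσ (τ := Equiv.swap 0 1 * Equiv.swap 2 3)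
    (by rw [map_mul, w_p, w_r, ← wd_pr]; exact kz)
  have hvY : Commute Y v := by
    have e : v = (κ * Z) * (f (w σ))⁻¹ := by rw [hσ]; group
    rw [e]
    exact kY.mul_right (hLw σ).inv_right
  have hwl : ∃ l : List ℕ, (l = [] ∨ l = [1, 3] ∨ l = [1] ∨ l = [3] ∨ l = [2, 1, 3, 2] ∨ l = [3, 2, 1, 3, 2, 3] ∨
      l = [1, 2, 1, 3, 2] ∨ l = [2, 1, 3, 2, 1]) ∧ f (w σ) = F f l := by
    rcases w_words σ hσz with e | e | e | e | e | e | e | e
    · exact ⟨_, Or.inl rfl, by rw [e]; rfl⟩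
    · exact ⟨_, Or.inr (Or.inl rfl), by rw [e]; rfl⟩
    · exact ⟨_, Or.inr (Or.inr (Or.inl rfl)), by rw [e]; rfl⟩
    · exact ⟨_, Or.inr (Or.inr (Or.inr (Or.inl rfl))), by rw [e]; rfl⟩
    · exact ⟨_, Or.inr (Or.inr (Or.inr (Or.inr (Or.inl rfl)))), by rw [e]; rfl⟩
    · exact ⟨_, Or.inr (Or.inr (Or.inr (Or.inr (Or.inr (Or.inl rfl))))), by rw [e]; rfl⟩
    · exact ⟨_, Or.inr (Or.inr (Or.inr (Or.inr (Or.inr (Or.inr (Or.inl rfl)))))), by rw [e]; rfl⟩
    · exact ⟨_, Or.inr (Or.inr (Or.inr (Or.inr (Or.inr (Or.inr (Or.inr rfl)))))), by rw [e]; rfl⟩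
  obtain ⟨l, hl, hwσ⟩ := hwl
  have hv1 : v = 1 := by
    rcases hL0 v hv hvY with h1 | h1
    · exact h1
    exfalso
    rw [hwσ, h1, ← F_append] at hσ
    rw [hσ] at kw
    have e2 : F f (wy ++ ([0] ++ l)) = F f (([0] ++ l) ++ wy) := by
      rw [F_append, F_append (f := f) ([0] ++ l)]; exact kw.eq
    have e3 := F_inj c e2
    rcases hl with rfl | rfl | rfl | rfl | rfl | rfl | rfl | rfl <;> exact absurd e3 (by decide +kernel)
  rw [hv1, one_mul, hwσ] at hσ
  -- `P` and `X` invert `κ Z`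
  have iZ : Z⁻¹ = Z := inv_of_sq ZZ
  have iP : P⁻¹ = P := inv_of_sq PP
  have iX : X⁻¹ = X := inv_of_sq XX
  have e1 : P * (κ * Z) * P = (κ * Z)⁻¹ := by
    calc P * (κ * Z) * P = (P * P) * X * P * X * (Z * P) := by rw [hκ]; group
      _ = X * P * (X * P) * Z := by rw [PP, cZP.eq]; group
      _ = Z * (X * P * X * P) := by
        have : Commute Z (X * P * (X * P)) := (cZX.mul_right cZP).mul_right (cZX.mul_right cZP)
        rw [← this.eq]; group
      _ = (κ * Z)⁻¹ := by rw [hκ]; simp only [mul_inv_rev, iZ, iP, iX]; group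
  have e2 : X * (κ * Z) * X = (κ * Z)⁻¹ := by
    calc X * (κ * Z) * X = (X * P * X * P) * (X * Z * X) := by rw [hκ]; group
      _ = (X * P * X * P) * (Z * (X * X)) := by rw [← cZX.eq]; group
      _ = (X * P * (X * P)) * Z := by rw [XX]; group
      _ = Z * (X * P * X * P) := by
        have : Commute Z (X * P * (X * P)) := (cZX.mul_right cZP).mul_right (cZX.mul_right cZP)
        rw [← this.eq]; group
      _ = (κ * Z)⁻¹ := by rw [hκ]; simp only [mul_inv_rev, iZ, iP, iX]; group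
  have hne : ∀ l' : List ℕ, Z ≠ F f l' := by
    intro l' h1
    have h2 : t * Z * t = Z := by rw [h1, (F_t c l').eq, mul_assoc, c.tt, mul_one]
    rw [tz] at h2
    have h3 : F f [1, 3] = F f [] := by
      rw [F_nil]; exact mul_left_cancel (h2.trans (mul_one Z).symm)
    exact absurd (F_inj c h3) (by decide +kernel)
  rw [hσ] at e1 e2
  have hkey : κ = F f l * Z := by
    calc κ = (κ * Z) * Z⁻¹ := by group
      _ = _ := by rw [hσ, iZ]
  have hone : ∀ {a : List ℕ}, eqW (a ++ a) [] = true → (F f a)⁻¹ = F f a := fun h => inv_of_sq (F_sq h)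
  have Pd : P * F f [2, 1, 3, 2] = F f [2, 1, 3, 2] * R := by
    have hdd : F f [2, 1, 3, 2] * F f [2, 1, 3, 2] = 1 := F_sq (by decide +kernel)
    calc P * F f [2, 1, 3, 2] = F f [2, 1, 3, 2] * (F f [2, 1, 3, 2] * P) * F f [2, 1, 3, 2] := by
          rw [← mul_assoc, hdd, one_mul]
      _ = F f [2, 1, 3, 2] * R * (F f [2, 1, 3, 2] * F f [2, 1, 3, 2]) := by rw [dP]; group
      _ = _ := by rw [hdd, mul_one]
  rcases hl with rfl | rfl | rfl | rfl | rfl | rfl | rfl | rfl
  · left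
    rw [hkey, F_nil, one_mul]
  · right
    rw [hkey, zZ.eq]
  · exfalso
    rw [hone (by decide +kernel)] at e2
    have e3 : X * F f [1] * X = Z * F f [1] := by
      calc X * F f [1] * X = X * (F f [1] * X) := by group
        _ = X * Z * X * F f [1] := by rw [pX]; group
        _ = Z * (X * X) * F f [1] := by rw [← cZX.eq]; group
        _ = _ := by rw [XX, mul_one]
    rw [e3] at e2
    apply hne []
    rw [F_nil]
    exact mul_right_cancel (e2.trans (one_mul _).symm)
  · exfalso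
    rw [hone (by decide +kernel)] at e2
    have e3 : X * F f [3] * X = Z * F f [3] := by
      calc X * F f [3] * X = X * (F f [3] * X) := by group
        _ = X * Z * X * F f [3] := by rw [rX]; group
        _ = Z * (X * X) * F f [3] := by rw [← cZX.eq]; group
        _ = _ := by rw [XX, mul_one]
    rw [e3] at e2
    apply hne []
    rw [F_nil]
    exact mul_right_cancel (e2.trans (one_mul _).symm)
  · exfalso
    rw [hone (by decide +kernel), Pd, mul_assoc, hRPZ] at e1
    apply hne []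
    rw [F_nil]
    exact mul_left_cancel (e1.trans (mul_one _).symm)
  · exfalso
    rw [hone (by decide +kernel)] at e1
    have e4 : F f [3, 2, 1, 3, 2, 3] = F f [1, 3] * F f [2, 1, 3, 2] := by
      rw [← F_append]; exact F_eq (by decide +kernel)
    have e3 : P * F f [3, 2, 1, 3, 2, 3] * P = F f [3, 2, 1, 3, 2, 3] * Z := by
      calc P * F f [3, 2, 1, 3, 2, 3] * P = (P * F f [1, 3]) * F f [2, 1, 3, 2] * P := by rw [e4]; group
        _ = F f [1, 3] * (P * F f [2, 1, 3, 2]) * P := by rw [← h.zP.eq]; group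
        _ = F f [1, 3] * F f [2, 1, 3, 2] * (R * P) := by rw [Pd]; group
        _ = _ := by rw [hRPZ, e4]
    rw [e3] at e1
    apply hne []
    rw [F_nil]
    exact mul_left_cancel (e1.trans (mul_one _).symm)
  · exfalso
    have e4 : F f [1, 2, 1, 3, 2] = F f [1] * F f [2, 1, 3, 2] := by rw [← F_append]; rfl
    have e5 : (F f [1, 2, 1, 3, 2])⁻¹ = F f [2, 1, 3, 2, 1] := by
      apply inv_eq_of_mul_eq_one_left
      rw [← F_append, ← F_nil (f := f)]; exact F_eq (by decide +kernel)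
    have e3 : P * F f [1, 2, 1, 3, 2] * P = F f [1, 2, 1, 3, 2] * Z := by
      calc P * F f [1, 2, 1, 3, 2] * P = (P * F f [1]) * F f [2, 1, 3, 2] * P := by rw [e4]; group
        _ = F f [1] * (P * F f [2, 1, 3, 2]) * P := by rw [← h.pP.eq]; group
        _ = F f [1] * F f [2, 1, 3, 2] * (R * P) := by rw [Pd]; group
        _ = _ := by rw [hRPZ, e4]
    rw [e3, e5] at e1
    apply hne ([2, 1, 3, 2, 1] ++ [2, 1, 3, 2, 1])
    rw [F_append]
    calc Z = (F f [1, 2, 1, 3, 2])⁻¹ * (F f [1, 2, 1, 3, 2] * Z) := by group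
      _ = _ := by rw [e1, e5]
  · exfalso
    have e4 : F f [2, 1, 3, 2, 1] = F f [2, 1, 3, 2] * F f [1] := by rw [← F_append]; rfl
    have e5 : (F f [2, 1, 3, 2, 1])⁻¹ = F f [1, 2, 1, 3, 2] := by
      apply inv_eq_of_mul_eq_one_left
      rw [← F_append, ← F_nil (f := f)]; exact F_eq (by decide +kernel)
    have e3 : P * F f [2, 1, 3, 2, 1] * P = F f [2, 1, 3, 2, 1] * Z := by
      calc P * F f [2, 1, 3, 2, 1] * P = (P * F f [2, 1, 3, 2]) * (F f [1] * P) := by rw [e4]; group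
        _ = F f [2, 1, 3, 2] * (R * P) * F f [1] := by rw [Pd, h.pP.eq]; group
        _ = F f [2, 1, 3, 2] * (F f [1] * Z) := by rw [hRPZ, pZ.eq]; group
        _ = _ := by rw [e4]; group
    rw [e3, e5] at e1
    apply hne ([1, 2, 1, 3, 2] ++ [1, 2, 1, 3, 2])
    rw [F_append]
    calc Z = (F f [2, 1, 3, 2, 1])⁻¹ * (F f [2, 1, 3, 2, 1] * Z) := by group
      _ = _ := by rw [e1, e5]

end Cfsg.Agent.CoThreeStd.Gamma
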