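import Cfsg.Agent.CoThreeStd.GammaDich
import Cfsg.Agent.CoThreeStd.GammaKill

/-!
# S1750, pattern γ, the bad case is killed by a coset enumeration (helper781)
-/

set_option autoImplicit false

namespace Cfsg.Agent.CoThreeStd.Gamma

open Cfsg.Agent.CoThreeStd.MTwelve Cfsg.Agent.CoThreeStd.Fusion Cfsg.Agent.SporRec.Co3
open Cfsg.Agent.SporadicRecognition.CosetCert (ev ev_nil ev_cons ev_append)

variable {G : Type*} [Group G] {t : G} {f : H →* G} {L : H → G}

/-- the letters of the certificate -/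
def kg (f : H →* G) (L : H → G) : Nat → G
  | 0 => F f [1]
  | 1 => F f [2]
  | 2 => F f [3]
  | 3 => F f [4]
  | 4 => Lw L [1]
  | 5 => Lw L [2, 1, 2]
  | 6 => Lw L [3, 2, 1, 2, 3]
  | 7 => Lw L [2]
  | 8 => Lw L [2, 3, 2]
  | 9 => Lw L [3]
  | _ => 1

theorem kg_sq (S : Sys t f L) (x : ℕ) (hx : x < 10) : kg f L x * kg f L x = 1 := by
  interval_cases x
  · exact F_sq (by decide +kernel)
  · exact F_sq (by decide +kernel)
  · exact F_sq (by decide +kernel)
  · exact F_sq (by decide +kernel)
  · exact S.sqw _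
  · exact S.sqw _
  · exact S.sqw _
  · exact S.sqw _
  · exact S.sqw _
  · exact S.sqw _

theorem rel_comm {a b : G} (h : Commute a b) (ha : a * a = 1) (hb : b * b = 1) : a * (b * (a * (b * 1))) = 1 := by
  calc a * (b * (a * (b * 1))) = a * (b * a) * b := by group
    _ = a * (a * b) * b := by rw [h.eq]
    _ = (a * a) * (b * b) := by group
    _ = 1 := by rw [ha, hb, one_mul]

theorem rel_conj {m a b : G} (h : m⁻¹ * a * m = b) (hm : m * m = 1) (hb : b * b = 1) :
    m * (a * (m * (b * 1))) = 1 := by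
  have h1 : m⁻¹ = m := inv_of_sq hm
  rw [h1] at h
  calc m * (a * (m * (b * 1))) = (m * a * m) * b := by group
    _ = 1 := by rw [h, hb]

theorem ev_two (g : Nat → G) (a b c d : ℕ) : ev g [a, b, c, d] = g a * (g b * (g c * (g d * 1))) := by
  simp only [ev_cons, ev_nil]

theorem ev_F (L : H → G) (a : List ℕ) (h : ∀ x ∈ a, x < 4) : ev (kg f L) a = F f (a.map (· + 1)) := by
  induction a with
  | nil => rw [ev_nil]; exact F_nil.symm
  | cons x a ih =>
    rw [ev_cons, ih (fun z hz => h z (List.mem_cons_of_mem _ hz)), List.map_cons, F_cons (x + 1)]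
    congr 1
    have := h x List.mem_cons_self
    interval_cases x <;> rfl

theorem ev_F_one (L : H → G) (a : List ℕ) (h : ∀ x ∈ a, x < 4) (h1 : eqW (a.map (· + 1)) [] = true) :
    ev (kg f L) a = 1 := by
  rw [ev_F L a h, F_eq h1, F_nil]

/-- The good case holds. -/
theorem good (c : Cx t f) (S : Sys t f L) :
    Lw L [1] * (Lw L [0] * Lw L wB) * Lw L [1] * (Lw L [0] * Lw L wB) = Lw L [1] * Lw L [3] := by
  rcases kappa c S with h | h
  · exact h
  exfalso
  have hf := facts c S
  have h1 : Lw L [2, 1, 2] * Lw L [2, 3, 2] = Lw L [0] * Lw L wB :=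
    hrel c S [2] (by decide +kernel) (by decide +kernel) (by decide +kernel) (by decide +kernel)
  have h2 : Lw L [3, 2, 1, 2, 3] * Lw L [2] = Lw L [0] * Lw L wC :=
    hrel c S [2, 3] (by decide +kernel) (by decide +kernel) (by decide +kernel) (by decide +kernel)
  have hrel' : ∀ r ∈ GammaKillData.rels, ev (kg f L) r = 1 := by
    intro r hr
    simp only [GammaKillData.rels, List.mem_cons, List.not_mem_nil, or_false] at hr
    rcases hr with rfl | rfl | rfl | rfl | rfl | rfl | rfl | rfl | rfl | rfl | rfl | rfl | rfl | rfl | rfl | rfl |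
      rfl | rfl | rfl | rfl | rfl | rfl | rfl | rfl | rfl
    · exact ev_F_one L _ (by decide) (by decide +kernel)
    · exact ev_F_one L _ (by decide) (by decide +kernel)
    · exact ev_F_one L _ (by decide) (by decide +kernel)
    · rw [ev_two]
      exact rel_comm (S.cmw [1] [1] (by decide +kernel)).symm (S.sqw _) (F_sq (by decide +kernel))
    · rw [ev_two]
      exact rel_comm (S.cmw [1] [3] (by decide +kernel)).symm (S.sqw _) (F_sq (by decide +kernel))
    · rw [ev_two]
      exact rel_comm (S.cmw [1] [4] (by decide +kernel)).symm (S.sqw _) (F_sq (by decide +kernel))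
    · rw [ev_two]
      exact rel_conj (S.cjw (x := [1]) (x' := [2, 1, 2]) [2] (by decide +kernel)) (F_sq (by decide +kernel))
        (S.sqw _)
    · rw [ev_two]
      exact rel_conj (S.cjw (x := [2, 1, 2]) (x' := [3, 2, 1, 2, 3]) [3] (by decide +kernel))
        (F_sq (by decide +kernel)) (S.sqw _)
    · rw [ev_two]
      exact rel_conj (S.cjw (x := [2, 1, 2]) (x' := [2]) [1] (by decide +kernel))
        (F_sq (by decide +kernel)) (S.sqw _)
    · rw [ev_two]
      exact rel_conj (S.cjw (x := [3, 2, 1, 2, 3]) (x' := [2, 3, 2]) [1] (by decide +kernel))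
        (F_sq (by decide +kernel)) (S.sqw _)
    · rw [ev_two]
      exact rel_conj (S.cjw (x := [2]) (x' := [2, 3, 2]) [3] (by decide +kernel))
        (F_sq (by decide +kernel)) (S.sqw _)
    · rw [ev_two]
      exact rel_conj (S.cjw (x := [2, 3, 2]) (x' := [3]) [2] (by decide +kernel))
        (F_sq (by decide +kernel)) (S.sqw _)
    · rw [ev_two]
      exact rel_comm (S.cmw [2, 1, 2] [4] (by decide +kernel)).symm (S.sqw _) (F_sq (by decide +kernel))
    · rw [ev_two]
      exact rel_comm (S.cmw [2] [4] (by decide +kernel)).symm (S.sqw _) (F_sq (by decide +kernel))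
    · rw [ev_two]
      exact rel_comm (S.cmw [3, 2, 1, 2, 3] [2] (by decide +kernel)).symm (S.sqw _) (F_sq (by decide +kernel))
    · rw [ev_two]
      exact rel_comm (S.cmw [3, 2, 1, 2, 3] [2] (by decide +kernel)).symm (S.sqw _) (F_sq (by decide +kernel))
    · rw [ev_two]
      exact rel_comm (S.cmw [3, 2, 1, 2, 3] [2] (by decide +kernel)).symm (S.sqw _) (F_sq (by decide +kernel))
    · rw [ev_two]
      exact rel_comm hf.cPR (S.sqw _) (S.sqw _)
    · rw [ev_two]
      exact rel_comm (cp c S [2] (l1 := [2, 1, 2]) (l2 := [2, 3, 2]) (by decide +kernel) (by decide +kernel))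
        (S.sqw _) (S.sqw _)
    · rw [ev_two]
      exact rel_comm (cp c S [2, 3] (l1 := [3, 2, 1, 2, 3]) (l2 := [2]) (by decide +kernel) (by decide +kernel))
        (S.sqw _) (S.sqw _)
    · exact ev_F_one L _ (by decide) (by decide +kernel)
    · exact ev_F_one L _ (by decide) (by decide +kernel)
    · exact ev_F_one L _ (by decide) (by decide +kernel)
    · show ev (kg f L) [4, 9, 5, 8, 6, 7] = 1
      simp only [ev_cons, ev_nil]
      show Lw L [1] * (Lw L [3] * (Lw L [2, 1, 2] * (Lw L [2, 3, 2] * (Lw L [3, 2, 1, 2, 3] * (Lw L [2] * 1))))) = 1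
      have e := hf.YC
      calc Lw L [1] * (Lw L [3] * (Lw L [2, 1, 2] * (Lw L [2, 3, 2] * (Lw L [3, 2, 1, 2, 3] * (Lw L [2] * 1)))))
          = Lw L [1] * Lw L [3] * (Lw L [2, 1, 2] * Lw L [2, 3, 2]) * (Lw L [3, 2, 1, 2, 3] * Lw L [2]) := by group
        _ = Lw L [1] * Lw L [3] * (Lw L [0] * Lw L wB) * (Lw L [1] * Lw L [3] * (Lw L [0] * Lw L wB)) := by
          rw [h1, h2, e]
        _ = Lw L [1] * Lw L [3] * (Lw L [0] * Lw L wB) * ((Lw L [0] * Lw L wB) * (Lw L [1] * Lw L [3])) := by
          rw [hf.cZX.eq]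
        _ = Lw L [1] * Lw L [3] * ((Lw L [0] * Lw L wB) * (Lw L [0] * Lw L wB)) * (Lw L [1] * Lw L [3]) := by group
        _ = 1 := by rw [hf.XX, mul_one, hf.ZZ]
    · show ev (kg f L) [4, 5, 8, 4, 5, 8, 4, 9, 0, 2] = 1
      simp only [ev_cons, ev_nil]
      show Lw L [1] * (Lw L [2, 1, 2] * (Lw L [2, 3, 2] * (Lw L [1] * (Lw L [2, 1, 2] * (Lw L [2, 3, 2] *
        (Lw L [1] * (Lw L [3] * (F f [1] * (F f [3] * 1))))))))) = 1
      have e : F f [1] * F f [3] = F f [1, 3] := by rw [← F_append]; rfl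
      calc Lw L [1] * (Lw L [2, 1, 2] * (Lw L [2, 3, 2] * (Lw L [1] * (Lw L [2, 1, 2] * (Lw L [2, 3, 2] *
          (Lw L [1] * (Lw L [3] * (F f [1] * (F f [3] * 1)))))))))
          = (Lw L [1] * (Lw L [2, 1, 2] * Lw L [2, 3, 2]) * Lw L [1] * (Lw L [2, 1, 2] * Lw L [2, 3, 2])) *
            (Lw L [1] * Lw L [3]) * (F f [1] * F f [3]) := by group
        _ = Lw L [1] * Lw L [3] * (F f [1, 3] * (Lw L [1] * Lw L [3])) * F f [1, 3] := by rw [h1, h, e]; group
        _ = (Lw L [1] * Lw L [3]) * (Lw L [1] * Lw L [3]) * (F f [1, 3] * F f [1, 3]) := by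
          rw [hf.zZ.eq]; group
        _ = 1 := by rw [hf.ZZ, one_mul, F_sq (by decide +kernel)]
  have hinv : ∀ x, x < 10 → kg f L x * kg f L (GammaKillData.C.inv x) = 1 := by
    intro x hx
    exact kg_sq S x hx
  have hsub : ∀ s ∈ GammaKillData.subw, ev (kg f L) s ∈ Subgroup.centralizer ({t} : Set G) := by
    intro s hs
    rw [Subgroup.mem_centralizer_singleton_iff]
    have : ∃ l, ev (kg f L) s = F f l := by
      refine ⟨_, ev_F L s ?_⟩
      revert s
      decide
    obtain ⟨l, hl⟩ := this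
    rw [hl]
    exact (F_t c l).eq.symm
  have h3 := GammaKill.mem (Subgroup.centralizer ({t} : Set G)) (kg f L) hinv hrel' hsub [4, 1, 4]
    (by simp [GammaKillData.targets])
  rw [Subgroup.mem_centralizer_singleton_iff] at h3
  have e1 : ev (kg f L) [4, 1, 4] = Lw L [1] * F f [2] * Lw L [1] := by
    simp only [ev_cons, ev_nil]
    show Lw L [1] * (F f [2] * (Lw L [1] * 1)) = _
    group
  rw [e1] at h3
  have tP := hf.tP
  have pP := hf.pP
  have cq := F_t c [2]
  set P := Lw L [1]
  have e2 : P * F f [1] * F f [2] * F f [1] * P = P * F f [2] * P := by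
    calc P * F f [1] * F f [2] * F f [1] * P = (P * F f [1]) * F f [2] * (F f [1] * P) := by group
      _ = (t * P * t) * F f [2] * (t * P * t) := by rw [pP.eq, tP]
      _ = t * P * (t * F f [2]) * t * P * t := by group
      _ = t * P * F f [2] * (t * t) * P * t := by rw [cq.eq]; group
      _ = t * (P * F f [2] * P * t) := by rw [c.tt]; group
      _ = (t * t) * (P * F f [2] * P) := by rw [h3]; group
      _ = _ := by rw [c.tt, one_mul]
  have e3 : F f [1, 2, 1] = F f [2] := by
    have e4 : F f [1, 2, 1] = F f [1] * F f [2] * F f [1] := by rw [← F_append, ← F_append]; rfl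
    rw [e4]
    apply mul_left_cancel (a := P)
    apply mul_right_cancel (b := P)
    rw [← e2]; group
  exact absurd (F_inj c e3) (by decide +kernel)

end Cfsg.Agent.CoThreeStd.Gamma
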