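import Cfsg.Agent.CoThreeStd.GammaZ

/-!
# S1750, pattern γ, the dichotomy for `κ = (PX)²` (helper781)
-/

set_option autoImplicit false

namespace Cfsg.Agent.CoThreeStd.Gamma

open Cfsg.Agent.CoThreeStd.MTwelve Cfsg.Agent.CoThreeStd.Fusion Cfsg.Agent.SporRec.Co3

variable {G : Type*} [Group G] {t : G} {f : H →* G} {L : H → G}

theorem sigma_eight : ∀ σ : P5, σ * (Equiv.swap 0 1 * Equiv.swap 2 3) = (Equiv.swap 0 1 * Equiv.swap 2 3) * σ →
    σ = 1 ∨ σ = Equiv.swap 0 1 * Equiv.swap 2 3 ∨ σ = Equiv.swap 0 1 ∨ σ = Equiv.swap 2 3 ∨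
    σ = Equiv.swap 1 2 * Equiv.swap 0 1 * Equiv.swap 2 3 * Equiv.swap 1 2 ∨
    σ = Equiv.swap 2 3 * Equiv.swap 1 2 * Equiv.swap 0 1 * Equiv.swap 2 3 * Equiv.swap 1 2 * Equiv.swap 2 3 ∨
    σ = Equiv.swap 0 1 * Equiv.swap 1 2 * Equiv.swap 0 1 * Equiv.swap 2 3 * Equiv.swap 1 2 ∨
    σ = Equiv.swap 1 2 * Equiv.swap 0 1 * Equiv.swap 2 3 * Equiv.swap 1 2 * Equiv.swap 0 1 := by
  decide +kernel

theorem w_words (σ : P5) (h : σ * (Equiv.swap 0 1 * Equiv.swap 2 3) = (Equiv.swap 0 1 * Equiv.swap 2 3) * σ) :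
    w σ = wd [] ∨ w σ = wd [1, 3] ∨ w σ = wd [1] ∨ w σ = wd [3] ∨ w σ = wd [2, 1, 3, 2] ∨
    w σ = wd [3, 2, 1, 3, 2, 3] ∨ w σ = wd [1, 2, 1, 3, 2] ∨ w σ = wd [2, 1, 3, 2, 1] := by
  have hc : ∀ (i : ℕ) (l : List ℕ), wd (i :: l) = wd [i] * wd l := by
    intro i l; rw [← wd_append]; rfl
  rcases sigma_eight σ h with rfl | rfl | rfl | rfl | rfl | rfl | rfl | rfl
  · left; rw [wd_nil, map_one]
  · right; left; rw [hc, wd_p, wd_r, map_mul, w_p, w_r]
  · right; right; left; rw [wd_p, w_p]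
  · right; right; right; left; rw [wd_r, w_r]
  · right; right; right; right; left
    rw [hc 2, hc 1, hc 3, wd_p, wd_r, wd_q]
    simp only [map_mul, w_p, w_q, w_r, mul_assoc]
  · right; right; right; right; right; left
    rw [hc 3, hc 2, hc 1, hc 3 [2, 3], hc 2 [3], wd_p, wd_r, wd_q]
    simp only [map_mul, w_p, w_q, w_r, mul_assoc]
  · right; right; right; right; right; right; left
    rw [hc 1, hc 2, hc 1 [3, 2], hc 3, wd_p, wd_r, wd_q]
    simp only [map_mul, w_p, w_q, w_r, mul_assoc]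
  · right; right; right; right; right; right; right
    rw [hc 2, hc 1, hc 3, hc 2 [1], wd_p, wd_r, wd_q]
    simp only [map_mul, w_p, w_q, w_r, mul_assoc]

/-- The facts used below. -/
structure Facts (f : H →* G) (t Y P R A B C : G) : Prop where
  tt : t * t = 1
  YY : Y * Y = 1
  PP : P * P = 1
  RR : R * R = 1
  AA : A * A = 1
  BB : B * B = 1
  CC : C * C = 1
  cYP : Commute Y P
  cYR : Commute Y R
  cPR : Commute P R
  PR : P * R = Y * A
  cYA : Commute Y A
  cYB : Commute Y B
  cYC : Commute Y C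
  cAB : Commute A B
  cAC : Commute A C
  cBC : Commute B C
  zeta : Y * A * B * C = 1
  -- `t`
  tY : t * Y * t = Y * F f [0]
  tP : t * P * t = P * F f [1]
  tR : t * R * t = R * F f [3]
  tB : t * B * t = B * F f wB
  -- `y`
  yY : Commute (F f [0]) Y
  yP : Commute (F f [0]) P
  yR : Commute (F f [0]) R
  yB : Commute (F f [0]) B
  -- `p`
  pY : Commute (F f [1]) Y
  pP : Commute (F f [1]) P
  pR : Commute (F f [1]) R
  pB : F f [1] * B = C * F f [1]
  -- `r`
  rY : Commute (F f [3]) Y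
  rP : Commute (F f [3]) P
  rR : Commute (F f [3]) R
  rB : F f [3] * B = C * F f [3]
  -- `z`
  zB : Commute (F f [1, 3]) B
  -- `d'`
  dY : Commute (F f [2, 1, 3, 2]) Y
  dB : Commute (F f [2, 1, 3, 2]) B
  dP : F f [2, 1, 3, 2] * P = R * F f [2, 1, 3, 2]

theorem move {g a b m : G} (h : m⁻¹ * a * m = b) (h2 : m * m = 1) : m * a = b * m := by
  have e : m⁻¹ = m := inv_of_sq h2
  rw [e] at h
  rw [← h, mul_assoc, h2, mul_one]

theorem facts (c : Cx t f) (S : Sys t f L) :
    Facts f t (Lw L [0]) (Lw L [1]) (Lw L [3]) (Lw L wA) (Lw L wB) (Lw L wC) := by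
  obtain ⟨c1, c2, c3, c4, c5, c6⟩ := comms c S
  obtain ⟨b1, b2, b3, b4, b5⟩ := base c S
  exact
    { tt := c.tt
      YY := S.sqw _, PP := S.sqw _, RR := S.sqw _, AA := S.sqw _, BB := S.sqw _, CC := S.sqw _
      cYP := b1, cYR := b2, cPR := b3, PR := b4
      cYA := c1, cYB := c2, cYC := c3, cAB := c4, cAC := c5, cBC := c6
      zeta := zeta c S
      tY := S.tw [0] [] (by decide +kernel)
      tP := S.tw [1] [5, 1, 5, 2, 3, 5, 2] (by decide +kernel)
      tR := S.tw [3] [5, 0, 5, 0, 3, 5] (by decide +kernel)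
      tB := S.tw wB [5, 0, 1, 3, 5, 4] (by decide +kernel)
      yY := S.cmw _ _ (by decide +kernel)
      yP := S.cmw _ _ (by decide +kernel)
      yR := S.cmw _ _ (by decide +kernel)
      yB := S.cmw _ _ (by decide +kernel)
      pY := S.cmw _ _ (by decide +kernel)
      pP := S.cmw _ _ (by decide +kernel)
      pR := S.cmw _ _ (by decide +kernel)
      pB := move (g := 1) (S.cjw (x := wB) (x' := wC) [1] (by decide +kernel)) (F_sq (by decide +kernel))
      rY := S.cmw _ _ (by decide +kernel)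
      rP := S.cmw _ _ (by decide +kernel)
      rR := S.cmw _ _ (by decide +kernel)
      rB := move (g := 1) (S.cjw (x := wB) (x' := wC) [3] (by decide +kernel)) (F_sq (by decide +kernel))
      zB := S.cmw _ _ (by decide +kernel)
      dY := S.cmw _ _ (by decide +kernel)
      dB := S.cmw _ _ (by decide +kernel)
      dP := move (g := 1) (S.cjw (x := [1]) (x' := [3]) [2, 1, 3, 2] (by decide +kernel))
        (F_sq (by decide +kernel)) }

namespace Facts

variable {Y P R A B C : G}

/-- `Z` -/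
def Z (P R : G) : G := P * R

/-- `X` -/
def X (Y B : G) : G := Y * B

theorem ZZ (h : Facts f t Y P R A B C) : (P * R) * (P * R) = 1 := by
  calc (P * R) * (P * R) = P * (R * P) * R := by group
    _ = P * (P * R) * R := by rw [h.cPR.eq]
    _ = (P * P) * (R * R) := by group
    _ = 1 := by rw [h.PP, h.RR, one_mul]

theorem cZP (h : Facts f t Y P R A B C) : Commute (P * R) P := (Commute.refl P).mul_left h.cPR.symm
theorem cZR (h : Facts f t Y P R A B C) : Commute (P * R) R := h.cPR.mul_left (Commute.refl R)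
theorem cZY (h : Facts f t Y P R A B C) : Commute (P * R) Y := (h.cYP.mul_right h.cYR).symm
theorem cZX (h : Facts f t Y P R A B C) : Commute (P * R) (Y * B) := by
  rw [h.PR]
  exact ((Commute.refl Y).mul_left h.cYA.symm).mul_right (h.cYB.mul_left h.cAB)

theorem XX (h : Facts f t Y P R A B C) : (Y * B) * (Y * B) = 1 := by
  calc (Y * B) * (Y * B) = Y * (B * Y) * B := by group
    _ = Y * (Y * B) * B := by rw [h.cYB.eq]
    _ = (Y * Y) * (B * B) := by group
    _ = 1 := by rw [h.YY, h.BB, one_mul]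

/-- `X'' = Z X` -/
theorem YC (h : Facts f t Y P R A B C) : Y * C = (P * R) * (Y * B) := by
  rw [h.PR]
  have e1 : Y * A * B = C⁻¹ := mul_eq_one_iff_eq_inv.1 h.zeta
  have e2 : C⁻¹ = C := inv_of_sq h.CC
  calc Y * C = C * Y := h.cYC.eq
    _ = (Y * A * B) * Y := by rw [e1, e2]
    _ = Y * A * (B * Y) := by group
    _ = _ := by rw [h.cYB.eq]

/-- `AC = X` -/
theorem AC (h : Facts f t Y P R A B C) : A * C = Y * B := by
  have e3 : A⁻¹ = A := inv_of_sq h.AA
  have e4 : Y * C = Y * A * (Y * B) := by rw [YC h, h.PR]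
  have e5 : C = A * (Y * B) := by
    apply mul_left_cancel (a := Y)
    rw [e4]; group
  rw [e5, ← mul_assoc, h.AA, one_mul]

theorem pX (h : Facts f t Y P R A B C) : F f [1] * (Y * B) = (P * R) * (Y * B) * F f [1] := by
  calc F f [1] * (Y * B) = (F f [1] * Y) * B := by group
    _ = Y * (F f [1] * B) := by rw [h.pY.eq]; group
    _ = (Y * C) * F f [1] := by rw [h.pB]; group
    _ = _ := by rw [YC h]

theorem rX (h : Facts f t Y P R A B C) : F f [3] * (Y * B) = (P * R) * (Y * B) * F f [3] := by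
  calc F f [3] * (Y * B) = (F f [3] * Y) * B := by group
    _ = Y * (F f [3] * B) := by rw [h.rY.eq]; group
    _ = (Y * C) * F f [3] := by rw [h.rB]; group
    _ = _ := by rw [YC h]

theorem dX (h : Facts f t Y P R A B C) : Commute (F f [2, 1, 3, 2]) (Y * B) := h.dY.mul_right h.dB
theorem yX (h : Facts f t Y P R A B C) : Commute (F f [0]) (Y * B) := h.yY.mul_right h.yB
theorem yZ (h : Facts f t Y P R A B C) : Commute (F f [0]) (P * R) := h.yP.mul_right h.yR
theorem pZ (h : Facts f t Y P R A B C) : Commute (F f [1]) (P * R) := h.pP.mul_right h.pR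
theorem rZ (h : Facts f t Y P R A B C) : Commute (F f [3]) (P * R) := h.rP.mul_right h.rR

theorem tX (h : Facts f t Y P R A B C) : t * (Y * B) * t = (Y * B) * F f [2, 1, 3, 2] := by
  have e1 : F f [0] * F f wB = F f [2, 1, 3, 2] := by
    rw [← F_append]; exact F_eq (by decide +kernel)
  calc t * (Y * B) * t = (t * Y * t) * (t * B * t) := by
        have : (t * Y * t) * (t * B * t) = t * Y * (t * t) * B * t := by group
        rw [this, h.tt]; group
    _ = Y * (F f [0] * B) * F f wB := by rw [h.tY, h.tB]; group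
    _ = Y * B * (F f [0] * F f wB) := by rw [h.yB.eq]; group
    _ = _ := by rw [e1]

theorem tZ (h : Facts f t Y P R A B C) : t * (P * R) * t = (P * R) * F f [1, 3] := by
  have e1 : F f [1] * F f [3] = F f [1, 3] := by rw [← F_append]; rfl
  calc t * (P * R) * t = (t * P * t) * (t * R * t) := by
        have : (t * P * t) * (t * R * t) = t * P * (t * t) * R * t := by group
        rw [this, h.tt]; group
    _ = P * (F f [1] * R) * F f [3] := by rw [h.tP, h.tR]; group
    _ = P * R * (F f [1] * F f [3]) := by rw [h.pR.eq]; group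
    _ = _ := by rw [e1]

theorem zZ (h : Facts f t Y P R A B C) : Commute (F f [1, 3]) (P * R) := by
  have e1 : F f [1] * F f [3] = F f [1, 3] := by rw [← F_append]; rfl
  rw [← e1]
  exact h.pZ.mul_left h.rZ

theorem zP (h : Facts f t Y P R A B C) : Commute (F f [1, 3]) P := by
  have e1 : F f [1] * F f [3] = F f [1, 3] := by rw [← F_append]; rfl
  rw [← e1]
  exact h.pP.mul_left h.rP

theorem zY (h : Facts f t Y P R A B C) : Commute (F f [1, 3]) Y := by
  have e1 : F f [1] * F f [3] = F f [1, 3] := by rw [← F_append]; rfl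
  rw [← e1]
  exact h.pY.mul_left h.rY

theorem zX (h : Facts f t Y P R A B C) : Commute (F f [1, 3]) (Y * B) := h.zY.mul_right h.zB

/-- `κ^t = κ z` -/
theorem tkappa (h : Facts f t Y P R A B C) :
    t * (P * (Y * B) * P * (Y * B)) * t = (P * (Y * B) * P * (Y * B)) * F f [1, 3] := by
  have hd : F f [2, 1, 3, 2] * F f [1] = F f [3] * F f [2, 1, 3, 2] := by
    rw [← F_append, ← F_append]; exact F_eq (by decide +kernel)
  have hpr : F f [1] * F f [3] = F f [1, 3] := by rw [← F_append]; rfl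
  have hRP : R = P * (P * R) := by rw [← mul_assoc, h.PP, one_mul]
  have hdd : F f [2, 1, 3, 2] * F f [2, 1, 3, 2] = 1 := F_sq (by decide +kernel)
  have tt := h.tt
  have tP := h.tP
  have tX := h.tX
  have pX := h.pX
  have rX := h.rX
  have dX := h.dX
  have dP := h.dP
  have pR := h.pR
  have pZ := h.pZ
  have cZX := h.cZX
  have ZZ := h.ZZ
  have cZP := h.cZP
  obtain ⟨Z, hZ⟩ : ∃ Z, Z = P * R := ⟨_, rfl⟩
  obtain ⟨X, hX⟩ : ∃ X, X = Y * B := ⟨_, rfl⟩
  rw [← hZ] at hRP pX rX pZ cZX ZZ cZP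
  rw [← hX] at tX pX rX dX cZX ⊢
  set p' := F f [1]
  set r' := F f [3]
  set d' := F f [2, 1, 3, 2]
  calc t * (P * X * P * X) * t = (t * P * t) * (t * X * t) * (t * P * t) * (t * X * t) := by
        have : (t * P * t) * (t * X * t) * (t * P * t) * (t * X * t) =
          t * (P * (t * t) * X * (t * t) * P * (t * t) * X) * t := by group
        rw [this, tt]; group
    _ = P * (p' * X) * (d' * P) * p' * X * d' := by rw [tP, tX]; group
    _ = P * Z * X * (p' * R) * (d' * p') * X * d' := by rw [pX, dP]; group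
    _ = P * Z * X * R * p' * r' * (d' * X) * d' := by rw [pR.eq, hd]; group
    _ = P * Z * X * R * p' * (r' * X) * (d' * d') := by rw [dX.eq]; group
    _ = P * Z * X * R * (p' * Z) * X * r' := by rw [rX, hdd]; group
    _ = P * Z * X * R * Z * (p' * X) * r' := by rw [pZ.eq]; group
    _ = P * Z * X * R * (Z * Z) * X * p' * r' := by rw [pX]; group
    _ = P * (Z * X) * P * (Z * X) * (p' * r') := by rw [ZZ, hRP]; group
    _ = P * X * (Z * P) * (X * Z) * F f [1, 3] := by rw [cZX.eq, hpr]; group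
    _ = P * X * P * (Z * X) * Z * F f [1, 3] := by rw [cZP.eq]; group
    _ = P * X * P * X * (Z * Z) * F f [1, 3] := by rw [cZX.eq]; group
    _ = _ := by rw [ZZ, mul_one]

end Facts

end Cfsg.Agent.CoThreeStd.Gamma
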