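import Cfsg.Agent.CoThreeStd.GammaKillData

set_option autoImplicit false
set_option maxRecDepth 100000

namespace Cfsg.Agent.CoThreeStd.GammaKillChk0

open Cfsg.Agent.SporadicRecognition.CosetCert Cfsg.Agent.Lib.CosetPartial Cfsg.Agent.CoThreeStd.GammaKillData

theorem c0 : PartP C 0 54 := runP_sound C (by decide +kernel : runP C 10 1023 0x40000000000020000000000000010000000000000000000000400000000000000000000000080000400000c30080040c00000000000110c00000000080000293004000000000000008020000000001000f30000214c000000000002004000091300123002c300000008020046300000000010000000000000000000200000000000000100013000000040000000000c300000000000000100000000000000020c00002a30040090e6300a73000000000000001000000000014c730080200000008000040000000008000000000002004000000300000008010000070c000080060c000080200263004000080000000000000080000400000000000000000000000040000000000008cc010000070c0014c02000020080290c000055340c0200000004007cc020000000002001e300000004002cc02002230000000283008000051340d43000016cc0200a1300800009230000068c010000070dd30000060c00000000000100000008000000100000008000000000000000000059300000000000000000000000010000000000000730000000000000010015300002000020000090c020055300002000000040010c0270c004cc020080200802002630051340d430040000000000000080034c00000020000000400000005cc00000000000000002008010000300000000000000000002000010056394c02000c30080000800000010000000a03008000092300000000010000000800000000040000000000020000034c03008010000238c000080020c020000000801008000080214c730000200800004022cc63000000040200002000c30000000893000010000038c020080020c020000000801000f30080214c730080000000008010000228c020080200002008020cc630040000802000020080108c1300803008020000210c020d42505405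 20 1048575 0x2b300000000000000000000000000000000000002d6000000000000000000007ec0700000000000000000000000009dc1700000000000000000000000000000000000000000000000000000000000000000000000000000000000000000000000000000000072137000000000000000000000000000000000000000020b670000000000 0 54 = true)

theorem all : PartP C 0 54 := c0

end Cfsg.Agent.CoThreeStd.GammaKillChk0
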