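import Cfsg.Agent.CoThreeStd.GammaSys

/-!
# S1750, pattern γ, the pure relation (helper781)
-/

set_option autoImplicit false

namespace Cfsg.Agent.CoThreeStd.Gamma

open Cfsg.Agent.CoThreeStd.MTwelve Cfsg.Agent.CoThreeStd.Fusion Cfsg.Agent.SporRec.Co3

variable {G : Type*} [Group G] {t : G} {f : H →* G} {L : H → G}

/-- `F l` is the element of `f H` given by the word `l` -/
def F (f : H →* G) (l : List ℕ) : G := f (wd l)

/-- `Lw l` is the involution attached to the word `l` -/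
def Lw (L : H → G) (l : List ℕ) : G := L (wd l)

theorem F_append (l l' : List ℕ) : F f (l ++ l') = F f l * F f l' := by rw [F, F, F, wd_append, map_mul]
theorem F_nil : F f [] = 1 := by rw [F, wd_nil, map_one]
theorem F_eq {l l' : List ℕ} (h : eqW l l' = true) : F f l = F f l' := by rw [F, F, wd_eq h]
theorem F_cons (i : ℕ) (l : List ℕ) : F f (i :: l) = F f [i] * F f l := by
  rw [← F_append]; rfl
theorem F_comm {l l' : List ℕ} (h : eqW (l ++ l') (l' ++ l) = true) : Commute (F f l) (F f l') := by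
  show F f l * F f l' = F f l' * F f l
  rw [← F_append, F_eq h, F_append]
theorem F_inj (c : Cx t f) {l l' : List ℕ} (h : F f l = F f l') : eqW l l' = true :=
  eqW_of_wd (c.inj h)
theorem F_sq {l : List ℕ} (h : eqW (l ++ l) [] = true) : F f l * F f l = 1 := by
  rw [← F_append, F_eq h, F_nil]

theorem F_t (c : Cx t f) (l : List ℕ) : Commute t (F f l) := (c.comm _).symm

namespace Sys

theorem cjw (S : Sys t f L) (m : List ℕ) {x x' : List ℕ} (h : eqW (cj x m) x' = true) :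
    (F f m)⁻¹ * Lw L x * F f m = Lw L x' := S.conj_wd x m x' h

theorem cmw (S : Sys t f L) (x m : List ℕ) (h : eqW (m ++ x) (x ++ m) = true) :
    Commute (F f m) (Lw L x) := S.comm_wd x m h

theorem tw (S : Sys t f L) (x m : List ℕ) (h : eqW (cj [0] m) x = true) :
    t * Lw L x * t = Lw L x * F f x := S.t_wd x m h

theorem sqw (S : Sys t f L) (x : List ℕ) : Lw L x * Lw L x = 1 := S.sq _

theorem eqw {x x' : List ℕ} (h : eqW x x' = true) : Lw L x = Lw L x' := by rw [Lw, Lw, wd_eq h]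

end Sys

/-- the elements of order 4 in the bad case -/
def X (t : G) (L : H → G) (l : List ℕ) : G := Lw L l * t

theorem X_sq (c : Cx t f) (S : Sys t f L) (l m : List ℕ) (h : eqW (cj [0] m) l = true) :
    X t L l * X t L l = F f l := by
  have h1 := S.tw l m h
  calc X t L l * X t L l = Lw L l * (t * Lw L l * t) := by rw [X]; group
    _ = (Lw L l * Lw L l) * F f l := by rw [h1]; group
    _ = F f l := by rw [S.sqw, one_mul]

theorem X_rel (c : Cx t f) (S : Sys t f L) (hb : L y * L s * L (y * s) = t * f s) (m l1 l2 l3 m1 m2 m3 : List ℕ)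
    (h1 : eqW (cj [0] m) l1 = true) (h2 : eqW (cj [4] m) l2 = true) (h3 : eqW (cj [0, 4] m) l3 = true)
    (k1 : eqW (cj [0] m1) l1 = true) (k2 : eqW (cj [0] m2) l2 = true) (k3 : eqW (cj [0] m3) l3 = true)
    (h4 : eqW (l2 ++ l3) (l3 ++ l2) = true) (h5 : eqW (l1 ++ l2) l3 = true) (h6 : eqW (l3 ++ l3) [] = true)
    (h7 : eqW (l2 ++ l2) [] = true) :
    X t L l1 * X t L l2 * X t L l3 = 1 ∧ Commute (X t L l1) (X t L l2) := by
  have e0 : Lw L l1 * Lw L l2 * Lw L l3 = t * F f l2 := by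
    have hb' : Lw L [0] * Lw L [4] * Lw L [0, 4] = t * F f [4] := by
      have e : wd [0, 4] = y * s := by rw [wd_cons, wd_s]; rfl
      rw [Lw, Lw, Lw, F, wd_y, wd_s, e]
      exact hb
    rw [← S.cjw m h1, ← S.cjw m h2, ← S.cjw m h3]
    have e1 : (F f m)⁻¹ * t = t * (F f m)⁻¹ := (F_t c m).symm.inv_left
    calc (F f m)⁻¹ * Lw L [0] * F f m * ((F f m)⁻¹ * Lw L [4] * F f m) * ((F f m)⁻¹ * Lw L [0, 4] * F f m)
        = (F f m)⁻¹ * (Lw L [0] * Lw L [4] * Lw L [0, 4]) * F f m := by group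
      _ = ((F f m)⁻¹ * t) * F f [4] * F f m := by rw [hb']; group
      _ = t * ((F f m)⁻¹ * F f [4] * F f m) := by rw [e1]; group
      _ = t * F f l2 := by
        rw [← F_eq h2, F, F, F, wd_cj, map_mul, map_mul, map_inv]
  have e1 : X t L l1 * X t L l2 * X t L l3 = 1 := by
    have c1 : F f l2 * Lw L l3 = Lw L l3 * F f l2 := S.cmw l3 l2 h4
    have c2 : F f l2 * F f l2 = 1 := F_sq h7
    calc X t L l1 * X t L l2 * X t L l3 = Lw L l1 * (t * Lw L l2 * t) * Lw L l3 * t := by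
          rw [X, X, X]; group
      _ = Lw L l1 * Lw L l2 * (F f l2 * Lw L l3) * t := by rw [S.tw l2 m2 k2]; group
      _ = (Lw L l1 * Lw L l2 * Lw L l3) * F f l2 * t := by rw [c1]; group
      _ = t * (F f l2 * F f l2) * t := by rw [e0]; group
      _ = 1 := by rw [c2, mul_one, c.tt]
  refine ⟨e1, ?_⟩
  have s1 := X_sq c S l1 m1 k1
  have s2 := X_sq c S l2 m2 k2
  have s3 := X_sq c S l3 m3 k3
  set x1 := X t L l1
  set x2 := X t L l2
  set x3 := X t L l3
  have e2 : x3 = (x1 * x2)⁻¹ := (inv_eq_of_mul_eq_one_right e1).symm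
  have e3 : (x1 * x2) * (x1 * x2) = (x1 * x1) * (x2 * x2) := by
    have e4 : (x1 * x2) * (x1 * x2) = (x3 * x3)⁻¹ := by rw [e2]; group
    have e5 : (F f l3)⁻¹ = F f l3 := inv_eq_of_mul_eq_one_left (F_sq h6)
    rw [e4, s3, s1, s2, e5, ← F_append, F_eq h5]
  have e6 : x1 * (x2 * x1) * x2 = x1 * (x1 * x2) * x2 := by
    calc x1 * (x2 * x1) * x2 = (x1 * x2) * (x1 * x2) := by group
      _ = (x1 * x1) * (x2 * x2) := e3
      _ = _ := by group
  exact (mul_left_cancel (mul_right_cancel e6)).symm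

theorem pure_one (c : Cx t f) (S : Sys t f L) : L y * L s * L (y * s) = 1 := by
  rcases pure c S with h | h
  · exact h
  exfalso
  -- classes
  obtain ⟨a1, b1⟩ := X_rel c S h [3, 2, 1, 4, 3, 2] [0] [1] [0, 1] [] [5, 1, 5, 2, 3, 5, 2] [5, 0, 1, 2, 5, 1, 5]
    (by decide +kernel) (by decide +kernel) (by decide +kernel) (by decide +kernel) (by decide +kernel)
    (by decide +kernel) (by decide +kernel) (by decide +kernel) (by decide +kernel) (by decide +kernel)
  obtain ⟨a2, b2⟩ := X_rel c S h [3, 4] [0] [3] [0, 3] [] [5, 0, 5, 0, 3, 5] [5, 3, 2, 5, 1, 5]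
    (by decide +kernel) (by decide +kernel) (by decide +kernel) (by decide +kernel) (by decide +kernel)
    (by decide +kernel) (by decide +kernel) (by decide +kernel) (by decide +kernel) (by decide +kernel)
  obtain ⟨a3, b3⟩ := X_rel c S h [5, 1, 5, 0, 2, 5, 2] [1] [0, 3] [0, 1, 3] [5, 1, 5, 2, 3, 5, 2]
    [5, 3, 2, 5, 1, 5] [5, 0, 1, 3, 5, 2, 4]
    (by decide +kernel) (by decide +kernel) (by decide +kernel) (by decide +kernel) (by decide +kernel)
    (by decide +kernel) (by decide +kernel) (by decide +kernel) (by decide +kernel) (by decide +kernel)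
  obtain ⟨a4, b4⟩ := X_rel c S h [5, 0, 5, 0, 2, 5, 3, 2] [3] [0, 1] [0, 1, 3] [5, 0, 5, 0, 3, 5]
    [5, 0, 1, 2, 5, 1, 5] [5, 0, 1, 3, 5, 2, 4]
    (by decide +kernel) (by decide +kernel) (by decide +kernel) (by decide +kernel) (by decide +kernel)
    (by decide +kernel) (by decide +kernel) (by decide +kernel) (by decide +kernel) (by decide +kernel)
  have s1 := X_sq c S [1] [5, 1, 5, 2, 3, 5, 2] (by decide +kernel)
  have s3 := X_sq c S [3] [5, 0, 5, 0, 3, 5] (by decide +kernel)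
  set xy := X t L [0]
  set xp := X t L [1]
  set xr := X t L [3]
  set xyp := X t L [0, 1]
  set xyr := X t L [0, 3]
  set xyz := X t L [0, 1, 3]
  have e1 : xyp = (xy * xp)⁻¹ := (inv_eq_of_mul_eq_one_right a1).symm
  have e2 : xyr = (xy * xr)⁻¹ := (inv_eq_of_mul_eq_one_right a2).symm
  have e3 : xp * xyr = xr * xyp := by
    have e4 : xyz = (xp * xyr)⁻¹ := (inv_eq_of_mul_eq_one_right a3).symm
    have e5 : xyz = (xr * xyp)⁻¹ := (inv_eq_of_mul_eq_one_right a4).symm
    exact inv_injective (e4.symm.trans e5)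
  have cpr : Commute xp xr := by
    have c1 : Commute xp xyr := b3
    have c2 : Commute xp xy := b1.symm
    have e6 : xr = xy⁻¹ * xyr⁻¹ := by rw [e2]; group
    rw [e6]
    exact c2.inv_right.mul_right c1.inv_right
  have e7 : xp * xr⁻¹ = xr * xp⁻¹ := by
    rw [e1, e2] at e3
    have e8 : xp * xr⁻¹ * xy⁻¹ = xr * xp⁻¹ * xy⁻¹ := by
      calc xp * xr⁻¹ * xy⁻¹ = xp * (xy * xr)⁻¹ := by group
        _ = xr * (xy * xp)⁻¹ := e3
        _ = _ := by group
    exact mul_right_cancel e8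
  have e9 : xp * xp = xr * xr := by
    calc xp * xp = (xp * xr⁻¹) * (xr * xp) := by group
      _ = (xr * xp⁻¹) * (xp * xr) := by rw [e7, cpr.eq]
      _ = xr * xr := by group
  rw [s1, s3] at e9
  exact absurd (F_inj c e9) (by decide +kernel)

/-- pure pairs -/
theorem pt (c : Cx t f) (S : Sys t f L) (m : List ℕ) {l1 l2 l3 : List ℕ}
    (h1 : eqW (cj [0] m) l1 = true) (h2 : eqW (cj [4] m) l2 = true) (h3 : eqW (cj [0, 4] m) l3 = true) :
    Lw L l1 * Lw L l2 = Lw L l3 ∧ Commute (Lw L l1) (Lw L l2) := by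
  have e0 : Lw L l1 * Lw L l2 * Lw L l3 = 1 := by
    have hb' : Lw L [0] * Lw L [4] * Lw L [0, 4] = 1 := by
      have e : wd [0, 4] = y * s := by rw [wd_cons, wd_s]; rfl
      rw [Lw, Lw, Lw, wd_y, wd_s, e]
      exact pure_one c S
    rw [← S.cjw m h1, ← S.cjw m h2, ← S.cjw m h3]
    calc (F f m)⁻¹ * Lw L [0] * F f m * ((F f m)⁻¹ * Lw L [4] * F f m) * ((F f m)⁻¹ * Lw L [0, 4] * F f m)
        = (F f m)⁻¹ * (Lw L [0] * Lw L [4] * Lw L [0, 4]) * F f m := by group
      _ = 1 := by rw [hb']; group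
  have e1 : Lw L l1 * Lw L l2 = Lw L l3 := by
    calc Lw L l1 * Lw L l2 = (Lw L l1 * Lw L l2 * Lw L l3) * (Lw L l3)⁻¹ := by group
      _ = (Lw L l3)⁻¹ := by rw [e0, one_mul]
      _ = _ := inv_eq_of_mul_eq_one_left (S.sqw _)
  refine ⟨e1, ?_⟩
  have s1 := S.sqw l1
  have s2 := S.sqw l2
  have s3 : (Lw L l1 * Lw L l2) * (Lw L l1 * Lw L l2) = 1 := by rw [e1, S.sqw]
  set a := Lw L l1
  set b := Lw L l2
  show a * b = b * a
  have i1 : a⁻¹ = a := inv_eq_of_mul_eq_one_left s1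
  have i2 : b⁻¹ = b := inv_eq_of_mul_eq_one_left s2
  calc a * b = (a * b)⁻¹ := eq_inv_of_mul_eq_one_left s3
    _ = _ := by rw [mul_inv_rev, i1, i2]

end Cfsg.Agent.CoThreeStd.Gamma
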