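import Cfsg.Agent.CoThreeStd.GammaAut

/-!
# S1750, pattern γ, the involutions `L e` (helper781)

`L (y^m) = g^m` for `g` as in `exists_g`. The pure relation: `L e₁ · L e₂ = L (e₁ e₂)` when `(e₁, e₂)` is conjugate
to `(y, s)`.
-/

set_option autoImplicit false

namespace Cfsg.Agent.CoThreeStd.Gamma

open Cfsg.Agent.CoThreeStd.MTwelve Cfsg.Agent.CoThreeStd.Fusion Cfsg.Agent.SporRec.Co3

variable {G : Type*} [Group G] {t : G} {f : H →* G} {L : H → G}

/-- The involutions `L e`, `e ∈ 2A`. -/
structure Sys (t : G) (f : H →* G) (L : H → G) : Prop where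
  conj : ∀ e m, (f m)⁻¹ * L e * f m = L (m⁻¹ * e * m)
  sq : ∀ e, L e * L e = 1
  tt : ∀ e, (∃ m, m⁻¹ * y * m = e) → t * L e * t = L e * f e

theorem exists_L (c : Cx t f) {g : G} (h1 : g * g = 1) (h2 : g * t * g⁻¹ = t * f y)
    (h3 : ∀ m, m * y = y * m → f m * g = g * f m) : ∃ L, Sys t f L := by
  classical
  let L : H → G := fun e => if h : ∃ m, m⁻¹ * y * m = e then (f h.choose)⁻¹ * g * f h.choose else 1
  have hL : ∀ e m, m⁻¹ * y * m = e → L e = (f m)⁻¹ * g * f m := by
    intro e m hm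
    have h : ∃ m, m⁻¹ * y * m = e := ⟨m, hm⟩
    have e1 : L e = (f h.choose)⁻¹ * g * f h.choose := dif_pos h
    rw [e1]
    have h4 : h.choose⁻¹ * y * h.choose = m⁻¹ * y * m := h.choose_spec.trans hm.symm
    set n := h.choose
    have h5 : (m * n⁻¹) * y = y * (m * n⁻¹) := by
      calc (m * n⁻¹) * y = m * (n⁻¹ * y * n) * n⁻¹ := by group
        _ = m * (m⁻¹ * y * m) * n⁻¹ := by rw [h4]
        _ = _ := by group
    have h6 := h3 _ h5
    rw [map_mul, map_inv] at h6
    calc (f n)⁻¹ * g * f n = (f m)⁻¹ * (f m * (f n)⁻¹ * g) * f n := by group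
      _ = (f m)⁻¹ * (g * (f m * (f n)⁻¹)) * f n := by rw [h6]
      _ = _ := by group
  have hL' : ∀ e, ¬ (∃ m, m⁻¹ * y * m = e) → L e = 1 := fun e h => dif_neg h
  have hgt : g * t * g = t * f y := by
    have e : g⁻¹ = g := inv_eq_of_mul_eq_one_left h1
    rw [← h2, e]
  refine ⟨L, ⟨?_, ?_, ?_⟩⟩
  · intro e m
    by_cases h : ∃ m, m⁻¹ * y * m = e
    · obtain ⟨n, rfl⟩ := h
      rw [hL _ n rfl, hL (m⁻¹ * (n⁻¹ * y * n) * m) (n * m) (by group), map_mul]
      group
    · have h' : ¬ ∃ n, n⁻¹ * y * n = m⁻¹ * e * m := by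
        rintro ⟨n, hn⟩
        apply h
        refine ⟨n * m⁻¹, ?_⟩
        calc (n * m⁻¹)⁻¹ * y * (n * m⁻¹) = m * (n⁻¹ * y * n) * m⁻¹ := by group
          _ = e := by rw [hn]; group
      rw [hL' _ h, hL' _ h']
      group
  · intro e
    by_cases h : ∃ m, m⁻¹ * y * m = e
    · obtain ⟨n, rfl⟩ := h
      rw [hL _ n rfl]
      calc (f n)⁻¹ * g * f n * ((f n)⁻¹ * g * f n) = (f n)⁻¹ * (g * g) * f n := by group
        _ = 1 := by rw [h1]; group
    · rw [hL' _ h, one_mul]
  · rintro e ⟨n, rfl⟩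
    rw [hL _ n rfl, map_mul, map_mul, map_inv]
    have h4 : t * (f n)⁻¹ = (f n)⁻¹ * t := by rw [← map_inv]; exact (c.comm _).symm
    have h5 : t * g * t = g * f y := by
      calc t * g * t = (g * g) * (t * g * t) := by rw [h1, one_mul]
        _ = g * (g * t * g) * t := by group
        _ = g * (t * f y) * t := by rw [hgt]
        _ = g * t * (f y * t) := by group
        _ = g * (t * t) * f y := by rw [c.comm]; group
        _ = _ := by rw [c.tt, mul_one]
    calc t * ((f n)⁻¹ * g * f n) * t = (t * (f n)⁻¹) * g * (f n * t) := by group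
      _ = (f n)⁻¹ * (t * g * t) * f n := by rw [h4, c.comm]; group
      _ = (f n)⁻¹ * (g * f y) * f n := by rw [h5]
      _ = _ := by group

namespace Sys

theorem comm (S : Sys t f L) {e m : H} (h : m * e = e * m) : f m * L e = L e * f m := by
  have h1 := S.conj e m
  have h2 : m⁻¹ * e * m = e := by rw [mul_assoc, ← h]; group
  rw [h2] at h1
  calc f m * L e = f m * ((f m)⁻¹ * L e * f m) := by rw [h1]
    _ = _ := by group

theorem conj_wd (S : Sys t f L) (x m x' : List ℕ) (h : eqW (cj x m) x' = true) :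
    (f (wd m))⁻¹ * L (wd x) * f (wd m) = L (wd x') := by
  rw [S.conj, ← wd_cj, wd_eq h]

theorem comm_wd (S : Sys t f L) (x m : List ℕ) (h : eqW (m ++ x) (x ++ m) = true) :
    Commute (f (wd m)) (L (wd x)) := by
  apply S.comm
  rw [← wd_append, wd_eq h, wd_append]

theorem t_wd (S : Sys t f L) (x m : List ℕ) (h : eqW (cj [0] m) x = true) :
    t * L (wd x) * t = L (wd x) * f (wd x) := by
  apply S.tt
  exact ⟨wd m, by rw [← wd_y, ← wd_cj, wd_eq h]⟩

end Sys

/-- two elements of `2A` -/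
theorem sigma_cases : ∀ σ : P5, σ * Equiv.swap 3 4 = Equiv.swap 3 4 * σ →
    σ * (Equiv.swap 0 1 * Equiv.swap 1 2) = (Equiv.swap 0 1 * Equiv.swap 1 2) * σ →
    σ * (Equiv.swap 0 1 * Equiv.swap 3 4) = (Equiv.swap 0 1 * Equiv.swap 3 4) * σ →
    σ = 1 ∨ σ = Equiv.swap 3 4 := by
  decide +kernel

/-- The product `u = L y · L s · L (ys)`. -/
theorem pure (c : Cx t f) (S : Sys t f L) :
    L y * L s * L (y * s) = 1 ∨ L y * L s * L (y * s) = t * f s := by
  set u := L y * L s * L (y * s) with hu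
  have ety : t * L y * t = L y * f y := S.tt _ ⟨1, by group⟩
  have ets : t * L s * t = L s * f s := S.tt _ ⟨wd wdD, d_y⟩
  have etys : t * L (y * s) * t = L (y * s) * f (y * s) := by
    apply S.tt
    refine ⟨wd wdD * wd wdD, ?_⟩
    calc (wd wdD * wd wdD)⁻¹ * y * (wd wdD * wd wdD) = (wd wdD)⁻¹ * ((wd wdD)⁻¹ * y * wd wdD) * wd wdD := by group
      _ = _ := by rw [d_y, d_s]
  have tt := c.tt
  have hyy : f y * f y = 1 := by rw [← map_mul, y_sq, map_one]
  have hss : f s * f s = 1 := by rw [← map_mul, s_sq, map_one]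
  -- commutation of `f m` with the three
  have hcm : ∀ m : H, m * y = y * m → m * s = s * m → Commute (f m) u := by
    intro m h1 h2
    have h3 : m * (y * s) = (y * s) * m := by rw [← mul_assoc, h1, mul_assoc, h2, mul_assoc]
    have e1 : Commute (f m) (L y) := S.comm h1
    have e2 : Commute (f m) (L s) := S.comm h2
    have e3 : Commute (f m) (L (y * s)) := S.comm h3
    exact (e1.mul_right e2).mul_right e3
  have hys : y * s = s * y := ys_comm
  have cyy : Commute (f y) (L y) := S.comm rfl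
  have cys : Commute (f y) (L s) := S.comm hys
  have csy : Commute (f s) (L y) := S.comm hys.symm
  have cyys : Commute (f y) (L (y * s)) := S.comm (by rw [mul_assoc y s y, ← hys])
  have csys : Commute (f s) (L (y * s)) := S.comm (by rw [← mul_assoc, ← hys])
  have hut : u * t = t * u := by
    have h1 : t * u * t = u := by
      have e1 : Commute (f s) (L (y * s) * f (y * s)) := by
        apply csys.mul_right
        show f s * f (y * s) = f (y * s) * f s
        rw [← map_mul, ← map_mul, ← mul_assoc, ← hys]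
      calc t * u * t = (t * L y * t) * (t * L s * t) * (t * L (y * s) * t) := by
            have : ∀ a b e : G, (t * a * t) * (t * b * t) * (t * e * t) = t * (a * (t * t) * b * (t * t) * e) * t := by
              intros; group
            rw [this, tt, hu]; group
        _ = L y * (f y * L s) * f s * L (y * s) * f (y * s) := by rw [ety, ets, etys]; group
        _ = L y * L s * f y * (f s * (L (y * s) * f (y * s))) := by rw [cys.eq]; group
        _ = L y * L s * (f y * L (y * s)) * f (y * s) * f s := by rw [e1.eq]; group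
        _ = u * (f (y * (y * s) * s)) := by rw [cyys.eq, hu]; simp only [map_mul, mul_assoc]
        _ = u := by
          have : y * (y * s) * s = 1 := by rw [← mul_assoc, y_sq, one_mul, s_sq]
          rw [this, map_one, mul_one]
    calc u * t = t * t * (u * t) := by rw [tt, one_mul]
      _ = t * (t * u * t) := by group
      _ = _ := by rw [h1]
  have huy : u * f y = f y * u := (hcm y rfl hys).eq.symm
  have hus : f s * u = u * f s := (hcm s hys.symm rfl).eq
  obtain ⟨σ, v, hv, hσ⟩ := decomp2 c hut huy (τ := Equiv.swap 3 4) (Equiv.Perm.sign_swap (by decide))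
    (by rw [w_s]; exact hus.symm)
  -- commutation of `σ`
  have hστ : ∀ τ : P5, Commute (f (w τ)) u → σ * τ = τ * σ := by
    intro τ hτ
    have h4 := hτ.eq
    rw [hσ] at h4
    have h5 : v * f (w (τ * σ)) = v * f (w (σ * τ)) := by
      rw [map_mul, map_mul, map_mul, map_mul, ← mul_assoc, inV_comm_w c hv, mul_assoc, h4, mul_assoc]
    exact (w_injective (c.inj (mul_left_cancel h5))).symm
  have hwc : ∀ τ : P5, τ * Equiv.swap 3 4 = Equiv.swap 3 4 * τ → Commute (f (w τ)) u := by
    intro τ h1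
    apply hcm _ (y_comm τ).symm
    rw [← w_s, ← map_mul, h1, map_mul]
  have hσ2 := sigma_cases σ (hστ _ (hwc _ rfl)) (hστ _ (hwc _ (by decide +kernel)))
    (hστ _ (hwc _ (by decide +kernel)))
  have hu2 : ∃ n : List ℕ, (n = [] ∨ n = [0] ∨ n = [4] ∨ n = [0, 4]) ∧ (u = f (wd n) ∨ u = t * f (wd n)) := by
    rcases inV_cases c hv with h5 | h5 | h5 | h5 <;> rcases hσ2 with h6 | h6
    · exact ⟨[], by simp, Or.inl (by rw [hσ, h5, h6, wd_nil, map_one, one_mul])⟩
    · exact ⟨[4], by simp, Or.inl (by rw [hσ, h5, h6, wd_s, w_s, one_mul])⟩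
    · exact ⟨[], by simp, Or.inr (by rw [hσ, h5, h6, wd_nil, map_one])⟩
    · exact ⟨[4], by simp, Or.inr (by rw [hσ, h5, h6, wd_s, w_s])⟩
    · exact ⟨[0], by simp, Or.inl (by rw [hσ, h5, h6, wd_y, map_one, map_one, mul_one])⟩
    · exact ⟨[0, 4], by simp, Or.inl (by rw [hσ, h5, h6, wd_cons, wd_s, w_s, map_mul]; rfl)⟩
    · exact ⟨[0], by simp, Or.inr (by rw [hσ, h5, h6, wd_y, map_one, map_one, mul_one])⟩
    · exact ⟨[0, 4], by simp, Or.inr (by rw [hσ, h5, h6, wd_cons, wd_s, w_s, map_mul]; rw [mul_assoc]; rfl)⟩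
  -- the relation `L y · u · L y = u ^ d`
  have hd : (f (wd wdD))⁻¹ * u * f (wd wdD) = L y * u * L y := by
    have e1 : (f (wd wdD))⁻¹ * L y * f (wd wdD) = L s := by rw [S.conj, d_y]
    have e2 : (f (wd wdD))⁻¹ * L s * f (wd wdD) = L (y * s) := by rw [S.conj, d_s]
    have e3 : (f (wd wdD))⁻¹ * L (y * s) * f (wd wdD) = L y := by rw [S.conj, d_ys]
    calc (f (wd wdD))⁻¹ * u * f (wd wdD) = ((f (wd wdD))⁻¹ * L y * f (wd wdD)) *
          ((f (wd wdD))⁻¹ * L s * f (wd wdD)) * ((f (wd wdD))⁻¹ * L (y * s) * f (wd wdD)) := by rw [hu]; group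
      _ = L s * L (y * s) * L y := by rw [e1, e2, e3]
      _ = (L y * L y) * L s * L (y * s) * L y := by rw [S.sq, one_mul]
      _ = _ := by rw [hu]; group
  have hLt : L y * t * L y = t * f y := by
    calc L y * t * L y = L y * (t * L y * t) * t⁻¹ := by group
      _ = (L y * L y) * f y * t⁻¹ := by rw [ety]; group
      _ = f y * t := by rw [S.sq, one_mul, c.inv_t]
      _ = _ := c.comm y
  have hLn : ∀ n : H, n * y = y * n → L y * f n * L y = f n := by
    intro n hn
    have e1 : f n * L y = L y * f n := S.comm hn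
    rw [mul_assoc, e1, ← mul_assoc, S.sq, one_mul]
  have hn0 : ∀ n : List ℕ, (n = [] ∨ n = [0] ∨ n = [4] ∨ n = [0, 4]) → wd n * y = y * wd n := by
    intro n hn
    rw [← wd_y, ← wd_append, ← wd_append]
    apply wd_eq
    rcases hn with rfl | rfl | rfl | rfl <;> decide +kernel
  have hft : (f (wd wdD))⁻¹ * t = t * (f (wd wdD))⁻¹ := by rw [← map_inv]; exact c.comm _
  have key0 : ∀ n : List ℕ, (n = [] ∨ n = [0] ∨ n = [4] ∨ n = [0, 4]) → u = f (wd n) → wd (cj n wdD) = wd n := by
    intro n hn h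
    rw [h, hLn _ (hn0 n hn)] at hd
    apply c.inj
    rw [wd_cj, map_mul, map_mul, map_inv]
    exact hd
  have key1 : ∀ n : List ℕ, (n = [] ∨ n = [0] ∨ n = [4] ∨ n = [0, 4]) → u = t * f (wd n) →
      wd (cj n wdD) = wd ([0] ++ n) := by
    intro n hn h
    have e1 : (f (wd wdD))⁻¹ * (t * f (wd n)) * f (wd wdD) = t * f (wd (cj n wdD)) := by
      rw [wd_cj, map_mul, map_mul, map_inv]
      calc (f (wd wdD))⁻¹ * (t * f (wd n)) * f (wd wdD) = ((f (wd wdD))⁻¹ * t) * f (wd n) * f (wd wdD) := by group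
        _ = _ := by rw [hft]; group
    have e2 : L y * (t * f (wd n)) * L y = t * f (wd ([0] ++ n)) := by
      have e3 : f (wd n) * L y = L y * f (wd n) := S.comm (hn0 n hn)
      calc L y * (t * f (wd n)) * L y = L y * t * (f (wd n) * L y) := by group
        _ = (L y * t * L y) * f (wd n) := by rw [e3]; group
        _ = _ := by rw [hLt, wd_append, wd_y, map_mul]; group
    rw [h, e1, e2] at hd
    exact c.inj (mul_left_cancel hd)
  obtain ⟨n, hn, h⟩ := hu2
  rcases h with h | h
  · left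
    have h1 := eqW_of_wd (key0 n hn h)
    rcases hn with rfl | rfl | rfl | rfl
    · rw [h, wd_nil, map_one]
    · exact absurd h1 (by decide +kernel)
    · exact absurd h1 (by decide +kernel)
    · exact absurd h1 (by decide +kernel)
  · right
    have h1 := eqW_of_wd (key1 n hn h)
    rcases hn with rfl | rfl | rfl | rfl
    · exact absurd h1 (by decide +kernel)
    · exact absurd h1 (by decide +kernel)
    · rw [h, wd_s]
    · exact absurd h1 (by decide +kernel)

end Cfsg.Agent.CoThreeStd.Gamma
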