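import Cfsg.Agent.CoThreeStd.GammaPure

/-!
# S1750, pattern γ, the elements `Z`, `X` and the relation `ζ = 1` (helper781)
-/

set_option autoImplicit false

namespace Cfsg.Agent.CoThreeStd.Gamma

open Cfsg.Agent.CoThreeStd.MTwelve Cfsg.Agent.CoThreeStd.Fusion Cfsg.Agent.SporRec.Co3

variable {G : Type*} [Group G] {t : G} {f : H →* G} {L : H → G}

theorem inv_of_sq {K : Type*} [Group K] {a : K} (h : a * a = 1) : a⁻¹ = a := inv_eq_of_mul_eq_one_left h

/-- `y` commutes with `p` -/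
theorem base (c : Cx t f) (S : Sys t f L) : Commute (Lw L [0]) (Lw L [1]) ∧ Commute (Lw L [0]) (Lw L [3]) ∧
    Commute (Lw L [1]) (Lw L [3]) ∧ Lw L [1] * Lw L [3] = Lw L [0] * Lw L [0, 1, 3] ∧
    Commute (Lw L [0]) (Lw L [0, 1, 3]) := by
  obtain ⟨-, b1⟩ := pt c S [3, 2, 1, 4, 3, 2] (l1 := [0]) (l2 := [1]) (l3 := [0, 1])
    (by decide +kernel) (by decide +kernel) (by decide +kernel)
  obtain ⟨a2, b2⟩ := pt c S [3, 4] (l1 := [0]) (l2 := [3]) (l3 := [0, 3])
    (by decide +kernel) (by decide +kernel) (by decide +kernel)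
  obtain ⟨a3, b3⟩ := pt c S [5, 1, 5, 0, 2, 5, 2] (l1 := [1]) (l2 := [0, 3]) (l3 := [0, 1, 3])
    (by decide +kernel) (by decide +kernel) (by decide +kernel)
  have sy := S.sqw [0]
  set Y := Lw L [0]
  set P := Lw L [1]
  set R := Lw L [3]
  rw [← a2] at b3 a3
  have e1 : P * R = Y * Lw L [0, 1, 3] := by
    rw [← a3]
    calc P * R = (Y * Y) * P * R := by rw [sy, one_mul]
      _ = Y * (Y * P) * R := by group
      _ = Y * (P * Y) * R := by rw [b1.eq]
      _ = _ := by group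
  have cPR : Commute P R := by
    have e : R = Y⁻¹ * (Y * R) := by group
    rw [e]
    exact b1.symm.inv_right.mul_right b3
  refine ⟨b1, b2, cPR, e1, ?_⟩
  have e2 : Lw L [0, 1, 3] = Y⁻¹ * (P * R) := by rw [e1]; group
  rw [e2]
  exact ((Commute.refl Y).inv_right).mul_right (b1.mul_right b2)

theorem conj_comm {a b x y m : G} (h : Commute a b) (h1 : m⁻¹ * a * m = x) (h2 : m⁻¹ * b * m = y) :
    Commute x y := by
  subst h1 h2
  show m⁻¹ * a * m * (m⁻¹ * b * m) = m⁻¹ * b * m * (m⁻¹ * a * m)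
  calc m⁻¹ * a * m * (m⁻¹ * b * m) = m⁻¹ * (a * b) * m := by group
    _ = m⁻¹ * (b * a) * m := by rw [h.eq]
    _ = _ := by group

theorem cp (c : Cx t f) (S : Sys t f L) (m : List ℕ) {l1 l2 : List ℕ}
    (h1 : eqW (cj [1] m) l1 = true) (h2 : eqW (cj [3] m) l2 = true) : Commute (Lw L l1) (Lw L l2) :=
  conj_comm (base c S).2.2.1 (S.cjw m h1) (S.cjw m h2)

theorem cya (c : Cx t f) (S : Sys t f L) (m : List ℕ) {l1 l2 : List ℕ}
    (h1 : eqW (cj [0] m) l1 = true) (h2 : eqW (cj [0, 1, 3] m) l2 = true) : Commute (Lw L l1) (Lw L l2) :=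
  conj_comm (base c S).2.2.2.2 (S.cjw m h1) (S.cjw m h2)

theorem hrel (c : Cx t f) (S : Sys t f L) (m : List ℕ) {l1 l2 l3 l4 : List ℕ}
    (h1 : eqW (cj [1] m) l1 = true) (h2 : eqW (cj [3] m) l2 = true) (h3 : eqW (cj [0] m) l3 = true)
    (h4 : eqW (cj [0, 1, 3] m) l4 = true) : Lw L l1 * Lw L l2 = Lw L l3 * Lw L l4 := by
  rw [← S.cjw m h1, ← S.cjw m h2, ← S.cjw m h3, ← S.cjw m h4]
  have h := (base c S).2.2.2.1
  calc (F f m)⁻¹ * Lw L [1] * F f m * ((F f m)⁻¹ * Lw L [3] * F f m)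
      = (F f m)⁻¹ * (Lw L [1] * Lw L [3]) * F f m := by group
    _ = (F f m)⁻¹ * (Lw L [0] * Lw L [0, 1, 3]) * F f m := by rw [h]
    _ = _ := by group

/-- words for `yz`, `yd'`, `yd''` -/
def wA : List ℕ := [0, 1, 3]
def wB : List ℕ := [0, 2, 1, 3, 2]
def wC : List ℕ := [0, 3, 2, 1, 3, 2, 3]

theorem sigma_one : ∀ σ : P5, σ * Equiv.swap 1 2 = Equiv.swap 1 2 * σ →
    σ * Equiv.swap 2 3 = Equiv.swap 2 3 * σ →
    σ * (Equiv.swap 0 1 * Equiv.swap 2 3) = (Equiv.swap 0 1 * Equiv.swap 2 3) * σ → σ = 1 := by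
  decide +kernel

/-- from commutation with `F (w τ)` to commutation in the symmetric group -/
theorem comm_sigma (c : Cx t f) {u v : G} (hv : inV t f v) {σ : P5} (hσ : u = v * f (w σ)) {τ : P5}
    (hτ : Commute (f (w τ)) u) : σ * τ = τ * σ := by
  have h4 := hτ.eq
  rw [hσ] at h4
  have h5 : v * f (w (τ * σ)) = v * f (w (σ * τ)) := by
    rw [map_mul, map_mul, map_mul, map_mul, ← mul_assoc, inV_comm_w c hv, mul_assoc, h4, mul_assoc]
  exact (w_injective (c.inj (mul_left_cancel h5))).symm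

theorem ne_one_of_t (c : Cx t f) (S : Sys t f L) : ¬ Commute (Lw L [0]) t := by
  intro h
  have h1 := S.tw [0] [] (by decide +kernel)
  have h2 : Lw L [0] * F f [0] = Lw L [0] * F f [] := by
    rw [← h1, F_nil, mul_one, ← h.eq, mul_assoc, c.tt, mul_one]
  exact absurd (F_inj c (mul_left_cancel h2)) (by decide +kernel)

/-- an element of `⟨t, y⟩` commuting with `L y` is `1` or `y` -/
theorem inV_commL (c : Cx t f) (S : Sys t f L) {v : G} (hv : inV t f v) (h : Commute (Lw L [0]) v) :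
    v = 1 ∨ v = F f [0] := by
  have h0 := ne_one_of_t c S
  have hc : Commute (Lw L [0]) (F f [0]) := (S.cmw [0] [0] (by decide +kernel)).symm
  rcases inV_cases c hv with h5 | h5 | h5 | h5
  · exact Or.inl h5
  · rw [h5] at h; exact absurd h h0
  · right; rw [h5, F, wd_y]
  · exfalso
    apply h0
    have e : t = v * (F f [0])⁻¹ := by rw [h5, F, wd_y]; group
    rw [e]
    exact h.mul_right hc.inv_right

theorem comms (c : Cx t f) (S : Sys t f L) : Commute (Lw L [0]) (Lw L wA) ∧ Commute (Lw L [0]) (Lw L wB) ∧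
    Commute (Lw L [0]) (Lw L wC) ∧ Commute (Lw L wA) (Lw L wB) ∧ Commute (Lw L wA) (Lw L wC) ∧
    Commute (Lw L wB) (Lw L wC) :=
  ⟨cya c S [] (by decide +kernel) (by decide +kernel), cya c S [2] (by decide +kernel) (by decide +kernel),
    cya c S [2, 3] (by decide +kernel) (by decide +kernel),
    cp c S [5, 2, 4, 5, 2, 1] (by decide +kernel) (by decide +kernel),
    cp c S [5, 2, 4, 5, 2, 1, 3] (by decide +kernel) (by decide +kernel),
    cp c S [5, 2, 4, 5, 2, 1, 3, 2] (by decide +kernel) (by decide +kernel)⟩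

set_option maxHeartbeats 1000000 in
/-- `ζ = 1` -/
theorem zeta (c : Cx t f) (S : Sys t f L) : Lw L [0] * Lw L wA * Lw L wB * Lw L wC = 1 := by
  obtain ⟨c1, c2, c3, c4, c5, c6⟩ := comms c S
  obtain ⟨b1, b2, b3, b4, b5⟩ := base c S
  have t0 := S.tw [0] [] (by decide +kernel)
  have tA := S.tw wA [5, 0, 1, 3, 5, 2, 4] (by decide +kernel)
  have tB := S.tw wB [5, 0, 1, 3, 5, 4] (by decide +kernel)
  have tC := S.tw wC [5, 0, 1, 3, 5, 1, 4] (by decide +kernel)
  -- the conjugation by `ρ`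
  have r0 := S.cjw (x := [0]) (x' := [1]) [5, 1, 5, 2, 3, 5, 2, 4] (by decide +kernel)
  have rA := S.cjw (x := wA) (x' := [3]) [5, 1, 5, 2, 3, 5, 2, 4] (by decide +kernel)
  have rB := S.cjw (x := wB) (x' := cj wB [5, 1, 5, 2, 3, 5, 2, 4]) [5, 1, 5, 2, 3, 5, 2, 4] (by decide +kernel)
  have rC := S.cjw (x := wC) (x' := cj wC [5, 1, 5, 2, 3, 5, 2, 4]) [5, 1, 5, 2, 3, 5, 2, 4] (by decide +kernel)
  have hBC := hrel c S [5, 2, 4, 5, 0] (l1 := wB) (l2 := wC) (l3 := cj wB [5, 1, 5, 2, 3, 5, 2, 4])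
    (l4 := cj wC [5, 1, 5, 2, 3, 5, 2, 4]) (by decide +kernel) (by decide +kernel) (by decide +kernel)
    (by decide +kernel)
  -- commutations with `f H`
  have fy0 := S.cmw [0] [0] (by decide +kernel)
  have fyA := S.cmw wA [0] (by decide +kernel)
  have fyB := S.cmw wB [0] (by decide +kernel)
  have fyC := S.cmw wC [0] (by decide +kernel)
  have fz0 := S.cmw [0] [1, 3] (by decide +kernel)
  have fzA := S.cmw wA [1, 3] (by decide +kernel)
  have fzB := S.cmw wB [1, 3] (by decide +kernel)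
  have fzC := S.cmw wC [1, 3] (by decide +kernel)
  have fAB := S.cmw wB wA (by decide +kernel)
  have fAC := S.cmw wC wA (by decide +kernel)
  have fBC := S.cmw wC wB (by decide +kernel)
  have f0A := S.cmw wA [0] (by decide +kernel)
  have q0 := S.cmw [0] [2] (by decide +kernel)
  have qA := S.cjw (x := wA) (x' := wB) [2] (by decide +kernel)
  have qB := S.cjw (x := wB) (x' := wA) [2] (by decide +kernel)
  have qC := S.cmw wC [2] (by decide +kernel)
  have r0' := S.cmw [0] [3] (by decide +kernel)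
  have rA' := S.cmw wA [3] (by decide +kernel)
  have rB' := S.cjw (x := wB) (x' := wC) [3] (by decide +kernel)
  have rC' := S.cjw (x := wC) (x' := wB) [3] (by decide +kernel)
  have hYA : Lw L [1] * Lw L [3] = Lw L [0] * Lw L wA := b4
  set Y := Lw L [0]
  set A := Lw L wA
  set B := Lw L wB
  set C := Lw L wC
  obtain ⟨ζ, hζ⟩ : ∃ ζ, ζ = Y * A * B * C := ⟨_, rfl⟩
  rw [← hζ]
  have hmul : ∀ g : G, Commute g Y → Commute g A → Commute g B → Commute g C → Commute g ζ := by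
    intro g h1 h2 h3 h4
    rw [hζ]
    exact ((h1.mul_right h2).mul_right h3).mul_right h4
  have kt : Commute t ζ := by
    have e1 : t * ζ * t = ζ := by
      have e2 : F f [0] * F f wA * F f wB * F f wC = 1 := by
        rw [← F_append, ← F_append, ← F_append, ← F_nil (f := f)]
        exact F_eq (by decide +kernel)
      calc t * ζ * t = (t * Y * t) * (t * A * t) * (t * B * t) * (t * C * t) := by
            have : ∀ a b e g : G, (t * a * t) * (t * b * t) * (t * e * t) * (t * g * t) =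
                t * (a * (t * t) * b * (t * t) * e * (t * t) * g) * t := by
              intros; group
            rw [this, c.tt, hζ]; group
        _ = Y * (F f [0] * A) * (F f wA * B) * F f wB * C * F f wC := by rw [t0, tA, tB, tC]; group
        _ = Y * A * (F f [0] * B) * F f wA * (F f wB * C) * F f wC := by rw [f0A.eq, fAB.eq]; group
        _ = Y * A * B * F f [0] * (F f wA * C) * F f wB * F f wC := by rw [fyB.eq, fBC.eq]; group
        _ = Y * A * B * (F f [0] * C) * F f wA * F f wB * F f wC := by rw [fAC.eq]; group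
        _ = ζ * (F f [0] * F f wA * F f wB * F f wC) := by rw [fyC.eq, hζ]; group
        _ = ζ := by rw [e2, mul_one]
    show t * ζ = ζ * t
    calc t * ζ = (t * ζ * t) * t⁻¹ := by group
      _ = _ := by rw [e1, c.inv_t]
  have ky : Commute (F f [0]) ζ := hmul _ fy0 fyA fyB fyC
  have kz : Commute (F f [1, 3]) ζ := hmul _ fz0 fzA fzB fzC
  have kY : Commute Y ζ := hmul _ (Commute.refl _) c1 c2 c3
  have kq : Commute (F f [2]) ζ := by
    have e1 : (F f [2])⁻¹ * ζ * F f [2] = ζ := by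
      have e2 : (F f [2])⁻¹ * Y * F f [2] = Y := by rw [mul_assoc, ← q0.eq]; group
      have e3 : (F f [2])⁻¹ * C * F f [2] = C := by rw [mul_assoc, ← qC.eq]; group
      calc (F f [2])⁻¹ * ζ * F f [2] = ((F f [2])⁻¹ * Y * F f [2]) * ((F f [2])⁻¹ * A * F f [2]) *
            ((F f [2])⁻¹ * B * F f [2]) * ((F f [2])⁻¹ * C * F f [2]) := by rw [hζ]; group
        _ = Y * (B * A) * C := by rw [e2, e3, qA, qB]; group
        _ = ζ := by rw [← c4.eq, hζ]; group
    show F f [2] * ζ = ζ * F f [2]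
    calc F f [2] * ζ = F f [2] * ((F f [2])⁻¹ * ζ * F f [2]) := by rw [e1]
      _ = _ := by group
  have kr : Commute (F f [3]) ζ := by
    have e1 : (F f [3])⁻¹ * ζ * F f [3] = ζ := by
      have e2 : (F f [3])⁻¹ * Y * F f [3] = Y := by rw [mul_assoc, ← r0'.eq]; group
      have e3 : (F f [3])⁻¹ * A * F f [3] = A := by rw [mul_assoc, ← rA'.eq]; group
      calc (F f [3])⁻¹ * ζ * F f [3] = ((F f [3])⁻¹ * Y * F f [3]) * ((F f [3])⁻¹ * A * F f [3]) *
            ((F f [3])⁻¹ * B * F f [3]) * ((F f [3])⁻¹ * C * F f [3]) := by rw [hζ]; group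
        _ = Y * A * (C * B) := by rw [e2, e3, rB', rC']; group
        _ = ζ := by rw [← c6.eq, hζ]; group
    show F f [3] * ζ = ζ * F f [3]
    calc F f [3] * ζ = F f [3] * ((F f [3])⁻¹ * ζ * F f [3]) := by rw [e1]
      _ = _ := by group
  obtain ⟨σ, v, hv, hσ⟩ := decomp2 c kt.eq.symm (by
    have := ky.eq
    rw [F, wd_y] at this
    exact this.symm) (τ := Equiv.swap 1 2) (Equiv.Perm.sign_swap (by decide)) (by
    rw [w_q, ← wd_q]
    exact kq.eq.symm)
  have hσ1 : σ = 1 := by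
    apply sigma_one
    · exact comm_sigma c hv hσ (by rw [w_q, ← wd_q]; exact kq)
    · exact comm_sigma c hv hσ (by rw [w_r, ← wd_r]; exact kr)
    · exact comm_sigma c hv hσ (by rw [map_mul, w_p, w_r, ← wd_pr]; exact kz)
  rw [hσ1, map_one, map_one, mul_one] at hσ
  rcases inV_commL c S hv (by rw [← hσ]; exact kY) with h5 | h5
  · rw [hσ, h5]
  exfalso
  -- `ρ`
  have e1 : (F f [5, 1, 5, 2, 3, 5, 2, 4])⁻¹ * ζ * F f [5, 1, 5, 2, 3, 5, 2, 4] = ζ := by
    set m := F f [5, 1, 5, 2, 3, 5, 2, 4]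
    calc m⁻¹ * ζ * m = ((m⁻¹ * Y * m) * (m⁻¹ * A * m)) * ((m⁻¹ * B * m) * (m⁻¹ * C * m)) := by rw [hζ]; group
      _ = (Y * A) * (B * C) := by rw [r0, rA, rB, rC, hYA, ← hBC]
      _ = ζ := by rw [hζ]; group
  rw [hσ, h5] at e1
  have e2 : (F f [5, 1, 5, 2, 3, 5, 2, 4])⁻¹ * F f [0] * F f [5, 1, 5, 2, 3, 5, 2, 4] =
      F f (cj [0] [5, 1, 5, 2, 3, 5, 2, 4]) := by
    rw [F, F, F, wd_cj, map_mul, map_mul, map_inv]
  rw [e2] at e1
  exact absurd (F_inj c e1) (by decide +kernel)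

end Cfsg.Agent.CoThreeStd.Gamma
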