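import Mathlib

set_option autoImplicit false

/-!
# The facts about `K = Co₃` used in the closing of S1750

`Facts K` lists what the closing (blueprints/S1750.md, VERSION 2) needs to know about `K ≃* Co₃`.  `D` is the
class of `t`; `Nd` the involutions outside `D`.  The instance is built in `CoThreeStd/HInst.lean` from explicit
tables of a Sylow 2-subgroup.
-/

namespace Cfsg.Agent.CoThreeStd.HFacts

variable {K : Type*} [Group K]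

/-- Involutions not conjugate to `t`. -/
def Nd (t x : K) : Prop := x * x = 1 ∧ x ≠ 1 ∧ ¬ IsConj t x

/-- The facts about `K ≃* Co₃` used in the closing. -/
structure Facts (K : Type*) [Group K] where
  /-- the involution with centraliser `2 × M12` -/
  t : K
  /-- an involution with `t, y, t y` conjugate -/
  y : K
  /-- the central involution of `S` -/
  v : K
  /-- `W = ⟨v, w⟩` -/
  w : K
  /-- `Y3 = ⟨v, w, z⟩` -/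
  z : K
  /-- `E = Y3 ∪ e0 Y3` -/
  e0 : K
  /-- `W = {1, v, w, v w}` -/
  W : Subgroup K
  /-- `Y3`, elementary abelian of order 8 -/
  Y3 : Subgroup K
  /-- `K3`, homocyclic `4 ^ 3`, inverted by `t` -/
  K3 : Subgroup K
  /-- a Sylow 2-subgroup -/
  S : Subgroup K
  t_mul : t * t = 1
  t_ne : t ≠ 1
  y_conj : IsConj t y
  ty_conj : IsConj t (t * y)
  t_y : t * y = y * t
  t_S : t ∈ S
  y_S : y ∈ S
  v_nd : Nd t v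
  w_nd : Nd t w
  z_nd : Nd t z
  v_w : v * w = w * v
  v_z : v * z = z * v
  w_z : w * z = z * w
  v_ne_w : v ≠ w
  mem_W : ∀ x, x ∈ W ↔ x = 1 ∨ x = v ∨ x = w ∨ x = v * w
  mem_Y3 : ∀ x, x ∈ Y3 ↔ x ∈ W ∨ z * x ∈ W
  z_notin : z ∉ W
  /-- the non-trivial elements of `Y3` are not in `D` -/
  nd_Y3 : ∀ x ∈ Y3, x ≠ 1 → Nd t x
  /-- `Y3` is abelian -/
  comm_Y3 : ∀ a ∈ Y3, ∀ b ∈ Y3, a * b = b * a
  two_S : IsPGroup 2 S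
  /-- `S` is a Sylow 2-subgroup -/
  syl : ∀ R : Subgroup K, IsPGroup 2 R → ∃ c : K, ∀ r ∈ R, c⁻¹ * r * c ∈ S
  W_S : W ≤ S
  Y3_S : Y3 ≤ S
  K3_S : K3 ≤ S
  Y3_K3 : Y3 ≤ K3
  S_W : S ≤ Subgroup.normalizer (W : Set K)
  S_Y3 : S ≤ Subgroup.normalizer (Y3 : Set K)
  S_K3 : S ≤ Subgroup.normalizer (K3 : Set K)
  /-- (F0) the involutions outside `D` are conjugate -/
  F0 : ∀ b, Nd t b → ∃ h, h⁻¹ * b * h = v
  /-- (Fc) -/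
  Fc : ∀ a b, Nd t a → Nd t b → a * b = b * a → a ≠ b → Nd t (a * b)
  /-- (F1) -/
  F1 : ∀ a b, Nd t a → Nd t b → a * b = b * a → a ≠ b →
    ∃ h, ∀ x, x ∈ Subgroup.closure ({a, b} : Set K) ↔ h⁻¹ * x * h ∈ W
  /-- (F2) -/
  F2 : ∀ a b c, Nd t a → Nd t b → Nd t c → a * b = b * a → a * c = c * a → b * c = c * b → a ≠ b →
    c ≠ a → c ≠ b → c ≠ a * b →
    ∃ h, ∀ x, x ∈ Subgroup.closure ({a, b, c} : Set K) ↔ h⁻¹ * x * h ∈ Y3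
  /-- (Fa) `t` centralises `Y3` -/
  Fa : ∀ x ∈ Y3, t * x = x * t
  /-- (Fd) -/
  Fd : ∀ u : K, (u * u) * (u * u) = 1 → u * u ≠ 1 →
    Nd t (u * u) ∧ (∃ a, IsConj t a ∧ a * u = u * a) ∧ ∃ b, Nd t b ∧ b ≠ u * u ∧ b * u = u * b
  /-- (Gb) -/
  Gb : ∀ u, (∀ x ∈ W, u * x = x * u) → u * u ∈ W → u * u ≠ 1 →
    ∃ a b, IsConj t a ∧ (∀ x ∈ W, a * x = x * a) ∧ a * u = u * a ∧
      Nd t b ∧ b ∉ W ∧ (∀ x ∈ W, b * x = x * b) ∧ b * u = u * b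
  /-- (Gc) -/
  Gc : ∀ u u' x, (∀ y ∈ W, u * y = y * u) → (∀ y ∈ W, u' * y = y * u') → (∀ y ∈ W, x * y = y * x) →
    u * u' = u' * u → u * u ∈ W → u * u ≠ 1 → u' * u' ∈ W → u' * u' ≠ 1 → u * u ≠ u' * u' →
    x * x = 1 → x ∉ W → x * u = u * x → x * u' * x = u'⁻¹ →
    ∃ a b, IsConj t a ∧ (∀ y ∈ W, a * y = y * a) ∧ a * u = u * a ∧ a * u' = u' * a ∧
      Nd t b ∧ b ∉ W ∧ (∀ y ∈ W, b * y = y * b) ∧ b * u = u * b ∧ b * u' = u' * b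
  /-- (H1) squares of elements of `C_S(Y3)` -/
  H1 : ∀ p ∈ S, (∀ x ∈ Y3, p * x = x * p) → p * p ∈ Y3
  /-- (H2) -/
  comm_K3 : ∀ a ∈ K3, ∀ b ∈ K3, a * b = b * a
  free_K3 : ∀ k ∈ K3, ¬ IsConj t k
  sq_K3 : ∀ k ∈ K3, k * k ∈ Y3
  ker_K3 : ∀ k ∈ K3, k * k = 1 → k ∈ Y3
  inv_K3 : ∀ k ∈ K3, t * k * t = k⁻¹
  /-- some element of `K3` has order 4 -/
  four_K3 : ∃ k ∈ K3, k * k ≠ 1
  /-- the elements of `C_S(Y3)` -/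
  P3_cases : ∀ p ∈ S, (∀ x ∈ Y3, p * x = x * p) → p ∈ K3 ∨ IsConj t p ∨ e0⁻¹ * p ∈ Y3
  e0_S : e0 ∈ S
  e0_Y3 : ∀ x ∈ Y3, e0 * x = x * e0
  e0_K3 : e0 ∉ K3
  e0_mul : e0 * e0 = 1
  /-- `e0 Y3` does not meet `D` -/
  free_E : ∀ x ∈ Y3, ¬ IsConj t (e0 * x)
  /-- (H6) -/
  H6 : ∃ d ∈ S, (∀ x ∈ Y3, d * x = x * d) ∧ d ∉ Y3 ∧ e0⁻¹ * d ∉ Y3 ∧
    d * e0 * d⁻¹ ≠ t * e0 * t⁻¹

end Cfsg.Agent.CoThreeStd.HFacts
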