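import Cfsg.Agent.CoThreeStd.LamData

set_option autoImplicit false
set_option maxRecDepth 100000

namespace Cfsg.Agent.CoThreeStd.LamChk0

open Cfsg.Agent.SporadicRecognition.CosetCert Cfsg.Agent.Lib.CosetPartial Cfsg.Agent.CoThreeStd.LamData

theorem c0 : PartP C 0 43 := runP_sound C (by decide +kernel : runP C 9 511 0x1004cc0000000080200000000002000080202000cc86000084c000200000000200e0c0000000000213010000000000000400008000002e180405030000000000064c02000000286000000401130000000000000400027980000000000586000000406020100286000000400023180400000000000e30000401030000000000080000006980002130048c05130100004020080000000000802030100000020100802003980004020080c01b30000004020024d46010100002000000000000080804000000002130100004000000400020154c00c300004040000008000000000020001008040000800000000000000000acce60000000020019808a6000080000000100004020080000430020c00020100800010100404020034c0401098000400518000402000040000318000401018cc8763010000402000040000000000423000040400000080200010080002010080402 20 1048575 0x1d6916570000000000001a3000000000000000000000000000000000000000000000000007a8470000000000000000000000000000000000000000000000000000000001760000000000000004196700000000000000000000000002cd47000001094700000 0 43 = true)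

theorem all : PartP C 0 43 := c0

end Cfsg.Agent.CoThreeStd.LamChk0
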