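import Cfsg.Agent.Lib.CosetPartial

set_option autoImplicit false
set_option maxRecDepth 100000

namespace Cfsg.Agent.CoThreeStd.LamData

open Cfsg.Agent.SporadicRecognition.CosetCert

noncomputable def tree : Tr := (.N 16 (.L 0xfffffff281159efffffff3957fff5ffffffffffffff2213fff273494638f3149cfffc7c4ffffffffffffff4ffffffffffffff1e0d259263ffff3ffffffffffc683fffd0d81d1484e4fffffff180bffffffffff9423fff5a2153db4b68542fffffff4263fff4fffcd55fffd1994160503fffc4420fffc4070d04f573b5bfff932cd155fffc3010f23fff3253fff961ffff6fffcbd32d4bfff0907ffffffc90f3fffffff2b441c10b185ca1c323854900ca50fffc8cf203bfff0507fff1ffffffffffffff1b304c9fffc0c10a30464bfffffff1628041fffc4892fffc388fffc28608140820610103f) (.N 32 (.L 0xfffd80dffffffffffffff5b4a0ab1ffffffffffd65199923697da7fff4fffe6dffffffff5543fff585da653fffd50ffffffffffffffffffd7a16fffffff513bfff6d9bffffffffff5fffffff4e2bffffffffff5373fff5a14528a506ffff7aa62d188a93516fffffff81ad2184527ffffffffff3fffffff7fa9009476510cfffffff4fffdde974a0fd63c23fff577bfff3fffdc276c98e883e5ffff9e5bfff4fffffff3625a25fffcdcb3840cc80fffd9a4fffcc47ffffffffffffff4fffffff2e19923929fffffffffff5fffcb06304d8a2fffd761fffffff6fffca85fffe6245a7e29afffd31a6)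 (.L 0xfffe019fffe128ffffffffffe0e06fffdf98ffffffffffffff896bfff6a07de68765dedafffe31f7c7ffff59d89cd778a7fff85afffffffffff6fffdca66f5a453ffffffffffffff5fffdad6719db9cffffffffffffff69c5ffff878bfff6757ffffffda9e3fffe7e3655269f9747ffffffffff5ffffffffffe567634fffffffffff3fffe1a5fffffff614bfff75a3fff3fffffffffffffffffd712fffd7dd2)))

noncomputable def wtree : WT := (.N 15 (.N 7 (.N 3 (.N 1 (.L 3 [4,4]) (.N 2 (.L 5 [6,6]) (.L 2 [0,2,0]))) (.N 5 (.N 4 (.L 2 [4,2,3]) (.L 1 [4,0,3])) (.N 6 (.L 0 [1,4,1,3]) (.L 0 [3,1,4])))) (.N 11 (.N 9 (.N 8 (.L 1 [3,0,1,4]) (.L 6 [2,0,6,0])) (.N 10 (.L 2 [5,0,6]) (.L 1 [5,0,2,1,6]))) (.N 13 (.N 12 (.L 2 [3,2,4]) (.L 0 [6,2,5])) (.N 14 (.L 1 [5,1,2,0,6]) (.L 0 [6,0,5,2]))))) (.N 22 (.N 18 (.N 16 (.L 6 [1,2,0,6,1]) (.N 17 (.L 3 [5,4,1,6,3,5]) (.L 1 [3,6,3,6,4,5]))) (.N 20 (.N 19 (.L 3 [5,1,3,6,3,6]) (.L 4 [0,1,4,1])) (.N 21 (.L 6 [1,3,6,3,6,4]) (.L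 2 [0,6,1,5,1])))) (.N 26 (.N 24 (.N 23 (.L 0 [5,0,2,6]) (.L 7 [1,0,1,0])) (.N 25 (.L 4 [6,4,5,1,3,6]) (.L 4 [3,3]))) (.N 28 (.N 27 (.L 7 [0,6,2,5]) (.L 1 [3,1,0,4])) (.N 29 (.L 6 [4,1,6,3,5,4]) (.L 7 [3,6,4,5,1,3,6]))))))

noncomputable def stree : ST := (.L 7 [] [])

noncomputable def C : Cert where
  data := tree
  lm := 15
  rb := 116
  fb := 14
  mask := 16383
  B := 64
  k := 7
  N := 43
  inv := fun x => bif Nat.beq x 0 then 0 else bif Nat.beq x 1 then 1 else bif Nat.beq x 2 then 2 else bif Nat.beq x 3 then 4 else bif Nat.beq x 4 then 3 else bif Nat.beq x 5 then 6 else bif Nat.beq x 6 then 5 else x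
  words := wtree
  subs := stree

/-- letters: 0 = x, 1 = s, 2 = t, 3 = m, 4 = M, 5 = g, 6 = G -/
def rels : List (List Nat) := [[3,3,3], [5,5,5], [0,1,0,1], [2,0,2,0], [2,1,2,1], [2,4,2,3], [4,0,3,1], [6,2,5,0], [4,1,3,1,0], [6,0,5,0,2], [6,1,5,0,2,1], [6,3,5,4,5,4,1]]

def subw : List (List Nat) := []

/-- targets:  t -/
def targets : List (List Nat) := [[2]]

end Cfsg.Agent.CoThreeStd.LamData
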