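import Cfsg.Agent.MTwelveType.SylowModel
import Cfsg.Agent.SporRec.Co3.FiveHom

/-!
# The Mathieu group of degree 12: explicit generators

Six involutions `y, p, q, r, s, b` (all in the class 2A) of the group `Cfsg.Spor.M12` (permutations of the 24 points
of the binary Golay code preserving a dodecad).  `y` commutes with `p, q, r, s`, which are Coxeter generators of a
symmetric group of degree 5.
-/

set_option autoImplicit false
open scoped Pointwise
open Cfsg

namespace Cfsg.Agent.CoThreeStd.MTwelve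

open Cfsg.Agent.SporadicStructure.M11InvPerms
open Cfsg.Agent.MTwelveType.SylowModel (mem_M12 card_M12 ext_M12)

/-- table of `pY` -/
def tY : List ℕ := [1, 0, 3, 2, 8, 23, 18, 15, 4, 13, 19, 21, 16, 9, 17, 7, 12, 14, 6, 10, 22, 11, 20, 5]
/-- certificate for `pY` -/
def cY : List ℕ := [1, 3085, 2053, 3660, 2972, 3119, 1133, 780, 687, 1126, 3658, 804, 3980, 168, 735, 3603, 2175, 1394, 1063, 4063, 2744, 431, 3898]
/-- table of `pP` -/
def tP : List ℕ := [2, 3, 0, 1, 13, 14, 16, 21, 9, 8, 20, 15, 18, 4, 5, 11, 6, 23, 12, 22, 10, 7, 19, 17]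
/-- certificate for `pP` -/
def cP : List ℕ := [1, 3751, 5, 99, 3441, 3906, 492, 1063, 2735, 3237, 353, 2186, 167, 2753, 2782, 3516, 3388, 2715, 780, 306, 1174, 706, 2064]
/-- table of `pQ` -/
def tQ : List ℕ := [6, 18, 8, 4, 3, 20, 0, 14, 2, 16, 21, 19, 13, 12, 7, 17, 9, 15, 1, 11, 5, 10, 23, 22]
/-- certificate for `pQ` -/
def cQ : List ℕ := [1, 1908, 1518, 1352, 2234, 1878, 2781, 1472, 1122, 3904, 3071, 126, 538, 3642, 3893, 1303, 2853, 1620, 2450, 2414, 3114, 2697, 2733]
/-- table of `pR` -/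
def tR : List ℕ := [8, 4, 9, 13, 1, 15, 16, 23, 0, 2, 20, 14, 18, 3, 11, 5, 6, 21, 12, 22, 10, 17, 19, 7]
/-- certificate for `pR` -/
def cR : List ℕ := [1, 2051, 5, 4059, 2407, 3118, 3384, 3671, 257, 1803, 979, 72, 2491, 1995, 2782, 1554, 488, 2885, 2576, 1608, 1004, 2412, 2722]
/-- table of `pS` -/
def tS : List ℕ := [2, 3, 0, 1, 18, 14, 8, 20, 6, 16, 21, 19, 13, 12, 5, 22, 9, 23, 4, 11, 7, 10, 15, 17]
/-- certificate for `pS` -/
def cS : List ℕ := [1, 2939, 450, 1144, 3899, 2905, 766, 1645, 4076, 3696, 748, 2752, 810, 2187, 2841, 2741, 2488, 3911, 129, 2044, 1033, 922, 2973]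
/-- table of `pB` -/
def tB : List ℕ := [3, 6, 13, 0, 18, 14, 1, 15, 9, 8, 22, 23, 16, 2, 5, 7, 12, 20, 4, 21, 17, 19, 10, 11]
/-- certificate for `pB` -/
def cB : List ℕ := [1, 1321, 2345, 3362, 903, 3314, 365, 2839, 2517, 3795, 2054, 3443, 1961, 1385, 1548, 442, 2383, 1139, 3905, 426, 1901, 2137, 4042]

/-- the permutation `y` -/
def pY : Equiv.Perm GolayPt where
  toFun := tabFun tY
  invFun := tabFun tY
  left_inv := by unfold Function.LeftInverse; decide +kernel
  right_inv := by unfold Function.RightInverse Function.LeftInverse; decide +kernel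

set_option maxRecDepth 100000 in
theorem pY_mem : pY ∈ M24 := mem_M24_of_cert pY (fun t => cY.getD t.val 0) (by decide +kernel)
theorem pY_dd : ∀ p ∈ dd, pY p ∈ dd := by decide +kernel

/-- the element `y` of `M12` -/
def y : Spor.M12 := ⟨pY, mem_M12 pY_mem pY_dd⟩

/-- the permutation `p` -/
def pP : Equiv.Perm GolayPt where
  toFun := tabFun tP
  invFun := tabFun tP
  left_inv := by unfold Function.LeftInverse; decide +kernel
  right_inv := by unfold Function.RightInverse Function.LeftInverse; decide +kernel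

set_option maxRecDepth 100000 in
theorem pP_mem : pP ∈ M24 := mem_M24_of_cert pP (fun t => cP.getD t.val 0) (by decide +kernel)
theorem pP_dd : ∀ p ∈ dd, pP p ∈ dd := by decide +kernel

/-- the element `p` of `M12` -/
def p : Spor.M12 := ⟨pP, mem_M12 pP_mem pP_dd⟩

/-- the permutation `q` -/
def pQ : Equiv.Perm GolayPt where
  toFun := tabFun tQ
  invFun := tabFun tQ
  left_inv := by unfold Function.LeftInverse; decide +kernel
  right_inv := by unfold Function.RightInverse Function.LeftInverse; decide +kernel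

set_option maxRecDepth 100000 in
theorem pQ_mem : pQ ∈ M24 := mem_M24_of_cert pQ (fun t => cQ.getD t.val 0) (by decide +kernel)
theorem pQ_dd : ∀ p ∈ dd, pQ p ∈ dd := by decide +kernel

/-- the element `q` of `M12` -/
def q : Spor.M12 := ⟨pQ, mem_M12 pQ_mem pQ_dd⟩

/-- the permutation `r` -/
def pR : Equiv.Perm GolayPt where
  toFun := tabFun tR
  invFun := tabFun tR
  left_inv := by unfold Function.LeftInverse; decide +kernel
  right_inv := by unfold Function.RightInverse Function.LeftInverse; decide +kernel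

set_option maxRecDepth 100000 in
theorem pR_mem : pR ∈ M24 := mem_M24_of_cert pR (fun t => cR.getD t.val 0) (by decide +kernel)
theorem pR_dd : ∀ p ∈ dd, pR p ∈ dd := by decide +kernel

/-- the element `r` of `M12` -/
def r : Spor.M12 := ⟨pR, mem_M12 pR_mem pR_dd⟩

/-- the permutation `s` -/
def pS : Equiv.Perm GolayPt where
  toFun := tabFun tS
  invFun := tabFun tS
  left_inv := by unfold Function.LeftInverse; decide +kernel
  right_inv := by unfold Function.RightInverse Function.LeftInverse; decide +kernel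

set_option maxRecDepth 100000 in
theorem pS_mem : pS ∈ M24 := mem_M24_of_cert pS (fun t => cS.getD t.val 0) (by decide +kernel)
theorem pS_dd : ∀ p ∈ dd, pS p ∈ dd := by decide +kernel

/-- the element `s` of `M12` -/
def s : Spor.M12 := ⟨pS, mem_M12 pS_mem pS_dd⟩

/-- the permutation `b` -/
def pB : Equiv.Perm GolayPt where
  toFun := tabFun tB
  invFun := tabFun tB
  left_inv := by unfold Function.LeftInverse; decide +kernel
  right_inv := by unfold Function.RightInverse Function.LeftInverse; decide +kernel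

set_option maxRecDepth 100000 in
theorem pB_mem : pB ∈ M24 := mem_M24_of_cert pB (fun t => cB.getD t.val 0) (by decide +kernel)
theorem pB_dd : ∀ p ∈ dd, pB p ∈ dd := by decide +kernel

/-- the element `b` of `M12` -/
def b : Spor.M12 := ⟨pB, mem_M12 pB_mem pB_dd⟩

/-- the generators, numbered -/
def gen : ℕ → Spor.M12
  | 0 => y
  | 1 => p
  | 2 => q
  | 3 => r
  | 4 => s
  | 5 => b
  | _ => 1

/-- the element given by a word in the generators `0, …, 5 = y, p, q, r, s, b` -/
def wd (l : List ℕ) : Spor.M12 := (l.map gen).prod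

theorem wd_nil : wd [] = 1 := rfl
theorem wd_cons (i : ℕ) (l : List ℕ) : wd (i :: l) = gen i * wd l := by simp [wd]
theorem wd_append (l l' : List ℕ) : wd (l ++ l') = wd l * wd l' := by simp [wd]


/-- packed tables -/
def ptab : ℕ → ℕ
  | 0 => 0x2d176519cc3c530acda47cae810c01
  | 1 => 0x8cceab32e6594927d109ac1cd08062
  | 2 => 0xb5d45585e989d8d9d6027028322246
  | 3 => 0x3ce2ab32a62ac7275040bc1e16a488
  | 4 => 0x8bd47592e9b158d9d606a21d208062
  | 5 => 0x5aa71a928c39450bd909785d2034c3
  | _ => 0xbdab49ca307b9ac5a928398a418820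

/-- image of the point number `x` under the word `l` -/
def act : List ℕ → ℕ → ℕ
  | [], x => x
  | i :: l, x => (ptab i >>> (5 * act l x)) % 32

theorem gen_apply (i : ℕ) (x : ℕ) (hx : x < 24) :
    enc ((gen i).1 (dec x)) = (ptab i >>> (5 * x)) % 32 ∧ (ptab i >>> (5 * x)) % 32 < 24 := by
  have h : ∀ x : Fin 24, ∀ i : Fin 7, enc ((gen i).1 (dec x)) = (ptab i >>> (5 * x.1)) % 32 ∧
      (ptab i >>> (5 * x.1)) % 32 < 24 := by decide +kernel
  rcases Nat.lt_or_ge i 6 with hi | hi
  · exact h ⟨x, hx⟩ ⟨i, by omega⟩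
  · have h6 : gen i = gen 6 := by
      obtain ⟨k, rfl⟩ := Nat.exists_eq_add_of_le hi
      rw [Nat.add_comm]; rfl
    have h7 : ptab i = ptab 6 := by
      obtain ⟨k, rfl⟩ := Nat.exists_eq_add_of_le hi
      rw [Nat.add_comm]; rfl
    rw [h6, h7]
    exact h ⟨x, hx⟩ ⟨6, by omega⟩

theorem enc_dec (x : ℕ) (hx : x < 24) : enc (dec x) = x := by
  have h : ∀ x : Fin 24, enc (dec x) = x := by decide +kernel
  exact h ⟨x, hx⟩

theorem dec_enc (p : GolayPt) : dec (enc p) = p := by
  revert p; decide +kernel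

theorem enc_lt (p : GolayPt) : enc p < 24 := by
  revert p; decide +kernel

theorem act_spec (l : List ℕ) (x : ℕ) (hx : x < 24) :
    enc ((wd l).1 (dec x)) = act l x ∧ act l x < 24 := by
  induction l with
  | nil => exact ⟨enc_dec x hx, hx⟩
  | cons i l ih =>
    obtain ⟨h1, h2⟩ := ih
    have h3 := gen_apply i (act l x) h2
    refine ⟨?_, h3.2⟩
    rw [wd_cons]
    show enc ((gen i).1 ((wd l).1 (dec x))) = _
    rw [← dec_enc ((wd l).1 (dec x)), h1, h3.1]
    rfl

/-- structural test below a bound -/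
def allB (f : ℕ → Bool) : ℕ → Bool
  | 0 => true
  | n + 1 => f n && allB f n

theorem allB_spec (f : ℕ → Bool) : ∀ n, allB f n = true → ∀ x, x < n → f x = true
  | 0, _, x, hx => absurd hx (Nat.not_lt_zero x)
  | n + 1, h, x, hx => by
    rw [allB, Bool.and_eq_true] at h
    rcases Nat.lt_succ_iff_lt_or_eq.1 hx with h1 | h1
    · exact allB_spec f n h.2 x h1
    · rw [h1]; exact h.1

/-- test for the equality of two words -/
def eqW (l l' : List ℕ) : Bool := allB (fun x => Nat.beq (act l x) (act l' x)) 24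

theorem wd_eq {l l' : List ℕ} (h : eqW l l' = true) : wd l = wd l' := by
  apply ext_M12
  intro z
  have h1 := allB_spec _ _ h (enc z) (enc_lt z)
  have h2 := Nat.eq_of_beq_eq_true h1
  rw [← (act_spec l _ (enc_lt z)).1, ← (act_spec l' _ (enc_lt z)).1, dec_enc] at h2
  rw [← dec_enc ((wd l).1 z), ← dec_enc ((wd l').1 z), h2]

/-- two words with different action on a point are different -/
theorem wd_ne {l l' : List ℕ} (x : ℕ) (hx : x < 24) (h : act l x ≠ act l' x) : wd l ≠ wd l' := by
  intro h1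
  apply h
  rw [← (act_spec l x hx).1, ← (act_spec l' x hx).1, h1]

/-- number attached to a word; it depends only on the element -/
def sig (l : List ℕ) : ℕ → ℕ
  | 0 => 0
  | n + 1 => sig l n * 32 + act l n

theorem sig_eq {l l' : List ℕ} (h : wd l = wd l') : ∀ n ≤ 24, sig l n = sig l' n
  | 0, _ => rfl
  | n + 1, hn => by
    show sig l n * 32 + act l n = sig l' n * 32 + act l' n
    rw [sig_eq h n (by omega), ← (act_spec l n (by omega)).1, ← (act_spec l' n (by omega)).1, h]

theorem gen_sq (i : ℕ) : gen i * gen i = 1 := by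
  rcases Nat.lt_or_ge i 6 with hi | hi
  · have h : ∀ i : Fin 6, eqW [i.1, i.1] [] = true := by decide +kernel
    have h1 := wd_eq (h ⟨i, hi⟩)
    simpa [wd] using h1
  · have h6 : gen i = 1 := by
      obtain ⟨k, rfl⟩ := Nat.exists_eq_add_of_le hi
      rw [Nat.add_comm]; rfl
    rw [h6, one_mul]

theorem wd_reverse (l : List ℕ) : (wd l)⁻¹ = wd l.reverse := by
  induction l with
  | nil => simp [wd]
  | cons i l ih =>
    rw [wd_cons, List.reverse_cons, wd_append, mul_inv_rev, ih]
    congr 1
    rw [wd_cons, wd_nil, mul_one]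
    exact inv_eq_of_mul_eq_one_left (gen_sq i)

/-- the word of the conjugate `m⁻¹ x m` -/
def cj (x m : List ℕ) : List ℕ := m.reverse ++ (x ++ m)

theorem wd_cj (x m : List ℕ) : wd (cj x m) = (wd m)⁻¹ * wd x * wd m := by
  rw [cj, wd_append, wd_append, wd_reverse, mul_assoc]

end Cfsg.Agent.CoThreeStd.MTwelve
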