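import Cfsg.Agent.CoThreeStd.MTwelve

/-!
# Words for the conjugates of two involutions of `M12`
-/

set_option autoImplicit false

namespace Cfsg.Agent.CoThreeStd.MTwelve

/-- the numbers attached to the conjugates of `x` by the words of the list are increasing -/
def incr (x : List ℕ) : ℕ → List (List ℕ) → Bool
  | _, [] => true
  | a, m :: l => Nat.blt a (sig (cj x m) 24) && incr x (sig (cj x m) 24) l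

/-- words whose conjugates of `y` are distinct -/
def wordsY : List (List ℕ) :=
  [[], [5,1,3,5,1,2], [5,0,2,3,2,5], [5,1,3,5,0,1,2], [5,0,3,4,3], [5,0,1,3,5,4], [5,0,1,2], [5,3,2],
  [5,1,3,5,1,3], [5,0,3,2], [5,2,4,5,2], [5,0,2,4,3,2], [5,2,1,3], [5,1,2,3,2,1], [5,3,2,4,3,5], [5,1,3,5,0,1,3],
  [5,0,5,1,3,5,3], [5,1,3,5,3,4], [5,0,3,2,1,4], [5,2,4,3,2], [5,0,1,2,1,4], [5,0,1,4,3], [5,3,2,1,4],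
  [5,0,1,3,5,1], [5,0,2,1,3], [5,1,2], [5,0,2,4,5], [5,1,4,3], [5,4,3,2,5], [5,2,3,4], [5,1,3,5,3,2],
  [5,2,4,5,0,2], [5,0,1,2,1,4,5], [5,3,4,3], [5,0,2,3,4], [5,1,2,1,4], [5,0,2,3,5,1,3,2], [5,1,2,1,4,5,3],
  [5,1,5,0,2,5,2], [5,4,5,0,3,5,3], [5,3,2,4,3], [5,1,5], [5,2,4,5,0], [5,2,1,4,5], [5,0,5,2], [5,2,1,4,5,1],
  [5,0,4,3,2,5], [5,1,5,4], [5,4,5,0], [5,0,1,5,4,5,2], [5,0,3,5,1,5], [5,0,5,0,1,3], [5,0,2,1,3,2],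
  [5,1,2,4,5,3], [5,1,5,1], [5,2,1,4,5,4], [5,0,2,5,4,5,0], [5,0,5,0,3], [5,1,5,1,4], [5,2,4,5,0,4],
  [5,0,2,4,3,2,5], [5,0,5,2,4], [5,4,5,0,1], [5,1,3,5,1], [5,0,3,4,5,2], [5,0,1,2,3,5,0], [5,1,5,1,3,5],
  [5,0,5,0,3,4], [5,1,3,5], [5,4,5,0,4], [5,0,3,2,1,5,2], [5,0,5,2,1], [5,0,4,3,5,4,5], [5,0,1,3,5,1,3],
  [5,0,1,2,5,1,5], [5,0,1,3,5,3], [5,0,1,5,3], [5,0,2,1,4,5,3], [5,2,4,3], [5,0,5,1,5], [5,0,2,3,5,0,3],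
  [5,1,3,2], [5,0,5,0], [5,0,5,3,4,5,1], [5,0,1,2,5,4], [5,0,2,1,4,3], [5,0,5,1], [5,0,3,2,5,0,2], [5,0,5,4,5],
  [5,0,2,3,5,1,3], [5,1,3,2,1,4], [5,2,3,2], [5,1,4,5,1,5], [5,0,5,1,5,1,4], [5,2,3,2,5], [5,2,1,3,4,3],
  [5,0,4,3,5,1], [5,1,4,5,1], [5,0,1,3,2,1], [5,1,4,5,4,5], [5,0,5,4], [5,0,2,3,4,3], [5,0,1,2,5,1],
  [5,0,3,2,5,2,4], [5,0,1,3,2,4], [5,1,4,5,4], [5,0,1,3,4,5,2], [5,0,4,3,5,4], [5,0,3,2,5,2], [5,2,1,4,3],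
  [5,0,5,0,1], [5,0,5,1,5,4], [5,0,5,1,3], [5,4,5], [5,0,3,5,1,5,0], [5,1,4,3,5,2], [5,4,3], [5,1,5,4,5],
  [5,0,5,1,5,3,2], [5,0,1,2,1,3], [5,0,2,4,5,1], [5,2,3,4,3,5], [5,0,3,5,0,5], [5,0,2,4,5,1,3], [5,1,2,1],
  [5,0,1,2,4,5,0], [5,3,2,4,3,2], [5,4,5,1,5,1], [5,0,1,2,5,2], [5,1,5,0,5,2,4], [5,3,2,5], [5,0,3,4,3,2],
  [5,0,2,3], [5,0,1,2,4,5,3], [5,0,2,3,5,0,5], [5,4,5,0,3], [5,2], [5,0,2,1,4], [5,0,2,1,3,5,1], [5,0,1,5,4,5],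
  [5,0,4], [5,2,4,3,2,5], [5,1,5,0,5,0], [5,0,3,5,1,3], [5,1,4,5,4,5,1], [5,1,3,2,4], [5,0,5,3,4,5],
  [5,0,1,5,3,4], [5,1,3,5,0], [5,0,5,0,2,1], [5,1,3,4,5,4], [5,4,5,4], [5,2,1,3,2,5], [5,0,3,5,3],
  [5,1,3,5,0,1,5], [5,2,4], [5,3,2,5,3], [5,4], [5,1,5,0,5], [5,4,5,1,4,5], [5,0,2,5,4], [5,0,4,3,5,1,3],
  [5,0,1,2,3], [5,4,5,0,5,3], [5,2,4,5,2,3], [5,1,3,4], [5,0,1,5,1,4], [5,1,5,0,5,2], [5,0,1,2,3,2],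
  [5,0,2,5,0,3], [5,0,5,1,3,5], [5,1,5,0,4,5], [5,2,1,3,4], [5,2,1,4,5,4,3], [5,4,5,1,3], [5,0,5,1,5,1,3],
  [5,4,5,1,5,0], [5,0,5,0,2,5], [5,1,2,1,3,5,4], [5,4,5,1,5], [5,1,4,5], [5,0,1,2,5], [5,0,2,4,3],
  [5,1,4,5,1,5,4], [5,1,5,0], [5,2,4,5], [5,0,2,1,5,3], [5,0,3,2,4,3], [5,0,5,0,3,5], [5,0,2,3,5,4],
  [5,0,2,3,5,2], [5,3,4,3,2,5], [5,0,3,2,4], [5,0,3,5,2,3], [5,0,2,1,5,4,3], [5,0,1,2,5,3], [5,0,1,4,3,5],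
  [5,4,5,0,1,5,2], [5,0,1,5,4], [5,0], [5,1,2,3,5], [5,4,5,0,1,5], [5,0,3,5,2], [5,0,5,1,3,5,1], [5,2,4,5,2,4],
  [5,0,3], [5,0,2,1,5,4], [5,0,1,5,0], [5,0,2,1,5], [5,2,1,3,5], [5,0,3,5,0], [5,0,1,2,5,2,4], [5,0,5,2,4,5,2],
  [5,0,3,2,1,5,1], [5,0,2,4], [5,0,3,5,0,3], [5,0,5,4,5,1], [5,1,3,4,5,3], [5,0,1,5,1,3], [5,1,3,2,1],
  [5,0,5,0,2,4], [5,4,5,1], [5,1,3,5,0,1], [5,1,3,4,5,1], [5,2,4,5,0,2,4], [5,0,1,5], [5,3], [5,0,2,1,5,0,4],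
  [5,0,5,4,5,3], [5,0,1,2,1,3,5], [5,0,2,5,0], [5,1,2,1,3,2], [5,2,3], [5,0,5,1,5,3,4], [5,1,3,4,5,1,2],
  [5,4,5,3], [5,1,3,5,0,3], [5,0,3,4,5,0], [5,2,1], [5,0,4,5,1], [5,0,5,0,2,5,3], [5,0,3,2,5], [5,1,5,0,2,5],
  [5,0,3,2,5,0], [5,1], [5,0,4,5,0], [5,1,5,0,5,4], [5,0,5,4,5,2,3], [5,1,2,3,2], [5,0,5,2,4,5], [5,0,1,3,4,5],
  [5,0,2,5,3], [5,1,2,1,4,5], [5,0,5,0,4], [5,0,5,1,5,1], [5,2,3,4,3], [5,1,3,4,5], [5,0,5,3,4], [5,0,1,2,3,5],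
  [5,4,5,1,4], [5,0,3,5], [5,0,1,3,5,1,5], [5,0,2,1,5,0], [5,0,4,3,2,1], [5,1,2,4], [5,0,3,2,5,3],
  [5,0,3,5,2,3,5], [5,0,4,3,2], [5,0,2,1,3,5,4], [5,0,2], [5,1,4,3,5], [5,2,1,4], [5,1,3,4,3], [5,1,5,1,4,5],
  [5,0,2,3,5,0], [5,0,1,2,3,4], [5,0,1,2,4,5,1], [5,0,4,5], [5,0,1], [5,1,5,0,4,5,3], [5,0,2,4,5,4],
  [5,1,3,2,1,5], [5,0,2,4,5,3], [5,0,3,2,1,4,5], [5,0,2,1,3,4], [5,0,3,2,5,0,5], [5,0,1,2,5,1,3], [5,0,2,5,3,2],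
  [5,0,4,3,5], [5,0,2,3,2], [5,1,3,2,4,3], [5,1,3,4,3,5], [5,0,4,5,1,5,3], [5,0,1,2,3,2,5], [5,2,1,3,2],
  [5,1,5,0,1], [5,1,5,3], [5], [5,4,5,0,5,1], [5,0,1,4,3,5,0], [5,1,2,4,5], [5,0,1,3], [5,3,4], [5,0,3,2,4,5],
  [5,0,1,2,1], [5,2,1,3,5,4], [5,0,3,2,5,4], [5,0,1,2,4,5], [5,0,1,3,4,3,5], [5,0,1,3,5,2,4], [5,0,2,1,3,4,5],
  [5,0,2,5,0,5,3], [5,3,2,1], [5,1,5,2], [5,0,5,4,5,2], [5,0,2,5,4,5,0,3], [5,0,1,3,4,3], [5,0,2,3,5],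
  [5,1,2,3,2,5], [5,1,2,3,4], [5,0,2,4,5,4,5], [5,0,3,2,1,5], [5,1,2,3], [5,2,3,5], [5,2,1,4,3,2],
  [5,0,1,2,5,1,4], [5,1,4,5,1,4], [5,2,1,4,5,2], [5,0,2,5,4,5], [5,2,4,5,4], [5,1,5,0,1,4], [5,0,5,3],
  [5,1,2,3,5,0], [5,0,3,5,0,2], [5,0,5,1,3,5,4], [5,0,2,1,4,5], [5,0,1,5,1], [5,4,5,0,5,0], [5,0,1,2,3,5,3],
  [5,0,1,4], [5,3,4,3,2], [5,0,2,1,5,1,4], [5,0,5,1,5,2], [5,0,3,5,1], [5,0,3,2,1], [5,1,5,0,2], [5,0,4,3,5,2],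
  [5,0,2,5,4,5,3], [5,0,2,3,5,1], [5,4,5,0,3,5], [5,1,2,1,3,5], [5,1,5,4,5,4], [5,1,3,5,3], [5,4,5,2],
  [5,0,3,4,5], [5,0,2,1], [5,2,4,5,2,1], [5,1,5,1,3], [5,0,2,1,5,1], [5,0,1,3,4], [5,0,1,3,2], [5,0,2,3,5,3],
  [5,0,5], [5,0,4,3,5,1,4], [5,1,5,0,4], [5,0,2,1,5,1,3], [5,0,4,3,2,5,0], [5,0,5,0,2], [5,3,2,4],
  [5,0,1,2,1,3,5,2], [5,1,5,2,4], [5,0,5,1,5,3], [5,0,1,3,5], [5,0,2,5,0,5], [5,0,1,3,5,2], [5,1,3,2,1,5,4],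
  [5,0,4,3], [5,1,2,1,3], [5,0,1,2,5,3,2], [5,1,5,4,5,0], [5,0,3,4], [5,1,3], [5,0,4,5,1,5], [5,0,2,1,3,5],
  [5,4,5,0,5], [5,0,1,5,0,1], [5,0,2,5,3,2,5], [5,1,4], [5,1,2,1,3,4], [5,0,3,4,5,1], [5,0,2,5], [5,0,4,3,5,3],
  [5,0,1,2,4], [5,0,1,3,2,5], [5,4,3,2], [5,0,4,3,2,5,2]]

/-- words whose conjugates of `p * r` are distinct -/
def wordsV : List (List ℕ) :=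
  [[4,3], [5,1,5,1,4], [2,5,1,3,2,1], [5,1,3,5,3,2], [5,0,3,2], [5,1,5], [4,5,0,5], [5,0,1,5,0,3], [4,5,0,5,1,4],
  [5,1,2], [5,0,5,4,3,5], [5,0,1,2], [2,4,5,0,5,3,2], [4,5,2,3,2,5], [5,0,5,1,4,3], [2,5,4], [2,1,5,1,3],
  [2,1,5,2,3,2], [2,1,5,4,3,2], [2,5,0,1], [2,1,4,3,2,1], [4,3,5,0,5,3], [2], [5,0,1,5,2,1], [2,4,3,5,2,4],
  [4,5,0,5,0], [2,4,3,5,0,3], [2,5,0,4], [2,4,3,2], [5,0,1,5,3], [5,0,5,3,4,3], [2,1,5,3,4], [2,5,1], [5,3,2],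
  [2,4,5,3,4,3], [2,5,2,3], [2,1,5,1,2,4], [5,1,5,0], [2,4,3,5,2,1], [2,5,0,2,3], [2,1,4], [5,3,2,1,4],
  [2,5,0,1,5,1], [5,0,5,3,2], [2,4,3,5,3], [4,5,0,2], [4,3,2,5,1,3], [4,3,2,5,0,3], [4,5,2,1], [2,1,5,0,4,5],
  [5,3,4,5], [5,0,1,2,5,2], [2,5,1,5,0,1], [5,0,1,2,3], [2,4,5,0,5,3], [2,5,1,5,1,4,5], [2,5,1,2,3,2],
  [2,5,4,5,0,1], [2,5,4,5,0], [5,1,2,1,3,5], [5,0,3,5,1,5], [2,1,5,3,2,4], [4,5,1], [4,5,1,5,2,4], [4,5,4],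
  [2,1,5,3,2,1], [2,4,5,1,4], [4,3,2,5,0], [2,4,5], [4,5,0,5,1], [4,5,3,4], [4,5,4,3,2], [2,5,0,2,1,5],
  [2,5,1,4,5], [2,5,1,4,5,3], [2,4,5,4,5,4], [2,1,5,1,4], [4,5,2,3,2], [2,1,5,0,2], [2,4,3,5,1], [2,5,0,2,1,5,3],
  [4,3,2,1,5,2,3], [2,5,0,5,0,2], [4,3,5,1,2,3], [2,5,2], [2,5,3], [5,0], [2,5,0,5], [4,3,5,0,4,5],
  [2,5,1,5,1,3,2], [4,3,5,2,1,4], [2,1,5,0,3,2,5], [4,3,5,0,4], [5,0,3,2,1], [2,5,1,5,2,4], [4,5,1,3,4],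
  [2,5,2,1], [2,5,2,3,2,1], [4,3,5], [2,1,5,0,5,3], [2,1,4,5,4,3], [2,5,1,5,3], [2,5,0,2,5], [2,1,4,5,2],
  [4,3,5,2,4,3], [2,5,3,2,4,3], [5,1,3,5], [5,0,3,5,0], [4,3,5,1,2,1,3], [5,0,3], [4,5,0,2,5], [5,1,5,4,5],
  [5,3,2,1,5], [2,5,4,3], [4,3,5,0,1], [2,1,5,0,3,5], [4,3,5,2], [4,5,0,5,4], [4,5,1,5,3], [4,5,1,3],
  [4,3,2,5,1,5], [2,5,4,5,2], [5,0,3,5,0,3], [2,1,5], [2,4,3,5,4], [4,5,0,5,1,5], [4,5,0,3,4,5], [4,5,2,3],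
  [5,1,5,0,3], [5,1,5,4], [2,1,5,2,4,5], [4,5,0,3,5], [2,5,0,5,0,3], [2,1,5,0,1,5], [2,5,0,3,5,1],
  [2,4,3,5,0,1,4], [5,0,2,5,0], [2,4,5,4,5,0,5], [5,0,5,0,1], [5,0,5,3,4], [2,1,5,0,5,4], [2,5,1,3,2],
  [2,5,1,5,2], [2,5,2,4], [4,5,3], [5,0,1,5,0], [4,3,5,0,1,3], [4,5,0,4,3], [4,5,1,2,5,4], [4,5,1,5,3,2],
  [4,3,5,1,4], [5,3,2,5], [2,5,1,3,5,0], [5,1,5,1], [5,0,3,5,0,1], [4,5,4,5,0], [2,4,5,0,4,5], [2,5,4,5,1,3],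
  [5,0,5,0,4], [2,1,5,0,5,4,3], [5,0,5,1,3], [2,4,3,5,0], [2,4,5,1,5,0], [2,1,5,0,5,1], [5,0,2,5,4],
  [2,5,1,3,5,3], [5,0,5,0,4,5], [5,1,2,1], [2,5,4,3,2], [5,0,2,5,2], [4,3,2,1,5,2], [2,5,3,4], [2,5,2,3,2],
  [2,5,4,5,3], [2,5,1,4,5,1], [2,5,1,3], [2,5,1,4,5,2], [4,3,5,0,2,5], [4,3,5,0,3,5], [5,1,3], [5,1,3,5,3],
  [5,0,5,3,4,5], [5,2,3,2], [5,0,2,5,0,2], [4,3,5,4,5,0], [2,5,1,3,2,1,5], [2,4,5,0,5,0], [5,3,4], [4,3,5,4,5],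
  [5,0,1,5,4], [2,5,1,2,4], [2,5,4,5,0,3], [5,1,3,5,0,3], [4,5,1,3,5], [2,4,5,0,5], [2,4,5,1,5,3], [2,5,4,5],
  [2,5,4,5,1], [4,5,1,3,4,5], [4,3,2,5,1,4], [2,4,5,0], [2,1,5,1,3,2], [2,4,5,3,4], [4,3,2,5], [4,5,0,4],
  [2,4,3,2,5,4], [4,5,0,1], [2,1,4,3], [2,4,3], [2,5,4,3,5], [4,5,3,2], [2,1,5,0,3,2], [2,1,5,4,5], [2,4,5,0,4],
  [2,1,5,4,5,1], [2,4,3,2,5], [5,1,3,2,1], [4,5,0], [4,5,0,3,5,3], [4,3,2,5,4], [4,5,3,2,4], [2,4,5,3],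
  [5,1,3,2], [4,3,2,5,1], [4,5,0,4,5], [4,3,2,5,3], [4,5,0,2,1], [2,5,1,5,4,5], [4,5,2], [4,3,5,1,2,1],
  [5,3,2,4,3], [2,5,0,4,5,1], [2,4,5,0,5,0,3], [4,3,5,1,2,4], [2,5,1,5,1], [5,1,2,3], [2,5,1,5,4], [4,5,4,5,3],
  [4,5,4,5,0,3], [2,5,1,2,3], [4,5,0,5,1,3], [5,3,2,5,3,2], [4,5,0,5,0,3], [2,5,1,5,0], [2,4,5,2], [4,3,5,0,1,2],
  [2,1,5,1,5,4,5], [2,4,5,0,5,3,4], [2,4,3,2,5,3], [2,5,0,4,5,0], [2,1,5,1,5,4], [5,3,4,5,1], [5,1,2,3,5],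
  [2,5,2,4,3,2], [5,1,5,1,2], [5,3,2,1], [5,3,2,5,1], [4,3,5,0], [2,1,5,0,5], [2,5,1,3,5,2], [2,5,2,3,5,1],
  [2,5,0,2,5,0], [2,1,4,5,4], [2,5,0,2,1], [5,3,4,5,2], [2,1,4,5,2,3], [4,3,5,3,4], [2,5,1,5], [2,1,5,1,5],
  [2,4,5,4], [2,5,3,2,1], [4,3,5,2,4], [5,0,5], [2,1,4,5,2,3,5], [2,1,5,2,3,5,1], [4,5,0,1,5], [4,3,5,3],
  [2,4,5,2,3], [5,1,3,5,2], [4,3,2,1,5], [5,0,5,0,3], [2,4,5,0,4,3], [2,5,1,2,4,5], [2,5,2,1,3], [5,1,2,5,3],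
  [5,1,5,0,1], [4,5,1,2,5], [5,0,2,5,0,4], [2,4,3,5], [2,5,3,2,1,4,5], [5,0,3,5,1], [2,5,3,2,1,5], [5,0,3,2,5,1],
  [2,4,5,1,5], [2,5,3,2,5], [4,5,4,5], [5,0,5,4], [5,1,2,1,3], [2,4,5,2,1], [4,5,1,5,2], [4,5,0,3,2,1],
  [2,4,5,4,5,2], [2,5,3,2,1,5,2], [2,5,0,2,1,3], [2,1,4,3,5], [2,4,3,5,2], [2,5,0,2,4,3], [2,4,5,4,5],
  [2,4,5,1,4,5], [2,5,0,5,4], [4,5,1,5], [2,1,5,3,2,5], [2,5,1,3,5,1], [2,4], [4], [4,5,0,5,0,1], [2,4,3,5,0,1],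
  [4,5,0,2,3,2], [2,5,0,2,5,0,5], [2,5,1,4,5,0], [2,1,5,2], [5,0,5,0,1,5], [2,4,5,4,5,0,4], [2,1,5,4,3],
  [4,5,0,3,4], [5,0,3,2,5], [2,5,2,3,2,5], [2,5,0,1,2,3], [5,3,2,5,0,5], [4,5,1,2], [4,5,0,3,2], [2,4,3,2,1],
  [4,3,2,1], [2,1,5,4], [5,2], [5,2,3], [2,1,5,2,3], [2,5,0,5,3,2], [4,5,1,2,3], [5,2,3,2,5], [4,5,0,2,3,4],
  [2,1,5,0,1,2], [2,5,0,1,2], [5,2,3,2,5,3], [5,0,3,2,5,3], [5,0,5,2,3], [5,0,2,5], [2,1,4,5,2,4], [2,4,3,5,1,4],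
  [2,1,5,0,1,5,0], [2,4,5,1,5,1,4], [2,5,0,5,3], [2,5,2,4,5], [4,3,2,5,2], [5,0,5,1], [2,1,5,1,3,2,5],
  [2,4,5,4,3,2], [2,5,0,4,5], [2,4,5,2,4], [5,0,5,4,5], [2,5,0,5,2,3], [4,5,2,3,4], [5,2,3,2,5,0], [4,5,0,5,3,2],
  [4,3,5,4,5,0,1], [5,0,5,3], [2,1,5,0,2,5], [4,5,1,5,4,3], [4,3,2,5,3,2], [2,1], [], [5,0,1,5,2], [4,3,5,0,5],
  [2,5,0,5,1], [2,5,0,5,0,4], [5,3,2,4], [2,1,5,0,5,1,4], [5,3,2,5,0], [4,3,5,0,1,4], [5,0,1,5], [2,5,0,2,4],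
  [4,5,0,3], [2,1,5,4,5,1,5], [4,5,4,3], [4,3,5,1,3], [2,5,1,3,5], [2,5,1,5,0,2], [2,5,1,5,1,4], [5,1,2,3,5,0],
  [2,4,5,1], [2,5,3,2,4], [2,1,5,1,2], [2,5,1,2], [2,1,5,0,2,4], [4,3,5,1,3,4], [2,4,5,4,3], [5,3,4,5,2,3],
  [4,3,5,2,1], [5,0,5,1,4], [2,5,0,1,5], [2,1,5,2,3,4], [2,4,3,2,5,4,5], [2,1,5,2,3,5,4], [2,5,0,2,5,4],
  [2,5,3,2,5,4], [5,1,2,3,2], [4,5,0,2,5,0], [4,3,5,1], [4,5,2,3,2,4], [5,3], [4,3,5,0,2], [2,5,0,5,4,3],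
  [4,5,1,5,4], [5,1,4], [5,0,1,2,5,2,3], [5,0,3,5], [5,1,3,5,0], [4,3,5,1,2], [2,4,3,5,1,2], [2,4,3,2,5,0],
  [2,5,3,2,1,4], [2,5,1,4], [2,1,4,3,5,1], [2,1,5,3], [4,5,0,2,5,0,3], [4,3,5,0,3], [5,1,2,5], [2,5,0,3,5],
  [2,4,5,1,5,4], [5,0,1], [2,1,5,0,1], [5,0,5,0,1,4], [5,0,1,2,5], [5,0,5,4,3], [2,5,2,4,3], [4,5,0,5,0,4],
  [2,4,3,5,0,4], [5,0,3,5,3], [4,5,3,2,5], [2,5,4,5,0,2], [2,1,5,0], [4,5,0,2,3], [2,5,0,5,1,3], [4,5,4,5,0,5],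
  [5,1,5,3], [2,1,5,2,3,5], [2,1,4,5], [4,5,4,3,2,5], [2,4,3,2,5,0,3], [4,5], [4,3,2,5,2,3], [2,5,4,3,5,3],
  [2,5,2,3,5], [2,5,0], [5,0,5,0,2], [2,1,5,1,5,3], [5,2,3,2,1], [2,1,5,1], [5,1], [2,1,4,3,2], [4,3,2],
  [4,5,0,2,3,5], [5,0,3,5,3,2], [2,1,5,0,5,1,3], [2,4,5,4,5,0], [4,5,1,3,5,3], [4,3,5,4], [4,5,0,4,5,3],
  [4,5,0,2,5,4], [2,5,0,3], [4,3,5,0,1,2,3], [5], [2,5,0,5,2], [2,4,3,5,0,4,5], [5,3,2,5,3], [2,5,0,2],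
  [2,5,0,5,0], [5,1,5,1,4,5], [4,5,0,5,3], [2,1,5,3,2], [2,5,3,2], [5,0,2], [2,1,5,0,4], [5,0,5,0,2,5],
  [2,4,5,1,5,1], [5,0,5,0], [4,3,5,0,2,4], [2,1,5,0,3], [4,5,0,2,5,3], [2,5], [5,0,5,2], [2,1,5,3,2,5,3],
  [4,3,5,4,5,1], [2,5,1,5,1,3], [2,1,5,2,4]]

set_option maxRecDepth 100000 in
theorem incrY : incr [0] 0 wordsY = true := by decide +kernel

set_option maxRecDepth 100000 in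
theorem incrV : incr [1, 3] 0 wordsV = true := by decide +kernel

theorem lenY : wordsY.length = 396 := by decide +kernel
theorem lenV : wordsV.length = 495 := by decide +kernel


end Cfsg.Agent.CoThreeStd.MTwelve
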