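import Cfsg.Agent.CoThreeStd.GensB
import Cfsg.Agent.McLType.Glue

/-!
# Conway's group Co3 as a group generated by eight elements

`m : Fin 8 → G3` (letters `t y p q r s b g`; `G3` = stabiliser of `u0` in `Co0`, isomorphic to `Spor.Co3`),
generating, and the glue theorem.
-/

set_option autoImplicit false

namespace Cfsg.Agent.CoThreeStd.ModelB

open Cfsg Cfsg.Agent.SporadicStructure.PermChain Cfsg.Agent.LeechPack.X552 Cfsg.Agent.CoThreeStd.GensB
  Cfsg.Agent.McLType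

/-- The eight generators. -/
noncomputable def m (k : Fin 8) : G3 := (exists_gen k).choose

theorem ψ_m (k : Fin 8) : ψ (m k) = σ k := (exists_gen k).choose_spec

theorem closure_m : Subgroup.closure (Set.range m) = ⊤ := by
  have h1 : (Subgroup.closure (Set.range m)).map ψ = Subgroup.closure (Set.range σ) := by
    rw [MonoidHom.map_closure, ← Set.range_comp]
    congr 2
    funext k
    exact ψ_m k
  have h2 : Nat.card (Subgroup.closure (Set.range m)) = Nat.card (Subgroup.closure (Set.range σ)) := by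
    rw [← h1]
    exact Nat.card_congr ((Subgroup.closure (Set.range m)).equivMapOfInjective ψ ψ_injective).toEquiv
  apply Subgroup.eq_top_of_le_card
  rw [card_G3, h2]
  exact card_ge

/-- The word `w` acts trivially on the 552 vectors. -/
def idCheck (w : List (Fin 8)) : Bool :=
  allBelow (fun i => Nat.beq (evalWord 10 tabs (w.map (fun k => (k : ℕ))) i) i) 552

theorem evalWord_σ (w : List (Fin 8)) (i : Fin 552) :
    ((w.map σ).prod i : ℕ) = evalWord 10 tabs (w.map (fun k => (k : ℕ))) i := by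
  induction w with
  | nil => rfl
  | cons s w ih =>
    rw [List.map_cons, List.prod_cons, Equiv.Perm.mul_apply, σ_spec, ih]
    rfl

theorem word_m {w : List (Fin 8)} (h : idCheck w = true) : (w.map m).prod = 1 := by
  apply ψ_injective
  rw [map_list_prod, map_one, List.map_map]
  have h1 : (fun k => ψ (m k)) = σ := funext ψ_m
  have h2 : (ψ ∘ m) = σ := h1
  rw [h2]
  refine Equiv.ext fun i => Fin.ext ?_
  rw [evalWord_σ]
  exact Nat.eq_of_beq_eq_true (allBelow_spec _ _ h i i.2)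

/-- The relators of helper464 (letters `t y p q r s b g`), including `R1`, `R2`, `R3`, `R4` (the last four). -/
def relB : List (List (Fin 8)) := [
  [0, 0],
  [1, 1],
  [2, 2],
  [3, 3],
  [4, 4],
  [5, 5],
  [6, 6],
  [2, 3, 2, 3, 2, 3],
  [2, 4, 2, 4],
  [2, 5, 2, 5],
  [3, 4, 3, 4, 3, 4],
  [3, 5, 3, 5],
  [4, 5, 4, 5, 4, 5],
  [1, 2, 1, 2],
  [1, 3, 1, 3],
  [1, 4, 1, 4],
  [1, 5, 1, 5],
  [6, 3, 6, 3, 6, 3],
  [6, 4, 6, 4, 6, 4],
  [6, 2, 3, 6, 2, 3, 6, 2, 3],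
  [6, 4, 5, 6, 4, 5, 6, 4, 5],
  [6, 2, 4, 6, 3, 5, 6, 2, 4, 6, 5, 3],
  [6, 2, 5, 1, 6, 5, 2, 1, 6, 1, 2, 5],
  [6, 2, 1, 6, 3, 1, 6, 2, 1, 6, 1, 3],
  [0, 1, 0, 1],
  [0, 2, 0, 2],
  [0, 3, 0, 3],
  [0, 4, 0, 4],
  [0, 5, 0, 5],
  [0, 6, 0, 6],
  [7, 7, 7],
  [7, 7, 0, 7, 1],
  [7, 7, 1, 7, 0, 1],
  [7, 7, 0, 2, 7, 2, 0],
  [7, 7, 0, 3, 7, 3, 0],
  [7, 7, 0, 4, 7, 4, 0],
  [7, 7, 0, 5, 7, 5, 0],
  [1, 6, 1, 3, 4, 3, 6, 1, 5, 7, 1, 6, 1, 3, 4, 3, 6, 1, 5, 7, 1, 6, 1, 3, 4, 3, 6, 1, 5, 7],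
  [7, 2, 4, 6, 1, 6, 1, 3, 4, 3, 6, 1, 6, 1, 6, 1, 3, 4, 3, 6, 1, 7, 2, 4, 6, 1, 6, 1, 3, 4, 3, 6, 1, 6, 1, 6,
    1, 3, 4, 3, 6, 1, 7, 2, 4, 6, 1, 6, 1, 3, 4, 3, 6, 1, 6, 1, 6, 1, 3, 4, 3, 6, 1, 7, 2, 4, 6, 1, 6, 1, 3, 4, 3,
    6, 1, 6, 1, 6, 1, 3, 4, 3, 6, 1, 7, 2, 4, 6, 1, 6, 1, 3, 4, 3, 6, 1, 6, 1, 6, 1, 3, 4, 3, 6, 1],
  [7, 3, 6, 1, 6, 5, 4, 6, 1, 6, 2, 7, 3, 6, 1, 6, 5, 4, 6, 1, 6, 2, 7, 3, 6, 1, 6, 5, 4, 6, 1, 6, 2],
  [7, 2, 6, 1, 6, 4, 5, 6, 1, 6, 3, 7, 2, 6, 1, 6, 4, 5, 6, 1, 6, 3, 7, 2, 6, 1, 6, 4, 5, 6, 1, 6, 3, 7, 2, 6,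
    1, 6, 4, 5, 6, 1, 6, 3, 7, 2, 6, 1, 6, 4, 5, 6, 1, 6, 3, 7, 2, 6, 1, 6, 4, 5, 6, 1, 6, 3, 7, 2, 6, 1, 6, 4, 5,
    6, 1, 6, 3]]

theorem relB_ok : relB.all idCheck = true := by decide +kernel

universe u

/-- The glue theorem. -/
theorem isoCo3_of_bound (R : List (List (Fin 8))) (hR : R.all idCheck = true)
    (hbound : ∀ (H : Type u) [Group H] (h : Fin 8 → H), (∀ r ∈ R, (r.map h).prod = 1) →
      Subgroup.closure (Set.range h) = ⊤ → Finite H ∧ Nat.card H ≤ 495766656000)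
    {G : Type u} [Group G] [Nontrivial G] (g : Fin 8 → G) (hg : ∀ r ∈ R, (r.map g).prod = 1)
    (hgen : Subgroup.closure (Set.range g) = ⊤) : Spor.IsoCo3 G := by
  have hm : ∀ r ∈ R, (r.map m).prod = 1 := fun r hr => word_m (List.all_eq_true.1 hR r hr)
  have h1 : ∀ r ∈ R, (r.map fun i => (g i, m i)).prod = 1 := by
    intro r hr
    have h2 : ∀ l : List (Fin 8), (l.map fun i => (g i, m i)).prod = ((l.map g).prod, (l.map m).prod) := by
      intro l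
      induction l with
      | nil => rfl
      | cons a l ih => rw [List.map_cons, List.prod_cons, ih]; rfl
    rw [h2, hg r hr, hm r hr]
    rfl
  obtain ⟨hfin, hcard⟩ := hbound (Subgroup.closure (Set.range fun i => (g i, m i)))
    (fun i => ⟨(g i, m i), Subgroup.subset_closure ⟨i, rfl⟩⟩)
    (fun r hr => by
      apply Subtype.ext
      have h3 : ∀ l : List (Fin 8), ((l.map fun i => (⟨(g i, m i), Subgroup.subset_closure ⟨i, rfl⟩⟩ :
          Subgroup.closure (Set.range fun i => (g i, m i)))).prod : G × G3) = (l.map fun i => (g i, m i)).prod := by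
        intro l
        induction l with
        | nil => rfl
        | cons a l ih => rw [List.map_cons, List.prod_cons, List.map_cons, List.prod_cons, ← ih]; rfl
      rw [h3, h1 r hr]
      rfl)
    (by
      have := Subgroup.closure_closure_coe_preimage (k := Set.range fun i => (g i, m i))
      convert this using 2
      ext x
      constructor
      · rintro ⟨i, rfl⟩
        exact ⟨i, rfl⟩
      · rintro ⟨i, hi⟩
        exact ⟨i, Subtype.ext hi⟩)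
  obtain ⟨e⟩ := Glue.nonempty_equiv g m hgen closure_m hfin (by rw [card_G3]; exact hcard)
  obtain ⟨e'⟩ := isoCo3_G3
  exact ⟨e.trans e'⟩

end Cfsg.Agent.CoThreeStd.ModelB
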