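import Cfsg.Agent.CoThreeStd.OutCtx
import Cfsg.Agent.CoThreeStd.GammaAut

/-!
# S1750, `C_G(t) = ⟨t⟩ × M₁₂:2`, patterns with `t ~ t y`: the element `g` (helper781)
-/

set_option autoImplicit false

namespace Cfsg.Agent.CoThreeStd.OutBase

open Cfsg.Agent.CoThreeStd.MTwelve Cfsg.Agent.CoThreeStd.OutAut Cfsg.Agent.CoThreeStd.OutCtx
open Cfsg.Agent.CoThreeStd.Gamma Cfsg.Agent.SporRec.Co3

variable {G : Type*} [Group G] {t c : G} {f : H →* G}

theorem commute_mul_left_iff {K : Type*} [Group K] {a b x : K} (h : Commute a x) :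
    Commute (a * b) x ↔ Commute b x := by
  constructor
  · intro h1
    have : b = a⁻¹ * (a * b) := by group
    rw [this]
    exact h.inv_left.mul_left h1
  · intro h1
    exact h.mul_left h1

theorem commute_mul_right_iff {K : Type*} [Group K] {a b x : K} (h : Commute x a) :
    Commute x (a * b) ↔ Commute x b := by
  constructor
  · intro h1
    have : b = a⁻¹ * (a * b) := by group
    rw [this]
    exact h.inv_right.mul_right h1
  · intro h1
    exact h.mul_right h1

theorem comm_El_c (h : CtxO t c f) (x : Bool × Bool × H) : El t c f x * c = c * El t c f x ↔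
    alpha x.2.2 = x.2.2 := by
  obtain ⟨a, b, m⟩ := x
  have h1 : Commute (if a then t else 1) c := by
    split_ifs
    · exact h.ct.symm
    · exact Commute.one_left c
  have h2 : Commute (if b then c else 1) c := by
    split_ifs
    · exact Commute.refl c
    · exact Commute.one_left c
  show Commute ((if a then t else 1) * ((if b then c else 1) * f m)) c ↔ alpha m = m
  rw [commute_mul_left_iff h1, commute_mul_left_iff h2]
  constructor
  · intro h3
    apply h.inj
    rw [← h.act, ← h3.eq, mul_inv_cancel_right]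
  · intro h3
    show f m * c = c * f m
    rw [h.cf, h3]

theorem comm_El_y (h : CtxO t c f) (x : Bool × Bool × H) : El t c f x * f y = f y * El t c f x ↔
    x.2.2 * y = y * x.2.2 := by
  obtain ⟨a, b, m⟩ := x
  have h1 : Commute (if a then t else 1) (f y) := by
    split_ifs
    · exact (h.comm y).symm
    · exact Commute.one_left _
  have h2 : Commute (if b then c else 1) (f y) := by
    split_ifs
    · show c * f y = f y * c
      rw [h.cf, alpha_y]
    · exact Commute.one_left _
  show Commute ((if a then t else 1) * ((if b then c else 1) * f m)) (f y) ↔ m * y = y * m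
  rw [commute_mul_left_iff h1, commute_mul_left_iff h2]
  constructor
  · intro h3
    apply h.inj
    rw [map_mul, map_mul]
    exact h3
  · intro h3
    show f m * f y = f y * f m
    rw [← map_mul, h3, map_mul]

/-- `CtxO` gives the context of the relations. -/
theorem toCx (h : CtxO t c f) : Cx t f where
  inj := h.inj
  tt := h.tt
  t_ne := h.t_ne
  comm := h.comm
  nmem := h.nmem
  cent2 := by
    intro g h1 h2 σ hσ h3
    obtain ⟨⟨a, b, m⟩, rfl⟩ := El_surj h g h1
    have h4 := (comm_El_y h _).1 h2
    cases b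
    · cases a
      · exact ⟨m, Or.inl (by simp [El])⟩
      · exact ⟨m, Or.inr (by simp [El])⟩
    · exfalso
      have h5 : c * f m * f (w σ) = f (w σ) * (c * f m) := by
        cases a
        · simpa [El] using h3
        · have h6 : t * (c * f m) * f (w σ) = f (w σ) * (t * (c * f m)) := by simpa [El] using h3
          apply mul_left_cancel (a := t)
          calc t * (c * f m * f (w σ)) = t * (c * f m) * f (w σ) := by group
            _ = f (w σ) * (t * (c * f m)) := h6
            _ = (f (w σ) * t) * (c * f m) := by group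
            _ = _ := by rw [h.comm]; group
      have h6 : f (alpha m * (y * w σ)) = f (w σ * alpha m) := by
        rw [← alpha_odd hσ, map_mul, map_mul]
        apply mul_right_cancel (b := c)
        calc f (alpha m) * f (alpha (w σ)) * c = f (alpha m) * (f (alpha (w σ)) * c) := by group
          _ = f (alpha m) * (c * f (w σ)) := by rw [h.cf]
          _ = (f (alpha m) * c) * f (w σ) := by group
          _ = c * f m * f (w σ) := by rw [← h.cf]
          _ = f (w σ) * (c * f m) := h5
          _ = f (w σ) * f (alpha m) * c := by rw [h.cf]; group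
      have h7 := h.inj h6
      have h8 : alpha m * y = y * alpha m := by
        have := congrArg alpha h4
        rwa [map_mul, map_mul, alpha_y] at this
      obtain ⟨τ, hτ⟩ := cent_y _ h8
      apply y_ne_w (τ⁻¹ * σ * τ * σ⁻¹)
      have h9 : y = (alpha m)⁻¹ * w σ * alpha m * (w σ)⁻¹ := by
        calc y = (alpha m)⁻¹ * (alpha m * (y * w σ)) * (w σ)⁻¹ := by group
          _ = _ := by rw [h7]; group
      rw [h9]
      rcases hτ with h10 | h10 <;> rw [h10]
      · simp only [map_mul, map_inv]
      · calc (y * w τ)⁻¹ * w σ * (y * w τ) * (w σ)⁻¹ = (w τ)⁻¹ * (y⁻¹ * (w σ * y)) * w τ * (w σ)⁻¹ := by group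
          _ = w (τ⁻¹ * σ * τ * σ⁻¹) := by
            rw [← y_comm]; simp only [map_mul, map_inv]; group

theorem five_cycle : ∃ u : H, u ^ 5 = 1 ∧ u ≠ 1 ∧ u * y = y * u ∧ alpha u = u := by
  refine ⟨wd [1, 2, 3, 4], ?_, ?_, ?_, ?_⟩
  · have : wd [1, 2, 3, 4] ^ 5 = wd (Cfsg.Agent.CoThreeStd.DeltaData.wp [1, 2, 3, 4] 5) := by
      rw [Cfsg.Agent.CoThreeStd.DeltaData.wd_wp]
    rw [this, ← wd_nil]
    exact wd_eq (by decide +kernel)
  · rw [← wd_nil]
    intro h
    exact absurd (eqW_of_wd h) (by decide +kernel)
  · rw [← wd_y, ← wd_append, ← wd_append]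
    exact wd_eq (by decide +kernel)
  · rw [alpha_wd]
    exact wd_eq (by decide +kernel)

theorem sq_mem (h : CtxO t c f) {g : G} (hg : g * t = t * g) : ∃ k, g * g = f k := by
  have key : ∀ n, c * f n * (c * f n) = f (alpha n * n) := by
    intro n
    calc c * f n * (c * f n) = (c * f n * c⁻¹) * (c * c) * f n := by group
      _ = _ := by rw [h.act, h.cc, mul_one, map_mul]
  have tt := h.tt
  obtain ⟨m, h1 | h1 | h1 | h1⟩ := h.cent g hg
  · exact ⟨m * m, by rw [h1, map_mul]⟩
  · refine ⟨m * m, ?_⟩
    calc g * g = t * (f m * t) * f m := by rw [h1]; group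
      _ = (t * t) * (f m * f m) := by rw [h.comm]; group
      _ = _ := by rw [tt, one_mul, map_mul]
  · exact ⟨alpha m * m, by rw [h1, key]⟩
  · refine ⟨alpha m * m, ?_⟩
    have h2 : (c * f m) * t = t * (c * f m) := by
      rw [mul_assoc, h.comm, ← mul_assoc, h.ct, mul_assoc]
    calc g * g = t * ((c * f m) * t) * (c * f m) := by rw [h1]; group
      _ = (t * t) * (c * f m * (c * f m)) := by rw [h2]; group
      _ = _ := by rw [tt, one_mul, key]

/-- elements of order 5 of `C_G(t)` are in `f(M₁₂)` -/
theorem five_mem (h : CtxO t c f) {g : G} (hg : g * t = t * g) (h5 : g ^ 5 = 1) : ∃ k, g = f k := by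
  have hg3 : g ^ 3 * t = t * g ^ 3 := by
    have : Commute g t := hg
    exact (this.pow_left 3).eq
  obtain ⟨k, hk⟩ := sq_mem h hg3
  refine ⟨k, ?_⟩
  rw [← hk, ← pow_add]
  calc g = g ^ 5 * g := by rw [h5, one_mul]
    _ = g ^ (3 + 3) := by rw [← pow_succ]

theorem exists_swap_t [Finite G] (h : CtxO t c f) (h1 : IsConj t (t * f y)) (h2 : ¬ IsConj t (f y))
    (h3 : ¬ IsConj t (f (p * r))) :
    ∃ x : G, x * t * x⁻¹ = t * f y ∧ x * f y * x⁻¹ = f y := by
  obtain ⟨x, hx⟩ := isConj_iff.1 h1
  have tt := h.tt
  obtain ⟨t', ht'⟩ : ∃ t', t' = x⁻¹ * t * x := ⟨_, rfl⟩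
  have hxt' : x * t' * x⁻¹ = t := by rw [ht']; group
  have hcomm : t' * t = t * t' := by
    have h4 : x * (t' * t) * x⁻¹ = x * (t * t') * x⁻¹ := by
      calc x * (t' * t) * x⁻¹ = (x * t' * x⁻¹) * (x * t * x⁻¹) := by group
        _ = t * (t * f y) := by rw [hxt', hx]
        _ = t * (f y * t) := by rw [h.comm]
        _ = (t * f y) * t := by group
        _ = (x * t * x⁻¹) * (x * t' * x⁻¹) := by rw [hxt', hx]
        _ = _ := by group
    exact mul_left_cancel (mul_right_cancel h4)
  have hcj : IsConj t t' := isConj_iff.2 ⟨x⁻¹, by rw [ht']; group⟩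
  have hsq : t' * t' = 1 := by
    calc t' * t' = x⁻¹ * (t * t) * x := by rw [ht']; group
      _ = 1 := by rw [tt]; group
  -- transport of commutation
  have hcc : ∀ (z g a b : G), z * a * z⁻¹ = b → (g * a = a * g ↔ (z * g * z⁻¹) * b = b * (z * g * z⁻¹)) := by
    rintro z g a b rfl
    have e1 : (z * g * z⁻¹) * (z * a * z⁻¹) = z * (g * a) * z⁻¹ := by group
    have e2 : (z * a * z⁻¹) * (z * g * z⁻¹) = z * (a * g) * z⁻¹ := by group
    rw [e1, e2]
    constructor
    · intro h; rw [h]
    · intro h; exact mul_left_cancel (mul_right_cancel h)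
  obtain ⟨⟨a, b, m⟩, hm⟩ := El_surj h t' hcomm
  cases b
  · have hm' : t' = f m ∨ t' = t * f m := by
      rw [← hm]
      cases a
      · left; simp [El]
      · right; simp [El]
    have hm1 : m ≠ 1 := by
      rintro rfl
      rw [map_one, mul_one] at hm'
      rcases hm' with hm' | hm'
      · rw [hm'] at hcj
        exact h.t_ne (isConj_one_left.1 hcj)
      · rw [hm'] at hxt'
        rw [hxt'] at hx
        have h5 : f y = f 1 := by rw [map_one]; exact mul_left_cancel (hx.symm.trans (mul_one t).symm)
        exact y_ne_one (h.inj h5)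
    have hmm : m * m = 1 := by
      apply h.inj
      rw [map_mul, map_one]
      rcases hm' with hm' | hm'
      · rw [← hm']; exact hsq
      · rw [hm'] at hsq
        calc f m * f m = t * t * (f m * f m) := by rw [tt, one_mul]
          _ = t * (t * f m) * f m := by group
          _ = t * (f m * t) * f m := by rw [h.comm]
          _ = (t * f m) * (t * f m) := by group
          _ = 1 := hsq
    rcases hm' with hm' | hm'
    · exfalso
      rw [hm'] at hcj
      rcases inv_class m hm1 hmm with h4 | h4
      · exact h2 (conj_of_class hcj h4)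
      · exact h3 (conj_of_class hcj h4)
    rcases inv_class m hm1 hmm with ⟨n, hn⟩ | ⟨n, hn⟩
    · -- class 2A
      have hnt : (f n)⁻¹ * t = t * (f n)⁻¹ := by rw [← map_inv]; exact h.comm _
      have e1 : (x * (f n)⁻¹) * t * (x * (f n)⁻¹)⁻¹ = t * f y := by
        calc (x * (f n)⁻¹) * t * (x * (f n)⁻¹)⁻¹ = x * ((f n)⁻¹ * t) * f n * x⁻¹ := by group
          _ = x * t * x⁻¹ := by rw [hnt]; group
          _ = _ := hx
      have e2 : (x * (f n)⁻¹) * (t * f y) * (x * (f n)⁻¹)⁻¹ = t := by
        calc (x * (f n)⁻¹) * (t * f y) * (x * (f n)⁻¹)⁻¹ = x * (((f n)⁻¹ * t) * f y * f n) * x⁻¹ := by group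
          _ = x * (t * f (n⁻¹ * y * n)) * x⁻¹ := by rw [hnt, map_mul, map_mul, map_inv]; group
          _ = x * t' * x⁻¹ := by rw [hn, hm']
          _ = t := hxt'
      refine ⟨x * (f n)⁻¹, e1, ?_⟩
      obtain ⟨z, hz⟩ : ∃ z, z = x * (f n)⁻¹ := ⟨_, rfl⟩
      rw [← hz] at e1 e2 ⊢
      calc z * f y * z⁻¹ = z * (t * (t * f y)) * z⁻¹ := by rw [← mul_assoc t t, tt, one_mul]
        _ = (z * t * z⁻¹) * (z * (t * f y) * z⁻¹) := by group
        _ = (t * f y) * t := by rw [e1, e2]
        _ = t * (f y * t) := by group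
        _ = t * (t * f y) := by rw [h.comm]
        _ = f y := by rw [← mul_assoc, tt, one_mul]
    · -- class 2B: elements of order 5
      exfalso
      obtain ⟨u, hu5, hu1, huy, -⟩ := five_cycle
      obtain ⟨g, hg⟩ : ∃ g, g = x⁻¹ * f u * x := ⟨_, rfl⟩
      have hxg : x * g * x⁻¹ = f u := by rw [hg]; group
      have huf : f u * (t * f y) = (t * f y) * f u := by
        calc f u * (t * f y) = (f u * t) * f y := by group
          _ = t * f (u * y) := by rw [h.comm, map_mul]; group
          _ = _ := by rw [huy, map_mul]; group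
      have hgt : g * t = t * g := by rw [hcc x g t _ hx, hxg]; exact huf
      have hgt' : g * t' = t' * g := by rw [hcc x g t' _ hxt', hxg]; exact h.comm u
      have hg5 : g ^ 5 = 1 := by
        have e : g = x⁻¹ * f u * x⁻¹⁻¹ := by rw [hg, inv_inv]
        rw [e, conj_pow, ← map_pow, hu5, map_one]
        group
      obtain ⟨k, hk⟩ := five_mem h hgt hg5
      have hkm : k * m = m * k := by
        apply h.inj
        rw [map_mul, map_mul]
        apply mul_left_cancel (a := t)
        calc t * (f k * f m) = (f k * t) * f m := by rw [h.comm]; group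
          _ = g * t' := by rw [hk, hm']; group
          _ = t' * g := hgt'
          _ = _ := by rw [hk, hm']; group
      have hk5 : k ^ 5 = 1 := by
        apply h.inj
        rw [map_pow, ← hk, hg5, map_one]
      have hk1 : k ≠ 1 := by
        rintro rfl
        rw [map_one] at hk
        apply hu1
        apply h.inj
        rw [← hxg, hk, map_one]; group
      have : Fact (Nat.Prime 5) := ⟨by norm_num⟩
      have hkc : n * k * n⁻¹ ∈ (Subgroup.centralizer {p * r} : Subgroup H) := by
        rw [Subgroup.mem_centralizer_singleton_iff]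
        have hpr : p * r = n * m * n⁻¹ := by rw [← hn]; group
        rw [hpr]
        calc n * k * n⁻¹ * (n * m * n⁻¹) = n * (k * m) * n⁻¹ := by group
          _ = n * (m * k) * n⁻¹ := by rw [hkm]
          _ = _ := by group
      have ho : orderOf (⟨n * k * n⁻¹, hkc⟩ : (Subgroup.centralizer {p * r} : Subgroup H)) = 5 := by
        apply orderOf_eq_prime
        · apply Subtype.ext
          show (n * k * n⁻¹) ^ 5 = 1
          rw [conj_pow, hk5]; group
        · intro h6
          apply hk1
          have h7 : n * k * n⁻¹ = 1 := congrArg Subtype.val h6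
          calc k = n⁻¹ * (n * k * n⁻¹) * n := by group
            _ = 1 := by rw [h7]; group
      have h6 := orderOf_dvd_natCard (⟨n * k * n⁻¹, hkc⟩ : (Subgroup.centralizer {p * r} : Subgroup H))
      rw [ho, card_cent_v] at h6
      omega
  · -- outer elements
    exfalso
    have hm' : ∃ s0 : G, (s0 = c ∨ s0 = t * c) ∧ t' = s0 * f m := by
      rw [← hm]
      cases a
      · exact ⟨c, Or.inl rfl, by simp [El]⟩
      · exact ⟨t * c, Or.inr rfl, by simp [El, mul_assoc]⟩
    obtain ⟨s0, hs0, hm'⟩ := hm'
    have hs0t : s0 * t = t * s0 := by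
      rcases hs0 with rfl | rfl
      · exact h.ct
      · rw [mul_assoc, h.ct]
    have hs02 : s0 * s0 = 1 := by
      rcases hs0 with rfl | rfl
      · exact h.cc
      · calc t * c * (t * c) = t * (c * t) * c := by group
          _ = (t * t) * (c * c) := by rw [h.ct]; group
          _ = 1 := by rw [tt, h.cc, one_mul]
    have hs0f : ∀ n, s0 * f n * s0⁻¹ = f (alpha n) := by
      intro n
      rcases hs0 with rfl | rfl
      · exact h.act n
      · calc t * c * f n * (t * c)⁻¹ = t * (c * f n * c⁻¹) * t⁻¹ := by group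
          _ = (t * f (alpha n)) * t⁻¹ := by rw [h.act]
          _ = _ := by rw [← h.comm]; group
    have ham : alpha m * m = 1 := by
      apply h.inj
      rw [map_mul, map_one, ← hs0f]
      calc s0 * f m * s0⁻¹ * f m = (s0 * f m) * (s0 * s0)⁻¹ * (s0 * f m) := by group
        _ = t' * t' := by rw [hs02, hm']; group
        _ = 1 := hsq
    obtain ⟨n, hn⟩ := twisted m ham
    have ht'n : t' = (f n)⁻¹ * s0 * f n := by
      have h4 : f (alpha n) = s0 * f n * s0⁻¹ := (hs0f n).symm
      rw [hm', hn, map_mul, map_inv, h4]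
      calc s0 * ((s0 * f n * s0⁻¹)⁻¹ * f n) = (s0 * s0) * (f n)⁻¹ * s0⁻¹ * f n := by group
        _ = _ := by rw [hs02, inv_eq_of_mul_eq_one_left hs02, one_mul]
    -- `z = x f(n)⁻¹`
    obtain ⟨z, hz⟩ : ∃ z, z = x * (f n)⁻¹ := ⟨_, rfl⟩
    have hnt : (f n)⁻¹ * t = t * (f n)⁻¹ := by rw [← map_inv]; exact h.comm _
    have z1 : z * t * z⁻¹ = t * f y := by
      calc z * t * z⁻¹ = x * ((f n)⁻¹ * t) * f n * x⁻¹ := by rw [hz]; group
        _ = x * t * x⁻¹ := by rw [hnt]; group
        _ = _ := hx
    have z2 : z * s0 * z⁻¹ = t := by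
      calc z * s0 * z⁻¹ = x * ((f n)⁻¹ * s0 * f n) * x⁻¹ := by rw [hz]; group
        _ = t := by rw [← ht'n]; exact hxt'
    have hcard : Nat.card {g : G // g * t = t * g ∧ g * s0 = s0 * g} =
        Nat.card {g : G // g * t = t * g ∧ g * (t * f y) = (t * f y) * g} := by
      apply Nat.card_congr
      refine Equiv.subtypeEquiv (MulAut.conj z).toEquiv (fun g => ?_)
      show g * t = t * g ∧ g * s0 = s0 * g ↔
        (z * g * z⁻¹) * t = t * (z * g * z⁻¹) ∧ (z * g * z⁻¹) * (t * f y) = (t * f y) * (z * g * z⁻¹)
      rw [hcc z g t _ z1, hcc z g s0 _ z2, and_comm]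
    have e1 := card_pred h (fun g => g * s0 = s0 * g) (fun m => alpha m = m) (by
      intro x
      rcases hs0 with rfl | rfl
      · exact comm_El_c h x
      · have h5 := El_comm h x
        rw [← comm_El_c h x]
        exact commute_mul_right_iff (show Commute (El t c f x) t from h5))
    have e2 := card_pred h (fun g => g * (t * f y) = (t * f y) * g) (fun m => m * y = y * m) (by
      intro x
      have h5 := El_comm h x
      rw [← comm_El_y h x]
      exact commute_mul_right_iff (show Commute (El t c f x) t from h5))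
    have e3 : Nat.card {m : H // m * y = y * m} = 240 := by
      rw [← card_cent_y]
      apply Nat.card_congr
      refine Equiv.subtypeEquivRight (fun m => ?_)
      rw [Subgroup.mem_centralizer_singleton_iff]
    rw [e1, e2, e3] at hcard
    exact card_fix_ne (by omega)

end Cfsg.Agent.CoThreeStd.OutBase
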