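import Cfsg.Agent.CoThreeStd.OutCtx

/-!
# S1750, `C_G(t) = ⟨t⟩ × M₁₂:2`: the centraliser of the alternating group of degree five (helper984)

`F = ⟨f(pq), f(qr), f(rs)⟩`, `Y = C_G(F)`, `E = ⟨t, c, f y⟩`: `C_Y(t) = E`; an element of `E` conjugate to `t` in `G`
is conjugate to `t` in `Y`.
-/

set_option autoImplicit false

namespace Cfsg.Agent.CoThreeStd.OutCent

open Cfsg.Agent.CoThreeStd.MTwelve Cfsg.Agent.CoThreeStd.OutAut Cfsg.Agent.CoThreeStd.OutCtx
open Cfsg.Agent.CoThreeStd.InvTwo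
open Cfsg.Agent.CoThreeStd.DeltaData (mem_cbe cbe)
open Cfsg.Agent.SporRec.Co3 (P5)

/-! ### permutations of five letters -/

/-- `(0 1)(1 2)` -/
def a1 : P5 := Equiv.swap 0 1 * Equiv.swap 1 2
/-- `(1 2)(2 3)` -/
def a2 : P5 := Equiv.swap 1 2 * Equiv.swap 2 3
/-- `(2 3)(3 4)` -/
def a3 : P5 := Equiv.swap 2 3 * Equiv.swap 3 4

set_option maxRecDepth 100000 in
theorem step1 : ∀ σ : P5, σ * σ * σ = 1 → σ ≠ 1 → ∃ π : P5, π * σ = a1 * π := by decide +kernel

set_option maxRecDepth 100000 in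
theorem step2 : ∀ σ : P5, σ * σ * σ = 1 → a1 * σ ≠ 1 → a1 * σ * (a1 * σ) = 1 →
    ∃ π : P5, π * a1 = a1 * π ∧ π * σ = a2 * π := by decide +kernel

set_option maxRecDepth 100000 in
theorem step3 : ∀ σ : P5, σ * σ * σ = 1 → a2 * σ ≠ 1 → a2 * σ * (a2 * σ) = 1 →
    a1 * a2 * σ ≠ 1 → a1 * a2 * σ * (a1 * a2 * σ) = 1 → σ = a3 := by decide +kernel

theorem cube_conj {X : Type*} [Group X] {u : X} (g : X) (h : u * u * u = 1) :
    (g * u * g⁻¹) * (g * u * g⁻¹) * (g * u * g⁻¹) = 1 := by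
  calc (g * u * g⁻¹) * (g * u * g⁻¹) * (g * u * g⁻¹) = g * (u * u * u) * g⁻¹ := by group
    _ = 1 := by rw [h]; group

theorem sq_conj {X : Type*} [Group X] {u : X} (g : X) (h : u * u = 1) :
    (g * u * g⁻¹) * (g * u * g⁻¹) = 1 := by
  calc (g * u * g⁻¹) * (g * u * g⁻¹) = g * (u * u) * g⁻¹ := by group
    _ = 1 := by rw [h]; group

theorem ne_conj {X : Type*} [Group X] {u : X} (g : X) (h : u ≠ 1) : g * u * g⁻¹ ≠ 1 := by
  intro h1
  apply h
  calc u = g⁻¹ * (g * u * g⁻¹) * g := by group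
    _ = 1 := by rw [h1]; group

theorem conj_triple {s1 s2 s3 : P5} (c1 : s1 * s1 * s1 = 1) (n1 : s1 ≠ 1) (c2 : s2 * s2 * s2 = 1)
    (c3 : s3 * s3 * s3 = 1) (n12 : s1 * s2 ≠ 1) (c12 : s1 * s2 * (s1 * s2) = 1) (n23 : s2 * s3 ≠ 1)
    (c23 : s2 * s3 * (s2 * s3) = 1) (n123 : s1 * s2 * s3 ≠ 1) (c123 : s1 * s2 * s3 * (s1 * s2 * s3) = 1) :
    ∃ π : P5, π * s1 * π⁻¹ = a1 ∧ π * s2 * π⁻¹ = a2 ∧ π * s3 * π⁻¹ = a3 := by
  obtain ⟨u, hu⟩ := step1 s1 c1 n1
  have hu' : u * s1 * u⁻¹ = a1 := by rw [hu]; group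
  have e12 : a1 * (u * s2 * u⁻¹) = u * (s1 * s2) * u⁻¹ := by rw [← hu']; group
  obtain ⟨v, hv, hv2⟩ := step2 (u * s2 * u⁻¹) (cube_conj u c2) (by rw [e12]; exact ne_conj u n12)
    (by rw [e12]; exact sq_conj u c12)
  have hv' : v * a1 * v⁻¹ = a1 := by rw [hv]; group
  have hv2' : v * (u * s2 * u⁻¹) * v⁻¹ = a2 := by rw [hv2]; group
  have e3 : ∀ x : P5, v * (u * x * u⁻¹) * v⁻¹ = (v * u) * x * (v * u)⁻¹ := by intro x; group
  have k1 : (v * u) * s1 * (v * u)⁻¹ = a1 := by rw [← e3, hu', hv']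
  have k2 : (v * u) * s2 * (v * u)⁻¹ = a2 := by rw [← e3, hv2']
  refine ⟨v * u, k1, k2, ?_⟩
  have e23 : a2 * ((v * u) * s3 * (v * u)⁻¹) = (v * u) * (s2 * s3) * (v * u)⁻¹ := by
    nth_rewrite 1 [← k2]; group
  have e123 : a1 * a2 * ((v * u) * s3 * (v * u)⁻¹) = (v * u) * (s1 * s2 * s3) * (v * u)⁻¹ := by
    nth_rewrite 1 [← k1]
    nth_rewrite 1 [← k2]
    group
  apply step3 _ (cube_conj _ c3)
  · rw [e23]; exact ne_conj _ n23
  · rw [e23]; exact sq_conj _ c23
  · rw [e123]; exact ne_conj _ n123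
  · rw [e123]; exact sq_conj _ c123

theorem w_a1 : w a1 = p * q := by rw [a1, map_mul, w_p, w_q]
theorem w_a2 : w a2 = q * r := by rw [a2, map_mul, w_q, w_r]
theorem w_a3 : w a3 = r * s := by rw [a3, map_mul, w_r, w_s]

/-! ### the centraliser of `A₅` in `M₁₂` -/

def testF (l : List ℕ) : Bool :=
  !(eqW (l ++ [1, 2]) ([1, 2] ++ l)) || !(eqW (l ++ [2, 3]) ([2, 3] ++ l)) ||
    !(eqW (l ++ [3, 4]) ([3, 4] ++ l)) || eqW l [] || eqW l [0]

set_option maxRecDepth 100000 in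
theorem testF_all : cbe.all testF = true := by decide +kernel

theorem wd_pq : wd [1, 2] = p * q := by rw [wd_cons, wd_cons, wd_nil, mul_one]; rfl
theorem wd_qr : wd [2, 3] = q * r := by rw [wd_cons, wd_cons, wd_nil, mul_one]; rfl
theorem wd_rs : wd [3, 4] = r * s := by rw [wd_cons, wd_cons, wd_nil, mul_one]; rfl

theorem cent_F (m : H) (h1 : m * (p * q) = p * q * m) (h2 : m * (q * r) = q * r * m)
    (h3 : m * (r * s) = r * s * m) : m = 1 ∨ m = y := by
  have e : p * q * (q * r) = Cfsg.Agent.CoThreeStd.DeltaData.be := by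
    rw [← wd_pq, ← wd_qr, ← wd_append]
    exact wd_eq (by decide +kernel)
  have h4 : m * Cfsg.Agent.CoThreeStd.DeltaData.be = Cfsg.Agent.CoThreeStd.DeltaData.be * m := by
    rw [← e, ← mul_assoc, h1, mul_assoc, h2, ← mul_assoc]
  obtain ⟨l, hl, rfl⟩ := mem_cbe m h4
  have h5 := List.all_eq_true.mp testF_all l hl
  rw [testF, Bool.or_eq_true, Bool.or_eq_true, Bool.or_eq_true, Bool.or_eq_true] at h5
  rcases h5 with (((h5 | h5) | h5) | h5) | h5
  · rw [eqW_of_wd (l := l ++ [1, 2]) (l' := [1, 2] ++ l) (by rw [wd_append, wd_append, wd_pq, h1])] at h5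
    exact absurd h5 (by decide)
  · rw [eqW_of_wd (l := l ++ [2, 3]) (l' := [2, 3] ++ l) (by rw [wd_append, wd_append, wd_qr, h2])] at h5
    exact absurd h5 (by decide)
  · rw [eqW_of_wd (l := l ++ [3, 4]) (l' := [3, 4] ++ l) (by rw [wd_append, wd_append, wd_rs, h3])] at h5
    exact absurd h5 (by decide)
  · left
    rw [wd_eq h5, wd_nil]
  · right
    rw [wd_eq h5, wd_y]

/-- an involution of `M₁₂` commuting with an element of order five is in the class 2A -/
theorem isA_of_five {m u : H} (h1 : m ≠ 1) (h2 : m * m = 1) (h5 : u ^ 5 = 1) (h6 : u ≠ 1)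
    (h7 : u * m = m * u) : IsA m := by
  rcases inv_class m h1 h2 with h | ⟨k, rfl⟩
  · exact h
  exfalso
  have h8 : k * u * k⁻¹ ∈ (Subgroup.centralizer {p * r} : Subgroup H) := by
    rw [Subgroup.mem_centralizer_singleton_iff]
    calc k * u * k⁻¹ * (p * r) = k * (u * (k⁻¹ * (p * r) * k)) * k⁻¹ := by group
      _ = k * ((k⁻¹ * (p * r) * k) * u) * k⁻¹ := by rw [h7]
      _ = _ := by group
  have : Fact (Nat.Prime 5) := ⟨by norm_num⟩
  have h9 : orderOf (k * u * k⁻¹) = 5 := by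
    apply orderOf_eq_prime
    · rw [conj_pow, h5]; group
    · exact ne_conj k h6
  have h10 : orderOf (⟨k * u * k⁻¹, h8⟩ : (Subgroup.centralizer {p * r} : Subgroup H)) = 5 := by
    rw [Subgroup.orderOf_mk, h9]
  have h11 := orderOf_dvd_natCard (⟨k * u * k⁻¹, h8⟩ : (Subgroup.centralizer {p * r} : Subgroup H))
  rw [h10, card_cent_v] at h11
  omega

/-! ### the group `Y` -/

variable {G : Type*} [Group G]

/-- the centraliser of `F` -/
def Y (f : H →* G) : Subgroup G := Subgroup.centralizer {f (p * q), f (q * r), f (r * s)}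

theorem mem_Y {f : H →* G} {x : G} : x ∈ Y f ↔ x * f (p * q) = f (p * q) * x ∧
    x * f (q * r) = f (q * r) * x ∧ x * f (r * s) = f (r * s) * x := by
  rw [Y, Subgroup.mem_centralizer_iff]
  simp only [Set.mem_insert_iff, Set.mem_singleton_iff, forall_eq_or_imp, forall_eq]
  exact ⟨fun h => ⟨h.1.symm, h.2.1.symm, h.2.2.symm⟩, fun h => ⟨h.1.symm, h.2.1.symm, h.2.2.symm⟩⟩

variable {t c : G} {f : H →* G}

theorem t_mem (h : CtxO t c f) : t ∈ Y f :=
  mem_Y.2 ⟨(h.comm _).symm, (h.comm _).symm, (h.comm _).symm⟩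

theorem y_mem (f : H →* G) : f y ∈ Y f := by
  rw [mem_Y]
  simp only [← map_mul, ← w_a1, ← w_a2, ← w_a3, y_comm, and_self]

theorem sign1 : Equiv.Perm.sign a1 = 1 := by decide +kernel
theorem sign2 : Equiv.Perm.sign a2 = 1 := by decide +kernel
theorem sign3 : Equiv.Perm.sign a3 = 1 := by decide +kernel

theorem c_mem (h : CtxO t c f) : c ∈ Y f := by
  rw [mem_Y, h.cf, h.cf, h.cf, ← w_a1, ← w_a2, ← w_a3, alpha_even sign1, alpha_even sign2, alpha_even sign3]
  exact ⟨rfl, rfl, rfl⟩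

theorem mem_Y_f {m : H} (hm : f m ∈ Y f) (hf : Function.Injective f) : m = 1 ∨ m = y := by
  obtain ⟨h1, h2, h3⟩ := mem_Y.1 hm
  refine cent_F m (hf ?_) (hf ?_) (hf ?_)
  · rw [map_mul, map_mul f (p * q) m, h1]
  · rw [map_mul, map_mul f (q * r) m, h2]
  · rw [map_mul, map_mul f (r * s) m, h3]

/-- `E` -/
def ee (t c w : G) (i j k : Bool) : G :=
  (if i then t else 1) * ((if j then c else 1) * (if k then w else 1))

/-- **`C_Y(t) = E`** -/
theorem cent_Y (h : CtxO t c f) {x : G} (hx : x ∈ Y f) (hxt : x * t = t * x) :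
    ∃ i j k, x = ee t c (f y) i j k := by
  obtain ⟨⟨i, j, m⟩, rfl⟩ := El_surj h x hxt
  have hi : (if i then t else 1) ∈ Y f := by
    split_ifs
    · exact t_mem h
    · exact one_mem _
  have hj : (if j then c else 1) ∈ Y f := by
    split_ifs
    · exact c_mem h
    · exact one_mem _
  have hm : f m ∈ Y f := ((Y f).mul_mem_cancel_left hj).1 (((Y f).mul_mem_cancel_left hi).1 hx)
  rcases mem_Y_f hm h.inj with rfl | rfl
  · exact ⟨i, j, false, by simp [El, ee]⟩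
  · exact ⟨i, j, true, by simp [El, ee]⟩

theorem ee_inj (h : CtxO t c f) {i j k i' j' k' : Bool}
    (he : ee t c (f y) i j k = ee t c (f y) i' j' k') : i = i' ∧ j = j' ∧ k = k' := by
  have e : ∀ i j k, ee t c (f y) i j k = El t c f (i, j, if k then y else 1) := by
    intro i j k
    cases k <;> simp [ee, El]
  rw [e, e] at he
  have h1 := El_inj h he
  simp only [Prod.mk.injEq] at h1
  refine ⟨h1.1, h1.2.1, ?_⟩
  have h2 := h1.2.2
  cases k <;> cases k' <;> simp only [if_true, if_false, Bool.false_eq_true] at h2 ⊢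
  · exact absurd h2.symm y_ne_one
  · exact absurd h2 y_ne_one

theorem ee_mem (h : CtxO t c f) (i j k : Bool) : ee t c (f y) i j k ∈ Y f := by
  unfold ee
  have h1 := t_mem h
  have h2 := c_mem h
  have h3 := y_mem f
  have h4 := one_mem (Y f)
  cases i <;> cases j <;> cases k <;> simp only [if_true, if_false, Bool.false_eq_true] <;>
    exact (Y f).mul_mem (by assumption) ((Y f).mul_mem (by assumption) (by assumption))

/-- squares of elements of `C(t)` are in `f(M₁₂)` -/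
theorem sq_mem (h : CtxO t c f) {g : G} (hg : g * t = t * g) : ∃ m, g * g = f m := by
  have tt := h.tt
  have cc := h.cc
  have ct := h.ct
  obtain ⟨m, h1 | h1 | h1 | h1⟩ := h.cent g hg
  · exact ⟨m * m, by rw [h1, map_mul]⟩
  · refine ⟨m * m, ?_⟩
    calc g * g = t * (f m * t) * f m := by rw [h1]; group
      _ = (t * t) * (f m * f m) := by rw [h.comm]; group
      _ = _ := by rw [tt, one_mul, map_mul]
  · refine ⟨alpha m * m, ?_⟩
    calc g * g = (c * f m) * c * f m := by rw [h1]; group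
      _ = f (alpha m) * (c * c) * f m := by rw [h.cf]; group
      _ = _ := by rw [cc, mul_one, map_mul]
  · refine ⟨alpha m * m, ?_⟩
    calc g * g = t * (c * (f m * t)) * (c * f m) := by rw [h1]; group
      _ = t * (c * t) * f m * (c * f m) := by rw [h.comm]; group
      _ = (t * t) * (c * f m) * c * f m := by rw [ct]; group
      _ = f (alpha m) * (c * c) * f m := by rw [tt, h.cf]; group
      _ = _ := by rw [cc, mul_one, map_mul]

/-- elements of order three of `C(t)` are in `f(M₁₂)` -/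
theorem three_mem (h : CtxO t c f) {g : G} (hg : g * t = t * g) (h3 : g * g * g = 1) : ∃ m, g = f m := by
  obtain ⟨m, hm⟩ := sq_mem h hg
  refine ⟨m * m, ?_⟩
  rw [map_mul, ← hm]
  calc g = (g * g * g) * g := by rw [h3, one_mul]
    _ = _ := by group

theorem pq3 : p * q * (p * q) * (p * q) = 1 := by
  rw [← wd_pq, ← wd_append, ← wd_append, ← wd_nil]
  exact wd_eq (by decide +kernel)

theorem qr3 : q * r * (q * r) * (q * r) = 1 := by
  rw [← wd_qr, ← wd_append, ← wd_append, ← wd_nil]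
  exact wd_eq (by decide +kernel)

theorem rs3 : r * s * (r * s) * (r * s) = 1 := by
  rw [← wd_rs, ← wd_append, ← wd_append, ← wd_nil]
  exact wd_eq (by decide +kernel)

theorem pq1 : p * q ≠ 1 := by
  rw [← wd_pq]
  intro h
  exact absurd (eqW_of_wd (l' := []) h) (by decide +kernel)

theorem pr2 : p * q * (q * r) * (p * q * (q * r)) = 1 := by
  rw [← wd_pq, ← wd_qr, ← wd_append, ← wd_append, ← wd_nil]
  exact wd_eq (by decide +kernel)

theorem pr1 : p * q * (q * r) ≠ 1 := by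
  rw [← wd_pq, ← wd_qr, ← wd_append]
  intro h
  exact absurd (eqW_of_wd (l' := []) h) (by decide +kernel)

theorem qs2 : q * r * (r * s) * (q * r * (r * s)) = 1 := by
  rw [← wd_rs, ← wd_qr, ← wd_append, ← wd_append, ← wd_nil]
  exact wd_eq (by decide +kernel)

theorem qs1 : q * r * (r * s) ≠ 1 := by
  rw [← wd_rs, ← wd_qr, ← wd_append]
  intro h
  exact absurd (eqW_of_wd (l' := []) h) (by decide +kernel)

theorem ps2 : p * q * (q * r) * (r * s) * (p * q * (q * r) * (r * s)) = 1 := by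
  rw [← wd_rs, ← wd_qr, ← wd_pq, ← wd_append, ← wd_append, ← wd_append, ← wd_nil]
  exact wd_eq (by decide +kernel)

theorem ps1 : p * q * (q * r) * (r * s) ≠ 1 := by
  rw [← wd_rs, ← wd_qr, ← wd_pq, ← wd_append, ← wd_append]
  intro h
  exact absurd (eqW_of_wd (l' := []) h) (by decide +kernel)

theorem five1 : p * q * (r * s) ≠ 1 := by
  rw [← wd_rs, ← wd_pq, ← wd_append]
  intro h
  exact absurd (eqW_of_wd (l' := []) h) (by decide +kernel)

theorem five5 : (p * q * (r * s)) ^ 5 = 1 := by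
  rw [← wd_rs, ← wd_pq, ← wd_append, ← Cfsg.Agent.CoThreeStd.DeltaData.wd_wp, ← wd_nil]
  exact wd_eq (by decide +kernel)

/-- the case `m = y` of Lemma A -/
theorem lemmaA' (h : CtxO t c f) {g x z : G} (hx : g * t * g⁻¹ = x) (hz : g * f y * g⁻¹ = z)
    (hxY : x ∈ Y f) (hzY : z ∈ Y f) : ∃ g' ∈ Y f, g' * t * g'⁻¹ = x ∧ g' * f y * g'⁻¹ = z := by
  obtain ⟨x1, x2, x3⟩ := mem_Y.1 hxY
  obtain ⟨z1, z2, z3⟩ := mem_Y.1 hzY
  have key : ∀ a : H, x * f a = f a * x → z * f a = f a * z → a * a * a = 1 →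
      ∃ σ : P5, g⁻¹ * f a * g = f (w σ) := by
    intro a ha hb h3
    have k1 : g⁻¹ * f a * g * t = t * (g⁻¹ * f a * g) := by
      calc g⁻¹ * f a * g * t = g⁻¹ * (f a * (g * t * g⁻¹)) * g := by group
        _ = g⁻¹ * ((g * t * g⁻¹) * f a) * g := by rw [hx, ha]
        _ = _ := by group
    have k2 : g⁻¹ * f a * g * (g⁻¹ * f a * g) * (g⁻¹ * f a * g) = 1 := by
      calc g⁻¹ * f a * g * (g⁻¹ * f a * g) * (g⁻¹ * f a * g) = g⁻¹ * (f a * f a * f a) * g := by group
        _ = 1 := by rw [← map_mul, ← map_mul, h3, map_one]; group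
    obtain ⟨n, hn⟩ := three_mem h k1 k2
    have k3 : n * y = y * n := by
      apply h.inj
      rw [map_mul, map_mul, ← hn]
      calc g⁻¹ * f a * g * f y = g⁻¹ * (f a * (g * f y * g⁻¹)) * g := by group
        _ = g⁻¹ * ((g * f y * g⁻¹) * f a) * g := by rw [hz, hb]
        _ = _ := by group
    have k4 : n * n * n = 1 := by
      apply h.inj
      rw [map_mul, map_mul, ← hn, k2, map_one]
    obtain ⟨σ, h5 | h5⟩ := cent_y n k3
    · exact ⟨σ, by rw [hn, h5]⟩
    · exfalso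
      apply y_ne_w (σ * σ * σ)⁻¹
      rw [map_inv, map_mul, map_mul]
      apply eq_inv_of_mul_eq_one_left
      rw [← k4, h5]
      have e := y_comm σ
      calc y * (w σ * w σ * w σ) = (y * y) * y * w σ * w σ * w σ := by rw [y_sq]; group
        _ = y * (y * (y * w σ) * w σ) * w σ := by group
        _ = y * (y * (w σ * y) * w σ) * w σ := by rw [e]
        _ = y * ((y * w σ) * (y * w σ)) * w σ := by group
        _ = y * ((w σ * y) * (y * w σ)) * w σ := by rw [e]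
        _ = y * w σ * y * (y * w σ * w σ) := by group
        _ = y * w σ * y * (w σ * y * w σ) := by rw [e]
        _ = _ := by group
  obtain ⟨s1, e1⟩ := key _ x1 z1 pq3
  obtain ⟨s2, e2⟩ := key _ x2 z2 qr3
  obtain ⟨s3, e3⟩ := key _ x3 z3 rs3
  have Rmul : ∀ {a b : H} {σ τ : P5}, g⁻¹ * f a * g = f (w σ) → g⁻¹ * f b * g = f (w τ) →
      g⁻¹ * f (a * b) * g = f (w (σ * τ)) := by
    intro a b σ τ h1 h2
    rw [map_mul, map_mul, map_mul, ← h1, ← h2]
    group
  have Rone : ∀ {a : H} {σ : P5}, g⁻¹ * f a * g = f (w σ) → a = 1 → σ = 1 := by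
    intro a σ h1 h2
    apply w_injective
    apply h.inj
    rw [← h1, h2, map_one, map_one, map_one]
    group
  have Rne : ∀ {a : H} {σ : P5}, g⁻¹ * f a * g = f (w σ) → a ≠ 1 → σ ≠ 1 := by
    rintro a σ h1 h2 rfl
    apply h2
    apply h.inj
    rw [map_one, map_one] at h1
    rw [map_one]
    calc f a = g * (g⁻¹ * f a * g) * g⁻¹ := by group
      _ = 1 := by rw [h1]; group
  have e12 := Rmul e1 e2
  have e23 := Rmul e2 e3
  have e123 := Rmul e12 e3
  obtain ⟨π, p1, p2, p3⟩ := conj_triple (Rone (Rmul (Rmul e1 e1) e1) pq3) (Rne e1 pq1)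
    (Rone (Rmul (Rmul e2 e2) e2) qr3) (Rone (Rmul (Rmul e3 e3) e3) rs3) (Rne e12 pr1)
    (Rone (Rmul e12 e12) pr2) (Rne e23 qs1) (Rone (Rmul e23 e23) qs2) (Rne e123 ps1)
    (Rone (Rmul e123 e123) ps2)
  have hπt : f (w π) * t = t * f (w π) := h.comm _
  have hπy : f (w π) * f y = f y * f (w π) := by rw [← map_mul, ← map_mul, y_comm]
  refine ⟨g * (f (w π))⁻¹, ?_, ?_, ?_⟩
  · have key2 : ∀ {a : H} {σ τ : P5}, g⁻¹ * f a * g = f (w σ) → π * σ * π⁻¹ = τ → w τ = a →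
        g * (f (w π))⁻¹ * f a = f a * (g * (f (w π))⁻¹) := by
      intro a σ τ h1 h2 h3
      have h4 : f a = f (w π) * f (w σ) * (f (w π))⁻¹ := by
        rw [← h3, ← h2, map_mul, map_mul, map_mul, map_mul, map_inv, map_inv]
      have h5 : f a = g * f (w σ) * g⁻¹ := by rw [← h1]; group
      calc g * (f (w π))⁻¹ * f a = g * (f (w π))⁻¹ * (f (w π) * f (w σ) * (f (w π))⁻¹) := by rw [← h4]
        _ = (g * f (w σ) * g⁻¹) * (g * (f (w π))⁻¹) := by group
        _ = _ := by rw [← h5]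
    exact mem_Y.2 ⟨key2 e1 p1 w_a1, key2 e2 p2 w_a2, key2 e3 p3 w_a3⟩
  · rw [← hx]
    calc g * (f (w π))⁻¹ * t * (g * (f (w π))⁻¹)⁻¹ = g * (f (w π))⁻¹ * (t * f (w π)) * g⁻¹ := by group
      _ = g * (f (w π))⁻¹ * (f (w π) * t) * g⁻¹ := by rw [hπt]
      _ = _ := by group
  · rw [← hz]
    calc g * (f (w π))⁻¹ * f y * (g * (f (w π))⁻¹)⁻¹ = g * (f (w π))⁻¹ * (f y * f (w π)) * g⁻¹ := by group
      _ = g * (f (w π))⁻¹ * (f (w π) * f y) * g⁻¹ := by rw [hπy]
      _ = _ := by group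

/-- **Lemma A.** -/
theorem lemmaA (h : CtxO t c f) {g x z : G} {m : H} (hx : g * t * g⁻¹ = x) (hz : g * f m * g⁻¹ = z)
    (hxY : x ∈ Y f) (hzY : z ∈ Y f) (hz1 : z ≠ 1) (hz2 : z * z = 1) :
    ∃ g' ∈ Y f, g' * t * g'⁻¹ = x ∧ g' * f y * g'⁻¹ = z := by
  obtain ⟨x1, x2, x3⟩ := mem_Y.1 hxY
  obtain ⟨z1, z2, z3⟩ := mem_Y.1 hzY
  have key : ∀ a : H, x * f a = f a * x → z * f a = f a * z → a * a * a = 1 →
      ∃ n : H, g⁻¹ * f a * g = f n ∧ n * m = m * n := by
    intro a ha hb h3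
    have k1 : g⁻¹ * f a * g * t = t * (g⁻¹ * f a * g) := by
      calc g⁻¹ * f a * g * t = g⁻¹ * (f a * (g * t * g⁻¹)) * g := by group
        _ = g⁻¹ * ((g * t * g⁻¹) * f a) * g := by rw [hx, ha]
        _ = _ := by group
    have k2 : g⁻¹ * f a * g * (g⁻¹ * f a * g) * (g⁻¹ * f a * g) = 1 := by
      calc g⁻¹ * f a * g * (g⁻¹ * f a * g) * (g⁻¹ * f a * g) = g⁻¹ * (f a * f a * f a) * g := by group
        _ = 1 := by rw [← map_mul, ← map_mul, h3, map_one]; group
    obtain ⟨n, hn⟩ := three_mem h k1 k2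
    refine ⟨n, hn, ?_⟩
    apply h.inj
    rw [map_mul, map_mul, ← hn]
    calc g⁻¹ * f a * g * f m = g⁻¹ * (f a * (g * f m * g⁻¹)) * g := by group
      _ = g⁻¹ * ((g * f m * g⁻¹) * f a) * g := by rw [hz, hb]
      _ = _ := by group
  obtain ⟨n1, e1, k1⟩ := key _ x1 z1 pq3
  obtain ⟨n3, e3, k3⟩ := key _ x3 z3 rs3
  have e13 : g⁻¹ * f (p * q * (r * s)) * g = f (n1 * n3) := by
    rw [map_mul f (p * q), map_mul f n1, ← e1, ← e3]
    group
  have hm1 : m ≠ 1 := by
    rintro rfl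
    apply hz1
    rw [← hz, map_one]
    group
  have hm2 : m * m = 1 := by
    apply h.inj
    rw [map_mul, map_one]
    calc f m * f m = g⁻¹ * ((g * f m * g⁻¹) * (g * f m * g⁻¹)) * g := by group
      _ = 1 := by rw [hz, hz2]; group
  have hA : IsA m := by
    apply isA_of_five (u := n1 * n3) hm1 hm2
    · apply h.inj
      rw [map_pow, ← e13, map_one]
      have : (g⁻¹ * f (p * q * (r * s)) * g⁻¹⁻¹) ^ 5 = g⁻¹ * f (p * q * (r * s)) ^ 5 * g⁻¹⁻¹ := conj_pow
      rw [inv_inv] at this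
      rw [this, ← map_pow, five5, map_one]
      group
    · intro h1
      apply five1
      apply h.inj
      rw [h1, map_one] at e13
      rw [map_one]
      calc f (p * q * (r * s)) = g * (g⁻¹ * f (p * q * (r * s)) * g) * g⁻¹ := by group
        _ = 1 := by rw [e13]; group
    · rw [mul_assoc, k3, ← mul_assoc, k1, mul_assoc]
  obtain ⟨k, hk⟩ := hA
  have hkt := h.comm k
  refine lemmaA' h (g := g * (f k)⁻¹) ?_ ?_ hxY hzY
  · rw [← hx]
    calc g * (f k)⁻¹ * t * (g * (f k)⁻¹)⁻¹ = g * (f k)⁻¹ * (t * f k) * g⁻¹ := by group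
      _ = g * (f k)⁻¹ * (f k * t) * g⁻¹ := by rw [hkt]
      _ = _ := by group
  · rw [← hz, ← hk, map_mul, map_mul, map_inv]
    group

/-- a product of two outer elements of `C(t)` is inner -/
theorem outer_mul (h : CtxO t c f) (i j : Bool) (m n : H) :
    ∃ k, (if i then t else 1) * (c * f m) * ((if j then t else 1) * (c * f n)) = f k ∨
      (if i then t else 1) * (c * f m) * ((if j then t else 1) * (c * f n)) = t * f k := by
  have tt := h.tt
  have e1 : c * f m * (c * f n) = f (alpha m * n) := by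
    calc c * f m * (c * f n) = (c * f m) * c * f n := by group
      _ = f (alpha m) * (c * c) * f n := by rw [h.cf]; group
      _ = _ := by rw [h.cc, mul_one, map_mul]
  have e2 : c * f m * t = t * (c * f m) := by rw [mul_assoc, h.comm, ← mul_assoc, h.ct, mul_assoc]
  refine ⟨alpha m * n, ?_⟩
  cases i <;> cases j <;> simp only [if_true, if_false, Bool.false_eq_true, one_mul]
  · left; exact e1
  · right
    rw [← mul_assoc, e2, mul_assoc, e1]
  · right
    rw [mul_assoc, e1]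
  · left
    calc t * (c * f m) * (t * (c * f n)) = t * (c * f m * t) * (c * f n) := by group
      _ = (t * t) * (c * f m * (c * f n)) := by rw [e2]; group
      _ = _ := by rw [tt, one_mul, e1]

/-- **Lemmas B and A.** -/
theorem conj_in_Y (h : CtxO t c f) {x e₁ e₂ : G} (hx : IsConj t x) (hxY : x ∈ Y f) (h1Y : e₁ ∈ Y f)
    (h2Y : e₂ ∈ Y f) (sx : x * x = 1) (s1 : e₁ * e₁ = 1) (s2 : e₂ * e₂ = 1) (c1 : e₁ * x = x * e₁)
    (c2 : e₂ * x = x * e₂) (c12 : e₁ * e₂ = e₂ * e₁) (n1 : e₁ ≠ 1) (n1' : e₁ ≠ x) (n2 : e₂ ≠ 1) (n2' : e₂ ≠ x)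
    (n3 : e₁ * e₂ ≠ 1) (n3' : e₁ * e₂ ≠ x) : ∃ k ∈ Y f, k * x * k⁻¹ = t := by
  obtain ⟨g, hg⟩ := isConj_iff.1 hx
  -- it is enough to find `z`
  have main : ∀ z m, z ∈ Y f → z * z = 1 → z * x = x * z → z ≠ 1 → z ≠ x →
      (g⁻¹ * z * g = f m ∨ g⁻¹ * z * g = t * f m) → ∃ k ∈ Y f, k * x * k⁻¹ = t := by
    intro z m hzY z2 zx z1 zx' hz
    have key : ∀ z, z ∈ Y f → z * z = 1 → z ≠ 1 → g⁻¹ * z * g = f m → ∃ k ∈ Y f, k * x * k⁻¹ = t := by
      intro z hzY z2 z1 hz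
      obtain ⟨g', hg', h1, -⟩ := lemmaA h (z := z) hg (by rw [← hz]; group) hxY hzY z1 z2
      refine ⟨g'⁻¹, (Y f).inv_mem hg', ?_⟩
      rw [← h1]
      group
    rcases hz with hz | hz
    · exact key z hzY z2 z1 hz
    · refine key (x * z) ((Y f).mul_mem hxY hzY) ?_ ?_ ?_
      · calc x * z * (x * z) = x * (z * x) * z := by group
          _ = (x * x) * (z * z) := by rw [zx]; group
          _ = 1 := by rw [sx, z2, one_mul]
      · intro h1
        apply zx'
        calc z = x⁻¹ * (x * z) := by group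
          _ = x := by rw [h1, mul_one, inv_eq_of_mul_eq_one_left sx]
      · calc g⁻¹ * (x * z) * g = (g⁻¹ * x * g) * (g⁻¹ * z * g) := by group
          _ = t * (t * f m) := by rw [hz, ← hg]; group
          _ = f m := by rw [← mul_assoc, h.tt, one_mul]
  have ct : ∀ e, e * x = x * e → g⁻¹ * e * g * t = t * (g⁻¹ * e * g) := by
    intro e he
    calc g⁻¹ * e * g * t = g⁻¹ * (e * (g * t * g⁻¹)) * g := by group
      _ = g⁻¹ * ((g * t * g⁻¹) * e) * g := by rw [hg, he]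
      _ = _ := by group
  obtain ⟨m, h1 | h1 | h1 | h1⟩ := h.cent _ (ct e₁ c1)
  · exact main e₁ m h1Y s1 c1 n1 n1' (Or.inl h1)
  · exact main e₁ m h1Y s1 c1 n1 n1' (Or.inr h1)
  all_goals
    obtain ⟨n, h2 | h2 | h2 | h2⟩ := h.cent _ (ct e₂ c2)
    · exact main e₂ n h2Y s2 c2 n2 n2' (Or.inl h2)
    · exact main e₂ n h2Y s2 c2 n2 n2' (Or.inr h2)
    all_goals
      have h12Y := (Y f).mul_mem h1Y h2Y
      have s12 : e₁ * e₂ * (e₁ * e₂) = 1 := by
        calc e₁ * e₂ * (e₁ * e₂) = e₁ * (e₂ * e₁) * e₂ := by group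
          _ = (e₁ * e₁) * (e₂ * e₂) := by rw [← c12]; group
          _ = 1 := by rw [s1, s2, one_mul]
      have c12x : e₁ * e₂ * x = x * (e₁ * e₂) := by rw [mul_assoc, c2, ← mul_assoc, c1, mul_assoc]
      have hprod : g⁻¹ * (e₁ * e₂) * g = (g⁻¹ * e₁ * g) * (g⁻¹ * e₂ * g) := by group
  · obtain ⟨k, hk⟩ := outer_mul h false false m n
    simp only [if_false, Bool.false_eq_true, one_mul] at hk
    exact main (e₁ * e₂) k h12Y s12 c12x n3 n3' (by rw [hprod, h1, h2]; exact hk)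
  · obtain ⟨k, hk⟩ := outer_mul h false true m n
    simp only [if_false, if_true, Bool.false_eq_true, one_mul] at hk
    exact main (e₁ * e₂) k h12Y s12 c12x n3 n3' (by rw [hprod, h1, h2]; exact hk)
  · obtain ⟨k, hk⟩ := outer_mul h true false m n
    simp only [if_false, if_true, Bool.false_eq_true, one_mul] at hk
    exact main (e₁ * e₂) k h12Y s12 c12x n3 n3' (by rw [hprod, h1, h2]; exact hk)
  · obtain ⟨k, hk⟩ := outer_mul h true true m n
    simp only [if_true] at hk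
    exact main (e₁ * e₂) k h12Y s12 c12x n3 n3' (by rw [hprod, h1, h2]; exact hk)

end Cfsg.Agent.CoThreeStd.OutCent
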