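import Cfsg.Agent.CoThreeStd.OutPat

/-!
# S1750, `C_G(t) = ⟨t⟩ × M₁₂:2`, pattern `Suz:2` (`t ~ t c`, `t ≁ c`): the element `d` (helper984)
-/

set_option autoImplicit false

namespace Cfsg.Agent.CoThreeStd.OutD

open Cfsg.Agent.CoThreeStd.MTwelve Cfsg.Agent.CoThreeStd.OutAut Cfsg.Agent.CoThreeStd.OutCtx
open Cfsg.Agent.CoThreeStd.InvTwo Cfsg.Agent.CoThreeStd.OutCent Cfsg.Agent.CoThreeStd.OutPat

variable {G : Type*} [Group G] {t c : G} {f : H →* G}

/-- `d` lies in `Y` and acts on `E` by `t ↦ t c y`, `c ↦ c y`, `y ↦ c`. -/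
structure Act (t c : G) (f : H →* G) (d : G) : Prop where
  mem : d ∈ Y f
  a1 : d * t * d⁻¹ = ee t c (f y) true true true
  a2 : d * c * d⁻¹ = ee t c (f y) false true true
  a3 : d * f y * d⁻¹ = ee t c (f y) false true false

theorem Act.ee (h : CtxO t c f) {d : G} (A : Act t c f d) (i j k : Bool) :
    d * ee t c (f y) i j k * d⁻¹ = ee t c (f y) i (xor i (xor j k)) (xor i j) := by
  rw [ee_act h A.a1 A.a2 A.a3]
  congr 1 <;> cases i <;> cases j <;> cases k <;> rfl

theorem Act.ee_inv (h : CtxO t c f) {d : G} (A : Act t c f d) (i j k : Bool) :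
    d⁻¹ * OutCent.ee t c (f y) i j k * d = OutCent.ee t c (f y) i (xor i k) (xor j k) := by
  have h1 := A.ee h i (xor i k) (xor j k)
  have e : OutCent.ee t c (f y) i (xor i (xor (xor i k) (xor j k))) (xor i (xor i k)) =
      OutCent.ee t c (f y) i j k := by
    congr 1 <;> cases i <;> cases j <;> cases k <;> rfl
  rw [e] at h1
  rw [← h1]
  group

/-- the inverse of `f p` -/
theorem pp (f : H →* G) : f p * f p = 1 := by
  rw [← map_mul, show p * p = 1 from gen_sq 1, map_one]

theorem ip (f : H →* G) : (f p)⁻¹ = f p := inv_eq_of_mul_eq_one_left (pp f)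

theorem ee_p' (h : CtxO t c f) (i j k : Bool) :
    f p * ee t c (f y) i j k * (f p)⁻¹ = ee t c (f y) i j (xor k j) := by
  have := ee_p h i j k
  rwa [ip] at this ⊢

theorem Y_p' {x : G} (hx : x ∈ Y f) : f p * x * (f p)⁻¹ ∈ Y f := by
  have := Y_p hx
  rwa [ip] at this ⊢

theorem exists_act (h : CtxO t c f) (hy : ¬ IsConj t (t * f y)) (h1 : ¬ IsConj t c) (h2 : IsConj t (t * c)) :
    ∃ d, Act t c f d := by
  have wt := h.comm y
  have wc := cy h
  have cm : ∀ i j k i' j' k', ee t c (f y) i j k * ee t c (f y) i' j' k' =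
    ee t c (f y) i' j' k' * ee t c (f y) i j k := ee_comm h
  have ne := @ne_of_idx _ _ _ _ _ h
  obtain ⟨g, hg, hgc⟩ := conj_in_Y h (x := ee t c (f y) true true false) (e₁ := ee t c (f y) true false false)
    (e₂ := ee t c (f y) false false true) (by rw [e110]; exact h2) (ee_mem h _ _ _) (ee_mem h _ _ _) (ee_mem h _ _ _)
    (ee_sq h _ _ _) (ee_sq h _ _ _) (ee_sq h _ _ _) (cm _ _ _ _ _ _) (cm _ _ _ _ _ _) (cm _ _ _ _ _ _)
    (by rw [← e000 (t := t) (c := c) (f := f)]; exact ne (by decide)) (ne (by decide))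
    (by rw [← e000 (t := t) (c := c) (f := f)]; exact ne (by decide)) (ne (by decide))
    (by rw [ee_mul h, ← e000 (t := t) (c := c) (f := f)]; exact ne (by decide))
    (by rw [ee_mul h]; exact ne (by decide))
  have hcp : IsConj c (c * f y) := isConj_iff.2 ⟨(f p)⁻¹, by rw [inv_inv, cp h]⟩
  have htcp : IsConj (t * c) (t * (c * f y)) := isConj_iff.2 ⟨(f p)⁻¹, by
    rw [inv_inv]
    calc (f p)⁻¹ * (t * c) * f p = ((f p)⁻¹ * t * f p) * ((f p)⁻¹ * c * f p) := by group
      _ = _ := by rw [tp h, cp h]⟩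
  -- images of the conjugates of `t`
  have key : ∀ i j k, IsConj t (ee t c (f y) i j k) → ee t c (f y) i j k ≠ ee t c (f y) true true false →
      g * ee t c (f y) i j k * g⁻¹ = ee t c (f y) true true false ∨
      g * ee t c (f y) i j k * g⁻¹ = ee t c (f y) true true true := by
    intro i j k hn hne
    obtain ⟨i', j', k', he⟩ := conj_E h hg (x := ee t c (f y) true true false) rfl hgc i j k
    have hn' : IsConj t (ee t c (f y) i' j' k') := by
      rw [← he]
      exact hn.trans (isConj_iff.2 ⟨g, rfl⟩)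
    have hne' : ee t c (f y) i' j' k' ≠ t := by
      intro h3
      apply hne
      have h4 : g * ee t c (f y) i j k * g⁻¹ = g * ee t c (f y) true true false * g⁻¹ := by rw [he, h3, hgc]
      exact mul_left_cancel (mul_right_cancel h4)
    rw [he]
    revert hn' hne'
    cases i' <;> cases j' <;> cases k' <;> intro hn' hne'
    · rw [e000, isConj_comm, isConj_one_right] at hn'
      exact absurd hn' h.t_ne
    · rw [e001] at hn'; exact absurd hn' (not_conj_y h)
    · rw [e010] at hn'; exact absurd hn' h1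
    · rw [e011] at hn'; exact absurd (hn'.trans hcp.symm) h1
    · rw [e100] at hne'; exact absurd rfl hne'
    · rw [e101] at hn'; exact absurd hn' hy
    · exact Or.inl rfl
    · exact Or.inr rfl
  have k1 := key true false false (by rw [e100]) (ne (by decide))
  have k2 := key true true true (by rw [e111]; exact h2.trans htcp) (ne (by decide))
  have k3 : g * ee t c (f y) true false false * g⁻¹ ≠ g * ee t c (f y) true true true * g⁻¹ := by
    intro h3
    exact ne (by decide) (mul_left_cancel (mul_right_cancel h3))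
  -- `c = t (t c)`, `y = (t c)(t c y)`
  have ec : ∀ x, x * c * x⁻¹ = (x * ee t c (f y) true false false * x⁻¹) *
      (x * ee t c (f y) true true false * x⁻¹) := by
    intro x
    have : ee t c (f y) true false false * ee t c (f y) true true false = c :=
      (ee_mul h _ _ _ _ _ _).trans e010
    calc x * c * x⁻¹ = x * (ee t c (f y) true false false * ee t c (f y) true true false) * x⁻¹ := by rw [this]
      _ = _ := by group
  have ey : ∀ x, x * f y * x⁻¹ = (x * ee t c (f y) true true false * x⁻¹) *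
      (x * ee t c (f y) true true true * x⁻¹) := by
    intro x
    have : ee t c (f y) true true false * ee t c (f y) true true true = f y :=
      (ee_mul h _ _ _ _ _ _).trans e001
    calc x * f y * x⁻¹ = x * (ee t c (f y) true true false * ee t c (f y) true true true) * x⁻¹ := by rw [this]
      _ = _ := by group
  have et : t = ee t c (f y) true false false := e100.symm
  rcases k1 with k1 | k1
  · have k2' : g * ee t c (f y) true true true * g⁻¹ = ee t c (f y) true true true := by
      rcases k2 with k2 | k2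
      · exact absurd (k1.trans k2.symm) k3
      · exact k2
    have b1 : g * t * g⁻¹ = ee t c (f y) true true false := by
      rwa [e100] at k1
    have b2 : g * c * g⁻¹ = ee t c (f y) false true false := by
      rw [ec, k1, hgc]
      exact (congrArg (ee t c (f y) true true false * ·) et).trans (ee_mul h _ _ _ _ _ _)
    have b3 : g * f y * g⁻¹ = ee t c (f y) false true true := by
      rw [ey, hgc, k2']
      exact (congrArg (· * ee t c (f y) true true true) et).trans (ee_mul h _ _ _ _ _ _)
    have hB : ∀ i j k, g * ee t c (f y) i j k * g⁻¹ = ee t c (f y) i (xor i (xor j k)) k := by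
      intro i j k
      rw [ee_act h b1 b2 b3]
      congr 1 <;> cases i <;> cases j <;> cases k <;> rfl
    -- `g' = f p g (f p)⁻¹`
    have hB' : ∀ i j k, (f p * g * (f p)⁻¹) * ee t c (f y) i j k * (f p * g * (f p)⁻¹)⁻¹ =
        ee t c (f y) i (xor i k) (xor i j) := by
      intro i j k
      calc (f p * g * (f p)⁻¹) * ee t c (f y) i j k * (f p * g * (f p)⁻¹)⁻¹ =
          f p * (g * ((f p)⁻¹ * ee t c (f y) i j k * f p) * g⁻¹) * (f p)⁻¹ := by group
        _ = ee t c (f y) i (xor i (xor j (xor k j))) (xor (xor k j) (xor i (xor j (xor k j)))) := by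
            rw [ee_p h, hB, ee_p' h]
        _ = _ := by congr 1 <;> cases i <;> cases j <;> cases k <;> rfl
    have hgg : ∀ i j k, (g * (f p * g * (f p)⁻¹)) * ee t c (f y) i j k * (g * (f p * g * (f p)⁻¹))⁻¹ =
        ee t c (f y) i (xor i (xor j k)) (xor i j) := by
      intro i j k
      calc (g * (f p * g * (f p)⁻¹)) * ee t c (f y) i j k * (g * (f p * g * (f p)⁻¹))⁻¹ =
          g * ((f p * g * (f p)⁻¹) * ee t c (f y) i j k * (f p * g * (f p)⁻¹)⁻¹) * g⁻¹ := by group
        _ = ee t c (f y) i (xor i (xor (xor i k) (xor i j))) (xor i j) := by rw [hB', hB]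
        _ = _ := by congr 1 <;> cases i <;> cases j <;> cases k <;> rfl
    refine ⟨g * (f p * g * (f p)⁻¹), (Y f).mul_mem hg (Y_p' hg), ?_, ?_, ?_⟩
    · have := hgg true false false; rwa [e100] at this
    · have := hgg false true false; rwa [e010] at this
    · have := hgg false false true; rwa [e001] at this
  · have k2' : g * ee t c (f y) true true true * g⁻¹ = ee t c (f y) true true false := by
      rcases k2 with k2 | k2
      · exact k2
      · exact absurd (k1.trans k2.symm) k3
    refine ⟨g, hg, ?_, ?_, ?_⟩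
    · rwa [e100] at k1
    · rw [ec, k1, hgc]
      exact (congrArg (ee t c (f y) true true true * ·) et).trans (ee_mul h _ _ _ _ _ _)
    · rw [ey, hgc, k2']
      exact (congrArg (· * ee t c (f y) true true false) et).trans (ee_mul h _ _ _ _ _ _)

/-- two elements of `Y` with the same action on `t` differ by an element of `E` -/
theorem mem_E_of (h : CtxO t c f) {x : G} (hx : x ∈ Y f) (hxt : x * t * x⁻¹ = t) :
    ∃ i j k, x = ee t c (f y) i j k := cent_Y h hx (mul_inv_eq_iff_eq_mul.1 hxt)

theorem act_mul_E (h : CtxO t c f) {d e : G} (A : Act t c f d) {i j k : Bool} (he : e = ee t c (f y) i j k) :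
    Act t c f (d * e) := by
  have key : ∀ i' j' k', (d * e) * ee t c (f y) i' j' k' * (d * e)⁻¹ = d * ee t c (f y) i' j' k' * d⁻¹ := by
    intro i' j' k'
    calc (d * e) * ee t c (f y) i' j' k' * (d * e)⁻¹ = d * (e * ee t c (f y) i' j' k') * e⁻¹ * d⁻¹ := by group
      _ = d * (ee t c (f y) i' j' k' * e) * e⁻¹ * d⁻¹ := by rw [he, ee_comm h]
      _ = _ := by group
  refine ⟨(Y f).mul_mem A.mem (by rw [he]; exact ee_mem h _ _ _), ?_, ?_, ?_⟩
  · have := key true false false
    rw [e100] at this
    rw [this, A.a1]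
  · have := key false true false
    rw [e010] at this
    rw [this, A.a2]
  · have := key false false true
    rw [e001] at this
    rw [this, A.a3]

/-- `d³ = 1` may be assumed -/
theorem exists_act3 (h : CtxO t c f) {d : G} (A : Act t c f d) : ∃ d, Act t c f d ∧ d * d * d = 1 := by
  have h3 : (d * d * d) * t * (d * d * d)⁻¹ = t := by
    calc (d * d * d) * t * (d * d * d)⁻¹ = d * (d * (d * t * d⁻¹) * d⁻¹) * d⁻¹ := by group
      _ = t := by
        rw [A.a1, A.ee h, A.ee h]
        exact e100
  obtain ⟨i, j, k, he⟩ := mem_E_of h ((Y f).mul_mem ((Y f).mul_mem A.mem A.mem) A.mem) h3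
  refine ⟨d * (d * d * d), act_mul_E h A he, ?_⟩
  have h4 : (d * d * d) * (d * d * d) = 1 := by rw [he]; exact ee_sq h _ _ _
  calc d * (d * d * d) * (d * (d * d * d)) * (d * (d * d * d)) =
      ((d * d * d) * (d * d * d)) * ((d * d * d) * (d * d * d)) := by group
    _ = 1 := by rw [h4, one_mul]

/-- the element `d` -/
structure Dd (t c : G) (f : H →* G) (d : G) : Prop extends Act t c f d where
  ddd : d * d * d = 1
  dp : f p * d * f p = d⁻¹

theorem exists_d (h : CtxO t c f) {d : G} (A : Act t c f d) (hd : d * d * d = 1) : ∃ d, Dd t c f d := by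
  have et : t = ee t c (f y) true false false := e100.symm
  -- `k = (f p)⁻¹ d f p d`
  have hk1 : ((f p)⁻¹ * d * f p * d) * t * ((f p)⁻¹ * d * f p * d)⁻¹ = t := by
    calc ((f p)⁻¹ * d * f p * d) * t * ((f p)⁻¹ * d * f p * d)⁻¹ =
        (f p)⁻¹ * (d * (f p * (d * t * d⁻¹) * (f p)⁻¹) * d⁻¹) * f p := by group
      _ = t := by
        rw [A.a1, ee_p' h, A.ee h, ee_p h]
        exact e100
  obtain ⟨i, j, k, he⟩ := mem_E_of h ((Y f).mul_mem (Y_p A.mem) A.mem) hk1
  have hinv := ee_inv h i j k
  -- `(f p)⁻¹ d f p = e d⁻¹`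
  have e1 : (f p)⁻¹ * d * f p = ee t c (f y) i j k * d⁻¹ := by rw [← he]; group
  have e2 : ee t c (f y) i j (xor k j) = d * ee t c (f y) i j k * d⁻¹ := by
    have h3 : (f p)⁻¹ * ((f p)⁻¹ * d * f p) * f p = d := by
      rw [ip]
      calc f p * (f p * d * f p) * f p = (f p * f p) * d * (f p * f p) := by group
        _ = d := by rw [pp, one_mul, mul_one]
    have h4 : (f p)⁻¹ * (ee t c (f y) i j k * d⁻¹) * f p =
        ((f p)⁻¹ * ee t c (f y) i j k * f p) * ((f p)⁻¹ * d * f p)⁻¹ := by group
    rw [e1, h4, ee_p h, e1, mul_inv_rev, inv_inv, hinv] at h3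
    have h5 : ee t c (f y) i j (xor k j) * (d * ee t c (f y) i j k) = d := h3
    have h6 : ee t c (f y) i j (xor k j) = d * (d * ee t c (f y) i j k)⁻¹ := by
      nth_rewrite 1 [← h5]; group
    rw [h6, mul_inv_rev, hinv]
    group
  rw [A.ee h] at e2
  obtain ⟨-, -, h7⟩ := ee_inj h e2
  have h8 : (ee t c (f y) i j k * d⁻¹) * (ee t c (f y) i j k * d⁻¹) * (ee t c (f y) i j k * d⁻¹) = 1 := by
    rw [← e1]
    calc (f p)⁻¹ * d * f p * ((f p)⁻¹ * d * f p) * ((f p)⁻¹ * d * f p) = (f p)⁻¹ * (d * d * d) * f p := by group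
      _ = 1 := by rw [hd]; group
  have h9 : ee t c (f y) i j k * (d⁻¹ * ee t c (f y) i j k * d) *
      (d⁻¹ * (d⁻¹ * ee t c (f y) i j k * d) * d) = 1 := by
    calc ee t c (f y) i j k * (d⁻¹ * ee t c (f y) i j k * d) * (d⁻¹ * (d⁻¹ * ee t c (f y) i j k * d) * d) =
        (ee t c (f y) i j k * d⁻¹) * (ee t c (f y) i j k * d⁻¹) * (ee t c (f y) i j k * d⁻¹) * (d * d * d) := by
          group
      _ = 1 := by rw [h8, hd, one_mul]
  rw [A.ee_inv h, A.ee_inv h, ee_mul h, ee_mul h, ← e000 (t := t) (c := c) (f := f)] at h9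
  have h10 := (ee_inj h h9).1
  have hi : i = false := by revert h10; cases i <;> decide
  subst hi
  have hk : k = false := by revert h7; cases j <;> cases k <;> decide
  subst hk
  cases j
  · -- `e = 1`
    rw [e000, one_mul, ip] at e1
    exact ⟨d, A, hd, e1⟩
  · -- `e = c`: replace `d` by `c d c`
    rw [e010] at e1
    have cc := h.cc
    have ww := yy f
    have cw := cy h
    have hcm := c_mem h
    have ic := h.inv_c
    have hact : ∀ i j k, (c * d * c) * ee t c (f y) i j k * (c * d * c)⁻¹ = d * ee t c (f y) i j k * d⁻¹ := by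
      intro i j k
      have k1 := ee_comm h false true false i j k
      rw [e010] at k1
      obtain ⟨i', j', k', hE⟩ : ∃ i' j' k', d * ee t c (f y) i j k * d⁻¹ = ee t c (f y) i' j' k' :=
        ⟨_, _, _, A.ee h i j k⟩
      have k2 := ee_comm h false true false i' j' k'
      rw [e010] at k2
      calc (c * d * c) * ee t c (f y) i j k * (c * d * c)⁻¹ = c * d * (c * ee t c (f y) i j k) * c⁻¹ * d⁻¹ * c⁻¹ := by
            group
        _ = c * (d * ee t c (f y) i j k * d⁻¹) * c⁻¹ := by rw [k1]; group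
        _ = _ := by rw [hE, k2]; group
    refine ⟨c * d * c, ⟨(Y f).mul_mem ((Y f).mul_mem hcm A.mem) hcm, ?_, ?_, ?_⟩, ?_, ?_⟩
    · have := hact true false false
      rw [e100] at this
      rw [this, A.a1]
    · have := hact false true false
      rw [e010] at this
      rw [this, A.a2]
    · have := hact false false true
      rw [e001] at this
      rw [this, A.a3]
    · calc c * d * c * (c * d * c) * (c * d * c) = c * d * (c * c) * d * (c * c) * d * c := by group
        _ = c * (d * d * d) * c := by rw [cc]; group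
        _ = 1 := by rw [hd, mul_one, cc]
    · -- `f p (c d c) f p = (c d c)⁻¹`
      have k1 : (f p)⁻¹ * c * f p = c * f y := cp h
      have k2 : d⁻¹ * f y * d = c * f y := by
        have := A.ee_inv h false false true
        rw [e001] at this
        rw [this]
        exact e011
      have k3 : d⁻¹ * c * d = f y := by
        have := A.ee_inv h false true false
        rw [e010] at this
        rw [this]
        exact e001
      have k4 : f p * (c * d * c) * f p = ((f p)⁻¹ * c * f p) * ((f p)⁻¹ * d * f p) * ((f p)⁻¹ * c * f p) := by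
        rw [ip]
        calc f p * (c * d * c) * f p = f p * c * 1 * d * 1 * c * f p := by group
          _ = f p * c * (f p * f p) * d * (f p * f p) * c * f p := by rw [pp]
          _ = _ := by group
      rw [k4, k1, e1]
      -- `c y (c d⁻¹) c y = c⁻¹ d⁻¹ c⁻¹`
      have k5 : d⁻¹ * c = f y * d⁻¹ := by rw [← k3]; group
      have k6 : d⁻¹ * (c * f y) = (d⁻¹ * c * d) * (d⁻¹ * f y * d) * d⁻¹ := by group
      have k7 : f y * (c * f y) = c := by
        rw [← mul_assoc, cw, mul_assoc, ww, mul_one]
      calc c * f y * (c * d⁻¹) * (c * f y) = c * (f y * c) * (d⁻¹ * (c * f y)) := by group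
        _ = c * (c * f y) * (f y * (c * f y) * d⁻¹) := by rw [cw, k6, k3, k2]
        _ = (c * c) * f y * (c * d⁻¹) := by rw [k7]; group
        _ = f y * c * d⁻¹ := by rw [cc]; group
        _ = c * (f y * d⁻¹) := by rw [cw]; group
        _ = c * (d⁻¹ * c) := by rw [k5]
        _ = (c * d * c)⁻¹ := by rw [mul_inv_rev, mul_inv_rev, ic]

theorem pq_conj {x : G} (hx : x ∈ Y f) {a b : H} {k : H} (hk : x * f k = f k * x) (h1 : b = k⁻¹ * a) (h2 : b = a * k)
    (ha : f a * x * f a = x⁻¹) : f b * x * f b = x⁻¹ := by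
  have e : f b * x * f b = (f k)⁻¹ * (f a * x * f a) * f k := by
    nth_rewrite 1 [h1]
    rw [h2, map_mul, map_mul, map_inv]
    group
  have : Commute x (f k) := hk
  rw [e, ha, mul_assoc, this.inv_left.eq]
  group

namespace Dd

variable {d : G}

theorem dq (D : Dd t c f d) : f q * d * f q = d⁻¹ := by
  refine pq_conj D.mem (k := p * q) (mem_Y.1 D.mem).1 ?_ ?_ D.dp
  · rw [mul_inv_rev, mul_assoc, inv_mul_cancel, mul_one]
    exact (inv_eq_of_mul_eq_one_left (show q * q = 1 from gen_sq 2)).symm
  · rw [← mul_assoc, show p * p = 1 from gen_sq 1, one_mul]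

theorem dr (D : Dd t c f d) : f r * d * f r = d⁻¹ := by
  refine pq_conj D.mem (k := q * r) (mem_Y.1 D.mem).2.1 ?_ ?_ D.dq
  · rw [mul_inv_rev, mul_assoc, inv_mul_cancel, mul_one]
    exact (inv_eq_of_mul_eq_one_left (show r * r = 1 from gen_sq 3)).symm
  · rw [← mul_assoc, show q * q = 1 from gen_sq 2, one_mul]

theorem ds (D : Dd t c f d) : f s * d * f s = d⁻¹ := by
  refine pq_conj D.mem (k := r * s) (mem_Y.1 D.mem).2.2 ?_ ?_ D.dr
  · rw [mul_inv_rev, mul_assoc, inv_mul_cancel, mul_one]
    exact (inv_eq_of_mul_eq_one_left (show s * s = 1 from gen_sq 4)).symm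
  · rw [← mul_assoc, show r * r = 1 from gen_sq 3, one_mul]

end Dd

theorem exists_D (h : CtxO t c f) (hy : ¬ IsConj t (t * f y)) (h1 : ¬ IsConj t c) (h2 : IsConj t (t * c)) :
    ∃ d, Dd t c f d := by
  obtain ⟨d, A⟩ := exists_act h hy h1 h2
  obtain ⟨d, A, hd⟩ := exists_act3 h A
  exact exists_d h A hd

end Cfsg.Agent.CoThreeStd.OutD
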