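import Cfsg.Agent.CoThreeStd.OutAut
import Cfsg.Agent.CoThreeStd.Delta

/-!
# S1750, pattern P1 (`C_G(t) = ⟨t⟩ × M₁₂:2`, `t^G ∩ C(t) = {t} ∪ t 2B`) (helper810)

`CtxO t c f`: `C_G(t) = ⟨t⟩ × ⟨f(M₁₂), c⟩`.  `PatO`: the pattern.  `exists_over`: there is `X` centralising
`b, v, y` with `t^X = t b`.
-/

set_option autoImplicit false

namespace Cfsg.Agent.CoThreeStd.OutD

open Cfsg.Agent.CoThreeStd.MTwelve hiding w cj
open Cfsg.Agent.CoThreeStd.DeltaData Cfsg.Agent.CoThreeStd.InvTwo Cfsg.Agent.CoThreeStd.Fusion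
open Cfsg.Agent.CoThreeStd.DeltaRel Cfsg.Agent.CoThreeStd.DeltaLoc Cfsg.Agent.CoThreeStd.DeltaAmb
open Cfsg.Agent.CoThreeStd.Delta Cfsg.Agent.CoThreeStd.OutAut

/-- `C_G(t) = ⟨t⟩ × ⟨f(M₁₂), c⟩`, `c` acts as `alpha`. -/
structure CtxO {G : Type*} [Group G] (t c : G) (f : H →* G) : Prop where
  inj : Function.Injective f
  tt : t * t = 1
  t_ne : t ≠ 1
  comm : ∀ m, f m * t = t * f m
  nmem : ∀ m, f m ≠ t
  cc : c * c = 1
  ct : c * t = t * c
  act : ∀ m, c * f m * c⁻¹ = f (alpha m)
  cent : ∀ g, g * t = t * g → ∃ m, g = f m ∨ g = t * f m ∨ g = c * f m ∨ g = t * (c * f m)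

variable {G : Type*} [Group G] {t c : G} {f : H →* G}

theorem alpha_be : alpha be = be := by
  show alpha (wd [1, 3]) = wd [1, 3]
  rw [alpha_wd]; exact wd_eq (by decide +kernel)
theorem alpha_v : alpha v = v := by
  show alpha (wd [2, 1, 3, 2]) = wd [2, 1, 3, 2]
  rw [alpha_wd]; exact wd_eq (by decide +kernel)
theorem alpha_pq : alpha (p * q) = p * q := by
  rw [← wd_p, ← wd_q, ← wd_append, alpha_wd]; exact wd_eq (by decide +kernel)
theorem alpha_p : alpha p = y * p := by
  rw [← wd_p, alpha_wd, ← wd_y, ← wd_append]; exact wd_eq (by decide +kernel)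
theorem alpha_k1 : alpha k1 = k1 * v := by
  show alpha (wd wk1) = wd wk1 * wd wv
  rw [alpha_wd, ← wd_append]; exact wd_eq (by decide +kernel)
theorem alpha_k2 : alpha k2 = k2 * (be * v) := by
  show alpha (wd wk2) = wd wk2 * (wd wbe * wd wv)
  rw [alpha_wd, ← wd_append, ← wd_append]; exact wd_eq (by decide +kernel)

/-- a word `l` in `be, v, y` for which `alpha` is conjugation on `p` does not exist -/
theorem test_c : ∀ i j l : Fin 2, eqW (wbvx [0] i j l ++ [1]) ([0, 1] ++ wbvx [0] i j l) = false := by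
  decide +kernel

theorem not_inner (m : H) (h : ∀ x, alpha x = m * x * m⁻¹) : False := by
  have h1 : ∀ x, alpha x = x → m * x = x * m := by
    intro x hx
    have h2 := h x
    rw [hx] at h2
    calc m * x = (m * x * m⁻¹) * m := by group
      _ = x * m := by rw [← h2]
  obtain ⟨i, j, l, hl⟩ := cent_byv m (h1 _ alpha_be) (h1 _ alpha_v) (h1 _ alpha_y)
  have h3 : m * p = (y * p) * m := by
    rw [← alpha_p, h p]; group
  have h4 : m = wd (wbvx [0] i j l) := by rw [wd_wbvx, wd_y]; exact hl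
  have h5 : eqW (wbvx [0] i j l ++ [1]) ([0, 1] ++ wbvx [0] i j l) = true := by
    apply eqW_of_wd
    rw [wd_append, wd_append, ← h4, wd_p, h3, show ([0, 1] : List ℕ) = [0] ++ [1] from rfl, wd_append, wd_y, wd_p]
  rw [test_c] at h5
  exact Bool.noConfusion h5

namespace CtxO

theorem inv_t (C : CtxO t c f) : t⁻¹ = t := inv_eq_of_mul_eq_one_left C.tt
theorem inv_c (C : CtxO t c f) : c⁻¹ = c := inv_eq_of_mul_eq_one_left C.cc

theorem cf (C : CtxO t c f) (m : H) : c * f m = f (alpha m) * c := by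
  rw [← C.act m]; group

theorem fc (C : CtxO t c f) (m : H) : f m * c = c * f (alpha m) := by
  rw [C.cf, alpha_alpha]

theorem cj_c (C : CtxO t c f) (m : H) : cj c (f m) = f (alpha m) := by
  rw [cj_apply, C.inv_c, mul_assoc, C.fc, ← mul_assoc, C.cc, one_mul]

theorem c_ne (C : CtxO t c f) (m : H) : c ≠ f m := by
  intro h
  apply not_inner m
  intro x
  apply C.inj
  rw [← C.act x, h]
  simp only [map_mul, map_inv]

theorem c_ne' (C : CtxO t c f) (m : H) : c ≠ t * f m := by
  intro h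
  apply not_inner m
  intro x
  apply C.inj
  rw [← C.act x, h]
  simp only [map_mul, map_inv]
  calc t * f m * f x * (t * f m)⁻¹ = t * (f m * f x * (f m)⁻¹) * t⁻¹ := by group
    _ = (f m * f x * (f m)⁻¹) * t * t⁻¹ := by
        congr 1
        have := C.comm (m * x * m⁻¹)
        simp only [map_mul, map_inv] at this
        exact this.symm
    _ = _ := by group

/-- exchange `c` and `t c` -/
theorem swap (C : CtxO t c f) : CtxO t (t * c) f where
  inj := C.inj
  tt := C.tt
  t_ne := C.t_ne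
  comm := C.comm
  nmem := C.nmem
  cc := by
    calc t * c * (t * c) = t * (c * t) * c := by group
      _ = t * (t * c) * c := by rw [C.ct]
      _ = (t * t) * (c * c) := by group
      _ = 1 := by rw [C.tt, C.cc, one_mul]
  ct := by rw [mul_assoc, C.ct]
  act := by
    intro m
    calc t * c * f m * (t * c)⁻¹ = t * (c * f m * c⁻¹) * t⁻¹ := by group
      _ = t * f (alpha m) * t⁻¹ := by rw [C.act]
      _ = f (alpha m) * t * t⁻¹ := by rw [C.comm]
      _ = _ := by group
  cent := by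
    intro g hg
    obtain ⟨m, h | h | h | h⟩ := C.cent g hg
    · exact ⟨m, Or.inl h⟩
    · exact ⟨m, Or.inr (Or.inl h)⟩
    · refine ⟨m, Or.inr (Or.inr (Or.inr ?_))⟩
      rw [h, ← mul_assoc, ← mul_assoc, C.tt, one_mul]
    · refine ⟨m, Or.inr (Or.inr (Or.inl ?_))⟩
      rw [h, mul_assoc]

/-- if `g ∈ C(t)` commutes with `f x`, `alpha x = x`, then its `M₁₂`-part commutes with `x` -/
theorem part_comm (C : CtxO t c f) {g : G} {m x : H}
    (hg : g = f m ∨ g = t * f m ∨ g = c * f m ∨ g = t * (c * f m)) (hx : g * f x = f x * g)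
    (hax : alpha x = x) : m * x = x * m := by
  apply C.inj
  rw [map_mul, map_mul]
  have h1 : c * f x = f x * c := by rw [C.cf, hax]
  rcases hg with rfl | rfl | rfl | rfl
  · exact hx
  · apply mul_left_cancel (a := t)
    rw [← mul_assoc, hx, ← mul_assoc, ← mul_assoc, C.comm]
  · apply mul_left_cancel (a := c)
    rw [← mul_assoc, hx, ← mul_assoc, ← mul_assoc, h1]
  · apply mul_left_cancel (a := c)
    apply mul_left_cancel (a := t)
    calc t * (c * (f m * f x)) = t * (c * f m) * f x := by group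
      _ = f x * (t * (c * f m)) := hx
      _ = (f x * t) * c * f m := by group
      _ = t * (f x * c) * f m := by rw [C.comm]; group
      _ = t * (c * f x) * f m := by rw [h1]
      _ = _ := by group

/-- the centraliser of `t, be, v, y` -/
theorem centE (C : CtxO t c f) {g : G} (h1 : g * t = t * g) (h2 : g * f be = f be * g)
    (h3 : g * f v = f v * g) (h4 : g * f y = f y * g) :
    ∃ i j l : Fin 2, g = f (be ^ i.1 * v ^ j.1 * y ^ l.1) ∨ g = t * f (be ^ i.1 * v ^ j.1 * y ^ l.1) ∨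
      g = c * f (be ^ i.1 * v ^ j.1 * y ^ l.1) ∨ g = t * (c * f (be ^ i.1 * v ^ j.1 * y ^ l.1)) := by
  obtain ⟨m, hm⟩ := C.cent g h1
  obtain ⟨i, j, l, hl⟩ := cent_byv m (C.part_comm hm h2 alpha_be) (C.part_comm hm h3 alpha_v)
    (C.part_comm hm h4 alpha_y)
  refine ⟨i, j, l, ?_⟩
  rw [← hl]
  exact hm

end CtxO

/-- pattern P1 -/
structure PatO (t c : G) (f : H →* G) : Prop where
  C : CtxO t c f
  noM : ∀ m, ¬ IsConj t (f m)
  noC : ∀ m, ¬ IsConj t (c * f m)
  noTC : ∀ m, ¬ IsConj t (t * (c * f m))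
  tB : ∀ m, IsB m → IsConj t (t * f m)
  ntA : ∀ m, IsA m → ¬ IsConj t (t * f m)

theorem PatO.swap (h : PatO t c f) : PatO t (t * c) f where
  C := h.C.swap
  noM := h.noM
  noC := by
    intro m hm
    rw [mul_assoc] at hm
    exact h.noTC m hm
  noTC := by
    intro m hm
    rw [← mul_assoc, ← mul_assoc, h.C.tt, one_mul] at hm
    exact h.noC m hm
  tB := h.tB
  ntA := h.ntA

theorem PatO.td (h : PatO t c f) {m : H} (hm : IsConj t (t * f m)) : m = 1 ∨ IsB m := by
  obtain ⟨g, hg⟩ := isConj_iff.1 hm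
  by_cases h1 : m = 1
  · exact Or.inl h1
  right
  have hmm : m * m = 1 := by
    apply h.C.inj
    have h2 : (t * f m) * (t * f m) = 1 := by
      rw [← hg]
      calc g * t * g⁻¹ * (g * t * g⁻¹) = g * (t * t) * g⁻¹ := by group
        _ = 1 := by rw [h.C.tt]; group
    have h3 : (t * f m) * (t * f m) = f m * f m := by
      calc (t * f m) * (t * f m) = t * (f m * t) * f m := by group
        _ = t * (t * f m) * f m := by rw [h.C.comm]
        _ = (t * t) * f m * f m := by group
        _ = _ := by rw [h.C.tt, one_mul]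
    rw [map_mul, ← h3, h2, map_one]
  rcases inv2.cases m hmm h1 with hA | hB
  · exact absurd hm (h.ntA m hA)
  · exact hB

/-- the conjugates of `t` in `C(t)` -/
theorem PatO.conj_cases (h : PatO t c f) {g : G} (hc : IsConj t g) (hg : g * t = t * g) :
    ∃ m, g = t * f m ∧ (m = 1 ∨ IsB m) := by
  obtain ⟨m, hm | hm | hm | hm⟩ := h.C.cent g hg
  · rw [hm] at hc; exact absurd hc (h.noM m)
  · refine ⟨m, hm, h.td ?_⟩
    rw [← hm]; exact hc
  · rw [hm] at hc; exact absurd hc (h.noC m)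
  · rw [hm] at hc; exact absurd hc (h.noTC m)

theorem exists_swap (h : PatO t c f) : ∃ g, Nor t f g := by
  have C := h.C
  obtain ⟨g', hg'⟩ := isConj_iff.1 (h.tB be isB_be)
  obtain ⟨g, hg⟩ : ∃ g, g = g'⁻¹ := ⟨_, rfl⟩
  have hgt : cj g t = t * f be := by rw [cj_apply, hg, inv_inv, hg']
  have hbt : f be * t = t * f be := C.comm be
  have ht : t * cj g t = cj g t * t := by
    rw [hgt, mul_assoc t, hbt]
  have hx := comm_cj_inv ht
  have hxc : IsConj t (g * t * g⁻¹) := isConj_iff.2 ⟨g, rfl⟩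
  obtain ⟨m, hm, h1⟩ := h.conj_cases hxc hx
  rcases h1 with h1 | h1
  · exfalso
    rw [h1, map_one, mul_one] at hm
    have h2 : cj g t = t := by
      rw [cj_apply]
      nth_rewrite 1 [← hm]
      group
    rw [hgt] at h2
    have h3 := mul_eq_left.1 h2
    exact (inv2.invB be isB_be).2 (C.inj (by rw [h3, map_one]))
  · obtain ⟨k, hk⟩ := inv2.conjB _ _ isB_be h1
    have ht0 : cj (f k)⁻¹ t = t := by
      apply cj_of_comm
      rw [← map_inv]
      exact (C.comm _).symm
    refine ⟨(f k)⁻¹ * g, ?_, ?_⟩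
    · rw [← cj_cj, ht0, hgt]
    · have e1 : cj (f k)⁻¹ (t * f be) = g * t * g⁻¹ := by
        rw [hm, ← hk, cj_apply, inv_inv, map_mul, map_mul, map_inv, ← mul_assoc, ← mul_assoc, ← mul_assoc,
          C.comm]
      have e2 : cj ((f k)⁻¹ * g) (t * f be) = t := by
        rw [← cj_cj, e1, cj_apply]; group
      have e3 : cj ((f k)⁻¹ * g) t = t * f be := by
        rw [← cj_cj, ht0, hgt]
      have e4 : f be = t * (t * f be) := by rw [← mul_assoc, C.tt, one_mul]
      calc cj ((f k)⁻¹ * g) (f be) = cj ((f k)⁻¹ * g) (t * (t * f be)) := by rw [← e4]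
        _ = cj ((f k)⁻¹ * g) t * cj ((f k)⁻¹ * g) (t * f be) := map_mul _ _ _
        _ = t * f be * t := by rw [e2, e3]
        _ = t * (f be * t) := by group
        _ = t * (t * f be) := by rw [hbt]
        _ = f be := e4.symm

/-- if `x ∈ C(b)`, then `x ^ g ∈ C(t)` -/
theorem nor_cent {g : G} (n : Nor t f g) (C : CtxO t c f) {x : H} (hx : x * be = be * x) :
    cj g (f x) * t = t * cj g (f x) ∧ cj g (f x) * f be = f be * cj g (f x) := by
  have h1 : cj g (f x) * cj g (f be) = cj g (f be) * cj g (f x) := by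
    rw [← map_mul, ← map_mul, ← map_mul, ← map_mul, hx]
  rw [n.2] at h1
  refine ⟨?_, h1⟩
  have h2 : cj g (f x) * cj g t = cj g t * cj g (f x) := by
    rw [← map_mul, ← map_mul, C.comm]
  rw [n.1, ← mul_assoc] at h2
  have h3 : cj g (f x) * t * f be = t * cj g (f x) * f be := by
    rw [h2, mul_assoc, mul_assoc, h1]
  exact mul_right_cancel h3

/-- elements of 2B commuting with `b` -/
theorem goodO_b (h : PatO t c f) {g : G} (n : Nor t f g) {x : H} (hB : IsB x) (hx : x * be = be * x) :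
    ∃ m, cj g (f x) = f m ∧ (x ≠ be → IsB (be * m)) := by
  have C := h.C
  obtain ⟨n1, n2⟩ := nor_cent n C hx
  have h2 : IsConj t (cj g (t * f x)) := (h.tB x hB).trans (DeltaR.isConj_cj g _)
  have h3 : cj g (t * f x) = t * (f be * cj g (f x)) := by
    rw [map_mul, n.1, mul_assoc]
  have h4 : t * (f be * cj g (f x)) * t = t * (t * (f be * cj g (f x))) := by
    calc t * (f be * cj g (f x)) * t = t * (f be * (cj g (f x) * t)) := by group
      _ = t * (f be * (t * cj g (f x))) := by rw [n1]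
      _ = t * ((f be * t) * cj g (f x)) := by group
      _ = _ := by rw [C.comm]; group
  rw [h3] at h2
  obtain ⟨m, hm, hm1⟩ := h.conj_cases h2 h4
  have h5 := mul_left_cancel hm
  have h6 : cj g (f x) = f (be * m) := by
    have e0 : f be * f be = 1 := by rw [← map_mul, e_bb, map_one]
    rw [map_mul, ← h5, ← mul_assoc, e0, one_mul]
  refine ⟨be * m, h6, fun hne => ?_⟩
  rw [← mul_assoc, e_bb, one_mul]
  rcases hm1 with h7 | h7
  · exfalso
    apply hne
    apply C.inj
    apply cj_injective g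
    rw [h6, n.2, h7, mul_one]
  · exact h7

theorem goodO_B (h : PatO t c f) {g : G} (n : Nor t f g) {x : H} (hB : IsB x) (hx : x * be = be * x) :
    Good f g x := by
  obtain ⟨m, hm, -⟩ := goodO_b h n hB hx
  exact ⟨m, hm⟩

theorem goodO_k1 (h : PatO t c f) {g : G} (n : Nor t f g) : Good f g k1 := by
  rw [e_k1_eq]
  exact (goodO_B h n isB_yk2 (cm e_yb e_k2b)).mul (goodO_B h n isB_yk1k2 (cm e_yb (cm e_k1b e_k2b)))

theorem goodO_k2 (h : PatO t c f) {g : G} (n : Nor t f g) : Good f g k2 := by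
  rw [e_k2_eq]
  exact (goodO_B h n isB_yk1 (cm e_yb e_k1b)).mul (goodO_B h n isB_yk1k2 (cm e_yb (cm e_k1b e_k2b)))

theorem goodO_y (h : PatO t c f) {g : G} (n : Nor t f g) : Good f g y := by
  have e : y = (y * k1) * k1⁻¹ := by group
  rw [e]
  exact (goodO_B h n isB_yk1 (cm e_yb e_k1b)).mul (goodO_k1 h n).inv

theorem goodO_v (h : PatO t c f) {g : G} (n : Nor t f g) : Good f g v := goodO_B h n isB_v e_vb

theorem goodO_d (h : PatO t c f) {g : G} (n : Nor t f g) : Good f g d := goodO_B h n isB_d e_db.symm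

/-- adjust `g` such that `v` is fixed -/
theorem existsO_v (h : PatO t c f) : ∃ g, Nor t f g ∧ cj g (f v) = f v := by
  have C := h.C
  obtain ⟨g, n⟩ := exists_swap h
  obtain ⟨m, hm⟩ := goodO_k2 h n
  have hmb : m * be = be * m := by
    apply C.inj
    rw [map_mul, map_mul, ← hm]
    exact (nor_cent n C e_k2b).2
  have hmm : cj g (f v) = f (m * m) := by rw [map_mul, ← hm, ← map_mul, ← map_mul, e_k22]
  have h4 : m ^ 4 = 1 := by
    have : m ^ 4 = (m * m) * (m * m) := by rw [← pow_two, ← pow_two, ← pow_mul]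
    rw [this]
    apply C.inj
    rw [map_mul, ← hmm, ← map_mul, ← map_mul, e_vv, map_one, map_one]
  have h2 : m * m ≠ 1 := by
    intro h1
    rw [h1, map_one] at hmm
    apply e_v1
    apply C.inj
    apply cj_injective g
    rw [hmm, map_one, map_one]
  obtain ⟨m', hm', hB⟩ := goodO_b h n isB_v e_vb
  have hmm' : m' = m * m := C.inj (by rw [← hm', hmm])
  rw [hmm'] at hB
  obtain ⟨k, hk1, hk2⟩ := sq_conj m hmb h4 h2 (hB e_bv1.symm)
  have hkt : cj (f k) t = t := cj_of_comm (C.comm k).symm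
  have hkb : cj (f k) (f be) = f be := by
    apply cj_of_comm
    rw [← map_mul, ← map_mul, hk1]
  refine ⟨g * f k, ⟨?_, ?_⟩, ?_⟩
  · rw [← cj_cj, n.1, map_mul, hkt, hkb]
  · rw [← cj_cj, n.2, hkb]
  · rw [← cj_cj, hmm, cj_apply, ← map_inv, ← map_mul, ← map_mul, hk2]

theorem existsO_over (h : PatO t c f) : ∃ X, Over t (f be) (f v) (f y) (f be) X := by
  have C := h.C
  obtain ⟨g, n, hv⟩ := existsO_v h
  obtain ⟨m, hm⟩ := goodO_y h n
  have hmb : m * be = be * m := by
    apply C.inj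
    rw [map_mul, map_mul, ← hm]
    exact (nor_cent n C e_yb).2
  have hmv : m * v = v * m := by
    apply C.inj
    rw [map_mul, map_mul, ← hm, ← hv, ← map_mul, ← map_mul, ← map_mul, ← map_mul, e_yv]
  have hmm : m * m = 1 := by
    apply C.inj
    rw [map_mul, ← hm, ← map_mul, ← map_mul, y_sq, map_one, map_one]
  have h4 : be * m ≠ 1 := by
    intro h1
    have h2 : m = be := by
      have : be * m = be * be := by rw [h1, e_bb]
      exact mul_left_cancel this
    rw [h2, ← n.2] at hm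
    exact e_y1 (Or.inr (Or.inl (C.inj (cj_injective g hm))))
  have h5 : ¬ IsB (be * m) := by
    intro h1
    apply h.ntA y isA_y
    have h2 := h.tB _ h1
    have h3 : cj g (t * f y) = t * f (be * m) := by
      rw [map_mul, n.1, hm, mul_assoc, ← map_mul]
    rw [← h3] at h2
    exact h2.trans (DeltaR.isConj_cj g _).symm
  obtain ⟨u, hu, hmu⟩ := mem_yV hmb hmv hmm h4 h5
  obtain ⟨k, hkb, hkv, hky⟩ := conj_yV hu
  have hkt' : cj (f k) t = t := cj_of_comm (C.comm k).symm
  have hkb' : cj (f k) (f be) = f be := by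
    apply cj_of_comm
    rw [← map_mul, ← map_mul, hkb]
  have hkv' : cj (f k) (f v) = f v := by
    apply cj_of_comm
    rw [← map_mul, ← map_mul, hkv]
  refine ⟨g * f k, ?_, ?_, ?_, ?_⟩
  · rw [← cj_cj, n.1, map_mul, hkt', hkb']
  · exact (comm_of_cj (by rw [← cj_cj, n.2, hkb'])).symm
  · exact (comm_of_cj (by rw [← cj_cj, hv, hkv'])).symm
  · refine (comm_of_cj ?_).symm
    rw [← cj_cj, hm, hmu, cj_apply, ← map_inv, ← map_mul, ← map_mul, hky]

end Cfsg.Agent.CoThreeStd.OutD
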