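import Cfsg.Agent.CoThreeStd.OutDZ

/-!
# S1750: pattern P1 does not occur (helper810)

`false_of_pat`: there is no group with `C_G(t) = ⟨t⟩ × M₁₂:2` and `t^G ∩ C_G(t) = {t} ∪ t 2B`.
-/

set_option autoImplicit false
set_option maxHeartbeats 400000

namespace Cfsg.Agent.CoThreeStd.OutD

open Cfsg.Agent.CoThreeStd.MTwelve hiding w cj
open Cfsg.Agent.CoThreeStd.DeltaData Cfsg.Agent.CoThreeStd.InvTwo Cfsg.Agent.CoThreeStd.Fusion
open Cfsg.Agent.CoThreeStd.DeltaRel Cfsg.Agent.CoThreeStd.DeltaLoc Cfsg.Agent.CoThreeStd.DeltaAmb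
open Cfsg.Agent.CoThreeStd.Delta Cfsg.Agent.CoThreeStd.OutAut

variable {G : Type*} [Group G] {t c s : G} {f : H →* G} {e : H}

theorem e_ww : w * w = 1 := by wdec ([0] ++ wk1) ++ ([0] ++ wk1), []

/-- `x ∈ V` commutes with `w` -/
theorem inV_w {x : H} (hx : InV be v x) : x * w = w * x := (hx.comm e_wb e_wv).symm
theorem inV_v {x : H} (hx : InV be v x) : x * v = v * x := (hx.comm e_vb rfl).symm
theorem inV_b {x : H} (hx : InV be v x) : x * be = be * x := (hx.comm rfl e_vb.symm).symm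
theorem inV_sq {x : H} (hx : InV be v x) : x * x = 1 := hx.sq e_bb e_vv e_vb

namespace SP

/-- `k1 ^ s_w` -/
theorem phi_k1 (n : SP t c f s e) : cj (SX f s (rho * d)) (f k1) =
    f k1 * (s * (SX f s (rho * d) * SX f s (rho * d))) := by
  obtain ⟨sw, hsw⟩ : ∃ sw, sw = SX f s (rho * d) := ⟨_, rfl⟩
  have h1 : cj (f k1) sw = sw⁻¹ * s⁻¹ := by
    rw [hsw, SX_conj, ← hsw, ← mul_inv_rev, hsw]
    exact eq_inv_of_mul_eq_one_right n.R2
  rw [← hsw]
  calc cj sw (f k1) = f k1 * (cj (f k1) sw)⁻¹ * sw := by rw [cj_apply, cj_apply]; group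
    _ = _ := by rw [h1]; group

/-- `k2 ^ s_w` -/
theorem phi_k2 (_n : SP t c f s e) {z : G} (hz : SX f s (rho * d) * SX f s rho * (SX f s (rho * d * k2))⁻¹ = z)
    (hc : Commute z (SX f s (rho * d))) : cj (SX f s (rho * d)) (f k2) = f k2 * ((SX f s rho)⁻¹ * z) := by
  obtain ⟨sw, hsw⟩ : ∃ sw, sw = SX f s (rho * d) := ⟨_, rfl⟩
  obtain ⟨su, hsu⟩ : ∃ su, su = SX f s (rho * d * k2) := ⟨_, rfl⟩
  obtain ⟨sv, hsv⟩ : ∃ sv, sv = SX f s rho := ⟨_, rfl⟩
  have h1 : cj (f k2) sw = su := by rw [hsw, SX_conj, hsu]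
  rw [← hsw, ← hsu, ← hsv] at hz
  rw [← hsw] at hc ⊢
  rw [← hsv]
  calc cj sw (f k2) = f k2 * (cj (f k2) sw)⁻¹ * sw := by rw [cj_apply, cj_apply]; group
    _ = f k2 * (sv⁻¹ * (sw⁻¹ * (sw * sv * su⁻¹) * sw)) := by rw [h1]; group
    _ = f k2 * (sv⁻¹ * (sw⁻¹ * (z * sw))) := by rw [hz]; group
    _ = _ := by rw [hc.eq]; group

/-- case `e = 1` -/
theorem kill_one (n : SP t c f s 1) {x : H} (hx : InV be v x)
    (hz : SX f s (rho * d) * SX f s rho * (SX f s (rho * d * k2))⁻¹ = f x) : False := by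
  have C := n.C
  have p1 := n.phi_k1
  have p2 := n.phi_k2 hz (n.comm_w (inV_w hx))
  have sq : ∀ y', SX f s y' * SX f s y' = 1 := by
    intro y'
    have : y'⁻¹ * 1 * y' = 1 := by group
    rw [n.SX_sq, this, map_one]
  have ss : s * s = 1 := by rw [n.ss, map_one]
  have cxw := n.comm_w (inV_w hx)
  have cxv := n.comm_v (inV_v hx)
  obtain ⟨sw, hsw⟩ : ∃ sw, sw = SX f s (rho * d) := ⟨_, rfl⟩
  obtain ⟨su, hsu⟩ : ∃ su, su = SX f s (rho * d * k2) := ⟨_, rfl⟩
  obtain ⟨sv, hsv⟩ : ∃ sv, sv = SX f s rho := ⟨_, rfl⟩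
  have sw2 : sw * sw = 1 := by rw [hsw]; exact sq _
  have sv2 : sv * sv = 1 := by rw [hsv]; exact sq _
  have su2 : su * su = 1 := by rw [hsu]; exact sq _
  have hbw := n.comm_b_w
  rw [← hsw] at p1 p2 cxw hbw
  rw [← hsv] at p2 cxv
  rw [← hsw, ← hsv, ← hsu] at hz
  rw [sw2, mul_one] at p1
  have vw : cj sw sv = sv := by
    have h1 : su = (f x)⁻¹ * (sw * sv) := by rw [← hz]; group
    have fx2 : f x * f x = 1 := by rw [← map_mul, inV_sq hx, map_one]
    have ix : (f x)⁻¹ = f x := inv_eq_of_mul_eq_one_left fx2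
    rw [h1, ix] at su2
    have cx : Commute (f x) (sw * sv) := cxw.mul_right cxv
    have h2 : (sw * sv) * (sw * sv) = 1 := by
      calc (sw * sv) * (sw * sv) = (f x * f x) * ((sw * sv) * (sw * sv)) := by rw [fx2, one_mul]
        _ = f x * (f x * (sw * sv)) * (sw * sv) := by group
        _ = f x * ((sw * sv) * f x) * (sw * sv) := by rw [cx.eq]
        _ = f x * (sw * sv) * (f x * (sw * sv)) := by group
        _ = 1 := su2
    apply cj_of_comm
    calc sv * sw = (sw * sw) * (sv * sw) * (sv * sv) := by rw [sw2, sv2, one_mul, mul_one]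
      _ = sw * ((sw * sv) * (sw * sv)) * sv := by group
      _ = _ := by rw [h2, mul_one]
  -- `t s k1 ~ t y be`
  have c1 : IsConj (t * s * f k1) (t * f (y * be)) := by
    refine (DeltaR.isConj_cj sw _).trans ?_
    have h1 : cj sw (t * s * f k1) = t * f (y * be) := by
      have h2 : cj sw t = t * f w := by rw [hsw, n.SX_t, b_w]
      have h3 : cj sw s = s := cj_of_comm hbw.eq
      have h4 : Commute (f k1) s := n.fs k1 e_k1b
      have e : w * k1 = y * be := by rw [w, mul_assoc, e_k11]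
      rw [map_mul, map_mul, h2, h3, p1]
      calc t * f w * s * (f k1 * s) = t * f w * (s * (f k1 * s)) := by group
        _ = t * f w * (s * (s * f k1)) := by rw [h4.eq]
        _ = t * (f w * f k1) * 1 := by
            rw [← mul_assoc s, ss, one_mul]; group
        _ = _ := by rw [mul_one, ← map_mul, e]
    rw [h1]
  have c2 : IsConj (t * s * f k1) (t * f (y * (k1 * k2) * x)) := by
    refine (DeltaR.isConj_cj (f rho) _).trans ?_
    have h0 : cj (f rho) (t * s * f k1) = t * sv * f k2 := by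
      have h1 : cj (f rho) s = sv := by rw [hsv]; rfl
      rw [map_mul, map_mul, cj_of_comm (C.comm rho).symm, h1, cjf r_k1]
    rw [h0]
    refine (DeltaR.isConj_cj sw _).trans ?_
    have h1 : cj sw (t * sv * f k2) = t * f (y * (k1 * k2) * x) := by
      have h2 : cj sw t = t * f w := by rw [hsw, n.SX_t, b_w]
      have h4 : Commute (f k2) sv := by rw [hsv]; exact n.comm_v e_k2v
      have e : w * k2 * x = y * (k1 * k2) * x := by rw [w]; group
      rw [map_mul, map_mul, h2, vw, p2]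
      calc t * f w * sv * (f k2 * (sv⁻¹ * f x)) = t * f w * (sv * f k2) * sv⁻¹ * f x := by group
        _ = t * f w * (f k2 * sv) * sv⁻¹ * f x := by rw [h4.eq]
        _ = t * (f w * f k2 * f x) := by group
        _ = _ := by rw [← map_mul, ← map_mul, e]
    rw [h1]
  have hB : IsB (y * (k1 * k2) * x) := by
    rcases hx with rfl | rfl | rfl | rfl
    · rw [mul_one]; exact isB_yk1k2
    · exact isB_yk1k2be
    · exact isB_yk1k2v
    · exact isB_yk1k2bev
  exact n.ntA _ isA_ybe ((n.tB _ hB).trans (c2.symm.trans c1))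

/-- case `e = be` -/
theorem kill_two (n : SP t c f s be) {x : H} (hx : InV be v x)
    (hz : SX f s (rho * d) * SX f s rho * (SX f s (rho * d * k2))⁻¹ = f x * oo c f) : False := by
  have C := n.C
  have cxw := n.comm_w (inV_w hx)
  have cxv := n.comm_v (inV_v hx)
  have cow := n.o_w
  have cov := n.o_v
  have p1 := n.phi_k1
  have p2 := n.phi_k2 hz (cxw.mul_left cow)
  have sqw : SX f s (rho * d) * SX f s (rho * d) = f w := by rw [n.SX_sq, b_w]
  have sqv : SX f s rho * SX f s rho = f v := by rw [n.SX_sq, b_rho]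
  have squ : SX f s (rho * d * k2) * SX f s (rho * d * k2) = f (w * v) := by rw [n.SX_sq, b_vw]
  have ss := n.ss
  have hbw := n.comm_b_w
  have hbv := n.comm_b_v
  -- commutation of `⟨k1, k2, y⟩` with `s`, `s_v`
  have ks : ∀ {m : H}, m * be = be * m → Commute (f m) s := fun hm => n.fs _ hm
  have kv : ∀ {m : H}, m * v = v * m → Commute (f m) (SX f s rho) := fun hm => n.comm_v hm
  have Pn := n.P
  have cbvw := (n.comm_CV (m := be) rfl e_vb.symm).1
  obtain ⟨sw, hsw⟩ : ∃ sw, sw = SX f s (rho * d) := ⟨_, rfl⟩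
  obtain ⟨su, hsu⟩ : ∃ su, su = SX f s (rho * d * k2) := ⟨_, rfl⟩
  obtain ⟨sv, hsv⟩ : ∃ sv, sv = SX f s rho := ⟨_, rfl⟩
  obtain ⟨o, ho⟩ : ∃ o, o = oo c f := ⟨_, rfl⟩
  rw [← hsw] at cxw cow p1 p2 sqw hbw
  rw [← hsv] at cxv cov p2 sqv hbv Pn cbvw
  rw [← hsv] at kv
  rw [← hsu] at squ
  rw [← ho] at cow cov p2 hz
  rw [← hsw, ← hsv, ← hsu] at hz
  rw [sqw] at p1
  have fww : f w * f w = 1 := by rw [← map_mul, e_ww, map_one]
  have fvv : f v * f v = 1 := by rw [← map_mul, e_vv, map_one]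
  have fbb : f be * f be = 1 := by rw [← map_mul, e_bb, map_one]
  have fxx : f x * f x = 1 := by rw [← map_mul, inV_sq hx, map_one]
  have o2 : o * o = f be := by rw [ho]; exact C.o_sq
  have ox : Commute o (f x) := by
    rw [ho]
    have a1 : oo c f * f be = f be * oo c f := C.o_be
    have a2 : oo c f * f v = f v * oo c f := C.o_v
    rcases hx with rfl | rfl | rfl | rfl
    · rw [map_one]; exact Commute.one_right _
    · exact a1
    · exact a2
    · rw [map_mul]; exact (show Commute _ _ from a1).mul_right a2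
  -- inverses
  have isw : sw⁻¹ = f w * sw := by
    apply inv_eq_of_mul_eq_one_left; rw [mul_assoc, sqw, fww]
  have isv : sv⁻¹ = f v * sv := by
    apply inv_eq_of_mul_eq_one_left; rw [mul_assoc, sqv, fvv]
  have vw : cj sw sv = f be * sv := by
    have h1 : sw * sv = (f x * o) * su := by rw [← hz]; group
    have cu : Commute (f x * o) (sw * sv) := (cxw.mul_right cxv).mul_left (cow.mul_right cov)
    have h2 : (f x * o) * (f x * o) = f be := by
      calc (f x * o) * (f x * o) = f x * (o * f x) * o := by group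
        _ = f x * (f x * o) * o := by rw [ox.eq]
        _ = (f x * f x) * (o * o) := by group
        _ = _ := by rw [fxx, o2, one_mul]
    have h3 : (sw * sv) * (sw * sv) = f (be * (w * v)) := by
      have h4 : su = (f x * o)⁻¹ * (sw * sv) := by rw [h1]; group
      have h5 : (f x * o)⁻¹ * (sw * sv) * ((f x * o)⁻¹ * (sw * sv)) = f (w * v) := by rw [← h4]; exact squ
      have h6 : (sw * sv) * ((f x * o)⁻¹) = (f x * o)⁻¹ * (sw * sv) := cu.symm.inv_right.eq
      calc (sw * sv) * (sw * sv) = (f x * o) * ((f x * o) * ((f x * o)⁻¹ * ((f x * o)⁻¹ * (sw * sv)) * (sw * sv))) := by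
            group
        _ = (f x * o) * ((f x * o) * ((f x * o)⁻¹ * ((sw * sv) * (f x * o)⁻¹) * (sw * sv))) := by rw [h6]
        _ = ((f x * o) * (f x * o)) * ((f x * o)⁻¹ * (sw * sv) * ((f x * o)⁻¹ * (sw * sv))) := by group
        _ = f be * f (w * v) := by rw [h2, h5]
        _ = _ := (map_mul f _ _).symm
    rw [cj_apply]
    calc sw⁻¹ * sv * sw = (sw * sw)⁻¹ * ((sw * sv) * (sw * sv)) * sv⁻¹ := by group
      _ = (f w)⁻¹ * f (be * (w * v)) * (f v * sv) := by rw [sqw, h3, isv]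
      _ = f (w⁻¹ * (be * (w * v)) * v) * sv := by simp only [map_mul, map_inv]; group
      _ = _ := by
        have e : w⁻¹ * (be * (w * v)) * v = be := by
          calc w⁻¹ * (be * (w * v)) * v = w⁻¹ * (be * w) * (v * v) := by group
            _ = be := by rw [e_vv, mul_one, ← e_wb]; group
        rw [e]
  have pt : cj sw t = t * f w := by rw [hsw, n.SX_t, b_w]
  have pw : cj sw (f w) = f w := by
    apply cj_of_comm; rw [hsw]; exact (n.comm_w rfl).eq
  have ps : cj sw s = s := cj_of_comm hbw.eq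
  have pV : ∀ {u : H}, InV be v u → cj sw (f u) = f u := by
    intro u hu
    apply cj_of_comm; rw [hsw]; exact (n.comm_w (inV_w hu)).eq
  have py : cj sw (f y) = s⁻¹ * f k1⁻¹ := by
    have e : y = w * k1⁻¹ := by rw [w]; group
    nth_rw 1 [e]
    rw [map_mul, map_mul, map_inv, map_inv, pw, p1]
    group
  have po : cj sw o = o := cj_of_comm cow.eq
  have oeq : o = f k2 * c := ho
  have pc : cj sw c = f x * (sv * f (be * k2)) := by
    have h1 : c = (f k2)⁻¹ * o := by rw [oeq]; group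
    have h2 : cj o (f k2)⁻¹ = f (be * k2) := by
      rw [oeq, ← cj_cj, ← map_inv, cjf', C.cj_c]
      have e : alpha (k2⁻¹ * k2⁻¹ * k2) = be * k2 := by
        have e1 : k2⁻¹ * k2⁻¹ * k2 = k2⁻¹ := by group
        rw [e1, map_inv, alpha_k2]
        apply inv_eq_of_mul_eq_one_left
        calc be * k2 * (k2 * (be * v)) = be * (k2 * k2) * (be * v) := by group
          _ = be * (v * be) * v := by rw [e_k22]; group
          _ = (be * be) * (v * v) := by rw [e_vb]; group
          _ = 1 := by rw [e_bb, e_vv, one_mul]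
      rw [e]
    have h3 : o⁻¹ * (f x)⁻¹ = f x * o⁻¹ := by
      have h4 : (f x)⁻¹ = f x := inv_eq_of_mul_eq_one_left fxx
      rw [h4]; exact ox.inv_left.eq
    rw [h1, map_mul, map_inv, p2, po]
    calc (f k2 * (sv⁻¹ * (f x * o)))⁻¹ * o = (o⁻¹ * (f x)⁻¹) * sv * (f k2)⁻¹ * o := by group
      _ = f x * (o⁻¹ * sv) * (f k2)⁻¹ * o := by rw [h3]; group
      _ = f x * (sv * o⁻¹) * (f k2)⁻¹ * o := by rw [cov.inv_left.eq]
      _ = f x * (sv * (o⁻¹ * (f k2)⁻¹ * o)) := by group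
      _ = _ := by rw [← cj_apply, h2]
  -- the group `⟨k1, k2, y⟩`
  have kc : ∀ {m : H}, m * be = be * m → m * v = v * m → Commute (f m) s ∧ Commute (f m) sv :=
    fun h1 h2 => ⟨ks h1, kv h2⟩
  obtain ⟨xs, xv⟩ := kc (m := x) (inV_b hx) (inV_v hx)
  have wk := kc (m := w) e_wb e_wv
  have kk1 := kc (m := k1) e_k1b e_k1v
  have kk2 := kc (m := k2) e_k2b e_k2v
  have kb := kc (m := be) rfl e_vb.symm
  -- A1
  have A1 : ∃ u, InV be v u ∧ IsConj t (t * (SX f s (rho * rho) * (f (y * u) * c))) := by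
    refine ⟨v * x, ?_, ?_⟩
    · exact (show InV be v v from Or.inr (Or.inr (Or.inl rfl))).mul hx e_bb e_vv e_vb
    have h0 : SX f s (rho * rho) = s⁻¹ * sv⁻¹ := by
      have h1 : SX f s (rho * rho) = (s * sv)⁻¹ := eq_inv_of_mul_eq_one_right Pn
      rw [h1, hbv.eq, mul_inv_rev]
    have hB : IsConj t (t * f y * f k2) := by
      rw [mul_assoc, ← map_mul]; exact n.tB _ isB_yk2
    refine hB.trans ((DeltaR.isConj_cj sw _).trans ?_)
    have h1 : cj sw (t * f y * f k2) = t * (SX f s (rho * rho) * (f (y * (v * x)) * c)) := by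
      have e : w * k1⁻¹ * k2 * x * k2 = y * (v * x) := by
        have e1 : x * k2 = k2 * x := (hx.comm e_k2b e_k2v).symm
        calc w * k1⁻¹ * k2 * x * k2 = y * (k2 * (x * k2)) := by rw [w]; group
          _ = y * (k2 * k2 * x) := by rw [e1, mul_assoc]
          _ = _ := by rw [e_k22]
      rw [h0, map_mul, map_mul, pt, py, p2, oeq, ← e]
      have a1 : Commute (f w) s⁻¹ := wk.1.inv_right
      have a2 : Commute (f w * (f k1)⁻¹ * f k2) sv⁻¹ :=
        ((wk.2.mul_left kk1.2.inv_left).mul_left kk2.2).inv_right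
      calc t * f w * (s⁻¹ * f k1⁻¹) * (f k2 * (sv⁻¹ * (f x * (f k2 * c))))
          = t * (f w * s⁻¹) * (f k1)⁻¹ * f k2 * sv⁻¹ * f x * f k2 * c := by rw [map_inv]; group
        _ = t * s⁻¹ * ((f w * (f k1)⁻¹ * f k2) * sv⁻¹) * f x * f k2 * c := by rw [a1.eq]; group
        _ = t * (s⁻¹ * sv⁻¹ * (f w * (f k1)⁻¹ * f k2 * f x * f k2 * c)) := by rw [a2.eq]; group
        _ = _ := by simp only [map_mul, map_inv]
    rw [h1]
  -- A2
  have A2 : ∃ u, InV be v u ∧ IsConj t (t * (sv * (f (y * u) * c))) := by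
    obtain ⟨u, hu, h⟩ := A1
    obtain ⟨u', hu', huu⟩ : ∃ u', InV be v u' ∧ u * (rho * rho) = (rho * rho) * u' := by
      have e1 : be * (rho * rho) = (rho * rho) * (be * v) := by
        rw [← mul_assoc, r_be, mul_assoc, r_v, mul_assoc]
      have e2 : v * (rho * rho) = (rho * rho) * be := by wdec wv ++ ([1, 2] ++ [1, 2]), ([1, 2] ++ [1, 2]) ++ wbe
      rcases hu with rfl | rfl | rfl | rfl
      · exact ⟨1, Or.inl rfl, by rw [one_mul, mul_one]⟩
      · exact ⟨_, Or.inr (Or.inr (Or.inr rfl)), e1⟩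
      · exact ⟨_, Or.inr (Or.inl rfl), e2⟩
      · refine ⟨v, Or.inr (Or.inr (Or.inl rfl)), ?_⟩
        rw [mul_assoc, e2, ← mul_assoc, e1, mul_assoc, mul_assoc be, e_vb, ← mul_assoc be, e_bb, one_mul]
    refine ⟨u', hu', h.trans ((DeltaR.isConj_cj (f (rho * rho)) _).trans ?_)⟩
    have e3 : (y * u) * (rho * rho) = (rho * rho) * (y * u') := by
      have q1 : y * (rho * rho) = (rho * rho) * y := by
        rw [← mul_assoc, r_y, mul_assoc, r_y, mul_assoc]
      calc (y * u) * (rho * rho) = y * (u * (rho * rho)) := mul_assoc _ _ _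
        _ = y * ((rho * rho) * u') := by rw [huu]
        _ = (y * (rho * rho)) * u' := (mul_assoc _ _ _).symm
        _ = ((rho * rho) * y) * u' := by rw [q1]
        _ = _ := mul_assoc _ _ _
    have e4 : rho * rho * (rho * rho) = rho := by
      calc rho * rho * (rho * rho) = (rho * rho * rho) * rho := by group
        _ = rho := by rw [rho3, one_mul]
    have ec : cj (f (rho * rho)) c = c := by
      apply cj_of_comm
      rw [C.cf, map_mul, alpha_rho]
    have q2 : cj (f (rho * rho)) (SX f s (rho * rho)) = sv := by rw [SX_conj, e4, ← hsv]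
    have q3 : cj (f (rho * rho)) (t * (SX f s (rho * rho) * (f (y * u) * c))) =
        t * (sv * (f (y * u') * c)) := by
      rw [map_mul (cj (f (rho * rho))), map_mul (cj (f (rho * rho))), map_mul (cj (f (rho * rho))),
        cj_of_comm (C.comm _).symm, q2, cjf e3, ec]
    rw [q3]
  -- A3
  have A3 : ∃ u, InV be v u ∧ IsConj t (t * (s⁻¹ * f (y * (k2 * u)))) := by
    obtain ⟨u, hu, h⟩ := A2
    have hvV : InV be v v := Or.inr (Or.inr (Or.inl rfl))
    refine ⟨v * (u * x), hvV.mul (hu.mul hx e_bb e_vv e_vb) e_bb e_vv e_vb, h.trans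
      ((DeltaR.isConj_cj sw _).trans ?_)⟩
    have h1 : cj sw (t * (sv * (f (y * u) * c))) = t * (s⁻¹ * f (y * (k2 * (v * (u * x))))) := by
      have e : v * (w * be * k1⁻¹ * u * x * (be * k2)) = y * (k2 * (v * (u * x))) := by
        have c1 : v * (y * be) = (y * be) * v := (cm e_yv e_vb.symm).symm
        have c2 : be * (u * x) = (u * x) * be := by
          rw [mul_assoc, inV_b hx, ← mul_assoc, ← mul_assoc, inV_b hu]
        have c3 : (u * x) * k2 = k2 * (u * x) := by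
          have h3 : u * k2 = k2 * u := (hu.comm e_k2b e_k2v).symm
          have h4 : x * k2 = k2 * x := (hx.comm e_k2b e_k2v).symm
          rw [mul_assoc, h4, ← mul_assoc, h3, mul_assoc]
        have c4 : w * be * k1⁻¹ = y * be := by
          rw [w, mul_assoc y, e_k1b]; group
        calc v * (w * be * k1⁻¹ * u * x * (be * k2)) = v * ((w * be * k1⁻¹) * (u * x) * (be * k2)) := by group
          _ = v * (y * be) * ((u * x) * be) * k2 := by rw [c4]; group
          _ = (y * be) * v * (be * (u * x)) * k2 := by rw [c1, c2]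
          _ = y * be * (v * be) * ((u * x) * k2) := by group
          _ = y * (be * be) * v * (k2 * (u * x)) := by rw [e_vb, c3]; group
          _ = y * (v * k2) * (u * x) := by rw [e_bb, mul_one]; group
          _ = _ := by rw [← e_k2v]; group
      have fe : f (y * u) = f y * f u := map_mul f _ _
      rw [fe, map_mul, map_mul, map_mul, map_mul, pt, vw, py, pV hu, pc, ← e]
      have a1 : Commute (f w * f be) sv := wk.2.mul_left kb.2
      have a2 : Commute (f w * f be) s⁻¹ := (wk.1.mul_left kb.1).inv_right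
      have a3 : Commute (f w * f be * (f k1)⁻¹ * f u * f x) sv :=
        (((wk.2.mul_left kb.2).mul_left kk1.2.inv_left).mul_left (kv (inV_v hu))).mul_left xv
      have a4 : Commute s⁻¹ sv := hbv.inv_left
      calc t * f w * (f be * sv * (s⁻¹ * f k1⁻¹ * f u * (f x * (sv * f (be * k2)))))
          = t * ((f w * f be) * sv) * s⁻¹ * (f k1)⁻¹ * f u * f x * sv * f (be * k2) := by rw [map_inv]; group
        _ = t * sv * ((f w * f be) * s⁻¹) * (f k1)⁻¹ * f u * f x * sv * f (be * k2) := by rw [a1.eq]; group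
        _ = t * sv * s⁻¹ * ((f w * f be * (f k1)⁻¹ * f u * f x) * sv) * f (be * k2) := by rw [a2.eq]; group
        _ = t * sv * (s⁻¹ * sv) * (f w * f be * (f k1)⁻¹ * f u * f x) * f (be * k2) := by rw [a3.eq]; group
        _ = t * (sv * sv) * s⁻¹ * (f w * f be * (f k1)⁻¹ * f u * f x) * f (be * k2) := by rw [a4.eq]; group
        _ = t * (f v * s⁻¹) * (f w * f be * (f k1)⁻¹ * f u * f x) * f (be * k2) := by rw [sqv]; group
        _ = t * (s⁻¹ * f v) * (f w * f be * (f k1)⁻¹ * f u * f x) * f (be * k2) := by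
            rw [(ks e_vb).inv_right.eq]
        _ = _ := by simp only [map_mul, map_inv]; group
    rw [h1]
  -- A4
  have A4 : ∃ u, InV be v u ∧ IsConj t (t * (sv⁻¹ * (f y * ((f k1 * f k2)⁻¹ * f u)))) := by
    obtain ⟨u, hu, h⟩ := A3
    obtain ⟨u', hu', huu⟩ : ∃ u', InV be v u' ∧ u * rho = rho * u' := by
      rcases hu with rfl | rfl | rfl | rfl
      · exact ⟨1, Or.inl rfl, by rw [one_mul, mul_one]⟩
      · exact ⟨_, Or.inr (Or.inr (Or.inl rfl)), r_be⟩
      · exact ⟨_, Or.inr (Or.inr (Or.inr rfl)), r_v⟩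
      · refine ⟨be, Or.inr (Or.inl rfl), ?_⟩
        wdec wbe ++ wv ++ [1, 2], [1, 2] ++ wbe
    refine ⟨u', hu', h.trans ((DeltaR.isConj_cj (f rho) _).trans ?_)⟩
    have h2 : cj (f rho) s = sv := by rw [hsv]; rfl
    have e3 : (y * (k2 * u)) * rho = rho * (y * ((k1 * k2)⁻¹ * u')) := by
      have e0 : k2 * rho = rho * (k1 * k2)⁻¹ := by
        have e : k2 * rho * (k1 * k2) = rho := by wdec wk2 ++ [1, 2] ++ (wk1 ++ wk2), [1, 2]
        rw [eq_mul_inv_iff_mul_eq]; exact e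
      calc (y * (k2 * u)) * rho = y * k2 * (u * rho) := by group
        _ = y * (k2 * rho) * u' := by rw [huu]; group
        _ = (y * rho) * (k1 * k2)⁻¹ * u' := by rw [e0]; group
        _ = _ := by rw [r_y]; group
    have h3 : cj (f rho) (t * (s⁻¹ * f (y * (k2 * u)))) = t * (sv⁻¹ * (f y * ((f k1 * f k2)⁻¹ * f u'))) := by
      rw [map_mul, map_mul, map_inv, cj_of_comm (C.comm _).symm, h2, cjf e3]
      simp only [map_mul, map_inv]
    rw [h3]
  -- A5
  obtain ⟨u, hu, h⟩ := A4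
  have h1 : cj sw (t * (sv⁻¹ * (f y * ((f k1 * f k2)⁻¹ * f u)))) =
      t * (c * f (alpha (w * be * k1⁻¹ * be) * (k2⁻¹ * x⁻¹ * k2⁻¹ * w⁻¹ * k1⁻¹ * u))) := by
    rw [map_mul, map_mul, map_mul, map_mul, map_inv, map_inv, map_mul, pt, vw, py, p1, p2, pV hu, oeq]
    have isv' : (f be * sv)⁻¹ = sv⁻¹ * f be := by
      rw [mul_inv_rev, inv_eq_of_mul_eq_one_left fbb]
    have ic : c⁻¹ = c := C.inv_c
    have a1 : Commute (f w) sv⁻¹ := wk.2.inv_right
    have a2 : Commute (f w * f be) s⁻¹ := (wk.1.mul_left kb.1).inv_right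
    -- move `sv`
    have b1 : Commute c sv := by
      have h2 : c = (f k2)⁻¹ * o := by rw [oeq]; group
      rw [h2]; exact kk2.2.inv_left.mul_left cov
    have b2 : Commute c s := n.cs
    have a3 : Commute (f w * f be * (f k1)⁻¹ * c * (f k2)⁻¹ * (f x)⁻¹) sv :=
      (((((wk.2.mul_left kb.2).mul_left kk1.2.inv_left).mul_left b1).mul_left kk2.2.inv_left).mul_left
        xv.inv_left)
    have a4 : Commute (f w * f be * (f k1)⁻¹ * c * (f k2)⁻¹ * (f x)⁻¹ * (f k2)⁻¹ * (f w)⁻¹) s⁻¹ :=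
      ((((((((wk.1.mul_left kb.1).mul_left kk1.1.inv_left).mul_left b2).mul_left kk2.1.inv_left).mul_left
        xs.inv_left).mul_left kk2.1.inv_left).mul_left wk.1.inv_left).inv_right)
    have c4 : Commute s⁻¹ sv := hbv.inv_left
    have ss' : s⁻¹ * s⁻¹ = f be := by
      rw [← mul_inv_rev, ss, inv_eq_of_mul_eq_one_left fbb]
    calc t * f w * ((f be * sv)⁻¹ * (s⁻¹ * f k1⁻¹ * ((f k1 * (s * f w) * (f k2 * (sv⁻¹ * (f x * (f k2 * c)))))⁻¹ *
          f u)))
        = t * (f w * sv⁻¹) * f be * s⁻¹ * (f k1)⁻¹ * c⁻¹ * (f k2)⁻¹ * (f x)⁻¹ * sv * (f k2)⁻¹ * (f w)⁻¹ * s⁻¹ *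
            (f k1)⁻¹ * f u := by rw [isv', map_inv]; group
      _ = t * sv⁻¹ * ((f w * f be) * s⁻¹) * (f k1)⁻¹ * c * (f k2)⁻¹ * (f x)⁻¹ * sv * (f k2)⁻¹ * (f w)⁻¹ * s⁻¹ *
            (f k1)⁻¹ * f u := by rw [a1.eq, ic]; group
      _ = t * sv⁻¹ * s⁻¹ * ((f w * f be * (f k1)⁻¹ * c * (f k2)⁻¹ * (f x)⁻¹) * sv) * (f k2)⁻¹ * (f w)⁻¹ * s⁻¹ *
            (f k1)⁻¹ * f u := by rw [a2.eq]; group
      _ = t * sv⁻¹ * (s⁻¹ * sv) * ((f w * f be * (f k1)⁻¹ * c * (f k2)⁻¹ * (f x)⁻¹ * (f k2)⁻¹ * (f w)⁻¹) * s⁻¹) *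
            (f k1)⁻¹ * f u := by rw [a3.eq]; group
      _ = t * (s⁻¹ * s⁻¹) * (f w * f be * (f k1)⁻¹ * c * (f k2)⁻¹ * (f x)⁻¹ * (f k2)⁻¹ * (f w)⁻¹) *
            (f k1)⁻¹ * f u := by rw [c4.eq, a4.eq]; group
      _ = t * (f be * (f w * f be * (f k1)⁻¹) * c) * (f k2)⁻¹ * (f x)⁻¹ * (f k2)⁻¹ * (f w)⁻¹ *
            (f k1)⁻¹ * f u := by rw [ss']; group
      _ = t * (f (w * be * k1⁻¹ * be) * c) * (f k2)⁻¹ * (f x)⁻¹ * (f k2)⁻¹ * (f w)⁻¹ *
            (f k1)⁻¹ * f u := by
          have e : be * (w * be * k1⁻¹) = w * be * k1⁻¹ * be := by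
            have c1 : be * k1⁻¹ = k1⁻¹ * be := (show Commute be k1 from e_k1b.symm).inv_right.eq
            calc be * (w * be * k1⁻¹) = (be * w) * be * k1⁻¹ := by group
              _ = w * be * (be * k1⁻¹) := by rw [← e_wb]; group
              _ = _ := by rw [c1]; group
          rw [← e]; simp only [map_mul, map_inv]
      _ = t * (c * f (alpha (w * be * k1⁻¹ * be))) * (f k2)⁻¹ * (f x)⁻¹ * (f k2)⁻¹ * (f w)⁻¹ *
            (f k1)⁻¹ * f u := by rw [C.fc]
      _ = _ := by simp only [map_mul, map_inv]; group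
  apply n.noTC (alpha (w * be * k1⁻¹ * be) * (k2⁻¹ * x⁻¹ * k2⁻¹ * w⁻¹ * k1⁻¹ * u))
  rw [← h1]
  exact h.trans (DeltaR.isConj_cj sw _)

end SP

/-- **pattern P1 does not occur** -/
theorem false_of_pat (h : PatO t c f) : False := by
  obtain ⟨c', s, z, n⟩ := exists_nc h
  rcases n.hz with hz | hz
  · rw [hz] at n
    obtain ⟨s', e, n'⟩ := n.sb1.exists_sp
    obtain ⟨x, hx, ⟨he, h1⟩ | ⟨he, h1⟩⟩ := n'.z0
    · rw [he] at n'; exact n'.kill_one hx h1
    · rw [he] at n'; exact n'.kill_two hx h1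
  · rw [hz] at n
    exact kill_be n

end Cfsg.Agent.CoThreeStd.OutD
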