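import Cfsg.Agent.CoThreeStd.OutDNorm

/-!
# S1750, pattern P1: the case `z = be` is impossible (helper810)
-/

set_option autoImplicit false
set_option maxHeartbeats 400000

namespace Cfsg.Agent.CoThreeStd.OutD

open Cfsg.Agent.CoThreeStd.MTwelve hiding w cj
open Cfsg.Agent.CoThreeStd.DeltaData Cfsg.Agent.CoThreeStd.InvTwo Cfsg.Agent.CoThreeStd.Fusion
open Cfsg.Agent.CoThreeStd.DeltaRel Cfsg.Agent.CoThreeStd.DeltaLoc Cfsg.Agent.CoThreeStd.DeltaAmb
open Cfsg.Agent.CoThreeStd.Delta Cfsg.Agent.CoThreeStd.OutAut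

variable {G : Type*} [Group G] {t c : G} {f : H →* G}

theorem alpha_w : alpha w = w * v := by
  have e : w = wd ([0] ++ wk1) := w_eq
  have e' : v = wd wv := rfl
  rw [e', e, alpha_wd, ← wd_append]; exact wd_eq (by decide +kernel)
theorem e_k2w : k2 * w = w * (v * k2) := by
  have := wd_eq (l := wk2 ++ ([0] ++ wk1)) (l' := ([0] ++ wk1) ++ (wv ++ wk2)) (by decide +kernel)
  simp only [wd_append, wd_y] at this; exact this

/-- the element `o = k2 c` -/
def oo (c : G) (f : H →* G) : G := f k2 * c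

namespace CtxO

theorem o_be (C : CtxO t c f) : oo c f * f be = f be * oo c f := by
  rw [oo, mul_assoc, C.cf, alpha_be, ← mul_assoc, ← map_mul, e_k2b, map_mul, mul_assoc]
theorem o_v (C : CtxO t c f) : oo c f * f v = f v * oo c f := by
  rw [oo, mul_assoc, C.cf, alpha_v, ← mul_assoc, ← map_mul, e_k2v, map_mul, mul_assoc]
theorem o_w (C : CtxO t c f) : oo c f * f w = f w * oo c f := by
  have e : k2 * (w * v) = w * k2 := by
    rw [← mul_assoc, e_k2w, mul_assoc, mul_assoc v, e_k2v, ← mul_assoc v, e_vv, one_mul]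
  rw [oo, mul_assoc, C.cf, alpha_w, ← mul_assoc, ← map_mul, e, map_mul, mul_assoc]
theorem o_t (C : CtxO t c f) : oo c f * t = t * oo c f := by
  rw [oo, mul_assoc, C.ct, ← mul_assoc, C.comm, mul_assoc]
theorem o_sq (C : CtxO t c f) : oo c f * oo c f = f be := by
  have e : k2 * (k2 * (be * v)) = be := by
    rw [← mul_assoc, e_k22, ← mul_assoc, e_vb, mul_assoc, e_vv, mul_one]
  calc oo c f * oo c f = f k2 * (c * f k2) * c := by rw [oo]; group
    _ = f k2 * (f (alpha k2) * c) * c := by rw [C.cf]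
    _ = f k2 * f (alpha k2) * (c * c) := by group
    _ = f be := by rw [C.cc, mul_one, ← map_mul, alpha_k2, e]

theorem o_W (C : CtxO t c f) (i j l : Fin 2) : oo c f * f (be ^ i.1 * v ^ j.1 * w ^ l.1) =
    f (be ^ i.1 * v ^ j.1 * w ^ l.1) * oo c f := by
  have c1 : Commute (oo c f) (f be) := C.o_be
  have c2 : Commute (oo c f) (f v) := C.o_v
  have c3 : Commute (oo c f) (f w) := C.o_w
  rw [map_mul, map_mul, map_pow, map_pow, map_pow]
  exact (((c1.pow_right _).mul_right (c2.pow_right _)).mul_right (c3.pow_right _)).eq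

/-- the centraliser of `t, be, v, w` -/
theorem centWo (C : CtxO t c f) {g : G} (h1 : g * t = t * g) (h2 : g * f be = f be * g)
    (h3 : g * f v = f v * g) (h4 : g * f w = f w * g) :
    ∃ i j l : Fin 2, g = f (be ^ i.1 * v ^ j.1 * w ^ l.1) ∨ g = t * f (be ^ i.1 * v ^ j.1 * w ^ l.1) ∨
      g = f (be ^ i.1 * v ^ j.1 * w ^ l.1) * oo c f ∨
      g = t * (f (be ^ i.1 * v ^ j.1 * w ^ l.1) * oo c f) := by
  have key : ∀ m, f m * f be = f be * f m → f m * f v = f v * f m → f m * f w = f w * f m →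
      ∃ i j l : Fin 2, m = be ^ i.1 * v ^ j.1 * w ^ l.1 := by
    intro m k1 k2 k3
    rw [← map_mul, ← map_mul] at k1 k2 k3
    exact cent_W m (C.inj k1) (C.inj k2) (C.inj k3)
  have tcomm : ∀ m : H, Commute t (f m) := fun m => (C.comm m).symm
  have hc : ∀ m, c * f m = f (alpha m * k2⁻¹) * oo c f := by
    intro m
    rw [oo, ← mul_assoc, ← map_mul, C.cf]
    have e : alpha m * k2⁻¹ * k2 = alpha m := by group
    rw [e]
  obtain ⟨m, hm | hm | hm | hm⟩ := C.cent g h1
  · rw [hm] at h2 h3 h4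
    obtain ⟨i, j, l, h⟩ := key m h2 h3 h4
    exact ⟨i, j, l, Or.inl (by rw [← h]; exact hm)⟩
  · have k : ∀ x, g * f x = f x * g → f m * f x = f x * f m := by
      intro x hx
      have h5 : Commute g (f x) := hx
      have h6 : f m = t * g := by rw [hm, ← mul_assoc, C.tt, one_mul]
      rw [h6]
      exact ((tcomm x).mul_left h5).eq
    obtain ⟨i, j, l, h⟩ := key m (k _ h2) (k _ h3) (k _ h4)
    exact ⟨i, j, l, Or.inr (Or.inl (by rw [← h]; exact hm))⟩
  · have k : ∀ x, g * f x = f x * g → oo c f * f x = f x * oo c f →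
        f (alpha m * k2⁻¹) * f x = f x * f (alpha m * k2⁻¹) := by
      intro x hx ho
      have h5 : Commute g (f x) := hx
      have h7 : Commute (oo c f) (f x) := ho
      have h6 : f (alpha m * k2⁻¹) = g * (oo c f)⁻¹ := by rw [hm, hc]; group
      rw [h6]
      exact (h5.mul_left h7.inv_left).eq
    obtain ⟨i, j, l, h⟩ := key _ (k _ h2 C.o_be) (k _ h3 C.o_v) (k _ h4 C.o_w)
    exact ⟨i, j, l, Or.inr (Or.inr (Or.inl (by rw [← h, ← hc]; exact hm)))⟩
  · have k : ∀ x, g * f x = f x * g → oo c f * f x = f x * oo c f →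
        f (alpha m * k2⁻¹) * f x = f x * f (alpha m * k2⁻¹) := by
      intro x hx ho
      have h5 : Commute g (f x) := hx
      have h7 : Commute (oo c f) (f x) := ho
      have h6 : f (alpha m * k2⁻¹) = t * g * (oo c f)⁻¹ := by
        rw [hm, hc, ← mul_assoc, C.tt, one_mul]; group
      rw [h6]
      exact (((tcomm x).mul_left h5).mul_left h7.inv_left).eq
    obtain ⟨i, j, l, h⟩ := key _ (k _ h2 C.o_be) (k _ h3 C.o_v) (k _ h4 C.o_w)
    exact ⟨i, j, l, Or.inr (Or.inr (Or.inr (by rw [← h, ← hc]; exact hm)))⟩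

/-- the centraliser of `t, be, v, w` centralises `o` -/
theorem centWo_comm (C : CtxO t c f) {g : G} (h1 : g * t = t * g) (h2 : g * f be = f be * g)
    (h3 : g * f v = f v * g) (h4 : g * f w = f w * g) : g * oo c f = oo c f * g := by
  have ho : Commute t (oo c f) := C.o_t.symm
  obtain ⟨i, j, l, h | h | h | h⟩ := C.centWo h1 h2 h3 h4 <;> rw [h]
  · exact (C.o_W i j l).symm
  · exact (ho.mul_left (show Commute _ _ from (C.o_W i j l).symm)).eq
  · exact ((show Commute _ _ from (C.o_W i j l).symm).mul_left (Commute.refl _)).eq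
  · exact (ho.mul_left ((show Commute _ _ from (C.o_W i j l).symm).mul_left (Commute.refl _))).eq

end CtxO

/-- `r : t ↦ t x, o ↦ o x'`, `r` centralises `W` -/
structure RO (t c : G) (f : H →* G) (r : G) (x x' : H) : Prop where
  rt : cj r t = t * f x
  rb : cj r (f be) = f be
  rv : cj r (f v) = f v
  rw' : cj r (f w) = f w
  ro : cj r (oo c f) = oo c f * f x'

theorem k2d_o (C : CtxO t c f) : cj (f d) (oo c f) = oo c f * f be := by
  have e : k2 * alpha d = d * (k2 * be) := by
    rw [alpha_d]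
    have := wd_eq (l := wk2 ++ (wd' ++ wk1 ++ wk2 ++ [0] ++ wd')) (l' := wd' ++ (wk2 ++ wbe)) (by decide +kernel)
    simp only [wd_append, wd_y] at this; exact this
  rw [cj_eq_iff]
  calc oo c f * f d = f k2 * (c * f d) := by rw [oo]; group
    _ = f (k2 * alpha d) * c := by rw [C.cf, map_mul]; group
    _ = f d * (f k2 * (f be * c)) := by rw [e, map_mul, map_mul]; group
    _ = f d * (f k2 * (c * f be)) := by rw [C.cf, alpha_be]
    _ = _ := by rw [oo]; group

theorem k2_o (C : CtxO t c f) : cj (f k2) (oo c f) = oo c f * f (be * v) := by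
  have e : alpha (be * v) = be * v := by rw [map_mul, alpha_be, alpha_v]
  rw [cj_eq_iff]
  calc oo c f * f k2 = f k2 * (c * f k2) := by rw [oo]; group
    _ = f k2 * (f (k2 * (be * v)) * c) := by rw [C.cf, alpha_k2]
    _ = f k2 * (f k2 * (f (be * v) * c)) := by rw [map_mul]; group
    _ = f k2 * (f k2 * (c * f (be * v))) := by rw [C.cf, e]
    _ = _ := by rw [oo]; group

/-- transport of `RO` by an element of `C(be)` normalising `W` -/
theorem RO.map (C : CtxO t c f) {r : G} {x x' : H} (h : RO t c f r x x') (g b' v' w' xx a a' : H)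
    (h1 : g⁻¹ * b' * g = be) (h2 : g⁻¹ * v' * g = v) (h3 : g⁻¹ * w' * g = w) (h4 : g⁻¹ * x * g = xx)
    (ho : cj (f g) (oo c f * f a) = oo c f) (ha : cj r (f a) = f a) (h5 : g⁻¹ * (x' * a) * g = a')
    (hb : cj r (f b') = f b') (hv : cj r (f v') = f v') (hw : cj r (f w') = f w')
    (a'' : H) (ho' : cj (f g) (oo c f) = oo c f * f a'') :
    RO t c f (cj (f g) r) xx (a'' * a') := by
  have hf : ∀ {z z' : H}, g⁻¹ * z * g = z' → cj (f g) (f z) = f z' := by
    intro z z' h
    rw [cj_apply, ← map_inv, ← map_mul, ← map_mul, h]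
  refine ⟨?_, ?_, ?_, ?_, ?_⟩
  · have e := cj_map (f g) r t
    have e1 : cj (f g) t = t := cj_of_comm (C.comm g).symm
    rw [e1, h.rt, map_mul, e1, hf h4] at e
    exact e
  · rw [← hf h1, cj_map, hb]
  · rw [← hf h2, cj_map, hv]
  · rw [← hf h3, cj_map, hw]
  · nth_rw 1 [← ho]
    rw [cj_map, map_mul, h.ro, ha, mul_assoc, ← map_mul, map_mul, ho', hf h5, mul_assoc, ← map_mul]

theorem e_dwd : d⁻¹ * w * d = v := by
  rw [mul_assoc, e_dw]; group
theorem e_dvd : d⁻¹ * v * d = w := by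
  rw [mul_assoc, e_dv]; group
theorem e_dbd : d⁻¹ * be * d = be := by
  rw [mul_assoc, e_db]; group
theorem e_k2w' : k2⁻¹ * w * k2 = w * v := by
  have e : w * k2 = k2 * (w * v) := by
    have := wd_eq (l := ([0] ++ wk1) ++ wk2) (l' := wk2 ++ (([0] ++ wk1) ++ wv)) (by decide +kernel)
    simp only [wd_append, wd_y] at this; exact this
  rw [mul_assoc, e]; group
theorem e_k2v' : k2⁻¹ * v * k2 = v := by
  rw [mul_assoc, ← e_k2v]; group
theorem e_k2b' : k2⁻¹ * be * k2 = be := by
  rw [mul_assoc, ← e_k2b]; group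

/-- **the case `z = be` does not occur** -/
theorem kill_be {s : G} (n : Nc t c f s be) : False := by
  have C := n.C
  have e_ww : w * w = 1 := by
    have := wd_eq (l := ([0] ++ wk1) ++ ([0] ++ wk1)) (l' := []) (by decide +kernel)
    simp only [wd_append, wd_y, wd_nil] at this; exact this
  have hft : ∀ m : H, cj (f m) t = t := fun m => cj_of_comm (C.comm m).symm
  have hf : ∀ {g z z' : H}, z * g = g * z' → cj (f g) (f z) = f z' := by
    intro g z z' h
    rw [cj_eq_iff, ← map_mul, ← map_mul, h]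
  -- `sv = s^ρ`
  obtain ⟨ρ, hρ⟩ : ∃ ρ, ρ = p * q := ⟨_, rfl⟩
  have r1 : k1 * ρ = ρ * k2 := by
    rw [hρ]
    have := wd_eq (l := wk1 ++ ([1] ++ [2])) (l' := ([1] ++ [2]) ++ wk2) (by decide +kernel)
    simp only [wd_append, wd_p, wd_q] at this; exact this
  have r2 : k2 * ρ = ρ * (k1 * k2)⁻¹ := by
    have e : k2 * ρ * (k1 * k2) = ρ := by
      rw [hρ]
      have := wd_eq (l := wk2 ++ ([1] ++ [2]) ++ (wk1 ++ wk2)) (l' := [1] ++ [2]) (by decide +kernel)
      simp only [wd_append, wd_p, wd_q] at this; exact this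
    rw [eq_mul_inv_iff_mul_eq]; exact e
  have r3 : be * ρ = ρ * v := by
    rw [hρ]
    have := wd_eq (l := wbe ++ ([1] ++ [2])) (l' := ([1] ++ [2]) ++ wv) (by decide +kernel)
    simp only [wd_append, wd_p, wd_q] at this; exact this
  have r4 : v * ρ = ρ * (be * v) := by
    rw [hρ]
    have := wd_eq (l := wv ++ ([1] ++ [2])) (l' := ([1] ++ [2]) ++ (wbe ++ wv)) (by decide +kernel)
    simp only [wd_append, wd_p, wd_q] at this; exact this
  have r5 : y * ρ = ρ * y := by
    rw [hρ]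
    have := wd_eq (l := [0] ++ ([1] ++ [2])) (l' := ([1] ++ [2]) ++ [0]) (by decide +kernel)
    simp only [wd_append, wd_p, wd_q, wd_y] at this; exact this
  have rc : cj (f ρ) c = c := cj_of_comm (by rw [C.cf, hρ, alpha_pq])
  obtain ⟨sv, hsv⟩ : ∃ sv, sv = cj (f ρ) s := ⟨_, rfl⟩
  have vt : cj sv t = t * f v := by
    have e := cj_map (f ρ) s t
    rw [hft, n.ts, map_mul, hft, hf r3, ← hsv] at e
    exact e
  have vv : cj sv (f v) = f v := by
    have e := cj_map (f ρ) s (f be)
    rw [n.sb, hf r3, ← hsv] at e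
    exact e
  have vbv : cj sv (f (be * v)) = f (be * v) := by
    have e := cj_map (f ρ) s (f v)
    rw [n.sv, hf r4, ← hsv] at e
    exact e
  have vb : cj sv (f be) = f be := by
    have e : be = (be * v) * v := by rw [mul_assoc, e_vv, mul_one]
    rw [e, map_mul, map_mul, vbv, vv]
  have vy : cj sv (f y) = f y := by
    have e := cj_map (f ρ) s (f y)
    rw [n.sy, hf r5, ← hsv] at e
    exact e
  have vk2 : cj sv (f k2) = f k2 := by
    have e := cj_map (f ρ) s (f k1)
    rw [n.sk1, hf r1, ← hsv] at e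
    exact e
  have vkk : cj sv (f (k1 * k2)⁻¹) = f ((k1 * k2)⁻¹ * v) := by
    have e := cj_map (f ρ) s (f k2)
    rw [n.sk2, hf r2, map_mul, map_mul, hf r2, hf r3, ← hsv, ← map_mul] at e
    exact e
  have vk1 : cj sv (f k1) = f (k1 * v) := by
    have e1 : cj sv (f (k1 * k2)) = f (v * (k1 * k2)) := by
      have e2 : k1 * k2 = ((k1 * k2)⁻¹)⁻¹ := (inv_inv _).symm
      have e3 : ((k1 * k2)⁻¹ * v)⁻¹ = v * (k1 * k2) := by
        rw [mul_inv_rev, inv_inv, inv_eq_of_mul_eq_one_left e_vv]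
      nth_rw 1 [e2]
      rw [map_inv, map_inv, vkk, ← map_inv, e3]
    have e4 : k1 = (k1 * k2) * k2⁻¹ := by group
    have e5 : v * (k1 * k2) * k2⁻¹ = k1 * v := by
      rw [e_k1v]; group
    nth_rw 1 [e4]
    rw [map_mul, map_mul, e1, map_inv, map_inv, vk2, ← map_inv, ← map_mul, e5]
  have vc : cj sv c = c := by
    have e := cj_map (f ρ) s c
    rw [n.sc, rc, ← hsv] at e
    exact e
  -- `r_v`
  have ov : cj (sv * f k2) (oo c f) = oo c f * f (be * v) := by
    rw [← cj_cj]
    have e : cj sv (oo c f) = oo c f := by rw [oo, map_mul, vk2, vc]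
    rw [e, k2_o C]
  have ww : cj (sv * f k2) (f w) = f w := by
    have e : cj sv (f w) = f (y * (k1 * v)) := by rw [w, map_mul, map_mul, vy, vk1, ← map_mul]
    rw [← cj_cj, e]
    apply hf
    have := wd_eq (l := ([0] ++ (wk1 ++ wv)) ++ wk2) (l' := wk2 ++ ([0] ++ wk1)) (by decide +kernel)
    simp only [wd_append, wd_y] at this; exact this
  have R1 : RO t c f (sv * f k2) v (be * v) := by
    refine ⟨?_, ?_, ?_, ww, ov⟩
    · rw [← cj_cj, vt, map_mul, hft, hf (z' := v) e_k2v.symm]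
    · rw [← cj_cj, vb, hf (z' := be) e_k2b.symm]
    · rw [← cj_cj, vv, hf (z' := v) e_k2v.symm]
  obtain ⟨r, hr⟩ : ∃ r, r = sv * f k2 := ⟨_, rfl⟩
  rw [← hr] at R1
  -- `r_w`
  have R2 : RO t c f (cj (f d) r) w (be * w) := by
    have ob : cj (f d) (oo c f * f be) = oo c f := by
      rw [map_mul, k2d_o C, hf (z' := be) e_db, mul_assoc, ← map_mul, e_bb, map_one, mul_one]
    have := R1.map C d be w v w be (w) e_dbd e_dwd e_dvd e_dvd ob R1.rb
      (by
        have e : (be * v) * be = v := by rw [mul_assoc, e_vb, ← mul_assoc, e_bb, one_mul]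
        rw [e]; exact e_dvd) R1.rb R1.rw' R1.rv be (k2d_o C)
    exact this
  -- `r_vw`
  have R3 : RO t c f (cj (f (d * k2)) r) (w * v) (be * (w * v)) := by
    have e1 : (d * k2)⁻¹ * be * (d * k2) = be := by
      calc (d * k2)⁻¹ * be * (d * k2) = k2⁻¹ * (d⁻¹ * be * d) * k2 := by group
        _ = be := by rw [e_dbd, e_k2b']
    have e2 : (d * k2)⁻¹ * w * (d * k2) = v := by
      calc (d * k2)⁻¹ * w * (d * k2) = k2⁻¹ * (d⁻¹ * w * d) * k2 := by group
        _ = v := by rw [e_dwd, e_k2v']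
    have e3 : (d * k2)⁻¹ * v * (d * k2) = w * v := by
      calc (d * k2)⁻¹ * v * (d * k2) = k2⁻¹ * (d⁻¹ * v * d) * k2 := by group
        _ = w * v := by rw [e_dvd, e_k2w']
    have hod : cj (f (d * k2)) (oo c f) = oo c f * f v := by
      rw [map_mul f, ← cj_cj, k2d_o C, map_mul, k2_o C, hf (z' := be) e_k2b.symm, mul_assoc, ← map_mul]
      have e : be * v * be = v := by rw [mul_assoc, e_vb, ← mul_assoc, e_bb, one_mul]
      rw [e]
    have hff : ∀ {g z z' : H}, g⁻¹ * z * g = z' → cj (f g) (f z) = f z' := by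
      intro g z z' h
      rw [cj_apply, ← map_inv, ← map_mul, ← map_mul, h]
    have how : cj (f (d * k2)) (oo c f * f w) = oo c f := by
      rw [map_mul, hod, hff e2, mul_assoc, ← map_mul, e_vv, map_one, mul_one]
    have e4 : (d * k2)⁻¹ * (be * v * w) * (d * k2) = be * (w * v) * v := by
      calc (d * k2)⁻¹ * (be * v * w) * (d * k2) = ((d * k2)⁻¹ * be * (d * k2)) * ((d * k2)⁻¹ * v * (d * k2)) *
          ((d * k2)⁻¹ * w * (d * k2)) := by group
        _ = _ := by rw [e1, e2, e3]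
    have e5 : (d * k2)⁻¹ * (v * w) * (d * k2) = w := by
      calc (d * k2)⁻¹ * (v * w) * (d * k2) = ((d * k2)⁻¹ * v * (d * k2)) *
          ((d * k2)⁻¹ * w * (d * k2)) := by group
        _ = w * (v * v) := by rw [e2, e3]; group
        _ = w := by rw [e_vv, mul_one]
    have := R1.map C (d * k2) be w (v * w) (w * v) w (be * (w * v) * v) e1 e2 e5 e3 how R1.rw' e4 R1.rb R1.rw'
      (by rw [map_mul, map_mul, R1.rv, R1.rw']) v hod
    have e6 : v * (be * (w * v) * v) = be * (w * v) := by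
      calc v * (be * (w * v) * v) = (v * be) * w * (v * v) := by group
        _ = be * (v * w) := by rw [e_vv, mul_one, e_vb, mul_assoc]
        _ = _ := by rw [e_wv]
    rw [e6] at this
    exact this
  obtain ⟨r2, hr2⟩ : ∃ r2, r2 = cj (f d) r := ⟨_, rfl⟩
  obtain ⟨r3, hr3⟩ : ∃ r3, r3 = cj (f (d * k2)) r := ⟨_, rfl⟩
  rw [← hr2] at R2
  rw [← hr3] at R3
  have inv_of : ∀ {g a b : G}, cj g a = b → cj g⁻¹ b = a := by
    intro g a b h
    rw [← h, cj_cj, mul_inv_cancel, cj_one]
  have wvsq : (w * v) * (w * v) = 1 := by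
    calc (w * v) * (w * v) = w * (v * w) * v := by group
      _ = w * (w * v) * v := by rw [← e_wv]
      _ = (w * w) * (v * v) := by group
      _ = 1 := by rw [e_ww, e_vv, one_mul]
  have q1 : cj r3⁻¹ (f be) = f be := inv_of R3.rb
  have q2 : cj r3⁻¹ (f v) = f v := inv_of R3.rv
  have q3 : cj r3⁻¹ (f w) = f w := inv_of R3.rw'
  have q4 : cj r3⁻¹ t = t * f (w * v) := by
    apply inv_of
    rw [map_mul, R3.rt, map_mul, map_mul, R3.rv, R3.rw', ← map_mul, mul_assoc, ← map_mul, wvsq, map_one, mul_one]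
  have bwv : be * (w * v) * (be * (w * v)) = 1 := by
    have e : (w * v) * be = be * (w * v) := by rw [mul_assoc, e_vb, ← mul_assoc, e_wb, mul_assoc]
    calc be * (w * v) * (be * (w * v)) = be * ((w * v) * be) * (w * v) := by group
      _ = (be * be) * ((w * v) * (w * v)) := by rw [e]; group
      _ = 1 := by rw [e_bb, wvsq, one_mul]
  have q5 : cj r3⁻¹ (oo c f) = oo c f * f (be * (w * v)) := by
    apply inv_of
    have e : cj r3 (f (be * (w * v))) = f (be * (w * v)) := by
      rw [map_mul, map_mul, map_mul, map_mul, R3.rb, R3.rv, R3.rw']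
    rw [map_mul, R3.ro, e, mul_assoc, ← map_mul, bwv, map_one, mul_one]
  -- the product
  have z1 : cj (r * r2 * r3⁻¹) t = t := by
    rw [← cj_cj, ← cj_cj, R1.rt, map_mul, R2.rt, R2.rv, map_mul, map_mul, q4, q2, q3]
    calc t * f (w * v) * f w * f v = t * f ((w * v) * (w * v)) := by simp only [map_mul]; group
      _ = t := by rw [wvsq, map_one, mul_one]
  have z2 : cj (r * r2 * r3⁻¹) (f be) = f be := by rw [← cj_cj, ← cj_cj, R1.rb, R2.rb, q1]
  have z3 : cj (r * r2 * r3⁻¹) (f v) = f v := by rw [← cj_cj, ← cj_cj, R1.rv, R2.rv, q2]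
  have z4 : cj (r * r2 * r3⁻¹) (f w) = f w := by rw [← cj_cj, ← cj_cj, R1.rw', R2.rw', q3]
  have z5 : cj (r * r2 * r3⁻¹) (oo c f) = oo c f * f be := by
    have w1 : cj r2 (f (be * v)) = f (be * v) := by rw [map_mul, map_mul, R2.rb, R2.rv]
    have w2 : cj r3⁻¹ (f (be * v)) = f (be * v) := by rw [map_mul, map_mul, q1, q2]
    have w3 : cj r3⁻¹ (f (be * w)) = f (be * w) := by rw [map_mul, map_mul, q1, q3]
    rw [← cj_cj, ← cj_cj, R1.ro, map_mul, R2.ro, w1, map_mul, map_mul, q5, w2, w3]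
    have e : be * (w * v) * (be * w) * (be * v) = be := by
      have := wd_eq (l := wbe ++ (([0] ++ wk1) ++ wv) ++ (wbe ++ ([0] ++ wk1)) ++ (wbe ++ wv)) (l' := wbe)
        (by decide +kernel)
      simp only [wd_append, wd_y] at this; exact this
    calc oo c f * f (be * (w * v)) * f (be * w) * f (be * v)
        = oo c f * f (be * (w * v) * (be * w) * (be * v)) := by simp only [map_mul]; group
      _ = _ := by rw [e]
  have z6 := C.centWo_comm (comm_of_cj z1).symm (comm_of_cj z2).symm (comm_of_cj z3).symm (comm_of_cj z4).symm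
  rw [cj_of_comm z6.symm] at z5
  have z7 : f be = 1 := mul_eq_left.1 z5.symm
  exact e_b1 (C.inj (by rw [z7, map_one]))

end Cfsg.Agent.CoThreeStd.OutD
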