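import Cfsg.Agent.CoThreeStd.OutDEnd
import Cfsg.Agent.CoThreeStd.OutCtx

/-!
# S1750, `C_G(t) = ⟨t⟩ × M₁₂:2`: pattern P1 (`t^G ∩ C(t) = {t} ∪ tB`) does not occur (helper810)

Interface to `OutCtx.CtxO`.
-/

set_option autoImplicit false

namespace Cfsg.Agent.CoThreeStd.OutD

open Cfsg.Agent.CoThreeStd.MTwelve hiding w cj
open Cfsg.Agent.CoThreeStd.DeltaData Cfsg.Agent.CoThreeStd.InvTwo Cfsg.Agent.CoThreeStd.Fusion
open Cfsg.Agent.CoThreeStd.OutAut

variable {G : Type*} [Group G] {t c : G} {f : H →* G}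

theorem ofCtxO (h : OutCtx.CtxO t c f) : CtxO t c f where
  inj := h.inj
  tt := h.tt
  t_ne := h.t_ne
  comm := h.comm
  nmem := h.nmem
  cc := h.cc
  ct := h.ct
  act := h.act
  cent := h.cent

theorem sq_of_conj {K : Type*} [Group K] {t x : K} (tt : t * t = 1) (h : IsConj t x) : x * x = 1 := by
  obtain ⟨g, rfl⟩ := isConj_iff.1 h
  calc g * t * g⁻¹ * (g * t * g⁻¹) = g * (t * t) * g⁻¹ := by group
    _ = 1 := by rw [tt]; group

/-- an involution `c f(m)` is conjugate to `c` (by an element commuting with `t`) -/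
theorem CtxO.conj_c (C : CtxO t c f) {m : H} (h : c * f m * (c * f m) = 1) :
    ∃ n : H, (f n)⁻¹ * c * f n = c * f m := by
  have h1 : alpha m * m = 1 := by
    apply C.inj
    rw [map_mul, map_one, ← h]
    calc f (alpha m) * f m = f (alpha m) * (c * c) * f m := by rw [C.cc, mul_one]
      _ = (f (alpha m) * c) * (c * f m) := by group
      _ = _ := by rw [← C.cf]
  obtain ⟨n, hn⟩ := twisted m h1
  refine ⟨n, ?_⟩
  rw [hn, map_mul, map_inv]
  have h2 : c * (f (alpha n))⁻¹ = (f n)⁻¹ * c := by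
    rw [← map_inv, ← map_inv, C.cf, alpha_alpha, map_inv]
  rw [← mul_assoc, h2]

/-- **pattern P1**, interface form -/
theorem false_outer (h : OutCtx.CtxO t c f) (hc : ¬ IsConj t c) (htc : ¬ IsConj t (t * c))
    (hy : ¬ IsConj t (f y)) (hb : ¬ IsConj t (f (p * r))) (hty : ¬ IsConj t (t * f y))
    (htb : IsConj t (t * f (p * r))) : False := by
  have C := ofCtxO h
  have cj1 : ∀ (n : H) (x : G), IsConj t ((f n)⁻¹ * x * f n) → IsConj t x := by
    intro n x hx
    exact hx.trans (isConj_iff.2 ⟨f n, by group⟩)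
  have ct1 : ∀ (n : H) (x : G), (f n)⁻¹ * (t * x) * f n = t * ((f n)⁻¹ * x * f n) := by
    intro n x
    have h1 : (f n)⁻¹ * t = t * (f n)⁻¹ := by rw [← map_inv, h.comm]
    calc (f n)⁻¹ * (t * x) * f n = ((f n)⁻¹ * t) * x * f n := by group
      _ = _ := by rw [h1]; group
  refine false_of_pat (t := t) (c := c) (f := f) ⟨C, ?_, ?_, ?_, ?_, ?_⟩
  · intro m hm
    have h1 := sq_of_conj h.tt hm
    rw [← map_mul] at h1
    have h2 : m * m = 1 := h.inj (by rw [h1, map_one])
    have h3 : m ≠ 1 := by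
      rintro rfl
      rw [map_one, isConj_one_left] at hm
      exact h.t_ne hm
    rcases inv2.cases m h2 h3 with ⟨n, rfl⟩ | ⟨n, rfl⟩
    · apply hy
      apply cj1 n
      rw [← map_inv, ← map_mul, ← map_mul]
      exact hm
    · apply hb
      apply cj1 n
      rw [← map_inv, ← map_mul, ← map_mul]
      exact hm
  · intro m hm
    obtain ⟨n, hn⟩ := C.conj_c (sq_of_conj h.tt hm)
    apply hc
    apply cj1 n
    rw [hn]
    exact hm
  · intro m hm
    have h1 := sq_of_conj h.tt hm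
    have h2 : c * f m * (c * f m) = 1 := by
      have h3 : (c * f m) * t = t * (c * f m) := by
        rw [mul_assoc, h.comm, ← mul_assoc, h.ct, mul_assoc]
      calc c * f m * (c * f m) = (t * t) * (c * f m * (c * f m)) := by rw [h.tt, one_mul]
        _ = t * (t * (c * f m)) * (c * f m) := by group
        _ = t * ((c * f m) * t) * (c * f m) := by rw [h3]
        _ = t * (c * f m) * (t * (c * f m)) := by group
        _ = 1 := h1
    obtain ⟨n, hn⟩ := C.conj_c h2
    apply htc
    apply cj1 n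
    rw [ct1, hn]
    exact hm
  · rintro _ ⟨n, rfl⟩
    refine htb.trans (isConj_iff.2 ⟨(f n)⁻¹, ?_⟩)
    rw [inv_inv, ct1, ← map_inv, ← map_mul, ← map_mul]
  · rintro _ ⟨n, rfl⟩ hm
    apply hty
    apply cj1 n
    rw [ct1, ← map_inv, ← map_mul, ← map_mul]
    exact hm

end Cfsg.Agent.CoThreeStd.OutD
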