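import Cfsg.Agent.CoThreeStd.OutDBase

/-!
# S1750, pattern P1: normalisation of `X` (helper810)

`exists_nm`: there are `s` and `z ∈ {1, be}` with `t^s = t be`, `s` centralises `v, y, k1, c'` (`c' = c` or `t c`),
`k2^s = k2 z`, `d^s = d z`.
-/

set_option autoImplicit false
set_option maxHeartbeats 400000

namespace Cfsg.Agent.CoThreeStd.OutD

open Cfsg.Agent.CoThreeStd.MTwelve hiding w cj
open Cfsg.Agent.CoThreeStd.DeltaData Cfsg.Agent.CoThreeStd.InvTwo Cfsg.Agent.CoThreeStd.Fusion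
open Cfsg.Agent.CoThreeStd.DeltaRel Cfsg.Agent.CoThreeStd.DeltaLoc Cfsg.Agent.CoThreeStd.DeltaAmb
open Cfsg.Agent.CoThreeStd.Delta Cfsg.Agent.CoThreeStd.OutAut

variable {G : Type*} [Group G] {t c : G} {f : H →* G}

/-- the word of the image of `l` under `c^a y^b v^e` -/
def tr (a b e : Fin 2) (l : List ℕ) : List ℕ :=
  MTwelve.cj (bif a.1 == 0 then l else aw l) (wp [0] b.1 ++ wp wv e.1)

def test7a (u1 u2 l : List ℕ) (a b e i : Fin 2) : Bool :=
  eqW (tr a b e (wk1 ++ u1)) wk1 && (eqW (tr a b e (wk2 ++ u2)) (wk2 ++ wp wbe i.1) &&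
    eqW (tr a b e l) (wd' ++ wp wbe i.1))

def test7 (u1 u2 l : List ℕ) : Bool :=
  !(eqW (l ++ l) []) || (!(eqW (wv ++ l) (l ++ ([0] ++ (wk1 ++ u1)))) ||
    (!(eqW (l ++ (wk2 ++ u2) ++ l ++ (wk2 ++ u2) ++ l ++ (wk2 ++ u2)) []) ||
    (!(eqW ((wk1 ++ u1) ++ (wk2 ++ u2) ++ l ++ (wk1 ++ u1) ++ l ++ (wk2 ++ u2) ++ l ++ [0] ++ l) []) ||
    (decide (∃ a b e i : Fin 2, test7a u1 u2 l a b e i = true)))))

def us : List (List ℕ) := [[], wbe, wv, wbe ++ wv]

set_option maxRecDepth 100000 in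
theorem test7_all : us.all (fun u1 => us.all (fun u2 => cbe.all (test7 u1 u2))) = true := by decide +kernel

theorem inV_us {u : H} (h : InV be v u) : ∃ l ∈ us, wd l = u := by
  rcases h with rfl | rfl | rfl | rfl
  · exact ⟨[], by simp [us], rfl⟩
  · exact ⟨wbe, by simp [us], rfl⟩
  · exact ⟨wv, by simp [us], rfl⟩
  · exact ⟨wbe ++ wv, by simp [us], by rw [wd_append]; rfl⟩

theorem pow_fin {M : Type*} [Monoid M] (a : Fin 2) (x : M) : x ^ a.1 = 1 ∨ x ^ a.1 = x := by
  rcases a with ⟨a, ha⟩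
  interval_cases a
  · left; exact pow_zero x
  · right; exact pow_one x

/-- moving a central involution `z` -/
theorem move_z {M : Type*} [Group M] {d z k1 k2 y : M} (c1 : z * k1 = k1 * z) (c2 : z * k2 = k2 * z)
    (c3 : z * y = y * z) (c4 : z * d = d * z) (zz : z * z = 1) :
    d * z * k1 * (k2 * z) * y * (d * z) = d * k1 * k2 * y * d * z := by
  calc d * z * k1 * (k2 * z) * y * (d * z) = d * (z * k1) * k2 * (z * y) * (d * z) := by group
    _ = d * (k1 * z) * k2 * (y * z) * (d * z) := by rw [c1, c3]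
    _ = d * k1 * (z * k2) * y * (z * d) * z := by group
    _ = d * k1 * (k2 * z) * y * (d * z) * z := by rw [c2, c4]
    _ = d * k1 * k2 * (z * y) * d * (z * z) := by group
    _ = d * k1 * k2 * (y * z) * d := by rw [c3, zz, mul_one]
    _ = d * k1 * k2 * y * (z * d) := by group
    _ = _ := by rw [c4]; group

/-- the action of `c^a` -/
theorem cj_ca (C : CtxO t c f) (a : Fin 2) (l : List ℕ) :
    cj (c ^ a.1) (f (wd l)) = f (wd (bif a.1 == 0 then l else aw l)) := by
  fin_cases a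
  · show cj (c ^ 0) _ = f (wd l)
    rw [pow_zero, cj_one]
  · show cj (c ^ 1) _ = f (wd (aw l))
    rw [pow_one, C.cj_c, alpha_wd]

theorem cj_tr (C : CtxO t c f) (a b e : Fin 2) (l : List ℕ) :
    cj (c ^ a.1 * f (y ^ b.1 * v ^ e.1)) (f (wd l)) = f (wd (tr a b e l)) := by
  have h1 : wd (wp [0] b.1 ++ wp wv e.1) = y ^ b.1 * v ^ e.1 := by
    rw [wd_append, wd_wp, wd_wp, wd_y]; rfl
  rw [← cj_cj, cj_ca C, tr, wd_cj, h1, cj_apply]
  simp only [map_mul, map_inv]

theorem finite_step {u1 u2 m : H} (h1 : InV be v u1) (h2 : InV be v u2) (h3 : m * be = be * m)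
    (r1 : m * m = 1) (r2 : v * m = m * (y * (k1 * u1)))
    (r3 : m * (k2 * u2) * m * (k2 * u2) * m * (k2 * u2) = 1)
    (r4 : (k1 * u1) * (k2 * u2) * m * (k1 * u1) * m * (k2 * u2) * m * y * m = 1) (C : CtxO t c f) :
    ∃ g z, (z = 1 ∨ z = be) ∧ (∃ a b e : Fin 2, g = c ^ a.1 * f (y ^ b.1 * v ^ e.1)) ∧
      cj g (f (k1 * u1)) = f k1 ∧ cj g (f (k2 * u2)) = f (k2 * z) ∧ cj g (f m) = f (d * z) := by
  obtain ⟨l1, m1, rfl⟩ := inV_us h1
  obtain ⟨l2, m2, rfl⟩ := inV_us h2
  obtain ⟨l, ml, rfl⟩ := mem_cbe m h3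
  have T := List.all_eq_true.mp (List.all_eq_true.mp (List.all_eq_true.mp test7_all l1 m1) l2 m2) l ml
  have e1 : k1 * wd l1 = wd (wk1 ++ l1) := by rw [wd_append]; rfl
  have e2 : k2 * wd l2 = wd (wk2 ++ l2) := by rw [wd_append]; rfl
  rw [e1] at r2 r4
  rw [e2] at r3 r4
  have q1 : eqW (l ++ l) [] = true := eqW_of_wd (by rw [wd_append, wd_nil]; exact r1)
  have q2 : eqW (wv ++ l) (l ++ ([0] ++ (wk1 ++ l1))) = true := by
    apply eqW_of_wd
    rw [wd_append wv l, wd_append l _, wd_append [0] _, wd_y]; exact r2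
  have q3 : eqW (l ++ (wk2 ++ l2) ++ l ++ (wk2 ++ l2) ++ l ++ (wk2 ++ l2)) [] = true := by
    apply eqW_of_wd
    rw [wd_append _ (wk2 ++ l2), wd_append _ l, wd_append _ (wk2 ++ l2), wd_append _ l,
      wd_append l (wk2 ++ l2), wd_nil]
    exact r3
  have q4 : eqW ((wk1 ++ l1) ++ (wk2 ++ l2) ++ l ++ (wk1 ++ l1) ++ l ++ (wk2 ++ l2) ++ l ++ [0] ++ l) [] = true := by
    apply eqW_of_wd
    rw [wd_append _ l, wd_append _ [0], wd_append _ l, wd_append _ (wk2 ++ l2), wd_append _ l,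
      wd_append _ (wk1 ++ l1), wd_append _ l, wd_append (wk1 ++ l1) (wk2 ++ l2), wd_nil, wd_y]
    exact r4
  rw [test7, q1, q2, q3, q4] at T
  simp only [Bool.not_true, Bool.false_or] at T
  obtain ⟨a, b, e, i, hT⟩ := of_decide_eq_true T
  rw [test7a, Bool.and_eq_true, Bool.and_eq_true] at hT
  obtain ⟨t1, t2, t3⟩ := hT
  have hi : wd (wp wbe i.1) = be ^ i.1 := wd_wp _ _
  refine ⟨c ^ a.1 * f (y ^ b.1 * v ^ e.1), be ^ i.1, ?_, ⟨a, b, e, rfl⟩, ?_, ?_, ?_⟩
  · exact pow_y i be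
  · rw [e1, cj_tr C, wd_eq t1]; rfl
  · rw [e2, cj_tr C, wd_eq t2, wd_append, hi]; rfl
  · rw [cj_tr C, wd_eq t3, wd_append, hi]; rfl

/-- `s` acts on `f(C(be))` as `1` or as the central automorphism -/
structure Nm (t : G) (f : H →* G) (s : G) (z : H) : Prop where
  hz : z = 1 ∨ z = be
  ts : cj s t = t * f be
  sb : cj s (f be) = f be
  sv : cj s (f v) = f v
  sy : cj s (f y) = f y
  sk1 : cj s (f k1) = f k1
  sk2 : cj s (f k2) = f (k2 * z)
  sd : cj s (f d) = f (d * z)

theorem exists_nm0 (h : PatO t c f) : ∃ s z, Nm t f s z := by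
  have C := h.C
  obtain ⟨X, o⟩ := existsO_over h
  have n := over_nor o
  obtain ⟨m1, hm1⟩ := goodO_k1 h n
  obtain ⟨m2, hm2⟩ := goodO_k2 h n
  obtain ⟨m3, hm3⟩ := goodO_d h n
  have Xb : cj X (f be) = f be := n.2
  have Xv : cj X (f v) = f v := cj_of_comm o.2.2.1.symm
  have Xy : cj X (f y) = f y := cj_of_comm o.2.2.2.symm
  have hv : ∀ {k m : H}, k * v = v * k → cj X (f k) = f m → m * v = v * m := by
    intro k m hk hm
    apply C.inj
    rw [map_mul, map_mul, ← hm, ← Xv, ← map_mul, ← map_mul, ← map_mul, ← map_mul, hk]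
  have hb : ∀ {k m : H}, k * be = be * k → cj X (f k) = f m → m * be = be * m := by
    intro k m hk hm
    apply C.inj
    rw [map_mul, map_mul, ← hm, ← Xb, ← map_mul, ← map_mul, ← map_mul, ← map_mul, hk]
  have s1 : m1 * m1 = wd wbe := by
    apply C.inj
    rw [map_mul, ← hm1, ← map_mul, ← map_mul, e_k11, Xb]; rfl
  have s2 : m2 * m2 = wd wv := by
    apply C.inj
    rw [map_mul, ← hm2, ← map_mul, ← map_mul, e_k22, Xv]; rfl
  obtain ⟨u1, hu1, hm1'⟩ := mem_xV test6_k1 (hb e_k1b hm1) (hv e_k1v hm1) s1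
  obtain ⟨u2, hu2, hm2'⟩ := mem_xV test6_k2 (hb e_k2b hm2) (hv e_k2v hm2) s2
  have hm1'' : m1 = k1 * u1 := hm1'
  have hm2'' : m2 = k2 * u2 := hm2'
  subst hm1''
  subst hm2''
  have r1 : m3 * m3 = 1 := by
    apply C.inj
    rw [map_mul, ← hm3, ← map_mul, ← map_mul, e_dd, map_one, map_one]
  have r2 : v * m3 = m3 * (y * (k1 * u1)) := by
    apply C.inj
    simp only [map_mul] at hm1 ⊢
    rw [← hm1, ← hm3, ← Xv, ← Xy, ← map_mul, ← map_mul, ← map_mul, ← map_mul, ← map_mul, ← map_mul,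
      show v * d = d * (y * k1) from e_dv]
  have r3 : m3 * (k2 * u2) * m3 * (k2 * u2) * m3 * (k2 * u2) = 1 := by
    have e : d * k2 * d * k2 * d * k2 = 1 := by
      have := wd_eq (l := wd' ++ wk2 ++ wd' ++ wk2 ++ wd' ++ wk2) (l' := []) (by decide +kernel)
      simp only [wd_append, wd_nil] at this; exact this
    apply C.inj
    rw [map_mul, map_mul, map_mul, map_mul, map_mul, ← hm2, ← hm3]
    rw [← map_mul, ← map_mul, ← map_mul, ← map_mul, ← map_mul, ← map_mul, ← map_mul, ← map_mul, ← map_mul,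
      ← map_mul, e, map_one, map_one]
  have r4 : (k1 * u1) * (k2 * u2) * m3 * (k1 * u1) * m3 * (k2 * u2) * m3 * y * m3 = 1 := by
    have e : k1 * k2 * d * k1 * d * k2 * d * y * d = 1 := by
      have := wd_eq (l := wk1 ++ wk2 ++ wd' ++ wk1 ++ wd' ++ wk2 ++ wd' ++ [0] ++ wd') (l' := [])
        (by decide +kernel)
      simp only [wd_append, wd_nil, wd_y] at this; exact this
    apply C.inj
    rw [map_mul, map_mul, map_mul, map_mul, map_mul, map_mul, map_mul, map_mul, ← hm1, ← hm2, ← hm3, ← Xy]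
    rw [← map_mul, ← map_mul, ← map_mul, ← map_mul, ← map_mul, ← map_mul, ← map_mul, ← map_mul, ← map_mul,
      ← map_mul, ← map_mul, ← map_mul, ← map_mul, ← map_mul, ← map_mul, ← map_mul, e, map_one, map_one]
  obtain ⟨g, z, hz, ⟨a, b, e, hg⟩, g1, g2, g3⟩ := finite_step hu1 hu2 (hb e_db.symm hm3) r1 r2 r3 r4 C
  have gf : ∀ {x : H}, alpha x = x → x * y = y * x → x * v = v * x → cj g (f x) = f x := by
    intro x h1 h2 h3
    rw [hg, ← cj_cj]
    have e1 : cj (c ^ a.1) (f x) = f x := by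
      rcases pow_fin a c with h | h <;> rw [h]
      · exact cj_one _
      · rw [C.cj_c, h1]
    rw [e1]
    apply cj_of_comm
    have c1 : Commute x (y ^ b.1) := Commute.pow_right h2 _
    have c2 : Commute x (v ^ e.1) := Commute.pow_right h3 _
    exact ((c1.mul_right c2).map f).eq
  have gt : cj g t = t := by
    rw [hg, ← cj_cj]
    have e1 : cj (c ^ a.1) t = t := by
      rcases pow_fin a c with h | h <;> rw [h]
      · exact cj_one _
      · exact cj_of_comm C.ct.symm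
    rw [e1]
    exact cj_of_comm (C.comm _).symm
  have gb : cj g (f be) = f be := gf alpha_be e_yb.symm e_vb.symm
  have gv : cj g (f v) = f v := gf alpha_v e_yv.symm rfl
  have gy : cj g (f y) = f y := gf alpha_y rfl e_yv
  refine ⟨X * g, z, hz, ?_, ?_, ?_, ?_, ?_, ?_, ?_⟩
  · rw [← cj_cj, o.1, map_mul, gt, gb]
  · rw [← cj_cj, Xb, gb]
  · rw [← cj_cj, Xv, gv]
  · rw [← cj_cj, Xy, gy]
  · rw [← cj_cj, hm1, g1]
  · rw [← cj_cj, hm2, g2]
  · rw [← cj_cj, hm3, g3]

/-- words: `be^i v^j y^l` -/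
theorem wbvxy (i j l : Fin 2) : be ^ i.1 * v ^ j.1 * y ^ l.1 = wd (wbvx [0] i j l) := by
  rw [wd_wbvx, wd_y]

theorem E_alpha (i j l : Fin 2) : alpha (be ^ i.1 * v ^ j.1 * y ^ l.1) = be ^ i.1 * v ^ j.1 * y ^ l.1 := by
  simp only [map_mul, map_pow, alpha_be, alpha_v, alpha_y]

theorem E_sq : ∀ i j l : Fin 2, (be ^ i.1 * v ^ j.1 * y ^ l.1) * (be ^ i.1 * v ^ j.1 * y ^ l.1) = 1 := by
  intro i j l
  have h : ∀ i j l : Fin 2, eqW (wbvx [0] i j l ++ wbvx [0] i j l) [] = true := by decide +kernel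
  rw [wbvxy, ← wd_append, wd_eq (h i j l), wd_nil]

theorem E_fix {s : G} {z : H} (n : Nm t f s z) (i j l : Fin 2) :
    cj s (f (be ^ i.1 * v ^ j.1 * y ^ l.1)) = f (be ^ i.1 * v ^ j.1 * y ^ l.1) := by
  simp only [map_mul, map_pow, n.sb, n.sv, n.sy]

theorem alpha_d : alpha d = d * k1 * k2 * y * d := by
  show alpha (wd wd') = wd wd' * wd wk1 * wd wk2 * y * wd wd'
  rw [alpha_wd, ← wd_y, ← wd_append, ← wd_append, ← wd_append, ← wd_append]
  exact wd_eq (by decide +kernel)

def test8 (i j l : Fin 2) : Bool :=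
  !(eqW (wbvx [0] i j l ++ wk1) (wk1 ++ wbvx [0] i j l)) ||
    (!(eqW (wbvx [0] i j l ++ (wd' ++ wk1 ++ wk2 ++ [0] ++ wd')) ((wd' ++ wk1 ++ wk2 ++ [0] ++ wd') ++ wbvx [0] i j l)) ||
      (eqW (wbvx [0] i j l) [] || eqW (wbvx [0] i j l) wbe))

theorem test8_all : ∀ i j l : Fin 2, test8 i j l = true := by decide +kernel

theorem E_c {i j l : Fin 2} (h1 : (be ^ i.1 * v ^ j.1 * y ^ l.1) * k1 = k1 * (be ^ i.1 * v ^ j.1 * y ^ l.1))
    (h2 : (be ^ i.1 * v ^ j.1 * y ^ l.1) * alpha d = alpha d * (be ^ i.1 * v ^ j.1 * y ^ l.1)) :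
    be ^ i.1 * v ^ j.1 * y ^ l.1 = 1 ∨ be ^ i.1 * v ^ j.1 * y ^ l.1 = be := by
  have T := test8_all i j l
  have q1 : eqW (wbvx [0] i j l ++ wk1) (wk1 ++ wbvx [0] i j l) = true := by
    apply eqW_of_wd
    rw [wd_append, wd_append, ← wbvxy]; exact h1
  have q2 : eqW (wbvx [0] i j l ++ (wd' ++ wk1 ++ wk2 ++ [0] ++ wd'))
      ((wd' ++ wk1 ++ wk2 ++ [0] ++ wd') ++ wbvx [0] i j l) = true := by
    apply eqW_of_wd
    have e : wd (wd' ++ wk1 ++ wk2 ++ [0] ++ wd') = alpha d := by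
      rw [alpha_d, wd_append, wd_append, wd_append, wd_append, wd_y]; rfl
    rw [wd_append, wd_append _ (wbvx [0] i j l), e, ← wbvxy]; exact h2
  rw [test8, q1, q2] at T
  simp only [Bool.not_true, Bool.false_or, Bool.or_eq_true] at T
  rw [wbvxy]
  rcases T with h | h
  · left; rw [wd_eq h, wd_nil]
  · right; rw [wd_eq h]; rfl

theorem z_comm {z : H} (hz : z = 1 ∨ z = be) {x : H} (hx : x * be = be * x) : x * z = z * x := by
  rcases hz with rfl | rfl
  · rw [mul_one, one_mul]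
  · exact hx

theorem z_sq {z : H} (hz : z = 1 ∨ z = be) : z * z = 1 := by
  rcases hz with rfl | rfl
  · rw [one_mul]
  · exact e_bb

theorem exists_nm1 (h : PatO t c f) {s : G} {z : H} (n : Nm t f s z) :
    cj s c = c ∨ cj s c = c * f be := by
  have C := h.C
  obtain ⟨g, hg⟩ : ∃ g, g = cj s c := ⟨_, rfl⟩
  have cb : c * f be = f be * c := by rw [C.cf, alpha_be]
  have cv : c * f v = f v * c := by rw [C.cf, alpha_v]
  have cy : c * f y = f y * c := by rw [C.cf, alpha_y]
  have g2 : g * f be = f be * g := by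
    rw [hg]; nth_rw 1 [← n.sb]; nth_rw 2 [← n.sb]; rw [← map_mul, ← map_mul, cb]
  have g3 : g * f v = f v * g := by
    rw [hg]; nth_rw 1 [← n.sv]; nth_rw 2 [← n.sv]; rw [← map_mul, ← map_mul, cv]
  have g4 : g * f y = f y * g := by
    rw [hg]; nth_rw 1 [← n.sy]; nth_rw 2 [← n.sy]; rw [← map_mul, ← map_mul, cy]
  have ffbe : f be * f be = 1 := by rw [← map_mul, e_bb, map_one]
  have g1 : g * t = t * g := by
    have h1 : g * (t * f be) = (t * f be) * g := by
      rw [← n.ts, hg, ← map_mul, ← map_mul, C.ct]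
    have h2 : g * t * f be = t * g * f be := by
      rw [mul_assoc, h1, mul_assoc, ← g2, mul_assoc]
    exact mul_right_cancel h2
  obtain ⟨i, j, l, hc⟩ := C.centE g1 g2 g3 g4
  obtain ⟨m, hm⟩ : ∃ m, m = be ^ i.1 * v ^ j.1 * y ^ l.1 := ⟨_, rfl⟩
  have hfix : cj s (f m) = f m := by rw [hm]; exact E_fix n i j l
  have hsq : m * m = 1 := by rw [hm]; exact E_sq i j l
  have hal : alpha m = m := by rw [hm]; exact E_alpha i j l
  have hmf : f m * f m = 1 := by rw [← map_mul, hsq, map_one]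
  rw [← hm] at hc
  rcases hc with hc | hc | hc | hc
  · exfalso
    rw [← hfix, hg] at hc
    exact C.c_ne m (cj_injective s hc)
  · exfalso
    have h1 : cj s (t * f be * f m) = t * f m := by
      rw [map_mul, map_mul, n.ts, n.sb, hfix, mul_assoc t, ffbe, mul_one]
    rw [hg, ← h1] at hc
    have h2 := cj_injective s hc
    apply C.c_ne' (be * m)
    rw [h2, map_mul, mul_assoc]
  · -- the main case
    have k1f : cj s (f (alpha k1)) = f (alpha k1) := by
      rw [alpha_k1, map_mul, map_mul, n.sk1, n.sv]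
    have e1 : cj g (f k1) = f (alpha k1) := by
      have h1 : cj g (cj s (f k1)) = cj s (cj c (f k1)) := by rw [hg, cj_map]
      rw [n.sk1, C.cj_c, k1f] at h1
      exact h1
    have e2 : cj g (f k1) = f (m⁻¹ * alpha k1 * m) := by
      rw [hc, ← cj_cj, C.cj_c, cj_apply]; simp only [map_mul, map_inv]
    have e3 : m * k1 = k1 * m := by
      have h1 : m⁻¹ * alpha k1 * m = alpha k1 := C.inj (e2.symm.trans e1)
      have h2 : alpha k1 * m = m * alpha k1 := by
        calc alpha k1 * m = m * (m⁻¹ * alpha k1 * m) := by group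
          _ = _ := by rw [h1]
      have h3 := congrArg alpha h2
      rw [map_mul, map_mul, alpha_alpha, hal] at h3
      exact h3.symm
    have df : cj s (f (alpha d)) = f (alpha d * z) := by
      have zb : ∀ {x : H}, x * be = be * x → x * z = z * x := fun hx => z_comm n.hz hx
      have c1 : z * k1 = k1 * z := (zb e_k1b).symm
      have c2 : z * k2 = k2 * z := (zb e_k2b).symm
      have c3 : z * y = y * z := (zb e_yb).symm
      have c4 : z * d = d * z := (zb e_db.symm).symm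
      have e0 : cj s (f (d * k1 * k2 * y * d)) = cj s (f d) * cj s (f k1) * cj s (f k2) * cj s (f y) * cj s (f d) := by
        simp only [map_mul]
      rw [alpha_d, e0, n.sk1, n.sy, n.sk2, n.sd, ← map_mul, ← map_mul, ← map_mul, ← map_mul]
      exact congrArg f (move_z c1 c2 c3 c4 (z_sq n.hz))
    have e4 : cj g (f (d * z)) = f (alpha d * z) := by
      have h1 : cj g (cj s (f d)) = cj s (cj c (f d)) := by rw [hg, cj_map]
      rw [n.sd, C.cj_c, df] at h1
      exact h1
    have haz : alpha z = z := by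
      rcases n.hz with h1 | h1 <;> rw [h1]
      · exact map_one _
      · exact alpha_be
    have e5 : cj g (f (d * z)) = f (m⁻¹ * (alpha d * z) * m) := by
      rw [hc, ← cj_cj, C.cj_c, cj_apply, map_mul, haz]; simp only [map_mul, map_inv]
    have mz : m * z = z * m := by
      apply z_comm n.hz
      rw [← e_k11, ← mul_assoc, e3, mul_assoc, e3, mul_assoc]
    have e6 : m * alpha d = alpha d * m := by
      have h1 : m⁻¹ * (alpha d * z) * m = alpha d * z := C.inj (e5.symm.trans e4)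
      have h2 : (alpha d * z) * m = m * (alpha d * z) := by
        calc (alpha d * z) * m = m * (m⁻¹ * (alpha d * z) * m) := by group
          _ = _ := by rw [h1]
      have h3 : (alpha d * m) * z = (m * alpha d) * z := by
        calc (alpha d * m) * z = alpha d * (m * z) := by group
          _ = (alpha d * z) * m := by rw [mz]; group
          _ = _ := by rw [h2]; group
      exact (mul_right_cancel h3).symm
    rw [hm] at e3 e6 hc
    rcases E_c e3 e6 with h1 | h1
    · left; rw [← hg, hc, h1, map_one, mul_one]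
    · right; rw [← hg, hc, h1]
  · exfalso
    -- `s²` centralises `t, be, v, y`
    have a1 : cj (s * s) t = t := by
      rw [← cj_cj, n.ts, map_mul, n.ts, n.sb, mul_assoc, ffbe, mul_one]
    have a2 : cj (s * s) (f be) = f be := by rw [← cj_cj, n.sb, n.sb]
    have a3 : cj (s * s) (f v) = f v := by rw [← cj_cj, n.sv, n.sv]
    have a4 : cj (s * s) (f y) = f y := by rw [← cj_cj, n.sy, n.sy]
    obtain ⟨i', j', l', hs⟩ := C.centE (comm_of_cj a1).symm (comm_of_cj a2).symm (comm_of_cj a3).symm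
      (comm_of_cj a4).symm
    obtain ⟨m', hm'⟩ : ∃ m', m' = be ^ i'.1 * v ^ j'.1 * y ^ l'.1 := ⟨_, rfl⟩
    have hal' : alpha m' = m' := by rw [hm']; exact E_alpha i' j' l'
    rw [← hm'] at hs
    have cm' : c * f m' = f m' * c := by rw [C.cf, hal']
    have a5 : c * (s * s) = (s * s) * c := by
      rcases hs with hs | hs | hs | hs <;> rw [hs]
      · exact cm'
      · rw [← mul_assoc, C.ct, mul_assoc, cm', mul_assoc]
      · rw [mul_assoc, cm']
      · rw [← mul_assoc, C.ct, mul_assoc, mul_assoc, mul_assoc, cm']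
    have a6 : cj (s * s) c = c := cj_of_comm a5
    rw [← cj_cj, ← hg, hc, map_mul, map_mul, ← hg, hc, n.ts, hfix] at a6
    have a7 : t * f be * (t * (c * f m) * f m) = f be * c := by
      calc t * f be * (t * (c * f m) * f m) = t * (f be * t) * c * (f m * f m) := by group
        _ = t * (t * f be) * c := by rw [hmf, mul_one, C.comm]
        _ = (t * t) * f be * c := by group
        _ = _ := by rw [C.tt, one_mul]
    rw [a7] at a6
    have a8 : f be = 1 := mul_eq_right.1 a6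
    exact e_b1 (C.inj (by rw [a8, map_one]))

/-- the normalised situation -/
structure Nc (t c : G) (f : H →* G) (s : G) (z : H) : Prop extends PatO t c f, Nm t f s z where
  sc : cj s c = c

theorem exists_nc (h : PatO t c f) : ∃ c' s z, Nc t c' f s z := by
  obtain ⟨s, z, n⟩ := exists_nm0 h
  rcases exists_nm1 h n with h1 | h1
  · exact ⟨c, s, z, { h with toNm := n, sc := h1 }⟩
  · refine ⟨t * c, s, z, { h.swap with toNm := n, sc := ?_ }⟩
    have ffbe : f be * f be = 1 := by rw [← map_mul, e_bb, map_one]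
    rw [map_mul, n.ts, h1]
    calc t * f be * (c * f be) = t * (f be * c) * f be := by group
      _ = t * (c * f be) * f be := by rw [h.C.cf, alpha_be]
      _ = t * c * (f be * f be) := by group
      _ = _ := by rw [ffbe, mul_one]

end Cfsg.Agent.CoThreeStd.OutD
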