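import Cfsg.Agent.CoThreeStd.OutDKill

/-!
# S1750, pattern P1: the elements `S_x`, `x ∈ 2B` (helper810)

`s` centralises `f(C(be))` and `c`, `t^s = t be`.  `SX f s x = s ^ f(x)` depends only on `be ^ x`.
-/

set_option autoImplicit false
set_option maxHeartbeats 400000

namespace Cfsg.Agent.CoThreeStd.OutD

open Cfsg.Agent.CoThreeStd.MTwelve hiding w cj
open Cfsg.Agent.CoThreeStd.DeltaData Cfsg.Agent.CoThreeStd.InvTwo Cfsg.Agent.CoThreeStd.Fusion
open Cfsg.Agent.CoThreeStd.DeltaRel Cfsg.Agent.CoThreeStd.DeltaLoc Cfsg.Agent.CoThreeStd.DeltaAmb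
open Cfsg.Agent.CoThreeStd.Delta Cfsg.Agent.CoThreeStd.OutAut

variable {G : Type*} [Group G] {t c : G} {f : H →* G}

/-- the elements of `C(be)` as words in `k1, k2, y, d` -/
def gw : List (List ℕ) :=
  [[], [0,0,1,1,1], [0,0,1], [1,1], [0,0,3], [3,1], [1,3,1,3], [0,2,3], [1,1,1,3], [0,0,3,1,3], [1,3,0,2,1],
  [2,0,1,3], [1,3], [0,0,1,3,1], [0,1,2,3,1], [1,2,0,3], [3,0,2], [3,1,2,0], [1,1,3,1], [0,1,1,2,3], [2,0],
  [0,2,1], [0,1,2], [1,1,2,0], [0,0,1,2], [2], [1,1,2], [0,0,2,1], [1,2,3], [0,0,0,1,3,1], [3,2,1,3,0], [0,1,3],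
  [0,0,2,3], [2,3,1], [0,3,1], [0,0,0,3], [2,3,0,2], [0,1,1,3,1], [0,3,1,2,0], [0,3,0,2], [2,1,3], [0,0,0,3,1,3],
  [3,2,1,3,2], [0,1,1,1,3], [0,0,0,1], [0], [0,1,1], [2,0,1,2], [3,1,2], [0,2,3,2], [0,0,3,2], [3,2,1],
  [0,0,3,1,2,3], [1,2,3,2], [0,1,3,2], [0,3,1,3,0], [0,3,2,3,2], [1,3,2,3,2], [0,3,0,3,2], [1,3,0,3,2], [3,2,3],
  [1,3,2,3,0], [3,0,3], [1,3,0,3,0], [3,0,1], [0,2,3,0], [0,0,3,0], [1,3,1,3,0], [2,1,3,2,1], [1,2,3,0],
  [0,1,3,0], [0,3,1,3,2], [0,2,1,3,2,1], [0,0,1,3,0], [0,1,2,3,0], [1,3,0,1], [0,3,2,1], [0,0,0,3,2], [0,0,2,3,2],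
  [0,3,1,2], [1,3,0,3], [0,3,2,3], [1,3,2,3], [0,3,0,3], [3,0,3,1,2], [2,3,2,3], [3,0,3,2,1], [2,3,0,3],
  [1,3,2,1], [0,0,1,3,2], [0,1,2,3,2], [1,3,1,2], [2,3,0,1], [0,0,0,3,0], [0,0,2,3,0], [0,3,0,1], [3,1,3,0],
  [0,2,1,3,0], [1,3,2], [0,3,1,2,3], [1,3,1,2,3], [2,3,0], [0,3,0], [1,3,0,1,3], [2,3,0,3,1], [3,0,3,2],
  [2,3,2,3,1], [3,2,3,2], [0,3,2,3,1], [3,0,3,0], [0,3,0,3,1], [3,2,3,0], [3,1,3,2], [0,2,1,3,2], [1,3,0],
  [0,3,2,1,3], [1,3,2,1,3], [2,3,2], [0,3,2], [0,0,0,3,2,1], [0,2,3,0,1], [3,0], [2,0,3,0], [0,0,3,0,1],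
  [0,1,3,0,1], [0,0,0,1,3,0], [2,1,3,2], [3,2,1,3], [0,0,3,0,3], [3,0,3,1], [0,0,3,2,3], [3,2,3,1], [0,2,3,0,3],
  [1,2,3,0,3], [0,2,3,2,3], [1,2,3,2,3], [0,0,3,2,1], [3,2], [2,0,3,2], [0,0,3,1,2], [3,0,1,3], [0,0,0,1,3,2],
  [2,1,3,0], [3,1,2,3], [0,1,1,2], [1,2,0], [2,0,1], [0,2], [0,2,3,0,2], [3,0,2,1], [3,0,1,2], [1,1,3], [0,1,2,3],
  [1,1,3,1,3], [1,3,1], [0,0,1,3], [0,2,1,3], [1,1,1,3,1], [3,1,3], [1,3,0,2], [2,0,3], [0,2,3,1], [0,0,3,1], [3],
  [0,0,1,1], [1], [1,1,1], [0,0], [0,1,1,1], [0,0,0,1,1], [0,0,0], [0,1], [0,1,3,0,2], [3,1,2,3,0], [0,3,1,3],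
  [0,0,2,1,3], [0,1,1,3], [0,3,0,1,2], [0,3,0,2,1], [1,1,2,3], [0,3], [0,0,0,3,1], [0,0,2,3,1], [2,3],
  [0,0,0,1,3], [1,2,3,1], [0,1,3,1], [0,0,1,2,3], [2,1], [0,0,1,1,2], [0,0,2], [1,2]]

/-- the words of `k1, k2, y, d` -/
def gg : ℕ → List ℕ
  | 0 => wk1
  | 1 => wk2
  | 2 => [0]
  | 3 => wd'
  | _ => []

def ex (g : List ℕ) : List ℕ := (g.map gg).flatten

def chk : List (List ℕ) → List (List ℕ) → Bool
  | [], _ => true
  | _ :: _, [] => false
  | l :: ls, g :: gs => eqW l (ex g) && chk ls gs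

theorem chk_spec : ∀ {ls gs : List (List ℕ)}, chk ls gs = true → ∀ l ∈ ls, ∃ g, wd l = wd (ex g)
  | [], _, _, l, hl => absurd hl (by simp)
  | _ :: _, [], h, _, _ => absurd h (by simp [chk])
  | l' :: ls, g :: gs, h, l, hl => by
    rw [chk, Bool.and_eq_true] at h
    rcases List.mem_cons.mp hl with rfl | hl
    · exact ⟨g, wd_eq h.1⟩
    · exact chk_spec h.2 l hl

set_option maxRecDepth 100000 in
theorem chk_all : chk cbe gw = true := by decide +kernel

/-- `C(be) = ⟨k1, k2, y, d⟩` -/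
theorem fix_cbe {s : G} (h1 : cj s (f k1) = f k1) (h2 : cj s (f k2) = f k2) (h3 : cj s (f y) = f y)
    (h4 : cj s (f d) = f d) (m : H) (hm : m * be = be * m) : cj s (f m) = f m := by
  obtain ⟨l, hl, rfl⟩ := mem_cbe m hm
  obtain ⟨g, hg⟩ := chk_spec chk_all l hl
  rw [hg]
  clear hg hl hm l
  induction g with
  | nil =>
    show cj s (f (wd [])) = f (wd [])
    rw [wd_nil, map_one, map_one]
  | cons i g ih =>
    have e : ex (i :: g) = gg i ++ ex g := rfl
    have hi : cj s (f (wd (gg i))) = f (wd (gg i)) := by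
      rcases i with _ | _ | _ | _ | i
      · exact h1
      · exact h2
      · show cj s (f (wd [0])) = f (wd [0])
        rw [wd_y]; exact h3
      · exact h4
      · show cj s (f (wd [])) = f (wd [])
        rw [wd_nil, map_one, map_one]
    rw [e, wd_append, map_mul, map_mul, hi, ih]

/-- `s` centralises `f(C(be))` and `c` -/
structure SB (t c : G) (f : H →* G) (s : G) : Prop extends PatO t c f where
  ts : cj s t = t * f be
  fs : ∀ m, m * be = be * m → Commute (f m) s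
  cs : Commute c s

theorem Nc.sb1 {s : G} (n : Nc t c f s 1) : SB t c f s :=
  { n.toPatO with
    ts := n.ts
    fs := by
      intro m hm
      apply comm_of_cj
      apply fix_cbe n.sk1 ?_ n.sy ?_ m hm
      · have := n.sk2; rwa [mul_one] at this
      · have := n.sd; rwa [mul_one] at this
    cs := comm_of_cj n.sc }

/-- `s ^ f x` -/
def SX (f : H →* G) (s : G) (x : H) : G := cj (f x) s

theorem SX_one {s : G} : SX f s 1 = s := by rw [SX, map_one, cj_one]

theorem SX_conj {s : G} (x m : H) : cj (f m) (SX f s x) = SX f s (x * m) := by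
  rw [SX, cj_cj, SX, map_mul]

theorem cjf {g z z' : H} (h : z * g = g * z') : cj (f g) (f z) = f z' := by
  rw [cj_eq_iff, ← map_mul, ← map_mul, h]

theorem cjf' (f : H →* G) (g z : H) : cj (f g) (f z) = f (g⁻¹ * z * g) := by
  rw [cj_apply, ← map_inv, ← map_mul, ← map_mul]

namespace SB

variable {s : G}

theorem SX_eq (n : SB t c f s) {x x' : H} (h : x⁻¹ * be * x = x'⁻¹ * be * x') : SX f s x = SX f s x' := by
  have h1 : (x * x'⁻¹) * be = be * (x * x'⁻¹) := by
    calc (x * x'⁻¹) * be = x * (x'⁻¹ * be * x') * x'⁻¹ := by group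
      _ = x * (x⁻¹ * be * x) * x'⁻¹ := by rw [h]
      _ = _ := by group
  have h2 : cj (f (x * x'⁻¹)) s = s := cj_of_comm (n.fs _ h1).symm.eq
  rw [SX, SX]
  nth_rw 2 [← h2]
  rw [cj_cj, ← map_mul]
  congr 2
  group

theorem SX_comm (n : SB t c f s) {m x : H} (h : m * (x⁻¹ * be * x) = (x⁻¹ * be * x) * m) :
    Commute (f m) (SX f s x) := by
  have h1 : cj (f m) (SX f s x) = SX f s x := by
    rw [SX_conj]
    apply n.SX_eq
    calc (x * m)⁻¹ * be * (x * m) = m⁻¹ * ((x⁻¹ * be * x) * m) := by group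
      _ = m⁻¹ * (m * (x⁻¹ * be * x)) := by rw [h]
      _ = _ := by group
  exact (comm_of_cj h1).symm

theorem SX_t (n : SB t c f s) (x : H) : cj (SX f s x) t = t * f (x⁻¹ * be * x) := by
  have e := cj_map (f x) s t
  have e1 : cj (f x) t = t := cj_of_comm (n.C.comm x).symm
  rw [e1, n.ts, map_mul, e1, cjf'] at e
  exact e

theorem SX_alpha (n : SB t c f s) (x : H) : cj c (SX f s x) = SX f s (alpha x) := by
  rw [SX, ← cj_map, n.C.cj_c, cj_of_comm n.cs.symm.eq]; rfl

/-- `s * t` instead of `s` -/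
theorem mul_t (n : SB t c f s) : SB t c f (s * t) :=
  { n.toPatO with
    ts := by
      rw [← cj_cj, n.ts, map_mul, cj_of_comm rfl, cj_of_comm (n.C.comm be)]
    fs := fun m hm => (n.fs m hm).mul_right (n.C.comm m)
    cs := n.cs.mul_right n.C.ct }

end SB

/-- `ρ` -/
def rho : H := p * q

theorem rho_wd : rho = wd [1, 2] := by
  rw [rho, ← wd_p, ← wd_q, ← wd_append]; rfl

theorem alpha_rho : alpha rho = rho := alpha_pq

/-- proves an identity between words -/
macro "wdec" l:term " , " l':term : tactic =>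
  `(tactic| (have h_ := wd_eq (l := $l) (l' := $l') (by decide +kernel)
             simp only [wd_append, wd_y, wd_nil, ← rho_wd] at h_
             exact h_))

theorem rho3 : rho * rho * rho = 1 := by wdec [1, 2] ++ [1, 2] ++ [1, 2], []
theorem r_be : be * rho = rho * v := by wdec wbe ++ [1, 2], [1, 2] ++ wv
theorem r_v : v * rho = rho * (be * v) := by wdec wv ++ [1, 2], [1, 2] ++ (wbe ++ wv)
theorem r_y : y * rho = rho * y := by wdec [0] ++ [1, 2], [1, 2] ++ [0]
theorem r_k1 : k1 * rho = rho * k2 := by wdec wk1 ++ [1, 2], [1, 2] ++ wk2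

theorem b_rho : rho⁻¹ * be * rho = v := by rw [mul_assoc, r_be]; group
theorem b_rho2 : (rho * rho)⁻¹ * be * (rho * rho) = be * v := by
  calc (rho * rho)⁻¹ * be * (rho * rho) = rho⁻¹ * (rho⁻¹ * be * rho) * rho := by group
    _ = rho⁻¹ * (v * rho) := by rw [b_rho]; group
    _ = be * v := by rw [r_v]; group

def test9 (i j l : Fin 2) : Bool :=
  !(eqW (wbvx [0] i j l ++ wk1) (wk1 ++ wbvx [0] i j l)) ||
    (eqW (wbvx [0] i j l) [] || (eqW (wbvx [0] i j l) wbe || (eqW (wbvx [0] i j l) wv ||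
      eqW (wbvx [0] i j l) (wbe ++ wv))))

theorem test9_all : ∀ i j l : Fin 2, test9 i j l = true := by decide +kernel

theorem test10 : ∀ i j l : Fin 2, eqW (wbvx [0] i j l ++ (wk1 ++ wv)) (wk1 ++ wbvx [0] i j l) = false := by
  decide +kernel

theorem E_k1 {i j l : Fin 2} (h1 : (be ^ i.1 * v ^ j.1 * y ^ l.1) * k1 = k1 * (be ^ i.1 * v ^ j.1 * y ^ l.1)) :
    InV be v (be ^ i.1 * v ^ j.1 * y ^ l.1) := by
  have T := test9_all i j l
  have q1 : eqW (wbvx [0] i j l ++ wk1) (wk1 ++ wbvx [0] i j l) = true := by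
    apply eqW_of_wd
    rw [wd_append, wd_append, ← wbvxy]; exact h1
  rw [test9, q1] at T
  simp only [Bool.not_true, Bool.false_or, Bool.or_eq_true] at T
  rw [wbvxy]
  rcases T with h | h | h | h
  · left; rw [wd_eq h, wd_nil]
  · right; left; rw [wd_eq h]; rfl
  · right; right; left; rw [wd_eq h]; rfl
  · right; right; right; rw [wd_eq h, wd_append]; rfl

/-- the centraliser of `t, be, v, y, k1` -/
theorem CtxO.centV (C : CtxO t c f) {g : G} (h1 : g * t = t * g) (h2 : g * f be = f be * g)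
    (h3 : g * f v = f v * g) (h4 : g * f y = f y * g) (h5 : g * f k1 = f k1 * g) :
    ∃ u, InV be v u ∧ (g = f u ∨ g = t * f u) := by
  obtain ⟨i, j, l, hg⟩ := C.centE h1 h2 h3 h4
  have ht : ∀ m : H, Commute t (f m) := fun m => (C.comm m).symm
  have key : ∀ g' : G, g' = c * f (be ^ i.1 * v ^ j.1 * y ^ l.1) → g' * f k1 = f k1 * g' → False := by
    intro g' hg' h6
    rw [hg', C.cf, E_alpha] at h6
    have h7 : f ((be ^ i.1 * v ^ j.1 * y ^ l.1) * (k1 * v)) = f (k1 * (be ^ i.1 * v ^ j.1 * y ^ l.1)) := by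
      apply mul_right_cancel (b := c)
      rw [map_mul, map_mul f k1 (be ^ i.1 * v ^ j.1 * y ^ l.1)]
      calc f (be ^ i.1 * v ^ j.1 * y ^ l.1) * f (k1 * v) * c = f (be ^ i.1 * v ^ j.1 * y ^ l.1) * (c * f k1) := by
            rw [C.cf, alpha_k1, mul_assoc]
        _ = f k1 * (f (be ^ i.1 * v ^ j.1 * y ^ l.1) * c) := by rw [← mul_assoc, h6]
        _ = _ := (mul_assoc _ _ _).symm
    have h8 := C.inj h7
    have h9 : eqW (wbvx [0] i j l ++ (wk1 ++ wv)) (wk1 ++ wbvx [0] i j l) = true := by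
      apply eqW_of_wd
      rw [wd_append, wd_append, wd_append wk1 (wbvx [0] i j l), ← wbvxy]; exact h8
    rw [test10] at h9
    exact Bool.noConfusion h9
  rcases hg with hg | hg | hg | hg
  · refine ⟨_, E_k1 ?_, Or.inl hg⟩
    apply C.inj
    rw [map_mul, map_mul f k1, ← hg]; exact h5
  · refine ⟨_, E_k1 ?_, Or.inr hg⟩
    apply C.inj
    have h6 : f (be ^ i.1 * v ^ j.1 * y ^ l.1) = t * g := by rw [hg, ← mul_assoc, C.tt, one_mul]
    rw [map_mul, map_mul f k1, h6]
    have h7 : Commute g (f k1) := h5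
    exact ((ht k1).mul_left h7).eq
  · exact (key g hg h5).elim
  · exfalso
    have h6 : t * g = c * f (be ^ i.1 * v ^ j.1 * y ^ l.1) := by rw [hg, ← mul_assoc, C.tt, one_mul]
    apply key (t * g) h6
    have h7 : Commute g (f k1) := h5
    exact ((ht k1).mul_left h7).eq

theorem u_rho {u : H} (hu : InV be v u) (h : u * rho = rho * u) : u = 1 := by
  rcases hu with rfl | rfl | rfl | rfl
  · rfl
  · exfalso
    rw [r_be] at h
    exact e_bv1 (mul_left_cancel h).symm
  · exfalso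
    rw [r_v] at h
    have h1 := mul_left_cancel h
    exact e_b1 (mul_eq_right.1 h1)
  · exfalso
    have e : be * v * rho = rho * be := by wdec wbe ++ wv ++ [1, 2], [1, 2] ++ wbe
    rw [e] at h
    have h1 := mul_left_cancel h
    exact e_v1 (mul_eq_left.1 h1.symm)

theorem u_rho' {u : H} (hu : InV be v u) (h : u * rho = rho * (be * u)) : u = v := by
  rcases hu with rfl | rfl | rfl | rfl
  · exfalso
    rw [one_mul, mul_one] at h
    exact e_b1 (mul_eq_left.1 h.symm)
  · exfalso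
    rw [r_be, e_bb] at h
    exact e_v1 (mul_left_cancel h)
  · rfl
  · exfalso
    have e : be * v * rho = rho * be := by wdec wbe ++ wv ++ [1, 2], [1, 2] ++ wbe
    rw [e, ← mul_assoc be, e_bb, one_mul] at h
    exact e_bv1 (mul_left_cancel h)

namespace SB

variable {s : G}

theorem comm_CV (n : SB t c f s) {m : H} (h1 : m * be = be * m) (h2 : m * v = v * m) :
    Commute (f m) (SX f s rho) ∧ Commute (f m) (SX f s (rho * rho)) := by
  constructor
  · apply n.SX_comm
    rw [b_rho, h2]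
  · apply n.SX_comm
    rw [b_rho2, ← mul_assoc, h1, mul_assoc, h2, mul_assoc]

/-- `s s^ρ s^{ρ²}` centralises `t` and `C(V)` -/
theorem P_comm (n : SB t c f s) {m : H} (h1 : m * be = be * m) (h2 : m * v = v * m) :
    Commute (f m) (s * SX f s rho * SX f s (rho * rho)) := by
  obtain ⟨a, b⟩ := n.comm_CV h1 h2
  exact ((n.fs m h1).mul_right a).mul_right b

theorem P_t (n : SB t c f s) : cj (s * SX f s rho * SX f s (rho * rho)) t = t := by
  obtain ⟨a1, a2⟩ := n.comm_CV (m := be) rfl e_vb.symm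
  obtain ⟨a3, a4⟩ := n.comm_CV (m := v) e_vb rfl
  rw [← cj_cj, ← cj_cj, n.ts, map_mul, n.SX_t, b_rho, cj_of_comm a1.eq, map_mul, map_mul, n.SX_t, b_rho2,
    cj_of_comm a2.eq, cj_of_comm a4.eq]
  calc t * f (be * v) * f v * f be = t * f (be * (v * v) * be) := by simp only [map_mul]; group
    _ = t := by rw [e_vv, mul_one, e_bb, map_one, mul_one]

theorem P_rho (n : SB t c f s) : cj (f rho) (s * SX f s rho * SX f s (rho * rho)) =
    cj s (s * SX f s rho * SX f s (rho * rho)) := by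
  have e1 : cj (f rho) s = SX f s rho := rfl
  rw [map_mul, map_mul, SX_conj, SX_conj, rho3, SX_one, e1, cj_apply]
  group

theorem exists_P (n : SB t c f s) : ∃ s', SB t c f s' ∧ s' * SX f s' rho * SX f s' (rho * rho) = 1 := by
  have C := n.C
  obtain ⟨P, hP⟩ : ∃ P, P = s * SX f s rho * SX f s (rho * rho) := ⟨_, rfl⟩
  have P1 := comm_of_cj n.P_t
  have P2 := n.P_comm (m := be) rfl e_vb.symm
  have P3 := n.P_comm (m := v) e_vb rfl
  have P4 := n.P_comm (m := y) e_yb e_yv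
  have P5 := n.P_comm (m := k1) e_k1b e_k1v
  have P6 := n.P_rho
  rw [← hP] at P1 P2 P3 P4 P5 P6
  obtain ⟨u, hu, h | h⟩ := C.centV P1.symm P2.symm.eq P3.symm.eq P4.symm.eq P5.symm.eq
  · refine ⟨s, n, ?_⟩
    have ub : u * be = be * u := (hu.comm rfl e_vb.symm).symm
    rw [h, cjf', cj_of_comm (n.fs u ub).eq] at P6
    have h1 := C.inj P6
    have h2 : u = 1 := by
      apply u_rho hu
      calc u * rho = rho * (rho⁻¹ * u * rho) := by group
        _ = _ := by rw [h1]
    rw [← hP, h, h2, map_one]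
  · refine ⟨s * t, n.mul_t, ?_⟩
    have ub : u * be = be * u := (hu.comm rfl e_vb.symm).symm
    have ht : ∀ m, cj (f m) t = t := fun m => cj_of_comm (C.comm m).symm
    rw [h, map_mul, ht, cjf', map_mul (cj s), n.ts, cj_of_comm (n.fs u ub).eq, mul_assoc t (f be), ← map_mul] at P6
    have h1 := C.inj (mul_left_cancel P6)
    have h2 : u = v := by
      apply u_rho' hu
      calc u * rho = rho * (rho⁻¹ * u * rho) := by group
        _ = _ := by rw [h1]
    have e : ∀ x, SX f (s * t) x = SX f s x * t := by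
      intro x
      rw [SX, map_mul, ht]; rfl
    rw [e, e]
    have e1 : t * SX f s rho = SX f s rho * (t * f v) := by
      have := n.SX_t rho
      rw [cj_eq_iff, b_rho] at this
      exact this
    obtain ⟨a3, a4⟩ := n.comm_CV (m := v) e_vb rfl
    calc s * t * (SX f s rho * t) * (SX f s (rho * rho) * t)
        = s * (t * SX f s rho) * t * SX f s (rho * rho) * t := by group
      _ = s * (SX f s rho * (t * f v)) * t * SX f s (rho * rho) * t := by rw [e1]
      _ = s * SX f s rho * t * (f v * t) * SX f s (rho * rho) * t := by group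
      _ = s * SX f s rho * (t * t) * (f v * SX f s (rho * rho)) * t := by rw [C.comm]; group
      _ = s * SX f s rho * (SX f s (rho * rho) * f v) * t := by rw [C.tt, a4.eq, mul_one]
      _ = P * (f v * t) := by rw [hP]; group
      _ = 1 := by
        rw [h, h2, C.comm]
        calc t * f v * (t * f v) = t * (f v * t) * f v := by group
          _ = t * (t * f v) * f v := by rw [C.comm]
          _ = (t * t) * (f v * f v) := by group
          _ = 1 := by rw [C.tt, ← map_mul, e_vv, map_one, one_mul]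

end SB

/-- normalised `s` -/
structure SP (t c : G) (f : H →* G) (s : G) (e : H) : Prop extends SB t c f s where
  P : s * SX f s rho * SX f s (rho * rho) = 1
  he : e = 1 ∨ e = be
  ss : s * s = f e

theorem SB.exists_sp {s : G} (n : SB t c f s) : ∃ s e, SP t c f s e := by
  obtain ⟨s, n, P⟩ := n.exists_P
  have C := n.C
  have bb : f be * f be = 1 := by rw [← map_mul, e_bb, map_one]
  have h1 : (s * s) * t = t * (s * s) := by
    refine (comm_of_cj ?_).symm
    rw [← cj_cj, n.ts, map_mul, n.ts, cj_of_comm (n.fs be rfl).eq, mul_assoc, bb, mul_one]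
  have h2 : ∀ m, m * be = be * m → Commute (f m) (s * s) := fun m hm => (n.fs m hm).mul_right (n.fs m hm)
  obtain ⟨u, hu, h | h⟩ := C.centV h1 (h2 be rfl).symm.eq (h2 v e_vb).symm.eq (h2 y e_yb).symm.eq
    (h2 k1 e_k1b).symm.eq
  · have hd := h2 d e_db.symm
    rw [h] at hd
    have hd' : d * u = u * d := C.inj (by rw [map_mul, map_mul]; exact hd.eq)
    have : u = 1 ∨ u = be := by
      rcases hu with rfl | rfl | rfl | rfl
      · exact Or.inl rfl
      · exact Or.inr rfl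
      · exfalso
        rw [e_dv] at hd'
        have h3 := mul_left_cancel hd'
        have h4 : ¬ ∀ x : Fin 24, act wv x.1 = act ([0] ++ wk1) x.1 := by decide +kernel
        apply h4
        intro x
        by_contra hne
        exact wd_ne (l := wv) (l' := [0] ++ wk1) x.1 x.2 hne (by rw [← w_eq]; exact h3)
      · exfalso
        have h5 : d * v = v * d := by
          have h6 : d * (be * v) = be * (d * v) := by rw [← mul_assoc, ← e_db, mul_assoc]
          rw [h6, mul_assoc] at hd'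
          exact mul_left_cancel hd'
        rw [e_dv] at h5
        have h3 := mul_left_cancel h5
        have h4 : ¬ ∀ x : Fin 24, act wv x.1 = act ([0] ++ wk1) x.1 := by decide +kernel
        apply h4
        intro x
        by_contra hne
        exact wd_ne (l := wv) (l' := [0] ++ wk1) x.1 x.2 hne (by rw [← w_eq]; exact h3)
    exact ⟨s, u, { n with P := P, he := this, ss := h }⟩
  · exfalso
    have h3 : cj s (s * s) = s * s := cj_of_comm (mul_assoc s s s)
    have ub : u * be = be * u := (hu.comm rfl e_vb.symm).symm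
    rw [h, map_mul, n.ts, cj_of_comm (n.fs u ub).eq] at h3
    have h4 : f be * f u = f u := mul_left_cancel (by rw [← mul_assoc]; exact h3)
    have h5 := mul_eq_right.1 h4
    exact e_b1 (C.inj (by rw [h5, map_one]))

end Cfsg.Agent.CoThreeStd.OutD
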