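import Cfsg.Agent.CoThreeStd.OutDS

/-!
# S1750, pattern P1: the relation `s_w s_v = z₀ s_{vw}` (helper810)
-/

set_option autoImplicit false
set_option maxHeartbeats 400000

namespace Cfsg.Agent.CoThreeStd.OutD

open Cfsg.Agent.CoThreeStd.MTwelve hiding w cj
open Cfsg.Agent.CoThreeStd.DeltaData Cfsg.Agent.CoThreeStd.InvTwo Cfsg.Agent.CoThreeStd.Fusion
open Cfsg.Agent.CoThreeStd.DeltaRel Cfsg.Agent.CoThreeStd.DeltaLoc Cfsg.Agent.CoThreeStd.DeltaAmb
open Cfsg.Agent.CoThreeStd.Delta Cfsg.Agent.CoThreeStd.OutAut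

variable {G : Type*} [Group G] {t c s : G} {f : H →* G} {e : H}

theorem b_w : (rho * d)⁻¹ * be * (rho * d) = w := by
  calc (rho * d)⁻¹ * be * (rho * d) = d⁻¹ * (rho⁻¹ * be * rho) * d := by group
    _ = w := by rw [b_rho, e_dvd]
theorem b_vw : (rho * d * k2)⁻¹ * be * (rho * d * k2) = w * v := by
  calc (rho * d * k2)⁻¹ * be * (rho * d * k2) = k2⁻¹ * ((rho * d)⁻¹ * be * (rho * d)) * k2 := by group
    _ = w * v := by rw [b_w, e_k2w']
theorem e_k1w' : k1⁻¹ * w * k1 = w * be := by
  have e : w * k1 = k1 * (w * be) := by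
    wdec ([0] ++ wk1) ++ wk1, wk1 ++ (([0] ++ wk1) ++ wbe)
  rw [mul_assoc, e]; group
theorem b_bw : (rho * d * k1)⁻¹ * be * (rho * d * k1) = w * be := by
  calc (rho * d * k1)⁻¹ * be * (rho * d * k1) = k1⁻¹ * ((rho * d)⁻¹ * be * (rho * d)) * k1 := by group
    _ = w * be := by rw [b_w, e_k1w']
theorem e_wbe : w * be = be * w := e_wb
theorem b_bw' : (rho * rho * d)⁻¹ * be * (rho * rho * d) = w * be := by
  calc (rho * rho * d)⁻¹ * be * (rho * rho * d) = d⁻¹ * ((rho * rho)⁻¹ * be * (rho * rho)) * d := by group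
    _ = (d⁻¹ * be * d) * (d⁻¹ * v * d) := by rw [b_rho2]; group
    _ = w * be := by rw [e_dbd, e_dvd, e_wb]

namespace SP

theorem ee (n : SP t c f s e) : e * e = 1 := z_sq n.he

theorem e_be (n : SP t c f s e) : e * be = be * e := by
  rcases n.he with h | h <;> rw [h]
  rw [one_mul, mul_one]

theorem SX_sq (n : SP t c f s e) (x : H) : SX f s x * SX f s x = f (x⁻¹ * e * x) := by
  rw [SX, ← map_mul, n.ss, cjf']

theorem comm_b_v (n : SP t c f s e) : Commute s (SX f s rho) := by
  have h1 := n.SX_sq (rho * rho)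
  have h2 := n.SX_sq rho
  have h3 := n.P
  have h4 : SX f s (rho * rho) = (s * SX f s rho)⁻¹ := by
    apply eq_inv_of_mul_eq_one_right; exact h3
  have h5 : (rho * rho)⁻¹ * e * (rho * rho) = e * (rho⁻¹ * e * rho) := by
    rcases n.he with h | h <;> rw [h]
    · group
    · rw [b_rho2, b_rho]
  rw [h4, h5] at h1
  have h6 : (s * SX f s rho) * (s * SX f s rho) = f (e * (rho⁻¹ * e * rho)) := by
    have h7 : (f (e * (rho⁻¹ * e * rho)))⁻¹ = f (e * (rho⁻¹ * e * rho)) := by
      rw [← h5]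
      apply inv_eq_of_mul_eq_one_left
      rw [← map_mul]
      have h8 : (rho * rho)⁻¹ * e * (rho * rho) * ((rho * rho)⁻¹ * e * (rho * rho)) = 1 := by
        calc (rho * rho)⁻¹ * e * (rho * rho) * ((rho * rho)⁻¹ * e * (rho * rho))
            = (rho * rho)⁻¹ * (e * e) * (rho * rho) := by group
          _ = 1 := by rw [n.ee]; group
      rw [h8, map_one]
    rw [← h7, ← h1]; group
  have h7 : (s * SX f s rho) * (s * SX f s rho) = s * s * (SX f s rho * SX f s rho) := by
    rw [h6, map_mul, h2, n.ss]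
  have h8 : s * (SX f s rho * s) * SX f s rho = s * (s * SX f s rho) * SX f s rho := by
    calc s * (SX f s rho * s) * SX f s rho = (s * SX f s rho) * (s * SX f s rho) := by group
      _ = _ := by rw [h7]; group
  exact (mul_left_cancel (mul_right_cancel h8)).symm

theorem s_d (n : SP t c f s e) : cj (f d) s = s := cj_of_comm (n.fs d e_db.symm).symm.eq
theorem s_k1 (n : SP t c f s e) : cj (f k1) s = s := cj_of_comm (n.fs k1 e_k1b).symm.eq
theorem s_k2 (n : SP t c f s e) : cj (f k2) s = s := cj_of_comm (n.fs k2 e_k2b).symm.eq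

theorem comm_b_w (n : SP t c f s e) : Commute s (SX f s (rho * d)) := by
  have h := comm_map (f d) n.comm_b_v.eq
  rw [n.s_d, SX_conj] at h
  exact h

theorem comm_b_vw (n : SP t c f s e) : Commute s (SX f s (rho * d * k2)) := by
  have h := comm_map (f k2) n.comm_b_w.eq
  rw [n.s_k2, SX_conj] at h
  exact h

theorem R2 (n : SP t c f s e) : s * SX f s (rho * d) * SX f s (rho * d * k1) = 1 := by
  have h := congrArg (cj (f d)) n.P
  rw [map_mul, map_mul, map_one, n.s_d, SX_conj, SX_conj,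
    n.SX_eq (x := rho * rho * d) (x' := rho * d * k1) (by rw [b_bw', b_bw])] at h
  exact h

theorem R3 (n : SP t c f s e) : s * SX f s (rho * d * k2) * SX f s (rho * d * k2 * k1) = 1 := by
  have h := congrArg (cj (f k2)) n.R2
  rw [map_mul, map_mul, map_one, n.s_k2, SX_conj, SX_conj] at h
  have e1 : rho * d * k2 * k1 = rho * d * k1 * k2 := by rw [mul_assoc _ k2, e_kk, ← mul_assoc]
  rw [e1]; exact h

/-- elements commuting with `w` commute with `s_w` -/
theorem comm_w (n : SP t c f s e) {m : H} (h : m * w = w * m) : Commute (f m) (SX f s (rho * d)) := by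
  apply n.SX_comm; rw [b_w, h]

theorem comm_vw (n : SP t c f s e) {m : H} (h : m * (w * v) = (w * v) * m) :
    Commute (f m) (SX f s (rho * d * k2)) := by
  apply n.SX_comm; rw [b_vw, h]

theorem comm_v (n : SP t c f s e) {m : H} (h : m * v = v * m) : Commute (f m) (SX f s rho) := by
  apply n.SX_comm; rw [b_rho, h]

/-- conjugation by `o` -/
theorem cj_o (n : SP t c f s e) (x : H) : cj (oo c f) (SX f s x) = SX f s (alpha (x * k2)) := by
  rw [oo, ← cj_cj, SX_conj, n.SX_alpha]

theorem _root_.Cfsg.Agent.CoThreeStd.OutD.alpha_conj (x : H) :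
    (alpha x)⁻¹ * be * alpha x = alpha (x⁻¹ * be * x) := by
  rw [map_mul, map_mul, map_inv, alpha_be]

theorem o_v (n : SP t c f s e) : Commute (oo c f) (SX f s rho) := by
  refine (comm_of_cj ?_).symm
  rw [n.cj_o]
  apply n.SX_eq
  have h1 : (rho * k2)⁻¹ * be * (rho * k2) = v := by
    calc (rho * k2)⁻¹ * be * (rho * k2) = k2⁻¹ * (rho⁻¹ * be * rho) * k2 := by group
      _ = v := by rw [b_rho, e_k2v']
  rw [alpha_conj, h1, b_rho, alpha_v]

theorem o_w (n : SP t c f s e) : Commute (oo c f) (SX f s (rho * d)) := by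
  refine (comm_of_cj ?_).symm
  rw [n.cj_o]
  apply n.SX_eq
  rw [alpha_conj, b_vw, b_w, map_mul, alpha_w, alpha_v, mul_assoc, e_vv, mul_one]

theorem o_b (n : SP t c f s e) : Commute (oo c f) s :=
  (n.fs k2 e_k2b).mul_left n.cs

end SP

theorem k1_o (C : CtxO t c f) : cj (f k1) (oo c f) = oo c f * f v := by
  have e : k2 * (k1 * v) = k1 * (k2 * v) := by rw [← mul_assoc, e_kk, mul_assoc]
  rw [cj_eq_iff]
  calc oo c f * f k1 = f k2 * (c * f k1) := by rw [oo]; group
    _ = f (k2 * (k1 * v)) * c := by rw [C.cf, alpha_k1, map_mul f k2]; group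
    _ = f k1 * (f k2 * (f v * c)) := by rw [e, map_mul, map_mul]; group
    _ = f k1 * (f k2 * (c * f v)) := by rw [C.cf, alpha_v]
    _ = _ := by rw [oo]; group

/-- `be^i v^j w^l` -/
theorem wbvxw (i j l : Fin 2) : be ^ i.1 * v ^ j.1 * w ^ l.1 = wd (wbvx ([0] ++ wk1) i j l) := by
  rw [wd_wbvx, ← w_eq]

/-- `k1⁻¹ m k1 = m` ⇒ `m ∈ V` -/
def test11 (i j l : Fin 2) : Bool :=
  !(eqW (wbvx ([0] ++ wk1) i j l ++ wk1) (wk1 ++ wbvx ([0] ++ wk1) i j l)) ||
    (eqW (wbvx ([0] ++ wk1) i j l) [] || (eqW (wbvx ([0] ++ wk1) i j l) wbe || (eqW (wbvx ([0] ++ wk1) i j l) wv ||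
      eqW (wbvx ([0] ++ wk1) i j l) (wbe ++ wv))))

theorem test11_all : ∀ i j l : Fin 2, test11 i j l = true := by decide +kernel

theorem test12 : ∀ i j l : Fin 2, eqW (wbvx ([0] ++ wk1) i j l ++ wk1) (wk1 ++ (wbvx ([0] ++ wk1) i j l ++ wv)) = false := by
  decide +kernel

theorem W_k1 {i j l : Fin 2} (h1 : (be ^ i.1 * v ^ j.1 * w ^ l.1) * k1 = k1 * (be ^ i.1 * v ^ j.1 * w ^ l.1)) :
    InV be v (be ^ i.1 * v ^ j.1 * w ^ l.1) := by
  have T := test11_all i j l
  have q1 : eqW (wbvx ([0] ++ wk1) i j l ++ wk1) (wk1 ++ wbvx ([0] ++ wk1) i j l) = true := by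
    apply eqW_of_wd
    rw [wd_append, wd_append, ← wbvxw]; exact h1
  rw [test11, q1] at T
  simp only [Bool.not_true, Bool.false_or, Bool.or_eq_true] at T
  rw [wbvxw]
  rcases T with h | h | h | h
  · left; rw [wd_eq h, wd_nil]
  · right; left; rw [wd_eq h]; rfl
  · right; right; left; rw [wd_eq h]; rfl
  · right; right; right; rw [wd_eq h, wd_append]; rfl

theorem W_k1' {i j l : Fin 2}
    (h1 : (be ^ i.1 * v ^ j.1 * w ^ l.1) * k1 = k1 * ((be ^ i.1 * v ^ j.1 * w ^ l.1) * v)) : False := by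
  have q1 : eqW (wbvx ([0] ++ wk1) i j l ++ wk1) (wk1 ++ (wbvx ([0] ++ wk1) i j l ++ wv)) = true := by
    apply eqW_of_wd
    rw [wd_append, wd_append wk1, wd_append _ wv, ← wbvxw]; exact h1
  rw [test12] at q1
  exact Bool.noConfusion q1

theorem W_be (i j l : Fin 2) : (be ^ i.1 * v ^ j.1 * w ^ l.1) * be = be * (be ^ i.1 * v ^ j.1 * w ^ l.1) := by
  have c1 : Commute be be := Commute.refl _
  have c2 : Commute be v := e_vb.symm
  have c3 : Commute be w := e_wb.symm
  exact (((c1.pow_right _).mul_right (c2.pow_right _)).mul_right (c3.pow_right _)).eq.symm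

/-- **the relation** -/
theorem SP.z0 (n : SP t c f s e) : ∃ x, InV be v x ∧
    ((e = 1 ∧ SX f s (rho * d) * SX f s rho * (SX f s (rho * d * k2))⁻¹ = f x) ∨
      (e = be ∧ SX f s (rho * d) * SX f s rho * (SX f s (rho * d * k2))⁻¹ = f x * oo c f)) := by
  have C := n.C
  obtain ⟨sv, hsv⟩ : ∃ sv, sv = SX f s rho := ⟨_, rfl⟩
  obtain ⟨sw, hsw⟩ : ∃ sw, sw = SX f s (rho * d) := ⟨_, rfl⟩
  obtain ⟨su, hsu⟩ : ∃ su, su = SX f s (rho * d * k2) := ⟨_, rfl⟩
  obtain ⟨z, hz⟩ : ∃ z, z = sw * sv * su⁻¹ := ⟨_, rfl⟩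
  have cww : w * w = w * w := rfl
  have bw : be * w = w * be := e_wb.symm
  have vw : v * w = w * v := e_wv.symm
  have bwv : be * (w * v) = (w * v) * be := by rw [← mul_assoc, bw, mul_assoc, mul_assoc, e_vb]
  have vwv : v * (w * v) = (w * v) * v := by rw [← mul_assoc, vw]
  have wwv : w * (w * v) = (w * v) * w := by rw [mul_assoc w v w, vw]
  -- `z` centralises `W`
  have zc : ∀ {m : H}, m * w = w * m → m * v = v * m → Commute (f m) z := by
    intro m h1 h2
    have h3 : m * (w * v) = (w * v) * m := by rw [← mul_assoc, h1, mul_assoc, h2, mul_assoc]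
    rw [hz, hsw, hsv, hsu]
    exact ((n.comm_w h1).mul_right (n.comm_v h2)).mul_right (n.comm_vw h3).inv_right
  have zb := zc (m := be) bw e_vb.symm
  have zv := zc (m := v) vw rfl
  have zw := zc (m := w) rfl e_wv
  have ww1 : w * w = 1 := by wdec ([0] ++ wk1) ++ ([0] ++ wk1), []
  have wvsq : (w * v) * (w * v) = 1 := by
    calc (w * v) * (w * v) = w * (v * w) * v := by group
      _ = (w * w) * (v * v) := by rw [vw]; group
      _ = 1 := by rw [ww1, e_vv, one_mul]
  have zt : cj z t = t := by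
    have q : cj su⁻¹ t = t * f (w * v) := by
      have h1 : cj su t = t * f (w * v) := by rw [hsu, n.SX_t, b_vw]
      have h2 : cj su (f (w * v)) = f (w * v) := by
        rw [hsu]; exact cj_of_comm (n.comm_vw rfl).eq
      have h3 : cj su (t * f (w * v)) = t := by
        rw [map_mul, h1, h2, mul_assoc, ← map_mul, wvsq, map_one, mul_one]
      calc cj su⁻¹ t = cj su⁻¹ (cj su (t * f (w * v))) := by rw [h3]
        _ = _ := by rw [cj_cj, mul_inv_cancel, cj_one]
    have q1 : cj su⁻¹ (f w) = f w := by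
      apply cj_of_comm; rw [hsu]; exact (n.comm_vw wwv).inv_right.eq
    have q2 : cj su⁻¹ (f v) = f v := by
      apply cj_of_comm; rw [hsu]; exact (n.comm_vw vwv).inv_right.eq
    have q3 : cj sv (f w) = f w := by
      apply cj_of_comm; rw [hsv]; exact (n.comm_v e_wv).eq
    have q4 : cj sw t = t * f w := by rw [hsw, n.SX_t, b_w]
    have q5 : cj sv t = t * f v := by rw [hsv, n.SX_t, b_rho]
    rw [hz, ← cj_cj, ← cj_cj, q4, map_mul, q5, q3, map_mul, map_mul, q, q1, q2]
    calc t * f (w * v) * f v * f w = t * f (w * (v * v) * w) := by simp only [map_mul]; group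
      _ = t := by rw [e_vv, mul_one, ww1, map_one, mul_one]
  -- `z` commutes with `s`
  have zs : Commute s z := by
    rw [hz, hsw, hsv, hsu]
    exact (n.comm_b_w.mul_right n.comm_b_v).mul_right n.comm_b_vw.inv_right
  -- conjugation by `k1`
  have zk : cj (f k1) z = z * f (rho⁻¹ * e * rho) := by
    have h1 : SX f s (rho * d * k1) = sw⁻¹ * s⁻¹ := by
      have h := n.R2
      rw [← hsw] at h
      rw [← mul_inv_rev]
      exact eq_inv_of_mul_eq_one_right h
    have h2 : (SX f s (rho * d * k2 * k1))⁻¹ = s * su := by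
      have h := n.R3
      rw [← hsu] at h
      exact (eq_inv_of_mul_eq_one_left h).symm
    have h3 : cj (f k1) sv = sv := by
      rw [hsv]; exact cj_of_comm (n.comm_v e_k1v).symm.eq
    have h4 : Commute s sv := by rw [hsv]; exact n.comm_b_v
    have h5 : cj (f k1) z = sw⁻¹ * sv * su := by
      have h6 : cj (f k1) sw = SX f s (rho * d * k1) := by rw [hsw, SX_conj]
      have h7 : cj (f k1) su = SX f s (rho * d * k2 * k1) := by rw [hsu, SX_conj]
      rw [hz, map_mul, map_mul, map_inv, h3, h6, h7, h2, h1]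
      calc sw⁻¹ * s⁻¹ * sv * (s * su) = sw⁻¹ * (s⁻¹ * (sv * s)) * su := by group
        _ = sw⁻¹ * (s⁻¹ * (s * sv)) * su := by rw [h4.eq]
        _ = _ := by group
    have h6 : sw * sw = f (d⁻¹ * (rho⁻¹ * e * rho) * d) := by
      have a : (rho * d)⁻¹ * e * (rho * d) = d⁻¹ * (rho⁻¹ * e * rho) * d := by group
      rw [hsw, n.SX_sq, a]
    have h7 : su * su = f ((d * k2)⁻¹ * (rho⁻¹ * e * rho) * (d * k2)) := by
      have a : (rho * d * k2)⁻¹ * e * (rho * d * k2) = (d * k2)⁻¹ * (rho⁻¹ * e * rho) * (d * k2) := by group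
      rw [hsu, n.SX_sq, a]
    rw [h5]
    rcases n.he with he | he
    · have e0 : rho⁻¹ * e * rho = 1 := by rw [he]; group
      rw [e0] at h6 h7
      have h6' : sw * sw = 1 := by rw [h6]; simp
      have h7' : su * su = 1 := by rw [h7]; simp
      have i1 : sw⁻¹ = sw := inv_eq_of_mul_eq_one_left h6'
      have i2 : su⁻¹ = su := inv_eq_of_mul_eq_one_left h7'
      rw [e0, map_one, mul_one, hz, i1, i2]
    · have e0 : rho⁻¹ * e * rho = v := by rw [he, b_rho]
      rw [e0] at h6 h7
      rw [e_dvd] at h6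
      have e1 : (d * k2)⁻¹ * v * (d * k2) = w * v := by
        calc (d * k2)⁻¹ * v * (d * k2) = k2⁻¹ * (d⁻¹ * v * d) * k2 := by group
          _ = w * v := by rw [e_dvd, e_k2w']
      rw [e1] at h7
      have i1 : sw⁻¹ = f w * sw := by
        apply inv_eq_of_mul_eq_one_left
        rw [mul_assoc, h6, ← map_mul, ww1, map_one]
      have i2 : su⁻¹ * f (w * v) = su := by
        rw [← h7]; group
      rw [e0, i1]
      nth_rw 1 [← i2]
      calc f w * sw * sv * (su⁻¹ * f (w * v)) = f w * (sw * sv * su⁻¹) * f (w * v) := by group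
        _ = f w * z * f (w * v) := by rw [hz]
        _ = z * (f w * f (w * v)) := by rw [zw.eq]; group
        _ = _ := by rw [← map_mul, ← mul_assoc, ww1, one_mul]
  -- conclusion
  have st : ∀ {m : H} {o : G}, m * be = be * m → Commute o s → z = t * (f m * o) → False := by
    intro m o hm ho h
    have h1 : Commute s (t * (f m * o)) := by rw [← h]; exact zs
    have h2 : Commute s (f m * o) := ((n.fs m hm).symm).mul_right ho.symm
    have h3 : Commute s t := by
      have h4 : t = t * (f m * o) * (f m * o)⁻¹ := by group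
      rw [h4]
      exact h1.mul_right h2.inv_right
    have h5 := n.ts
    rw [cj_of_comm h3.symm.eq] at h5
    have h6 := mul_eq_left.1 h5.symm
    exact e_b1 (C.inj (by rw [h6, map_one]))
  obtain ⟨i, j, l, hcase⟩ := C.centWo (comm_of_cj zt).symm zb.symm.eq zv.symm.eq zw.symm.eq
  rw [← hsw, ← hsv, ← hsu, ← hz]
  obtain ⟨m, hm⟩ : ∃ m, m = be ^ i.1 * v ^ j.1 * w ^ l.1 := ⟨_, rfl⟩
  have mb : m * be = be * m := by rw [hm]; exact W_be i j l
  rw [← hm] at hcase
  rcases hcase with h | h | h | h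
  · -- `z = f m`
    rw [h, cjf', ← map_mul] at zk
    have h1 : m * k1 = k1 * (m * (rho⁻¹ * e * rho)) := by
      rw [← C.inj zk]; group
    rcases n.he with he | he
    · have e0 : rho⁻¹ * e * rho = 1 := by rw [he]; group
      rw [e0, mul_one, hm] at h1
      exact ⟨m, by rw [hm]; exact W_k1 h1, Or.inl ⟨he, h⟩⟩
    · exfalso
      have e0 : rho⁻¹ * e * rho = v := by rw [he, b_rho]
      rw [e0, hm] at h1
      exact W_k1' h1
  · exact (st (o := 1) mb (Commute.one_left s) (by rw [mul_one]; exact h)).elim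
  · -- `z = f m * o`
    rw [h, map_mul, cjf', k1_o C] at zk
    have mv : Commute (oo c f) (f v) := C.o_v
    have h2 : f (k1⁻¹ * m * k1) * f v * oo c f = f m * f (rho⁻¹ * e * rho) * oo c f := by
      have mvv : Commute (oo c f) (f (rho⁻¹ * e * rho)) := by
        rcases n.he with he | he
        · have e0 : rho⁻¹ * e * rho = 1 := by rw [he]; group
          rw [e0, map_one]; exact Commute.one_right _
        · have e0 : rho⁻¹ * e * rho = v := by rw [he, b_rho]
          rw [e0]; exact mv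
      rw [mul_assoc, ← mv.eq, zk, mul_assoc, mvv.eq]; group
    rw [← map_mul, ← map_mul] at h2
    have h3 := C.inj (mul_right_cancel h2)
    rcases n.he with he | he
    · exfalso
      have e0 : rho⁻¹ * e * rho = 1 := by rw [he]; group
      rw [e0, mul_one] at h3
      have h4 : m * k1 = k1 * (m * v) := by
        have h5 : k1⁻¹ * m * k1 = m * v := by
          calc k1⁻¹ * m * k1 = (k1⁻¹ * m * k1 * v) * v := by rw [mul_assoc _ v v, e_vv, mul_one]
            _ = _ := by rw [h3]
        rw [← h5]; group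
      rw [hm] at h4
      exact W_k1' h4
    · have e0 : rho⁻¹ * e * rho = v := by rw [he, b_rho]
      rw [e0] at h3
      have h4 : m * k1 = k1 * m := by
        have h5 := mul_right_cancel h3
        calc m * k1 = k1 * (k1⁻¹ * m * k1) := by group
          _ = _ := by rw [h5]
      rw [hm] at h4
      exact ⟨m, by rw [hm]; exact W_k1 h4, Or.inr ⟨he, h⟩⟩
  · exact (st mb n.o_b h).elim

end Cfsg.Agent.CoThreeStd.OutD
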