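import Cfsg.Agent.CoThreeStd.OutEnd
import Cfsg.Agent.CoThreeStd.GammaMain

/-!
# S1750, `C_G(t) = ⟨t⟩ × M₁₂:2`: the patterns with `t ~ t y` are dead (helper781)
-/

set_option autoImplicit false

namespace Cfsg.Agent.CoThreeStd.OutMain

open Cfsg.Agent.CoThreeStd.MTwelve Cfsg.Agent.CoThreeStd.OutAut Cfsg.Agent.CoThreeStd.OutCtx
open Cfsg.Agent.CoThreeStd.Gamma Cfsg.Agent.SporRec.Co3 Cfsg.Agent.CoThreeStd.OutBase
open Cfsg.Agent.CoThreeStd.OutEnd

variable {G : Type*} [Group G] {t c : G} {f : H →* G} {A1 : Subgroup G}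

/-- `c` is not conjugate to `t` -/
theorem not_conj_c [Finite G] (h : CtxO t c f) (D : Dat t c f A1) : ¬ IsConj t c := by
  intro hcj
  have tt := h.tt
  have hct := h.ct
  set N : Subgroup G := BB h D ⊓ Subgroup.centralizer ({c} : Set G) with hN
  have hex : ∀ g : N, ∃ m, R t f A1 g.1 m := fun g => R_exists h D (Subgroup.mem_inf.1 g.2).1
  have hex' : ∀ g : N, ∃ m, R t f A1 (t * g.1 * t) m :=
    fun g => R_exists h D (tnorm h D _ (Subgroup.mem_inf.1 g.2).1)
  choose ρ hρ using hex
  choose ρ' hρ' using hex'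
  let Φ : N →* H × H := MonoidHom.mk' (fun g => (ρ g, ρ' g)) (by
    intro a b
    apply Prod.ext
    · exact R_uniq h D (hρ (a * b)) (D.R_mul h (hρ a) (hρ b))
    · have e : t * (a * b : N).1 * t = (t * a.1 * t) * (t * b.1 * t) := by
        calc t * (a.1 * b.1) * t = t * a.1 * 1 * b.1 * t := by group
          _ = t * a.1 * (t * t) * b.1 * t := by rw [tt]
          _ = _ := by group
      exact R_uniq h D (hρ' (a * b)) (by rw [e]; exact D.R_mul h (hρ' a) (hρ' b)))
  obtain ⟨u, hu5, hu1, -, hu⟩ := five_cycle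
  obtain ⟨a, ha, hca, hau⟩ := A1_cent h D hu
  have haN : a ∈ N := Subgroup.mem_inf.2 ⟨A1_le h D ha, Subgroup.mem_centralizer_singleton_iff.2 hca.symm⟩
  have hbN : t * a * t ∈ N := by
    refine Subgroup.mem_inf.2 ⟨A2_le h D ha, Subgroup.mem_centralizer_singleton_iff.2 ?_⟩
    calc t * a * t * c = t * a * (c * t) := by rw [hct]; group
      _ = t * (c * a) * t := by rw [hca]; group
      _ = c * (t * a * t) := by rw [← mul_assoc, ← hct]; group
  have hΦa : Φ ⟨a, haN⟩ = (u, 1) := by
    apply Prod.ext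
    · exact R_uniq h D (hρ _) hau
    · exact R_uniq h D (hρ' _) (Dat.R_A2 ha)
  have hΦb : Φ ⟨t * a * t, hbN⟩ = (1, u) := by
    apply Prod.ext
    · exact R_uniq h D (hρ _) (Dat.R_A2 ha)
    · apply R_uniq h D (hρ' _)
      have e : t * (t * a * t) * t = a := by
        calc t * (t * a * t) * t = (t * t) * a * (t * t) := by group
          _ = a := by rw [tt]; group
      show R t f A1 (t * (t * a * t) * t) u
      rw [e]
      exact hau
  have hle : (Subgroup.zpowers u).prod (Subgroup.zpowers u) ≤ Φ.range := by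
    rintro ⟨x, z⟩ ⟨hx, hz⟩
    obtain ⟨i, hi⟩ := Subgroup.mem_zpowers_iff.1 hx
    obtain ⟨j, hj⟩ := Subgroup.mem_zpowers_iff.1 hz
    refine ⟨⟨a, haN⟩ ^ i * ⟨t * a * t, hbN⟩ ^ j, ?_⟩
    rw [map_mul, map_zpow, map_zpow, hΦa, hΦb]
    apply Prod.ext
    · show u ^ i * 1 ^ j = x
      rw [one_zpow, mul_one, hi]
    · show 1 ^ i * u ^ j = z
      rw [one_zpow, one_mul, hj]
  have : Fact (Nat.Prime 5) := ⟨by norm_num⟩
  have hou : orderOf u = 5 := orderOf_eq_prime hu5 hu1
  have h25 : 25 ∣ Nat.card (Subgroup.centralizer ({c} : Set G)) := by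
    have k1 : Nat.card ((Subgroup.zpowers u).prod (Subgroup.zpowers u)) = 25 := by
      rw [Nat.card_congr (Subgroup.prodEquiv _ _).toEquiv, Nat.card_prod, Nat.card_zpowers, hou]
    have k2 := Subgroup.card_dvd_of_le hle
    rw [k1] at k2
    have k3 := Subgroup.card_range_dvd Φ
    have k4 : Nat.card N ∣ Nat.card (Subgroup.centralizer ({c} : Set G)) := Subgroup.card_dvd_of_le inf_le_right
    exact k2.trans (k3.trans k4)
  obtain ⟨k, hk⟩ := isConj_iff.1 hcj
  have hcard : Nat.card (Subgroup.centralizer ({c} : Set G)) = Nat.card (Subgroup.centralizer ({t} : Set G)) := by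
    symm
    apply Nat.card_congr
    refine Equiv.subtypeEquiv (MulAut.conj k).toEquiv (fun g => ?_)
    rw [Subgroup.mem_centralizer_singleton_iff, Subgroup.mem_centralizer_singleton_iff]
    show g * t = t * g ↔ (k * g * k⁻¹) * c = c * (k * g * k⁻¹)
    rw [← hk]
    have e1 : (k * g * k⁻¹) * (k * t * k⁻¹) = k * (g * t) * k⁻¹ := by group
    have e2 : (k * t * k⁻¹) * (k * g * k⁻¹) = k * (t * g) * k⁻¹ := by group
    rw [e1, e2]
    constructor
    · intro h; rw [h]
    · intro h; exact mul_left_cancel (mul_right_cancel h)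
  rw [hcard, card_cent h] at h25
  omega

/-- the two subgroups `C₀ = B⟨tc⟩`, `G₀ = B⟨t, c⟩` -/
theorem exists_two [Finite G] (h : CtxO t c f) (D : Dat t c f A1) : ∃ C₀ G0 : Subgroup G,
    C₀ ≤ G0 ∧ C₀.relIndex G0 = 2 ∧ t ∈ G0 ∧ t ∉ C₀ ∧ (∀ g, g * t = t * g → g ∈ G0) ∧
    ∀ g ∈ G0, g ∉ C₀ → g * g = 1 → (∃ x ∈ G0, x⁻¹ * t * x = g) ∨ IsConj g c := by
  have tt := h.tt
  have cc := h.cc
  have hct := h.ct
  set B := BB h D with hB
  have htc : (t * c) * (t * c) = 1 := by
    calc (t * c) * (t * c) = t * (c * t) * c := by group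
      _ = (t * t) * (c * c) := by rw [hct]; group
      _ = 1 := by rw [tt, cc, one_mul]
  have hn1 : ∀ g ∈ B, (t * c) * g * (t * c) ∈ B := by
    intro g hg
    have h1 := tnorm h D _ (cnorm h D g hg)
    have e : t * (c * g * c) * t = (t * c) * g * (t * c) := by
      calc t * (c * g * c) * t = t * c * g * (c * t) := by group
        _ = t * c * g * (t * c) := by rw [hct]
    rwa [e] at h1
  set C₀ := dbl B (t * c) htc hn1 with hC₀
  have hn2 : ∀ g ∈ C₀, t * g * t ∈ C₀ := by
    rintro g (hg | hg)
    · exact Or.inl (tnorm h D g hg)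
    · right
      have h1 := tnorm h D _ hg
      have e : t * (t * c * g) * t = t * c * (t * g * t) := by
        calc t * (t * c * g) * t = t * (t * c) * g * t := by group
          _ = t * (c * t) * g * t := by rw [hct]
          _ = _ := by group
      rwa [e] at h1
  set G0 := dbl C₀ t tt hn2 with hG0
  have htC : t ∉ C₀ := by
    rintro (h1 | h1)
    · exact t_not_mem h D h1
    · have e : t * c * t = c := by rw [mul_assoc, hct, ← mul_assoc, tt, one_mul]
      rw [e] at h1
      exact c_not_mem h D h1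
  refine ⟨C₀, G0, le_dbl, relIndex_dbl htC,
    (Or.inr (by rw [tt]; exact C₀.one_mem)), htC, ?_, ?_⟩
  · intro g hg
    obtain ⟨m, h1 | h1 | h1 | h1⟩ := h.cent g hg
    · left; left; rw [h1]; exact f_le h D m
    · right; left
      rw [h1, ← mul_assoc, tt, one_mul]
      exact f_le h D m
    · right; right
      have e : t * c * (t * g) = f m := by
        rw [h1]
        calc t * c * (t * (c * f m)) = (t * c) * (t * c) * f m := by group
          _ = f m := by rw [htc, one_mul]
      rw [e]
      exact f_le h D m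
    · left; right
      have e : t * c * g = f m := by
        rw [h1]
        calc t * c * (t * (c * f m)) = (t * c) * (t * c) * f m := by group
          _ = f m := by rw [htc, one_mul]
      rw [e]
      exact f_le h D m
  · intro g hg hgC hg2
    have hg' : t * g ∈ C₀ := by
      rcases hg with h1 | h1
      · exact absurd h1 hgC
      · exact h1
    rcases hg' with h1 | h1
    · -- `g ∈ t B`
      left
      obtain ⟨a, ha, b, hb, hab⟩ := h1
      have hge : g = t * (a * (t * b * t)) := by rw [← hab, ← mul_assoc, tt, one_mul]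
      obtain ⟨x, hx⟩ : ∃ x, x = t * b * t := ⟨_, rfl⟩
      rw [← hx] at hge
      have hxg : x * g * x⁻¹ = t * (b * a) := by
        calc x * g * x⁻¹ = x * t * a := by rw [hge]; group
          _ = t * b * (t * t) * a := by rw [hx]; group
          _ = _ := by rw [tt]; group
      have hsq : (t * (b * a)) * (t * (b * a)) = 1 := by
        rw [← hxg]
        calc x * g * x⁻¹ * (x * g * x⁻¹) = x * (g * g) * x⁻¹ := by group
          _ = 1 := by rw [hg2]; group
      have hinv : t * (b * a) * t = (b * a)⁻¹ := eq_inv_of_mul_eq_one_left (by rw [← hsq]; group)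
      have hba : b * a ∈ A1 := A1.mul_mem hb ha
      have hR : R t f A1 (b * a) 1 := by
        refine ⟨(b * a)⁻¹, A1.inv_mem hba, ?_⟩
        rw [map_one, one_mul, ← hinv]
        calc b * a = (t * t) * (b * a) * (t * t) := by rw [tt]; group
          _ = _ := by group
      obtain ⟨-, k, hk⟩ := Z0_spec h D hba hR
      have e4 := conj_of_inv tt hinv k hk
      refine ⟨(b * a) ^ k * x, ?_, ?_⟩
      · left; left
        rw [hx]
        exact B.mul_mem (A1_le h D (A1.pow_mem hba k)) (A2_le h D hb)
      · calc ((b * a) ^ k * x)⁻¹ * t * ((b * a) ^ k * x) = x⁻¹ * (((b * a) ^ k)⁻¹ * t * (b * a) ^ k) * x := by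
              group
          _ = x⁻¹ * (x * g * x⁻¹) * x := by rw [e4, hxg]
          _ = g := by group
    · -- `g ∈ c B`
      right
      have hcg : c * g ∈ B := by
        have e : t * c * (t * g) = c * g := by
          calc t * c * (t * g) = t * (c * t) * g := by group
            _ = (t * t) * c * g := by rw [hct]; group
            _ = _ := by rw [tt, one_mul]
        rwa [e] at h1
      have e : c * (c * g) = g := by rw [← mul_assoc, cc, one_mul]
      have h2 := conj_c h D hcg (by rw [e]; exact hg2)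
      rwa [e] at h2

/-- the final contradiction -/
theorem final [Finite G] (hG : ∀ K : Subgroup G, K.index ≠ 2) (h : CtxO t c f) (D : Dat t c f A1) : False := by
  obtain ⟨C₀, G0, hle, hrel, ht, htC, hcent, hfus⟩ := exists_two h D
  refine parity_kill hG h.tt hle hrel ht htC hcent ?_
  intro g hg hgC hcj
  have hg2 : g * g = 1 := by
    obtain ⟨k, hk⟩ := isConj_iff.1 hcj
    rw [← hk]
    calc k * t * k⁻¹ * (k * t * k⁻¹) = k * (t * t) * k⁻¹ := by group
      _ = 1 := by rw [h.tt]; group
  rcases hfus g hg hgC hg2 with h1 | h1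
  · exact h1
  · exact absurd (hcj.trans h1) (not_conj_c h D)

/-- `tc` may replace `c` -/
theorem ctx_tc (h : CtxO t c f) : CtxO t (t * c) f where
  inj := h.inj
  tt := h.tt
  t_ne := h.t_ne
  comm := h.comm
  nmem := h.nmem
  cc := by
    calc (t * c) * (t * c) = t * (c * t) * c := by group
      _ = (t * t) * (c * c) := by rw [h.ct]; group
      _ = 1 := by rw [h.tt, h.cc, one_mul]
  ct := by rw [mul_assoc, h.ct]
  act := by
    intro m
    calc t * c * f m * (t * c)⁻¹ = t * (c * f m * c⁻¹) * t⁻¹ := by group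
      _ = t * f (alpha m) * t⁻¹ := by rw [h.act]
      _ = _ := by rw [← h.comm]; group
  cent := by
    intro g hg
    obtain ⟨m, h1 | h1 | h1 | h1⟩ := h.cent g hg
    · exact ⟨m, Or.inl h1⟩
    · exact ⟨m, Or.inr (Or.inl h1)⟩
    · refine ⟨m, Or.inr (Or.inr (Or.inr ?_))⟩
      calc g = (t * t) * (c * f m) := by rw [h.tt, one_mul, h1]
        _ = _ := by group
    · exact ⟨m, Or.inr (Or.inr (Or.inl (by rw [h1]; group)))⟩

/-- `c` or `tc` commutes with `L y` -/
theorem c_Ly (h : CtxO t c f) {L : H → G} (S : Sys t f L) :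
    c * L y = L y * c ∨ (t * c) * L y = L y * (t * c) := by
  have cx := toCx h
  have tt := h.tt
  have ct := h.ct
  have hyy : f y * f y = 1 := by rw [← map_mul, y_sq, map_one]
  have hty := h.comm y
  have ss := S.sq y
  have ety : t * L y * t = L y * f y := S.tt _ ⟨1, by group⟩
  have iL : (L y)⁻¹ = L y := inv_of_sq ss
  obtain ⟨g', hg'⟩ : ∃ g', g' = c * L y * c⁻¹ := ⟨_, rfl⟩
  have hLt : L y * t * L y = t * f y := by
    calc L y * t * L y = L y * (t * L y * t) * t⁻¹ := by group
      _ = (L y * L y) * f y * t⁻¹ := by rw [ety]; group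
      _ = f y * t := by rw [ss, one_mul, h.inv_t]
      _ = _ := h.comm y
  have hyL : f y * L y = L y * f y := S.comm rfl
  have hg't : g' * t * g'⁻¹ = t * f y := by
    have e1 : c⁻¹ * t = t * c⁻¹ := by rw [h.inv_c, ct]
    calc g' * t * g'⁻¹ = c * L y * (c⁻¹ * t) * c * (L y)⁻¹ * c⁻¹ := by rw [hg']; group
      _ = c * (L y * t * (L y)⁻¹) * c⁻¹ := by rw [e1]; group
      _ = c * (t * f y) * c⁻¹ := by rw [iL, hLt]
      _ = (c * t) * f y * c⁻¹ := by group
      _ = t * (c * f y * c⁻¹) := by rw [ct]; group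
      _ = _ := by rw [h.act, alpha_y]
  have hg'm : ∀ m, m * y = y * m → f m * g' = g' * f m := by
    intro m hm
    have e1 : alpha m * y = y * alpha m := by
      have := congrArg alpha hm
      rwa [map_mul, map_mul, alpha_y] at this
    have e2 : f (alpha m) * L y = L y * f (alpha m) := S.comm e1
    have e3 : f m * c = c * f (alpha m) := by rw [h.cf, alpha_alpha]
    have e4 : f (alpha m) * c⁻¹ = c⁻¹ * f m := by
      have := h.act m
      rw [← this, h.inv_c]
      calc c * f m * c * c = c * f m * (c * c) := by group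
        _ = _ := by rw [h.cc, mul_one]
    calc f m * g' = (f m * c) * L y * c⁻¹ := by rw [hg']; group
      _ = c * (f (alpha m) * L y) * c⁻¹ := by rw [e3]; group
      _ = c * L y * (f (alpha m) * c⁻¹) := by rw [e2]; group
      _ = _ := by rw [e4, hg']; group
  have hg'2 : g' * g' = 1 := by
    rw [hg']
    calc c * L y * c⁻¹ * (c * L y * c⁻¹) = c * (L y * L y) * c⁻¹ := by group
      _ = 1 := by rw [ss]; group
  obtain ⟨v, hvd⟩ : ∃ v, v = L y * g' := ⟨_, rfl⟩
  have hg'v : g' = L y * v := by rw [hvd, ← mul_assoc, ss, one_mul]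
  have hvt : v * t = t * v := by
    have e1 : v * t * v⁻¹ = t := by
      calc v * t * v⁻¹ = L y * (g' * t * g'⁻¹) * (L y)⁻¹ := by rw [hvd]; group
        _ = L y * t * f y * L y := by rw [hg't, iL]; group
        _ = (L y * t * L y) * f y := by rw [mul_assoc (L y * t), hyL]; group
        _ = t * (f y * f y) := by rw [hLt]; group
        _ = t := by rw [hyy, mul_one]
    exact mul_inv_eq_iff_eq_mul.1 e1
  have hvm : ∀ m, m * y = y * m → v * f m = f m * v := by
    intro m hm
    have e1 : f m * L y = L y * f m := S.comm hm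
    have e2 := hg'm m hm
    calc v * f m = L y * (g' * f m) := by rw [hvd]; group
      _ = (L y * f m) * g' := by rw [← e2]; group
      _ = _ := by rw [← e1, hvd]; group
  obtain ⟨σ, v', hv', hσ⟩ := decomp2 cx hvt (hvm y rfl) (τ := Equiv.swap 3 4)
    (Equiv.Perm.sign_swap (by decide)) (hvm _ (y_comm _).symm)
  have hσ1 : σ = 1 := by
    apply perm5_central
    intro τ
    have h4 := hvm (w τ) (y_comm τ).symm
    rw [hσ] at h4
    have h5 : v' * f (w (σ * τ)) = v' * f (w (τ * σ)) := by
      rw [map_mul, map_mul, map_mul, map_mul, ← mul_assoc, h4, ← mul_assoc, ← mul_assoc, inV_comm_w cx hv']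
    exact w_injective (h.inj (mul_left_cancel h5))
  rw [hσ1, map_one, map_one, mul_one] at hσ
  have hne : f y ≠ 1 := by
    intro h1
    exact y_ne_one (h.inj (by rw [h1, map_one]))
  rcases inV_cases cx hv' with h5 | h5 | h5 | h5
  · left
    rw [hσ, h5, mul_one] at hg'v
    rw [hg'v] at hg'
    calc c * L y = (c * L y * c⁻¹) * c := by group
      _ = _ := by rw [← hg']
  · exfalso
    rw [hg'v, hσ, h5] at hg'2
    apply hne
    rw [← hg'2]
    calc f y = (t * t) * f y := by rw [tt, one_mul]
      _ = t * (f y * t) := by rw [hty]; group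
      _ = t * (t * f y) := by rw [hty]
      _ = (L y * t * L y) * t := by
        rw [hLt]
        calc t * (t * f y) = t * (f y * t) := by rw [hty]
          _ = _ := by group
      _ = _ := by group
  · right
    rw [hσ, h5] at hg'v
    rw [hg'v] at hg'
    have e1 : c * L y = L y * f y * c := by
      rw [hg']; group
    calc t * c * L y = t * (c * L y) := by group
      _ = (t * L y * t) * (t⁻¹ * f y * c) := by rw [e1]; group
      _ = L y * (f y * t⁻¹) * f y * c := by rw [ety]; group
      _ = L y * t * (f y * f y) * c := by rw [h.inv_t, hty]; group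
      _ = _ := by rw [hyy]; group
  · exfalso
    rw [hg'v, hσ, h5] at hg'2
    apply hne
    rw [← hg'2]
    calc f y = (t * t) * f y := by rw [tt, one_mul]
      _ = t * (f y * t) := by rw [hty]; group
      _ = t * f y * (f y * f y) * t := by rw [hyy]; group
      _ = (L y * t * L y) * f y * f y * t := by rw [hLt]; group
      _ = L y * t * (L y * f y) * (f y * t) := by group
      _ = L y * t * (f y * L y) * (t * f y) := by rw [hyL, hty]
      _ = _ := by group

/-- `c` acts on the `L e` when it commutes with `L y` -/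
theorem c_L (h : CtxO t c f) {L : H → G} (S : Sys t f L) (hL : c * L y = L y * c) (m : H) :
    c * L (m⁻¹ * y * m) * c⁻¹ = L ((alpha m)⁻¹ * y * alpha m) := by
  rw [← S.conj, ← S.conj]
  have h1 := h.act m
  have h2 : c * L y * c⁻¹ = L y := by rw [hL]; group
  calc c * ((f m)⁻¹ * L y * f m) * c⁻¹ = (c * f m * c⁻¹)⁻¹ * (c * L y * c⁻¹) * (c * f m * c⁻¹) := by group
    _ = _ := by rw [h1, h2]

/-- the data exist, for `c` or for `t c` -/
theorem exists_dat [Finite G] (h : CtxO t c f)
    (h1 : IsConj t (t * f y)) (h2 : ¬ IsConj t (f y)) (h3 : ¬ IsConj t (f (p * r))) :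
    ∃ c' A1, CtxO t c' f ∧ Dat t c' f A1 := by
  obtain ⟨g, g1, g2, g3⟩ := OutStep.exists_g h h1 h2 h3
  have cx := toCx h
  obtain ⟨L, S⟩ := exists_L cx g1 g2 g3
  -- we may assume that `c` commutes with `L y`
  have key : ∀ c : G, CtxO t c f → c * L y = L y * c → ∃ A1, Dat t c f A1 := by
    intro c h hcL
    have hT := Th_trip cx S
    have tt := h.tt
    obtain ⟨A1, hA1⟩ : ∃ A1 : Subgroup G, A1 = Subgroup.closure {a | ∃ i < 3, a = Lw L (trip i)} := ⟨_, rfl⟩
    have hgen : ∀ i < 3, Lw L (trip i) ∈ A1 := by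
      intro i hi
      rw [hA1]
      exact Subgroup.subset_closure ⟨i, hi, rfl⟩
    have hcomm : ∀ a ∈ A1, ∀ b ∈ A1, Commute a (t * b * t) := by
      have k1 : ∀ i < 3, ∀ b ∈ A1, Commute (Lw L (trip i)) (t * b * t) := by
        intro i hi b hb
        rw [hA1] at hb
        induction hb using Subgroup.closure_induction with
        | mem b hb =>
          obtain ⟨j, hj, rfl⟩ := hb
          exact hT i hi j hj
        | one => rw [mul_one, tt]; exact Commute.one_right _
        | mul b b' _ _ ih ih' =>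
          have e : t * (b * b') * t = (t * b * t) * (t * b' * t) := by
            calc t * (b * b') * t = t * b * 1 * b' * t := by group
              _ = t * b * (t * t) * b' * t := by rw [tt]
              _ = _ := by group
          rw [e]
          exact ih.mul_right ih'
        | inv b _ ih =>
          have e : t * b⁻¹ * t = (t * b * t)⁻¹ := by
            rw [mul_inv_rev, mul_inv_rev, h.inv_t, mul_assoc]
          rw [e]
          exact ih.inv_right
      intro a ha b hb
      rw [hA1] at ha
      induction ha using Subgroup.closure_induction with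
      | mem a ha =>
        obtain ⟨i, hi, rfl⟩ := ha
        exact k1 i hi b hb
      | one => exact Commute.one_left _
      | mul a a' _ _ ih ih' => exact ih.mul_left ih'
      | inv a _ ih => exact ih.inv_left
    have hk : ∀ i < 3, ∃ m, eqW (cj [0] m) (trip i) = true := by
      intro i hi
      interval_cases i
      · exact ⟨[], by decide +kernel⟩
      · exact ⟨[5, 0, 1, 3], by decide +kernel⟩
      · exact ⟨[5, 2, 3, 2, 1], by decide +kernel⟩
    have hf : ∀ m, ∃ a ∈ A1, ∃ b ∈ A1, f m = a * (t * b * t) := by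
      intro m
      have h4 : m ∈ (prodT cx A1 hcomm).comap f := by
        apply trip_gen
        intro i hi
        rw [Subgroup.mem_comap, mem_prodT]
        obtain ⟨k, hk⟩ := hk i hi
        exact ⟨_, hgen i hi, _, hgen i hi, F_LL S k hk⟩
      exact h4
    -- `f m` normalises `A₁`
    have fnorm : ∀ m, ∀ a ∈ A1, (f m)⁻¹ * a * f m ∈ A1 := by
      intro m a ha
      obtain ⟨x, hx, z, hz, h1⟩ := hf m
      have h2 : (f m)⁻¹ * a * f m = x⁻¹ * a * x := by
        have h3 := (hcomm (x⁻¹ * a * x) (A1.mul_mem (A1.mul_mem (A1.inv_mem hx) ha) hx) z hz).eq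
        rw [h1]
        calc (x * (t * z * t))⁻¹ * a * (x * (t * z * t)) =
            (t * z * t)⁻¹ * ((x⁻¹ * a * x) * (t * z * t)) := by group
          _ = (t * z * t)⁻¹ * ((t * z * t) * (x⁻¹ * a * x)) := by rw [h3]
          _ = _ := by group
      rw [h2]
      exact A1.mul_mem (A1.mul_mem (A1.inv_mem hx) ha) hx
    have hLy : L y ∈ A1 := by
      have := hgen 0 (by norm_num)
      have e : Lw L (trip 0) = L y := by
        show L (wd [0]) = L y
        rw [wd_y]
      rwa [e] at this
    have hLall : ∀ m, L (m⁻¹ * y * m) ∈ A1 := by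
      intro m
      rw [← S.conj]
      exact fnorm m _ hLy
    have hc : ∀ a ∈ A1, c * a * c⁻¹ ∈ A1 := by
      intro a ha
      rw [hA1] at ha
      induction ha using Subgroup.closure_induction with
      | mem a ha =>
        obtain ⟨i, hi, rfl⟩ := ha
        obtain ⟨k, hk⟩ := hk i hi
        have e : Lw L (trip i) = L ((wd k)⁻¹ * y * wd k) := by
          rw [← wd_y, ← wd_cj, wd_eq hk]; rfl
        rw [e, c_L h S hcL]
        exact hLall _
      | one => rw [mul_one, mul_inv_cancel]; exact A1.one_mem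
      | mul a a' _ _ ih ih' =>
        have := A1.mul_mem ih ih'
        have e : c * a * c⁻¹ * (c * a' * c⁻¹) = c * (a * a') * c⁻¹ := by group
        rwa [e] at this
      | inv a _ ih =>
        have := A1.inv_mem ih
        have e : (c * a * c⁻¹)⁻¹ = c * a⁻¹ * c⁻¹ := by group
        rwa [e] at this
    have hs : ∀ a ∈ A1, ∃ m, ∃ b ∈ A1, a = f m * (t * b * t) := by
      intro a ha
      rw [hA1] at ha
      induction ha using Subgroup.closure_induction with
      | mem a ha =>
        obtain ⟨i, hi, rfl⟩ := ha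
        obtain ⟨k, hk⟩ := hk i hi
        refine ⟨wd (trip i), (Lw L (trip i))⁻¹, A1.inv_mem (hgen i hi), ?_⟩
        have e : f (wd (trip i)) = Lw L (trip i) * (t * Lw L (trip i) * t) := F_LL S k hk
        rw [e]
        calc Lw L (trip i) = Lw L (trip i) * (t * Lw L (trip i) * (Lw L (trip i))⁻¹ * t) := by
              rw [mul_inv_cancel_right, tt, mul_one]
          _ = Lw L (trip i) * (t * Lw L (trip i) * (t * t) * (Lw L (trip i))⁻¹ * t) := by rw [tt, mul_one]
          _ = _ := by group
      | one => exact ⟨1, 1, A1.one_mem, by rw [map_one, mul_one, tt, one_mul]⟩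
      | mul a a' _ _ ih ih' =>
        obtain ⟨m, b, hb, rfl⟩ := ih
        obtain ⟨m', b', hb', rfl⟩ := ih'
        refine ⟨m * m', (f m')⁻¹ * b * f m' * b', A1.mul_mem (fnorm m' b hb) hb', ?_⟩
        have h1 : t * f m' = f m' * t := (h.comm m').symm
        have h2 : (f m')⁻¹ * t = t * (f m')⁻¹ := by rw [← map_inv]; exact h.comm _
        calc f m * (t * b * t) * (f m' * (t * b' * t)) = f m * t * b * (t * f m') * (t * b' * t) := by group
          _ = f m * f m' * ((f m')⁻¹ * t) * b * f m' * (t * t) * b' * t := by rw [h1]; group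
          _ = f (m * m') * (t * ((f m')⁻¹ * b * f m' * b') * t) := by rw [h2, tt, map_mul]; group
      | inv a _ ih =>
        obtain ⟨m, b, hb, rfl⟩ := ih
        have hb' := fnorm m⁻¹ _ (A1.inv_mem hb)
        rw [map_inv, inv_inv] at hb'
        refine ⟨m⁻¹, f m * b⁻¹ * (f m)⁻¹, hb', ?_⟩
        have h1 : t * f m = f m * t := (h.comm m).symm
        have h2 : (f m)⁻¹ * t = t * (f m)⁻¹ := by rw [← map_inv]; exact h.comm _
        calc (f m * (t * b * t))⁻¹ = t⁻¹ * b⁻¹ * t⁻¹ * (f m)⁻¹ := by group
          _ = t * b⁻¹ * (t * (f m)⁻¹) := by rw [h.inv_t]; group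
          _ = t * b⁻¹ * ((f m)⁻¹ * t) := by rw [h2]
          _ = (f m)⁻¹ * (f m * t) * b⁻¹ * (f m)⁻¹ * t := by group
          _ = _ := by rw [← h1, map_inv]; group
    exact ⟨A1, hcomm, hf, hc, hs⟩
  rcases c_Ly h S with hcL | hcL
  · obtain ⟨A1, D⟩ := key c h hcL
    exact ⟨c, A1, h, D⟩
  · obtain ⟨A1, D⟩ := key (t * c) (ctx_tc h) hcL
    exact ⟨t * c, A1, ctx_tc h, D⟩

/-- **The patterns with `t ~ t y` are dead for `C_G(t) = ⟨t⟩ × M₁₂:2`.** -/
theorem false_of [Finite G] (hG : ∀ K : Subgroup G, K.index ≠ 2) (h : CtxO t c f)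
    (h1 : IsConj t (t * f y)) (h2 : ¬ IsConj t (f y)) (h3 : ¬ IsConj t (f (p * r))) : False := by
  obtain ⟨c', A1, h', D⟩ := exists_dat h h1 h2 h3
  exact final hG h' D

end Cfsg.Agent.CoThreeStd.OutMain
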