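import Cfsg.Agent.CoThreeStd.DeltaData

/-!
# M12 has no elementary abelian subgroup of order 32 (helper781)
-/

set_option autoImplicit false

namespace Cfsg.Agent.CoThreeStd.OutRank

open Cfsg.Agent.CoThreeStd.MTwelve Cfsg.Agent.CoThreeStd.InvTwo Cfsg.Agent.CoThreeStd.Fusion
open Cfsg.Agent.CoThreeStd.DeltaData

/-- the 32 words: 1 and the 2B-involutions of `C(be)` -/
def S : List (List ℕ) := cbe.filter (fun l => eqW (l ++ l) [] && (eqW l [] || hasFix l))

set_option maxRecDepth 100000 in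
theorem S_len : S.length = 32 := by decide +kernel

set_option maxRecDepth 100000 in
theorem mem_S1 : ([5, 2, 4, 5] : List ℕ) ∈ S := by decide +kernel

set_option maxRecDepth 100000 in
theorem mem_S2 : ([2, 1, 3, 2] : List ℕ) ∈ S := by decide +kernel

theorem not_comm : wd [5, 2, 4, 5] * wd [2, 1, 3, 2] ≠ wd [2, 1, 3, 2] * wd [5, 2, 4, 5] := by
  intro h
  rw [← wd_append, ← wd_append] at h
  exact absurd (eqW_of_wd h) (by decide +kernel)

theorem mem_S (m : H) (h1 : m * be = be * m) (h2 : m * m = 1) (h3 : m = 1 ∨ IsB m) :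
    ∃ l ∈ S, wd l = m := by
  obtain ⟨l, hl, rfl⟩ := mem_cbe m h1
  refine ⟨l, List.mem_filter.2 ⟨hl, ?_⟩, rfl⟩
  have h4 : eqW (l ++ l) [] = true := by
    apply eqW_of_wd
    rw [wd_append, h2, wd_nil]
  rw [h4, Bool.true_and, Bool.or_eq_true]
  rcases h3 with h3 | h3
  · left
    apply eqW_of_wd
    rw [h3, wd_nil]
  · right
    cases h5 : hasFix l
    · exact absurd h3 (not_isB_of_noFix h5)
    · rfl

theorem comm_of_sq {K : Type*} [Group K] {E : Subgroup K} (hE : ∀ x ∈ E, x * x = 1) {a b : K} (ha : a ∈ E)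
    (hb : b ∈ E) : a * b = b * a := by
  have h1 := hE _ (E.mul_mem ha hb)
  have h2 := hE a ha
  have h3 := hE b hb
  calc a * b = (b * b) * (a * b) * (a * a) := by rw [h2, h3, one_mul, mul_one]
    _ = b * ((b * a) * (b * a)) * a := by group
    _ = b * a := by rw [hE _ (E.mul_mem hb ha), mul_one]

/-- the case with `be ∈ E` -/
theorem card_lt_be (E : Subgroup H) (hE : ∀ x ∈ E, x * x = 1) (hB : ∀ x ∈ E, x = 1 ∨ IsB x) (hbe : be ∈ E) :
    Nat.card E < 32 := by
  by_contra hlt
  rw [not_lt] at hlt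
  have hex : ∀ x : E, ∃ i : Fin 32, wd (S[i.1]'(by rw [S_len]; exact i.2)) = x.1 := by
    rintro ⟨x, hx⟩
    obtain ⟨l, hl, rfl⟩ := mem_S x (comm_of_sq hE hx hbe) (hE x hx) (hB x hx)
    obtain ⟨i, hi, rfl⟩ := List.mem_iff_getElem.1 hl
    exact ⟨⟨i, by rw [← S_len]; exact hi⟩, rfl⟩
  choose F hF using hex
  have hinj : Function.Injective F := by
    intro a b hab
    apply Subtype.ext
    rw [← hF a, ← hF b]
    simp only [hab]
  have hsurj : Function.Surjective F := by
    have h2 : Nat.card E ≤ 32 := by simpa using Nat.card_le_card_of_injective F hinj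
    have hb := (Nat.bijective_iff_injective_and_card F).2 ⟨hinj, by
      rw [Nat.card_eq_fintype_card (α := Fin 32), Fintype.card_fin]; omega⟩
    exact hb.2
  have hmem : ∀ l ∈ S, wd l ∈ E := by
    intro l hl
    obtain ⟨i, hi, rfl⟩ := List.mem_iff_getElem.1 hl
    obtain ⟨x, hx⟩ := hsurj ⟨i, by rw [← S_len]; exact hi⟩
    have h1 := hF x
    simp only [hx] at h1
    rw [h1]
    exact x.2
  exact not_comm (comm_of_sq hE (hmem _ mem_S1) (hmem _ mem_S2))

/-- **M12 has no elementary abelian subgroup of order 32.** -/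
theorem card_lt (E : Subgroup H) (hE : ∀ x ∈ E, x * x = 1) : Nat.card E < 32 := by
  by_contra hlt
  rw [not_lt] at hlt
  have hp : IsPGroup 2 E := by
    intro x
    refine ⟨1, ?_⟩
    apply Subtype.ext
    show (x : H) ^ 2 ^ 1 = 1
    rw [pow_one, pow_two]
    exact hE _ x.2
  obtain ⟨n, hn⟩ := IsPGroup.iff_card.1 hp
  have hn5 : 5 ≤ n := by
    by_contra h
    have : 2 ^ n ≤ 2 ^ 4 := Nat.pow_le_pow_right (by norm_num) (by omega)
    omega
  have h32 : 32 ∣ Nat.card E := by
    rw [hn]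
    exact pow_dvd_pow 2 hn5
  -- no involution of class A
  have hB : ∀ x ∈ E, x = 1 ∨ IsB x := by
    intro x hx
    by_cases h1 : x = 1
    · exact Or.inl h1
    rcases inv2.cases x (hE x hx) h1 with h2 | h2
    · exfalso
      obtain ⟨m, hm⟩ := h2
      have hle : E.map (MulAut.conj m).toMonoidHom ≤ (Subgroup.centralizer {y} : Subgroup H) := by
        rintro _ ⟨e, he, rfl⟩
        rw [Subgroup.mem_centralizer_singleton_iff]
        show m * e * m⁻¹ * y = y * (m * e * m⁻¹)
        have h3 := comm_of_sq hE he hx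
        rw [← hm] at h3
        calc m * e * m⁻¹ * y = m * (e * (m⁻¹ * y * m)) * m⁻¹ := by group
          _ = m * ((m⁻¹ * y * m) * e) * m⁻¹ := by rw [h3]
          _ = _ := by group
      have h4 := Subgroup.card_dvd_of_le hle
      rw [Subgroup.card_map_of_injective (MulAut.conj m).injective, card_cent_y] at h4
      have h5 := h32.trans h4
      omega
    · exact Or.inr h2
  obtain ⟨x, hx, hx1⟩ : ∃ x ∈ E, x ≠ 1 := by
    by_contra hne
    push Not at hne
    have : E = ⊥ := (Subgroup.eq_bot_iff_forall E).2 hne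
    rw [this, Subgroup.card_bot] at hlt
    omega
  have hxB : IsB x := (hB x hx).resolve_left hx1
  obtain ⟨m, hm⟩ := hxB
  have hlt' := card_lt_be (E.map (MulAut.conj m).toMonoidHom) ?_ ?_ ?_
  · rw [Subgroup.card_map_of_injective (MulAut.conj m).injective] at hlt'
    exact absurd hlt (not_le.2 hlt')
  · rintro _ ⟨e, he, rfl⟩
    show m * e * m⁻¹ * (m * e * m⁻¹) = 1
    calc m * e * m⁻¹ * (m * e * m⁻¹) = m * (e * e) * m⁻¹ := by group
      _ = 1 := by rw [hE e he]; group
  · rintro _ ⟨e, he, rfl⟩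
    show m * e * m⁻¹ = 1 ∨ IsB (m * e * m⁻¹)
    rcases hB e he with h1 | h1
    · left; rw [h1]; group
    · right
      have := h1.conj m⁻¹
      rwa [inv_inv] at this
  · refine ⟨x, hx, ?_⟩
    show m * x * m⁻¹ = be
    rw [be, wd_pr, ← hm]; group

end Cfsg.Agent.CoThreeStd.OutRank
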