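import Cfsg.Agent.CoThreeStd.OutMain
import Cfsg.Agent.CoThreeStd.OutRank
import Cfsg.Agent.CoThreeStd.Core.Oracle

/-!
# S1750, `C_G(t) = ⟨t⟩ × M₁₂:2`, `t ~ t y`: with the parity oracle (helper781)
-/

set_option autoImplicit false

namespace Cfsg.Agent.CoThreeStd.OutPD

open Cfsg.Agent.CoThreeStd.MTwelve Cfsg.Agent.CoThreeStd.OutAut Cfsg.Agent.CoThreeStd.OutCtx
open Cfsg.Agent.CoThreeStd.Gamma Cfsg.Agent.SporRec.Co3 Cfsg.Agent.CoThreeStd.OutBase
open Cfsg.Agent.CoThreeStd.OutEnd Cfsg.Agent.CoThreeStd.Core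

variable {G : Type*} [Group G] {t c : G} {f : H →* G} {A1 : Subgroup G}

/-- `C(t)` has no elementary abelian subgroup of order `2^7`. -/
theorem card_lt [Finite G] (h : CtxO t c f) (Q : Subgroup G) (hQ : ∀ x ∈ Q, x * x = 1)
    (hQt : ∀ x ∈ Q, x * t = t * x) : Nat.card Q < 128 := by
  by_contra hlt
  rw [not_lt] at hlt
  set C := Subgroup.centralizer ({t} : Set G) with hC
  have hQC : Q ≤ C := fun x hx => Subgroup.mem_centralizer_singleton_iff.2 (hQt x hx)
  have hfC : f.range ≤ C := by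
    rintro _ ⟨m, rfl⟩
    exact Subgroup.mem_centralizer_singleton_iff.2 (h.comm m)
  have hcf : Nat.card f.range = 95040 := by
    rw [← card_H]
    exact (Nat.card_congr (MonoidHom.ofInjective h.inj).toEquiv).symm
  have h4 : f.range.relIndex C = 4 := by
    have h3 := (f.range.subgroupOf C).card_mul_index
    rw [Nat.card_congr (Subgroup.subgroupOfEquivOfLe hfC).toEquiv, hcf, card_cent h] at h3
    have h5 : (f.range.subgroupOf C).index = f.range.relIndex C := rfl
    rw [h5] at h3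
    omega
  have h5 : f.range.relIndex Q ≤ 4 := by
    rw [← h4]
    exact Subgroup.relIndex_le_of_le_right hQC (by rw [h4]; norm_num)
  have h6 := (f.range.subgroupOf Q).card_mul_index
  have h7 : (f.range.subgroupOf Q).index = f.range.relIndex Q := rfl
  rw [h7] at h6
  have h8 : Nat.card (f.range.subgroupOf Q) = Nat.card (Q.comap f) := by
    symm
    apply Nat.card_congr
    refine Equiv.ofBijective (fun m => ⟨⟨f m.1, m.2⟩, ⟨m.1, rfl⟩⟩) ⟨?_, ?_⟩
    · intro m m' hm
      apply Subtype.ext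
      apply h.inj
      exact congrArg (fun x => ((x : f.range.subgroupOf Q) : Q).1) hm
    · rintro ⟨⟨x, hx⟩, hxm⟩
      obtain ⟨m, hm⟩ := Subgroup.mem_subgroupOf.1 hxm
      have hm' : f m = x := hm
      exact ⟨⟨m, by rw [Subgroup.mem_comap, hm']; exact hx⟩, Subtype.ext (Subtype.ext hm')⟩
  rw [h8] at h6
  have h9 := OutRank.card_lt (Q.comap f) (by
    intro m hm
    apply h.inj
    rw [map_mul, map_one]
    exact hQ _ hm)
  have h10 : Nat.card (Q.comap f) * f.range.relIndex Q ≤ 31 * 4 := Nat.mul_le_mul (by omega) h5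
  omega

theorem even_two : ∀ σ : P5, Equiv.Perm.sign σ = 1 → σ ^ 64 = 1 → σ * σ = 1 := by decide +kernel

/-- `K = fix(α) ∩ C(y) = ⟨y⟩ × w(A₅)` -/
def K : Subgroup H := Fix ⊓ Subgroup.centralizer {y}

theorem card_K : Nat.card K = 120 := by
  rw [← card_fix_cent]
  apply Nat.card_congr
  refine Equiv.subtypeEquivRight (fun m => ?_)
  rw [K, Subgroup.mem_inf, mem_Fix, Subgroup.mem_centralizer_singleton_iff]

theorem K_sq {a : H} (ha : a ∈ K) (h1 : a ^ 64 = 1) : a * a = 1 := by
  obtain ⟨h2, h3⟩ := Subgroup.mem_inf.1 ha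
  rw [Subgroup.mem_centralizer_singleton_iff] at h3
  obtain ⟨σ, hs, hσ⟩ := fix_cent (mem_Fix.1 h2) h3
  have hyy : y * y = 1 := y_sq
  have hyc : Commute y (w σ) := y_comm σ
  have h4 : σ ^ 64 = 1 := by
    apply w_injective
    rw [map_one, map_pow]
    rcases hσ with h5 | h5
    · rw [← h5]; exact h1
    · have h6 : y ^ 64 = 1 := by
        calc y ^ 64 = (y ^ 2) ^ 32 := (pow_mul y 2 32)
          _ = 1 := by rw [pow_two, hyy, one_pow]
      calc w σ ^ 64 = y ^ 64 * w σ ^ 64 := by rw [h6, one_mul]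
        _ = (y * w σ) ^ 64 := (hyc.mul_pow 64).symm
        _ = 1 := by rw [← h5]; exact h1
  have h5 := even_two σ hs h4
  have h6 : w σ * w σ = 1 := by rw [← map_mul, h5, map_one]
  rcases hσ with h7 | h7
  · rw [h7, h6]
  · rw [h7]
    calc y * w σ * (y * w σ) = y * (w σ * y) * w σ := by group
      _ = y * (y * w σ) * w σ := by rw [← hyc.eq]
      _ = (y * y) * (w σ * w σ) := by group
      _ = 1 := by rw [hyy, h6, one_mul]

/-- an element of `B` mapping to `(1, 1)` whose 64th power is `1` is trivial -/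
theorem ker_one [Finite G] (h : CtxO t c f) (D : Dat t c f A1) {z : G} (h1 : R t f A1 z 1)
    (h2 : R t f A1 (t * z * t) 1) (h3 : z ^ 64 = 1) : z = 1 := by
  have tt := h.tt
  obtain ⟨b, hb, hzb⟩ := Z0_of_R h2
  have hz : z ∈ A1 := by
    have e : z = b := by
      calc z = (t * t) * z * (t * t) := by rw [tt]; group
        _ = t * (t * z * t) * t := by group
        _ = t * (t * b * t) * t := by rw [hzb]
        _ = (t * t) * b * (t * t) := by group
        _ = b := by rw [tt]; group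
    rw [e]; exact hb
  obtain ⟨-, k, hk⟩ := Z0_spec h D hz h1
  have h4 : z ^ (2 * k) = z := by rw [two_mul, pow_add, hk]
  have h5 : ∀ n : ℕ, z ^ ((2 * k) ^ n) = z := by
    intro n
    induction n with
    | zero => rw [pow_zero, pow_one]
    | succ n ih => rw [pow_succ, pow_mul, ih, h4]
  have h6 := h5 6
  have e : (2 * k) ^ 6 = 64 * k ^ 6 := by rw [mul_pow]; norm_num
  rw [e, pow_mul, h3, one_pow] at h6
  exact h6.symm

/-- `C(c)` contains an elementary abelian subgroup of order `2^7`. -/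
theorem exists_P [Finite G] (h : CtxO t c f) (D : Dat t c f A1) :
    ∃ P : Subgroup G, Nat.card P = 128 ∧ (∀ x ∈ P, x * x = 1) ∧ ∀ x ∈ P, x * c = c * x := by
  have tt := h.tt
  have cc := h.cc
  have hct := h.ct
  set N : Subgroup G := BB h D ⊓ Subgroup.centralizer ({c} : Set G) with hN
  have hex : ∀ g : N, ∃ m, R t f A1 g.1 m := fun g => R_exists h D (Subgroup.mem_inf.1 g.2).1
  have hex' : ∀ g : N, ∃ m, R t f A1 (t * g.1 * t) m :=
    fun g => R_exists h D (tnorm h D _ (Subgroup.mem_inf.1 g.2).1)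
  choose ρ hρ using hex
  choose ρ' hρ' using hex'
  let Φ : N →* H × H := MonoidHom.mk' (fun g => (ρ g, ρ' g)) (by
    intro a b
    apply Prod.ext
    · exact R_uniq h D (hρ (a * b)) (D.R_mul h (hρ a) (hρ b))
    · have e : t * (a * b : N).1 * t = (t * a.1 * t) * (t * b.1 * t) := by
        calc t * (a.1 * b.1) * t = t * a.1 * 1 * b.1 * t := by group
          _ = t * a.1 * (t * t) * b.1 * t := by rw [tt]
          _ = _ := by group
      exact R_uniq h D (hρ' (a * b)) (by rw [e]; exact D.R_mul h (hρ' a) (hρ' b)))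
  have hA : ∀ u, alpha u = u → ∃ g : N, Φ g = (u, 1) := by
    intro u hu
    obtain ⟨a, ha, hca, hau⟩ := A1_cent h D hu
    have haN : a ∈ N := Subgroup.mem_inf.2 ⟨A1_le h D ha, Subgroup.mem_centralizer_singleton_iff.2 hca.symm⟩
    refine ⟨⟨a, haN⟩, ?_⟩
    apply Prod.ext
    · exact R_uniq h D (hρ _) hau
    · exact R_uniq h D (hρ' _) (Dat.R_A2 ha)
  have hB : ∀ u, alpha u = u → ∃ g : N, Φ g = (1, u) := by
    intro u hu
    obtain ⟨a, ha, hca, hau⟩ := A1_cent h D hu
    have hbN : t * a * t ∈ N := by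
      refine Subgroup.mem_inf.2 ⟨A2_le h D ha, Subgroup.mem_centralizer_singleton_iff.2 ?_⟩
      calc t * a * t * c = t * a * (c * t) := by rw [hct]; group
        _ = t * (c * a) * t := by rw [hca]; group
        _ = c * (t * a * t) := by rw [← mul_assoc, ← hct]; group
    refine ⟨⟨t * a * t, hbN⟩, ?_⟩
    apply Prod.ext
    · exact R_uniq h D (hρ _) (Dat.R_A2 ha)
    · apply R_uniq h D (hρ' _)
      have e : t * (t * a * t) * t = a := by
        calc t * (t * a * t) * t = (t * t) * a * (t * t) := by group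
          _ = a := by rw [tt]; group
      show R t f A1 (t * (t * a * t) * t) u
      rw [e]
      exact hau
  have hle : K.prod K ≤ Φ.range := by
    rintro ⟨u, v⟩ ⟨hu, hv⟩
    obtain ⟨g, hg⟩ := hA u (mem_Fix.1 (Subgroup.mem_inf.1 hu).1)
    obtain ⟨g', hg'⟩ := hB v (mem_Fix.1 (Subgroup.mem_inf.1 hv).1)
    exact ⟨g * g', by rw [map_mul, hg, hg', Prod.mk_mul_mk, mul_one, one_mul]⟩
  set M := (K.prod K).comap Φ with hM
  have h64 : 2 ^ 6 ∣ Nat.card M := by
    have k1 : Nat.card (K.prod K) = 14400 := by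
      rw [Nat.card_congr (Subgroup.prodEquiv _ _).toEquiv, Nat.card_prod, card_K]
    have k2 : Nat.card (Φ.comp M.subtype).range ∣ Nat.card M := Subgroup.card_range_dvd _
    have k3 : K.prod K ≤ (Φ.comp M.subtype).range := by
      intro x hx
      obtain ⟨g, hg⟩ := hle hx
      exact ⟨⟨g, by rw [hM, Subgroup.mem_comap, hg]; exact hx⟩, hg⟩
    have k4 := (Subgroup.card_dvd_of_le k3).trans k2
    rw [k1] at k4
    exact dvd_trans (by norm_num) k4
  have : Fact (Nat.Prime 2) := ⟨Nat.prime_two⟩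
  obtain ⟨Q, hQ⟩ := Sylow.exists_subgroup_card_pow_prime 2 h64
  have hsq : ∀ x : M, x ∈ Q → x * x = 1 := by
    intro x hx
    have h1 : x ^ 64 = 1 := by
      have h2 := pow_card_eq_one' (x := (⟨x, hx⟩ : Q))
      rw [hQ] at h2
      have h3 := congrArg Subtype.val h2
      exact h3
    have h2 : (x : N) ^ 64 = 1 := by
      have := congrArg Subtype.val h1
      exact this
    obtain ⟨h3, h4⟩ := Subgroup.mem_comap.1 x.2
    have h5 : Φ (x : N) ^ 64 = 1 := by rw [← map_pow, h2, map_one]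
    have h6 : (Φ (x : N)).1 * (Φ (x : N)).1 = 1 := K_sq h3 (by
      have := congrArg Prod.fst h5
      exact this)
    have h7 : (Φ (x : N)).2 * (Φ (x : N)).2 = 1 := K_sq h4 (by
      have := congrArg Prod.snd h5
      exact this)
    have h8 : Φ ((x : N) * (x : N)) = 1 := by
      rw [map_mul]
      exact Prod.ext h6 h7
    apply Subtype.ext
    apply Subtype.ext
    apply ker_one h D
    · have h9 := hρ ((x : N) * (x : N))
      have h10 : ρ ((x : N) * (x : N)) = 1 := congrArg Prod.fst h8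
      rw [h10] at h9
      exact h9
    · have h9 := hρ' ((x : N) * (x : N))
      have h10 : ρ' ((x : N) * (x : N)) = 1 := congrArg Prod.snd h8
      rw [h10] at h9
      exact h9
    · have h9 : ((x : N) : G) ^ 64 = 1 := congrArg Subtype.val h2
      show (((x : N) : G) * ((x : N) : G)) ^ 64 = 1
      rw [(Commute.refl _).mul_pow, h9, one_mul]
  set P1 : Subgroup G := (Q.map M.subtype).map N.subtype with hP1
  have hP1c : Nat.card P1 = 64 := by
    rw [hP1, Subgroup.card_map_of_injective N.subtype_injective,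
      Subgroup.card_map_of_injective M.subtype_injective, hQ]
    norm_num
  have hP1N : ∀ x ∈ P1, x ∈ N := by
    rintro _ ⟨n, -, rfl⟩
    exact n.2
  have hP1s : ∀ x ∈ P1, x * x = 1 := by
    rintro _ ⟨_, ⟨m, hm, rfl⟩, rfl⟩
    have := hsq m hm
    exact congrArg (fun x : M => ((x : N) : G)) this
  have hP1k : ∀ x ∈ P1, x * c = c * x := fun x hx =>
    Subgroup.mem_centralizer_singleton_iff.1 (Subgroup.mem_inf.1 (hP1N x hx)).2
  have hcxc : ∀ x ∈ P1, c * x * c = x := by
    intro x hx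
    rw [← hP1k x hx, mul_assoc, cc, mul_one]
  refine ⟨dbl P1 c cc (fun x hx => by rw [hcxc x hx]; exact hx), ?_, ?_, ?_⟩
  · have h1 : c ∉ P1 := fun h1 => c_not_mem h D (Subgroup.mem_inf.1 (hP1N c h1)).1
    have h2 := relIndex_dbl (hn := fun x hx => by rw [hcxc x hx]; exact hx) (hτ := cc) h1
    have h3 := (P1.subgroupOf (dbl P1 c cc (fun x hx => by rw [hcxc x hx]; exact hx))).card_mul_index
    rw [Nat.card_congr (Subgroup.subgroupOfEquivOfLe le_dbl).toEquiv, hP1c] at h3
    have h4 : (P1.subgroupOf (dbl P1 c cc (fun x hx => by rw [hcxc x hx]; exact hx))).index = 2 := h2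
    rw [h4] at h3
    exact h3.symm
  · rintro x (hx | hx)
    · exact hP1s x hx
    · have h1 := hP1s _ hx
      have h2 := hcxc _ hx
      calc x * x = (c * c) * x * ((c * c) * x) := by rw [cc, one_mul]
        _ = (c * (c * x) * c) * (c * x) := by group
        _ = 1 := by rw [h2, h1]
  · rintro x (hx | hx)
    · exact hP1k x hx
    · have h1 := hP1k _ hx
      calc x * c = (c * c) * x * c := by rw [cc, one_mul]
        _ = c * (c * x * c) := by group
        _ = c * (c * (c * x)) := by rw [h1]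
        _ = _ := by rw [← mul_assoc c c, cc, one_mul]

/-- `c` is not in `𝒟` -/
theorem not_D_c [Finite G] {inner 𝒟 : G → Prop} (P : PD t inner 𝒟) (h : CtxO t c f) (D : Dat t c f A1) :
    ¬ 𝒟 c := by
  intro hc
  obtain ⟨Q, hQ, hsq, hcomm⟩ := exists_P h D
  have hp : IsPGroup 2 Q := by
    intro x
    refine ⟨1, ?_⟩
    apply Subtype.ext
    show (x : G) ^ 2 ^ 1 = 1
    rw [pow_one, pow_two]
    exact hsq _ x.2
  obtain ⟨ψ, hψ, hψt, -⟩ := P.emb c hc Q hp hcomm
  have h1 := card_lt h ψ.range (by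
    rintro _ ⟨x, rfl⟩
    rw [← map_mul]
    have : x * x = 1 := Subtype.ext (hsq _ x.2)
    rw [this, map_one]) (by
    rintro _ ⟨x, rfl⟩
    exact hψt x)
  have h2 : Nat.card ψ.range = 128 := by
    rw [← hQ]
    exact (Nat.card_congr (MonoidHom.ofInjective hψ).toEquiv).symm
  omega

/-- **The patterns with `t ~ t y` are dead for `C(t) = ⟨t⟩ × M₁₂:2`** (with the oracle). -/
theorem false_pd [Finite G] {inner 𝒟 : G → Prop} (P : PD t inner 𝒟) (h : CtxO t c f)
    (h1 : IsConj t (t * f y)) (h2 : ¬ IsConj t (f y)) (h3 : ¬ IsConj t (f (p * r))) : False := by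
  obtain ⟨c, A1, h, D⟩ := OutMain.exists_dat h h1 h2 h3
  obtain ⟨C₀, G0, hle, hrel, ht, htC, hcent, hfus⟩ := OutMain.exists_two h D
  refine P.kill C₀ G0 hle hrel hcent htC ?_
  intro g hg hgC hD
  rcases hfus g hg hgC (P.sq g hD) with ⟨x, hx, hxg⟩ | h4
  · exact ⟨x⁻¹, G0.inv_mem hx, by rw [inv_inv]; exact hxg⟩
  · exfalso
    obtain ⟨k, hk⟩ := isConj_iff.1 h4
    apply not_D_c P h D
    rw [← hk]
    exact P.conj g k hD

end Cfsg.Agent.CoThreeStd.OutPD
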