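import Cfsg.Agent.CoThreeStd.OutStep
import Cfsg.Agent.CoThreeStd.GammaEnd

/-!
# S1750, `C_G(t) = ⟨t⟩ × M₁₂:2`: the end of the patterns with `t ~ t y` (helper781)
-/

set_option autoImplicit false

namespace Cfsg.Agent.CoThreeStd.OutEnd

open Cfsg.Agent.CoThreeStd.MTwelve Cfsg.Agent.CoThreeStd.OutAut Cfsg.Agent.CoThreeStd.OutCtx
open Cfsg.Agent.CoThreeStd.Gamma Cfsg.Agent.SporRec.Co3 Cfsg.Agent.CoThreeStd.OutBase
open Cfsg.Agent.CoThreeStd.Parity

variable {G : Type*} [Group G] {t c : G} {f : H →* G}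

/-- `B ∪ τ B` for an involution `τ` normalising `B` -/
def dbl (B : Subgroup G) (τ : G) (hτ : τ * τ = 1) (hn : ∀ g ∈ B, τ * g * τ ∈ B) : Subgroup G where
  carrier := {g | g ∈ B ∨ τ * g ∈ B}
  one_mem' := Or.inl B.one_mem
  mul_mem' := by
    rintro g g' (h | h) (h' | h')
    · exact Or.inl (B.mul_mem h h')
    · right
      have := B.mul_mem (hn g h) h'
      have e : τ * g * τ * (τ * g') = τ * (g * g') := by
        calc τ * g * τ * (τ * g') = τ * g * (τ * τ) * g' := by group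
          _ = _ := by rw [hτ]; group
      rwa [e] at this
    · right
      have := B.mul_mem h h'
      rwa [mul_assoc] at this
    · left
      have := B.mul_mem (hn _ h) h'
      have e : τ * (τ * g) * τ * (τ * g') = g * g' := by
        calc τ * (τ * g) * τ * (τ * g') = (τ * τ) * g * (τ * τ) * g' := by group
          _ = _ := by rw [hτ]; group
      rwa [e] at this
  inv_mem' := by
    rintro g (h | h)
    · exact Or.inl (B.inv_mem h)
    · right
      have := hn _ (B.inv_mem h)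
      have e : τ * (τ * g)⁻¹ * τ = τ * g⁻¹ := by
        rw [mul_inv_rev, inv_eq_of_mul_eq_one_left hτ]
        calc τ * (g⁻¹ * τ) * τ = τ * g⁻¹ * (τ * τ) := by group
          _ = _ := by rw [hτ]; group
      rwa [e] at this

theorem mem_dbl {B : Subgroup G} {τ : G} {hτ : τ * τ = 1} {hn : ∀ g ∈ B, τ * g * τ ∈ B} {g : G} :
    g ∈ dbl B τ hτ hn ↔ g ∈ B ∨ τ * g ∈ B := Iff.rfl

theorem le_dbl {B : Subgroup G} {τ : G} {hτ : τ * τ = 1} {hn : ∀ g ∈ B, τ * g * τ ∈ B} :
    B ≤ dbl B τ hτ hn := fun _ h => Or.inl h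

theorem relIndex_dbl {B : Subgroup G} {τ : G} {hτ : τ * τ = 1} {hn : ∀ g ∈ B, τ * g * τ ∈ B} (hB : τ ∉ B) :
    B.relIndex (dbl B τ hτ hn) = 2 := by
  rw [Subgroup.relIndex, Subgroup.index_eq_two_iff]
  refine ⟨⟨τ, Or.inr (by rw [hτ]; exact B.one_mem)⟩, ?_⟩
  rintro ⟨g, hg⟩
  rw [Subgroup.mem_subgroupOf, Subgroup.mem_subgroupOf]
  show Xor (g * τ ∈ B) (g ∈ B)
  rcases hg with h | h
  · right
    refine ⟨h, fun h1 => hB ?_⟩
    have := B.mul_mem (B.inv_mem h) h1
    rwa [inv_mul_cancel_left] at this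
  · left
    constructor
    · have := hn _ h
      have e : τ * (τ * g) * τ = g * τ := by
        calc τ * (τ * g) * τ = (τ * τ) * g * τ := by group
          _ = _ := by rw [hτ, one_mul]
      rwa [e] at this
    · intro h1
      apply hB
      have := B.mul_mem h (B.inv_mem h1)
      rwa [mul_inv_cancel_right] at this

/-- the final counting argument -/
theorem parity_kill [Finite G] (hG : ∀ K : Subgroup G, K.index ≠ 2) (tt : t * t = 1) {C₀ G0 : Subgroup G}
    (hle : C₀ ≤ G0) (hrel : C₀.relIndex G0 = 2) (htG : t ∈ G0) (htC : t ∉ C₀)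
    (hcent : ∀ g, g * t = t * g → g ∈ G0)
    (hfus : ∀ h, h ∈ G0 → h ∉ C₀ → IsConj t h → ∃ x ∈ G0, x⁻¹ * t * x = h) : False := by
  have hdvd := two_mul_card_dvd hG hle hrel t tt
  rw [← card_conj_eq t (fun h => h ∈ G0 ∧ h ∉ C₀)] at hdvd
  have hN : ∀ g ∈ G0, g⁻¹ * t * g ∉ C₀ := by
    intro g hg h1
    apply htC
    have h2 : (C₀.subgroupOf G0).index = 2 := hrel
    have h3 := Subgroup.normal_of_index_eq_two h2
    have h4 := h3.conj_mem ⟨g⁻¹ * t * g, hle h1⟩ (Subgroup.mem_subgroupOf.2 h1) ⟨g, hg⟩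
    have h5 : g * (g⁻¹ * t * g) * g⁻¹ ∈ C₀ := Subgroup.mem_subgroupOf.1 h4
    have e : g * (g⁻¹ * t * g) * g⁻¹ = t := by group
    rwa [e] at h5
  have hcard : Nat.card {g : G // g⁻¹ * t * g ∈ G0 ∧ g⁻¹ * t * g ∉ C₀} = Nat.card G0 := by
    apply Nat.card_congr
    refine Equiv.subtypeEquivRight (fun g => ?_)
    constructor
    · rintro ⟨h1, h2⟩
      obtain ⟨x, hx, h3⟩ := hfus _ h1 h2 (isConj_iff.2 ⟨g⁻¹, by group⟩)
      have h4 : g * x⁻¹ ∈ G0 := by
        apply hcent
        have h5 : (g * x⁻¹)⁻¹ * t * (g * x⁻¹) = t := by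
          calc (g * x⁻¹)⁻¹ * t * (g * x⁻¹) = x * (g⁻¹ * t * g) * x⁻¹ := by group
            _ = t := by rw [← h3]; group
        calc g * x⁻¹ * t = g * x⁻¹ * ((g * x⁻¹)⁻¹ * t * (g * x⁻¹)) := by rw [h5]
          _ = _ := by group
      have := G0.mul_mem h4 hx
      rwa [inv_mul_cancel_right] at this
    · intro hg
      exact ⟨G0.mul_mem (G0.mul_mem (G0.inv_mem hg) htG) hg, hN g hg⟩
  rw [hcard] at hdvd
  have hpos : 0 < Nat.card G0 := Nat.card_pos
  have := Nat.le_of_dvd hpos hdvd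
  omega

/-- The data: a subgroup `A₁` commuting elementwise with `A₁^t`, with `f(M₁₂) ≤ A₁ A₁^t`, normalised by `c`. -/
structure Dat (t c : G) (f : H →* G) (A1 : Subgroup G) : Prop where
  hcomm : ∀ a ∈ A1, ∀ b ∈ A1, Commute a (t * b * t)
  hf : ∀ m, ∃ a ∈ A1, ∃ b ∈ A1, f m = a * (t * b * t)
  hc : ∀ a ∈ A1, c * a * c⁻¹ ∈ A1
  hs : ∀ a ∈ A1, ∃ m, ∃ b ∈ A1, a = f m * (t * b * t)

/-- `g` maps to `m` -/
def R (t : G) (f : H →* G) (A1 : Subgroup G) (g : G) (m : H) : Prop := ∃ b ∈ A1, g = f m * (t * b * t)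

namespace Dat

variable {A1 : Subgroup G}

/-- `f m` normalises `A₁` -/
theorem fnorm (D : Dat t c f A1) (m : H) {a : G} (ha : a ∈ A1) : (f m)⁻¹ * a * f m ∈ A1 := by
  obtain ⟨x, hx, z, hz, h1⟩ := D.hf m
  have h2 : (f m)⁻¹ * a * f m = x⁻¹ * a * x := by
    have h3 := (D.hcomm (x⁻¹ * a * x) (A1.mul_mem (A1.mul_mem (A1.inv_mem hx) ha) hx) z hz).eq
    rw [h1]
    calc (x * (t * z * t))⁻¹ * a * (x * (t * z * t)) = (t * z * t)⁻¹ * ((x⁻¹ * a * x) * (t * z * t)) := by group
      _ = (t * z * t)⁻¹ * ((t * z * t) * (x⁻¹ * a * x)) := by rw [h3]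
      _ = _ := by group
  rw [h2]
  exact A1.mul_mem (A1.mul_mem (A1.inv_mem hx) ha) hx

theorem R_mul (h : CtxO t c f) (D : Dat t c f A1) {g g' : G} {m m' : H} (hg : R t f A1 g m)
    (hg' : R t f A1 g' m') : R t f A1 (g * g') (m * m') := by
  obtain ⟨b, hb, rfl⟩ := hg
  obtain ⟨b', hb', rfl⟩ := hg'
  refine ⟨(f m')⁻¹ * b * f m' * b', A1.mul_mem (D.fnorm m' hb) hb', ?_⟩
  have h1 : t * f m' = f m' * t := (h.comm m').symm
  have h2 : (f m')⁻¹ * t = t * (f m')⁻¹ := by rw [← map_inv]; exact h.comm _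
  calc f m * (t * b * t) * (f m' * (t * b' * t)) = f m * t * b * (t * f m') * (t * b' * t) := by group
    _ = f m * f m' * ((f m')⁻¹ * t) * b * f m' * (t * t) * b' * t := by rw [h1]; group
    _ = f (m * m') * (t * ((f m')⁻¹ * b * f m' * b') * t) := by rw [h2, h.tt, map_mul]; group

theorem R_inv (h : CtxO t c f) (D : Dat t c f A1) {g : G} {m : H} (hg : R t f A1 g m) :
    R t f A1 g⁻¹ m⁻¹ := by
  obtain ⟨b, hb, rfl⟩ := hg
  have hb' := D.fnorm m⁻¹ (A1.inv_mem hb)
  rw [map_inv, inv_inv] at hb'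
  refine ⟨f m * b⁻¹ * (f m)⁻¹, hb', ?_⟩
  have h1 : t * f m = f m * t := (h.comm m).symm
  calc (f m * (t * b * t))⁻¹ = t⁻¹ * b⁻¹ * t⁻¹ * (f m)⁻¹ := by group
    _ = t * b⁻¹ * (t * (f m)⁻¹) := by rw [h.inv_t]; group
    _ = t * b⁻¹ * ((f m)⁻¹ * t) := by
      have : (f m)⁻¹ * t = t * (f m)⁻¹ := by rw [← map_inv]; exact h.comm _
      rw [this]
    _ = (f m)⁻¹ * (f m * t) * b⁻¹ * (f m)⁻¹ * t := by group
    _ = _ := by rw [← h1, map_inv]; group

theorem R_f (h : CtxO t c f) (m : H) : R t f A1 (f m) m := ⟨1, A1.one_mem, by rw [mul_one, h.tt, mul_one]⟩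

theorem R_A2 {a : G} (ha : a ∈ A1) : R t f A1 (t * a * t) 1 := ⟨a, ha, by rw [map_one, one_mul]⟩

theorem R_c (h : CtxO t c f) (D : Dat t c f A1) {g : G} {m : H} (hg : R t f A1 g m) :
    R t f A1 (c * g * c⁻¹) (alpha m) := by
  obtain ⟨b, hb, rfl⟩ := hg
  refine ⟨c * b * c⁻¹, D.hc b hb, ?_⟩
  have h1 := h.ct
  have h2 : t * c⁻¹ = c⁻¹ * t := by rw [h.inv_c]; exact h1.symm
  calc c * (f m * (t * b * t)) * c⁻¹ = (c * f m * c⁻¹) * (c * t) * b * (t * c⁻¹) := by group
    _ = f (alpha m) * (t * (c * b * c⁻¹) * t) := by rw [h.act, h1, h2]; group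

end Dat

variable {A1 : Subgroup G}

/-- the group `B = A₁ A₁^t` -/
def BB (h : CtxO t c f) (D : Dat t c f A1) : Subgroup G := prodT (toCx h) A1 D.hcomm

theorem mem_BB (h : CtxO t c f) (D : Dat t c f A1) {g : G} :
    g ∈ BB h D ↔ ∃ a ∈ A1, ∃ b ∈ A1, g = a * (t * b * t) := Iff.rfl

theorem A1_le (h : CtxO t c f) (D : Dat t c f A1) {a : G} (ha : a ∈ A1) : a ∈ BB h D :=
  ⟨a, ha, 1, A1.one_mem, by rw [mul_one, h.tt, mul_one]⟩

theorem A2_le (h : CtxO t c f) (D : Dat t c f A1) {a : G} (ha : a ∈ A1) : t * a * t ∈ BB h D :=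
  ⟨1, A1.one_mem, a, ha, by rw [one_mul]⟩

theorem f_le (h : CtxO t c f) (D : Dat t c f A1) (m : H) : f m ∈ BB h D := D.hf m

theorem tnorm (h : CtxO t c f) (D : Dat t c f A1) : ∀ g ∈ BB h D, t * g * t ∈ BB h D := by
  rintro _ ⟨a, ha, b, hb, rfl⟩
  refine ⟨b, hb, a, ha, ?_⟩
  have h1 := (D.hcomm b hb a ha).eq
  calc t * (a * (t * b * t)) * t = (t * a * t) * (b * (t * t)) := by group
    _ = _ := by rw [h.tt, mul_one, h1]

theorem cnorm (h : CtxO t c f) (D : Dat t c f A1) : ∀ g ∈ BB h D, c * g * c ∈ BB h D := by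
  rintro _ ⟨a, ha, b, hb, rfl⟩
  refine ⟨c * a * c⁻¹, D.hc a ha, c * b * c⁻¹, D.hc b hb, ?_⟩
  have h1 := h.ct
  have h3 : c * t * c = t := by rw [h1, mul_assoc, h.cc, mul_one]
  rw [h.inv_c]
  calc c * (a * (t * b * t)) * c = c * a * (c * c) * t * (c * c) * b * (c * c) * t * c := by
        rw [h.cc]; group
    _ = (c * a * c) * ((c * t * c) * (c * b * c) * (c * t * c)) := by group
    _ = _ := by rw [h3]

theorem R_exists (h : CtxO t c f) (D : Dat t c f A1) {g : G} (hg : g ∈ BB h D) : ∃ m, R t f A1 g m := by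
  obtain ⟨a, ha, b, hb, rfl⟩ := hg
  obtain ⟨m, hm⟩ := D.hs a ha
  refine ⟨m * 1, D.R_mul h hm (Dat.R_A2 hb)⟩

/-- elements of `C(t)` centralising `f(M₁₂)` -/
theorem cent_f (h : CtxO t c f) {g : G} (h1 : g * t = t * g) (h2 : ∀ m, g * f m = f m * g) :
    g = 1 ∨ g = t := by
  obtain ⟨⟨a, b, n⟩, rfl⟩ := El_surj h g h1
  have hE : El t c f (a, b, n) = (if a then t else 1) * ((if b then c else 1) * f n) := rfl
  have h3 : ∀ m, ((if b then c else 1) * f n) * f m = f m * ((if b then c else 1) * f n) := by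
    intro m
    have h4 := h2 m
    rw [hE] at h4
    cases a
    · simpa using h4
    · have h5 := h.comm m
      simp only [if_true] at h4
      apply mul_left_cancel (a := t)
      calc t * (((if b then c else 1) * f n) * f m) = t * ((if b then c else 1) * f n) * f m := by group
        _ = f m * (t * ((if b then c else 1) * f n)) := h4
        _ = (f m * t) * ((if b then c else 1) * f n) := by group
        _ = _ := by rw [h5]; group
  cases b
  · simp only [Bool.false_eq_true, if_false, one_mul] at h3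
    have hn : n = 1 := by
      apply center_trivial
      intro m
      apply h.inj
      rw [map_mul, map_mul]
      exact h3 m
    rw [hE, hn]
    cases a
    · left; simp
    · right; simp
  · exfalso
    simp only [if_true] at h3
    apply alpha_ne_inner (alpha n)⁻¹
    intro m
    rw [inv_inv]
    apply h.inj
    have h4 := h3 m
    have h5 : c * f n * f m = f (alpha n) * f (alpha m) * c := by
      calc c * f n * f m = (c * f n) * f m := rfl
        _ = f (alpha n) * (c * f m) := by rw [h.cf]; group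
        _ = _ := by rw [h.cf]; group
    have h6 : f m * (c * f n) = f m * f (alpha n) * c := by rw [h.cf]; group
    rw [h5, h6] at h4
    have h7 := mul_right_cancel h4
    rw [map_mul, map_mul, map_inv]
    calc f (alpha m) = (f (alpha n))⁻¹ * (f (alpha n) * f (alpha m)) := by group
      _ = _ := by rw [h7]; group

theorem t_not_mem (h : CtxO t c f) (D : Dat t c f A1) : t ∉ BB h D := by
  have it := h.inv_t
  have tt := h.tt
  rintro ⟨a, ha, b, hb, hab⟩
  have h1 : ∀ x ∈ A1, t * x * t ∈ A1 := by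
    intro x hx
    have h2 : t * x * t = a * x * a⁻¹ := by
      have h3 := (D.hcomm x hx b hb).eq
      calc t * x * t = t * x * t⁻¹ := by rw [it]
        _ = (a * (t * b * t)) * x * (a * (t * b * t))⁻¹ := by rw [← hab]
        _ = a * ((t * b * t) * x) * (t * b * t)⁻¹ * a⁻¹ := by group
        _ = a * (x * (t * b * t)) * (t * b * t)⁻¹ * a⁻¹ := by rw [h3]
        _ = _ := by group
    rw [h2]
    exact A1.mul_mem (A1.mul_mem ha hx) (A1.inv_mem ha)
  have h2 : ∀ x ∈ A1, ∀ z ∈ A1, Commute x z := by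
    intro x hx z hz
    have h3 := D.hcomm x hx _ (h1 z hz)
    have h4 : t * (t * z * t) * t = z := by
      calc t * (t * z * t) * t = (t * t) * z * (t * t) := by group
        _ = z := by rw [tt]; group
    rwa [h4] at h3
  have h3 : ∀ m, f m ∈ A1 := by
    intro m
    obtain ⟨x, hx, z, hz, h4⟩ := D.hf m
    rw [h4]
    exact A1.mul_mem hx (h1 z hz)
  have h4 := (h2 _ (h3 p) _ (h3 q)).eq
  rw [← map_mul, ← map_mul] at h4
  have h5 := h.inj h4
  rw [← wd_p, ← wd_q, ← wd_append, ← wd_append] at h5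
  exact absurd (eqW_of_wd h5) (by decide +kernel)

/-- an element of `B ∩ C(t)` centralising `B` is trivial -/
theorem central_one (h : CtxO t c f) (D : Dat t c f A1) {g : G} (h1 : g * t = t * g) (hg : g ∈ BB h D)
    (h2 : ∀ x ∈ BB h D, g * x = x * g) : g = 1 := by
  rcases cent_f h h1 (fun m => h2 _ (f_le h D m)) with h3 | h3
  · exact h3
  · rw [h3] at hg
    exact absurd hg (t_not_mem h D)

/-- an element of `A₁ ∩ A₁^t` is central in `B` -/
theorem Z0_central (h : CtxO t c f) (D : Dat t c f A1) {z b : G} (hz : z ∈ A1) (hb : b ∈ A1) (hzb : z = t * b * t) :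
    ∀ x ∈ BB h D, z * x = x * z := by
  rintro _ ⟨a, ha, d, hd, rfl⟩
  have h1 : a * z = z * a := by rw [hzb]; exact (D.hcomm a ha b hb).eq
  have h2 : z * (t * d * t) = (t * d * t) * z := (D.hcomm z hz d hd).eq
  calc z * (a * (t * d * t)) = (z * a) * (t * d * t) := by group
    _ = a * (z * (t * d * t)) := by rw [← h1]; group
    _ = _ := by rw [h2]; group

theorem R_uniq (h : CtxO t c f) (D : Dat t c f A1) {g : G} {m m' : H} (h1 : R t f A1 g m)
    (h2 : R t f A1 g m') : m = m' := by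
  have h3 := D.R_mul h (D.R_inv h h1) h2
  rw [inv_mul_cancel] at h3
  obtain ⟨b, hb, h4⟩ := h3
  have h5 : t * b * t = f (m⁻¹ * m')⁻¹ := by
    rw [map_inv]
    exact (inv_eq_of_mul_eq_one_right h4.symm).symm
  have h6 : b = f (m⁻¹ * m')⁻¹ := by
    calc b = (t * t) * b * (t * t) := by rw [h.tt]; group
      _ = t * (t * b * t) * t := by group
      _ = t * f (m⁻¹ * m')⁻¹ * t := by rw [h5]
      _ = _ := by rw [← h.comm, mul_assoc, h.tt, mul_one]
  have h7 := central_one h D (g := b) (by rw [h6]; exact h.comm _) (A1_le h D hb)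
    (Z0_central h D hb hb (by rw [h5, ← h6]))
  rw [h6] at h7
  have h8 : (m⁻¹ * m')⁻¹ = 1 := h.inj (by rw [h7, map_one])
  have h9 : m⁻¹ * m' = 1 := inv_eq_one.1 h8
  exact (inv_mul_eq_one.1 h9)

/-- elements of `A₁` mapping to `1` -/
theorem Z0_of_R {z : G} (hzR : R t f A1 z 1) : ∃ b ∈ A1, z = t * b * t := by
  obtain ⟨b, hb, h1⟩ := hzR
  exact ⟨b, hb, by rw [h1, map_one, one_mul]⟩

/-- elements of `A₁ ∩ A₁^t` are inverted by `t` and of odd order -/
theorem Z0_spec (h : CtxO t c f) [Finite G] (D : Dat t c f A1) {z : G} (hz : z ∈ A1) (hzR : R t f A1 z 1) :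
    t * z * t = z⁻¹ ∧ ∃ k : ℕ, z ^ k * z ^ k = z := by
  obtain ⟨b, hb, hzb⟩ := Z0_of_R hzR
  have tt := h.tt
  have hcen := Z0_central h D hz hb hzb
  have htz : t * z * t = b := by
    rw [hzb]
    calc t * (t * b * t) * t = (t * t) * b * (t * t) := by group
      _ = b := by rw [tt]; group
  have hcenb : ∀ x ∈ BB h D, b * x = x * b := by
    intro x hx
    have h1 := hcen _ (tnorm h D x hx)
    rw [hzb] at h1
    apply mul_left_cancel (a := t)
    apply mul_right_cancel (b := t)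
    calc t * (b * x) * t = t * b * (t * t) * x * t := by rw [tt]; group
      _ = (t * b * t) * (t * x * t) := by group
      _ = (t * x * t) * (t * b * t) := h1
      _ = t * x * (t * t) * b * t := by group
      _ = _ := by rw [tt]; group
  -- `z (t z t) = 1`
  have hzz : z * b = 1 := by
    apply central_one h D
    · have hbz : b * z = z * b := hcenb z (A1_le h D hz)
      calc z * b * t = (t * b * t) * b * t := by rw [← hzb]
        _ = t * (b * (t * b * t)) := by group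
        _ = t * (b * z) := by rw [← hzb]
        _ = _ := by rw [hbz]
    · exact (BB h D).mul_mem (A1_le h D hz) (A1_le h D hb)
    · intro x hx
      rw [mul_assoc, hcenb x hx, ← mul_assoc, hcen x hx, mul_assoc]
  have hinv : t * z * t = z⁻¹ := by rw [htz]; exact (inv_eq_of_mul_eq_one_right hzz).symm
  refine ⟨hinv, ?_⟩
  have hpow : ∀ k : ℕ, t * z ^ k * t = (z ^ k)⁻¹ := by
    intro k
    induction k with
    | zero => rw [pow_zero, mul_one, tt, inv_one]
    | succ k ih =>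
      calc t * z ^ (k + 1) * t = t * (z ^ k * z) * t := by rw [pow_succ]
        _ = t * z ^ k * (t * t) * z * t := by rw [tt]; group
        _ = (t * z ^ k * t) * (t * z * t) := by group
        _ = (z ^ (k + 1))⁻¹ := by rw [ih, hinv]; group
  have hodd : Odd (orderOf z) := by
    rw [← Nat.not_even_iff_odd]
    intro hev
    obtain ⟨k, hk⟩ := hev
    have hpos : 0 < orderOf z := orderOf_pos z
    have hk0 : 0 < k := by omega
    have hii : z ^ k * z ^ k = 1 := by rw [← pow_add, ← hk, pow_orderOf_eq_one]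
    have hi1 : z ^ k ≠ 1 := pow_ne_one_of_lt_orderOf (by omega) (by omega)
    apply hi1
    apply central_one h D
    · have h1 : t * z ^ k * t = z ^ k := by rw [hpow k]; exact inv_eq_of_mul_eq_one_left hii
      calc z ^ k * t = (t * z ^ k * t) * t := by rw [h1]
        _ = t * z ^ k * (t * t) := by group
        _ = _ := by rw [tt, mul_one]
    · exact (BB h D).pow_mem (A1_le h D hz) k
    · intro x hx
      have : Commute z x := hcen x hx
      exact (this.pow_left k).eq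
  obtain ⟨k, hk⟩ := hodd
  refine ⟨k + 1, ?_⟩
  rw [← pow_add, show k + 1 + (k + 1) = (2 * k + 1) + 1 by ring, pow_succ, ← hk, pow_orderOf_eq_one,
    one_mul]

/-- if the involution `s` inverts `z = ω²`, `ω` a power of `z`, then `s z` is conjugate to `s` -/
theorem conj_of_inv {s z : G} (hs : s * s = 1) (h1 : s * z * s = z⁻¹) (k : ℕ) (hk : z ^ k * z ^ k = z) :
    (z ^ k)⁻¹ * s * z ^ k = s * z := by
  have is : s⁻¹ = s := inv_eq_of_mul_eq_one_left hs
  have hpow : ∀ k : ℕ, s * z ^ k * s = (z ^ k)⁻¹ := by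
    intro k
    induction k with
    | zero => rw [pow_zero, mul_one, hs, inv_one]
    | succ k ih =>
      calc s * z ^ (k + 1) * s = s * (z ^ k * z) * s := by rw [pow_succ]
        _ = s * z ^ k * (s * s) * z * s := by rw [hs]; group
        _ = (s * z ^ k * s) * (s * z * s) := by group
        _ = (z ^ (k + 1))⁻¹ := by rw [ih, h1]; group
  have h2 := hpow k
  calc (z ^ k)⁻¹ * s * z ^ k = (s * z ^ k * s) * s * z ^ k := by rw [h2]
    _ = s * z ^ k * (s * s) * z ^ k := by group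
    _ = _ := by rw [hs, mul_one, mul_assoc, hk]

/-- `c` is not in `B` -/
theorem c_not_mem (h : CtxO t c f) (D : Dat t c f A1) : c ∉ BB h D := by
  intro hc
  obtain ⟨n, hn⟩ := R_exists h D hc
  apply alpha_ne_inner n
  intro m
  have h1 := D.R_mul h (D.R_mul h hn (Dat.R_f (A1 := A1) h m)) (D.R_inv h hn)
  rw [h.act] at h1
  exact (R_uniq h D h1 (Dat.R_f h _)).symm

/-- surjectivity of `A₁ → M₁₂` -/
theorem A1_surj (h : CtxO t c f) (D : Dat t c f A1) (n : H) : ∃ a ∈ A1, R t f A1 a n := by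
  obtain ⟨a, ha, b, hb, h1⟩ := D.hf n
  refine ⟨a, ha, b⁻¹, A1.inv_mem hb, ?_⟩
  rw [h1]
  calc a = a * (t * b * (t * t) * b⁻¹ * t) := by rw [h.tt]; simp [mul_assoc, h.tt]
    _ = _ := by group

/-- every involution of `c B` is conjugate to `c` -/
theorem conj_c (h : CtxO t c f) [Finite G] (D : Dat t c f A1) {b : G} (hb : b ∈ BB h D)
    (hs : (c * b) * (c * b) = 1) : IsConj (c * b) c := by
  have cc := h.cc
  have ic := h.inv_c
  have tt := h.tt
  have hct := h.ct
  -- the general step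
  have step : ∀ b ∈ BB h D, (c * b) * (c * b) = 1 → ∃ a ∈ A1, R t f A1 (c * a * c * b * a⁻¹) 1 := by
    intro b hb hs
    obtain ⟨m, hm⟩ := R_exists h D hb
    have h1 := D.R_mul h (D.R_c h hm) hm
    have h2 : c * b * c⁻¹ * b = 1 := by rw [ic]; rw [← hs]; group
    rw [h2] at h1
    have h3 : R t f A1 (1 : G) 1 := by
      have := Dat.R_f (A1 := A1) h (1 : H)
      rwa [map_one] at this
    obtain ⟨n, hn⟩ := twisted m (R_uniq h D h1 h3)
    obtain ⟨a, ha, han⟩ := A1_surj h D n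
    refine ⟨a, ha, ?_⟩
    have h4 := D.R_mul h (D.R_mul h (D.R_c h han) hm) (D.R_inv h han)
    rw [hn] at h4
    have e1 : alpha n * ((alpha n)⁻¹ * n) * n⁻¹ = 1 := by group
    rw [e1, ic] at h4
    exact h4
  obtain ⟨a, ha, h1⟩ := step b hb hs
  obtain ⟨b1, hb1, h2⟩ := h1
  rw [map_one, one_mul] at h2
  -- `s₁ = a s a⁻¹ = c (t b₁ t)`
  have e1 : a * (c * b) * a⁻¹ = c * (t * b1 * t) := by
    rw [← h2]
    calc a * (c * b) * a⁻¹ = (c * c) * a * (c * b) * a⁻¹ := by rw [cc, one_mul]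
      _ = _ := by group
  have e2 : t * (a * (c * b) * a⁻¹) * t = c * b1 := by
    rw [e1]
    calc t * (c * (t * b1 * t)) * t = (t * c) * t * b1 * (t * t) := by group
      _ = c * (t * t) * b1 * (t * t) := by rw [← hct]; group
      _ = _ := by rw [tt]; group
  have hs1 : (c * b1) * (c * b1) = 1 := by
    rw [← e2]
    calc t * (a * (c * b) * a⁻¹) * t * (t * (a * (c * b) * a⁻¹) * t)
        = t * (a * (c * b) * a⁻¹) * (t * t) * (a * (c * b) * a⁻¹) * t := by group
      _ = t * a * ((c * b) * (c * b)) * a⁻¹ * t := by rw [tt]; group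
      _ = 1 := by rw [hs]; simp [mul_assoc, tt]
  obtain ⟨a1, ha1, h3⟩ := step b1 (A1_le h D hb1) hs1
  -- `z = c a₁ c b₁ a₁⁻¹ ∈ A₁ ∩ A₁^t`
  obtain ⟨z, hz⟩ : ∃ z, z = c * a1 * c * b1 * a1⁻¹ := ⟨_, rfl⟩
  rw [← hz] at h3
  have hzA : z ∈ A1 := by
    rw [hz]
    have h5 := D.hc a1 ha1
    rw [ic] at h5
    exact A1.mul_mem (A1.mul_mem h5 hb1) (A1.inv_mem ha1)
  have e3 : a1 * (c * b1) * a1⁻¹ = c * z := by
    rw [hz]
    calc a1 * (c * b1) * a1⁻¹ = (c * c) * a1 * (c * b1) * a1⁻¹ := by rw [cc, one_mul]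
      _ = _ := by group
  have hs2 : c * z * c = z⁻¹ := by
    have h6 : (c * z) * (c * z) = 1 := by
      rw [← e3]
      calc a1 * (c * b1) * a1⁻¹ * (a1 * (c * b1) * a1⁻¹) = a1 * ((c * b1) * (c * b1)) * a1⁻¹ := by group
        _ = 1 := by rw [hs1]; group
    exact eq_inv_of_mul_eq_one_left (by rw [← h6]; group)
  obtain ⟨-, k, hk⟩ := Z0_spec h D hzA h3
  have e4 := conj_of_inv cc hs2 k hk
  have k1 : IsConj (c * b) (a * (c * b) * a⁻¹) := isConj_iff.2 ⟨a, rfl⟩
  have k2 : IsConj (a * (c * b) * a⁻¹) (c * b1) := isConj_iff.2 ⟨t, by rw [h.inv_t]; exact e2⟩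
  have k3 : IsConj (c * b1) (c * z) := isConj_iff.2 ⟨a1, e3⟩
  have k4 : IsConj (c * z) c := isConj_iff.2 ⟨z ^ k, by rw [← e4]; group⟩
  exact k1.trans (k2.trans (k3.trans k4))

/-- elements of `A₁` commuting with `c` -/
theorem A1_cent (h : CtxO t c f) [Finite G] (D : Dat t c f A1) {u : H} (hu : alpha u = u) :
    ∃ a ∈ A1, c * a = a * c ∧ R t f A1 a u := by
  obtain ⟨a, ha, hau⟩ := A1_surj h D u
  have cc := h.cc
  have ic := h.inv_c
  obtain ⟨z, hz⟩ : ∃ z, z = a⁻¹ * (c * a * c⁻¹) := ⟨_, rfl⟩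
  have hzA : z ∈ A1 := by rw [hz]; exact A1.mul_mem (A1.inv_mem ha) (D.hc a ha)
  have hzR : R t f A1 z 1 := by
    have h1 := D.R_mul h (D.R_inv h hau) (D.R_c h hau)
    rw [hu, inv_mul_cancel, ← hz] at h1
    exact h1
  have hcz : c * z * c = z⁻¹ := by
    rw [hz, ic]
    calc c * (a⁻¹ * (c * a * c)) * c = c * a⁻¹ * c * a * (c * c) := by group
      _ = c * a⁻¹ * c⁻¹ * a := by rw [cc, ic, mul_one]
      _ = (a⁻¹ * (c * a * c⁻¹))⁻¹ := by group
      _ = _ := by rw [ic]
  obtain ⟨-, k, hk⟩ := Z0_spec h D hzA hzR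
  have hpow : ∀ k : ℕ, c * z ^ k * c = (z ^ k)⁻¹ := by
    intro k
    induction k with
    | zero => rw [pow_zero, mul_one, cc, inv_one]
    | succ k ih =>
      calc c * z ^ (k + 1) * c = c * (z ^ k * z) * c := by rw [pow_succ]
        _ = c * z ^ k * (c * c) * z * c := by rw [cc]; group
        _ = (c * z ^ k * c) * (c * z * c) := by group
        _ = (z ^ (k + 1))⁻¹ := by rw [ih, hcz]; group
  have hRpow : R t f A1 (z ^ k) 1 := by
    have : ∀ k : ℕ, R t f A1 (z ^ k) 1 := by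
      intro k
      induction k with
      | zero =>
        have := Dat.R_f (A1 := A1) h (1 : H)
        rw [map_one] at this
        rwa [pow_zero]
      | succ k ih =>
        have := D.R_mul h ih hzR
        rwa [mul_one, ← pow_succ] at this
    exact this k
  refine ⟨a * z ^ k, A1.mul_mem ha (A1.pow_mem hzA k), ?_, ?_⟩
  · have e1 : c * a = a * z * c := by rw [hz]; group
    have e2 : c * z ^ k = (z ^ k)⁻¹ * c := by
      rw [← hpow k, mul_assoc _ c c, cc, mul_one]
    calc c * (a * z ^ k) = (c * a) * z ^ k := by group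
      _ = a * z * (c * z ^ k) := by rw [e1]; group
      _ = a * (z ^ k * z ^ k) * (z ^ k)⁻¹ * c := by rw [e2, hk]; group
      _ = _ := by group
  · have := D.R_mul h hau hRpow
    rwa [mul_one] at this

end Cfsg.Agent.CoThreeStd.OutEnd
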