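import Cfsg.Agent.CoThreeStd.OutPat
import Cfsg.Agent.CoThreeStd.OutEnd

/-!
# S1750, `C_G(t) = ⟨t⟩ × M₁₂:2`: `t` is conjugate to `t b`, `b` in the class 2B (parity; helper984)
-/

set_option autoImplicit false

namespace Cfsg.Agent.CoThreeStd.OutPar

open Cfsg.Agent.CoThreeStd.MTwelve Cfsg.Agent.CoThreeStd.OutAut Cfsg.Agent.CoThreeStd.OutCtx
open Cfsg.Agent.CoThreeStd.InvTwo Cfsg.Agent.CoThreeStd.OutCent Cfsg.Agent.CoThreeStd.OutPat
open Cfsg.Agent.CoThreeStd.OutEnd Cfsg.Agent.CoThreeStd.Core

theorem even_of_inv {X : Type*} [Finite X] (e : X → X) (he : ∀ x, e (e x) = x) (hne : ∀ x, e x ≠ x) :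
    Even (Nat.card X) := by
  classical
  have : Fintype X := Fintype.ofFinite X
  have h2 : ∑ _z : X, (1 : ZMod 2) = 0 := by
    refine Finset.sum_involution (fun z _ => e z) ?_ ?_ ?_ ?_
    · intro z _; decide
    · intro z _ _; exact hne z
    · intro z _; exact Finset.mem_univ _
    · intro z _; exact he z
  rw [Finset.sum_const, nsmul_eq_mul, mul_one, ZMod.natCast_eq_zero_iff, Finset.card_univ] at h2
  rw [Nat.card_eq_fintype_card]
  exact (even_iff_two_dvd).2 h2

/-- the number of outer involutions is even -/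
theorem even_twisted : Even (Nat.card {m : H // alpha m * m = 1}) := by
  classical
  have yi : y⁻¹ = y := inv_eq_of_mul_eq_one_left y_sq
  -- the inverse of `m`
  have hinv : ∀ m : H, alpha m * m = 1 → alpha m = m⁻¹ := fun m h => eq_inv_of_mul_eq_one_left h
  let φ : H → H := fun m => if m * y = y * m then y * m else y * m * y
  have h1 : ∀ m, m * y = y * m → φ m = y * m := fun m h => if_pos h
  have h2 : ∀ m, ¬ m * y = y * m → φ m = y * m * y := fun m h => if_neg h
  have c1 : ∀ m, m * y = y * m → y * m * y = y * (y * m) := by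
    intro m h
    rw [mul_assoc, h]
  have c2 : ∀ m, ¬ m * y = y * m → ¬ (y * m * y) * y = y * (y * m * y) := by
    intro m h h3
    apply h
    have e1 : y * m * y * y = y * m := by rw [mul_assoc, y_sq, mul_one]
    have e2 : y * (y * m * y) = m * y := by
      calc y * (y * m * y) = (y * y) * m * y := by group
        _ = m * y := by rw [y_sq, one_mul]
    rw [e1, e2] at h3
    exact h3.symm
  have hφ : ∀ m, alpha m * m = 1 → alpha (φ m) * φ m = 1 := by
    intro m hm
    by_cases h : m * y = y * m
    · rw [h1 m h, map_mul, alpha_y]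
      have e : y * alpha m = alpha m * y := by
        rw [hinv m hm]
        have : Commute m y := h
        exact this.inv_left.eq.symm
      calc y * alpha m * (y * m) = alpha m * (y * y) * m := by rw [e]; group
        _ = 1 := by rw [y_sq, mul_one, hm]
    · rw [h2 m h, map_mul, map_mul, alpha_y]
      calc y * alpha m * y * (y * m * y) = y * alpha m * (y * y) * m * y := by group
        _ = y * (alpha m * m) * y := by rw [y_sq]; group
        _ = 1 := by rw [hm, mul_one, y_sq]
  refine even_of_inv (fun x : {m : H // alpha m * m = 1} => ⟨φ x.1, hφ x.1 x.2⟩) ?_ ?_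
  · rintro ⟨m, hm⟩
    apply Subtype.ext
    show φ (φ m) = m
    by_cases h : m * y = y * m
    · rw [h1 m h, h1 (y * m) (by rw [← c1 m h, mul_assoc])]
      rw [← mul_assoc, y_sq, one_mul]
    · rw [h2 m h, h2 _ (c2 m h)]
      calc y * (y * m * y) * y = (y * y) * m * (y * y) := by group
        _ = m := by rw [y_sq, one_mul, mul_one]
  · rintro ⟨m, hm⟩ he
    have he' : φ m = m := congrArg Subtype.val he
    by_cases h : m * y = y * m
    · rw [h1 m h] at he'
      exact y_ne_one (mul_eq_right.1 he')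
    · rw [h2 m h] at he'
      apply h
      calc m * y = (y * m * y) * y := by rw [he']
        _ = y * m := by rw [mul_assoc, y_sq, mul_one]

variable {G : Type*} [Group G] {t c : G} {f : H →* G}

/-- **`t ~ t b`.** -/
theorem conj_t_mul_b [Finite G] {inner 𝒟 : G → Prop} (P : PD t inner 𝒟) (h : CtxO t c f)
    (hin : ∀ m, inner (t * f m)) {b : H} (hb : IsB b) : IsConj t (t * f b) := by
  classical
  by_contra hne
  have tt := h.tt
  have cc := h.cc
  have ct := h.ct
  have hft : ∀ m, t * f m * t = t * (t * f m) := by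
    intro m
    rw [mul_assoc, h.comm]
  have hconj : ∀ m n : H, f n * (t * f m) * (f n)⁻¹ = t * f (n * m * n⁻¹) := by
    intro m n
    calc f n * (t * f m) * (f n)⁻¹ = (f n * t) * f m * (f n)⁻¹ := by group
      _ = t * (f n * f m * (f n)⁻¹) := by rw [h.comm]; group
      _ = _ := by rw [map_mul, map_mul, map_inv]
  have hB : ∀ m, IsB m → ¬ 𝒟 (t * f m) := by
    intro m hm h1
    apply hne
    refine (P.comm _ h1 (hft m) (hin m)).trans ?_
    obtain ⟨k, hk⟩ := inv2.conjB _ _ hm hb
    exact isConj_iff.2 ⟨f k, by rw [hconj, hk]⟩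
  -- the inner part
  have h1D : 𝒟 (t * f 1) := by rw [map_one, mul_one]; exact P.mem
  have hS1 : Odd (Nat.card {m : H // 𝒟 (t * f m)}) := by
    have hc : ∀ m, 𝒟 (t * f m) → m = 1 ∨ IsA m := by
      intro m hm
      by_cases hm1 : m = 1
      · exact Or.inl hm1
      right
      have h2 : m * m = 1 := by
        apply h.inj
        rw [map_mul, map_one]
        calc f m * f m = t * (t * f m) * f m := by rw [← mul_assoc t, tt, one_mul]
          _ = t * f m * t * f m := by rw [← hft]
          _ = t * f m * (t * f m) := by group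
          _ = 1 := P.sq _ hm
      rcases inv2.cases m h2 hm1 with h3 | h3
      · exact h3
      · exact absurd hm (hB m h3)
    by_cases hy : 𝒟 (t * f y)
    · have hiff : ∀ m, 𝒟 (t * f m) ↔ m = 1 ∨ IsA m := by
        intro m
        refine ⟨hc m, ?_⟩
        rintro (rfl | h3)
        · exact h1D
        · obtain ⟨k, hk⟩ := inv2.conjA _ _ isA_y h3
          rw [← hk, ← hconj]
          exact P.conj _ _ hy
      have e1 : Nat.card {m : H // 𝒟 (t * f m)} = Nat.card ({m : H // m = 1} ⊕ {m : H // IsA m}) := by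
        refine (Nat.card_congr (Equiv.subtypeEquivRight hiff)).trans (Nat.card_congr (subtypeOrEquiv _ _ ?_))
        rw [Pi.disjoint_iff]
        intro m
        rw [Prop.disjoint_iff]
        rintro ⟨h4, h5⟩
        exact (inv2.invA m h5).2 h4
      rw [e1, Nat.card_sum]
      have e2 : Nat.card {m : H // m = 1} = 1 := by
        rw [Nat.card_eq_one_iff_unique]
        exact ⟨⟨fun a b => Subtype.ext (a.2.trans b.2.symm)⟩, ⟨⟨1, rfl⟩⟩⟩
      rw [e2]
      exact odd_one.add_even inv2.evenA
    · have hiff : ∀ m, 𝒟 (t * f m) ↔ m = 1 := by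
        intro m
        refine ⟨fun h3 => ?_, ?_⟩
        · rcases hc m h3 with h4 | h4
          · exact h4
          · exfalso
            apply hy
            obtain ⟨k, hk⟩ := inv2.conjA _ _ h4 isA_y
            rw [← hk, ← hconj]
            exact P.conj _ _ h3
        · rintro rfl
          exact h1D
      have e2 : Nat.card {m : H // 𝒟 (t * f m)} = 1 := by
        rw [Nat.card_eq_one_iff_unique]
        exact ⟨⟨fun a b => Subtype.ext (((hiff _).1 a.2).trans ((hiff _).1 b.2).symm)⟩, ⟨⟨1, h1D⟩⟩⟩
      rw [e2]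
      exact odd_one
  -- the outer part
  have hS2 : Even (Nat.card {m : H // 𝒟 (t * (c * f m))}) := by
    have hsq : ∀ m, 𝒟 (t * (c * f m)) → alpha m * m = 1 := by
      intro m hm
      apply h.inj
      rw [map_mul, map_one]
      calc f (alpha m) * f m = f (alpha m) * (c * c) * f m := by rw [cc, mul_one]
        _ = (c * f m) * c * f m := by rw [h.cf]; group
        _ = (t * t) * (c * f m) * c * f m := by rw [tt, one_mul]
        _ = t * (c * t) * f m * (c * f m) := by rw [ct]; group
        _ = t * c * (f m * t) * (c * f m) := by rw [h.comm]; group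
        _ = t * (c * f m) * (t * (c * f m)) := by group
        _ = 1 := P.sq _ hm
    have hcc : ∀ n, (f n)⁻¹ * (t * c) * f n = t * (c * f ((alpha n)⁻¹ * n)) := by
      intro n
      have e1 : (f n)⁻¹ * t = t * (f n)⁻¹ := by rw [← map_inv]; exact h.comm _
      have e2 : (f n)⁻¹ * c = c * f (alpha n)⁻¹ := by
        rw [h.cf, map_inv, map_inv, alpha_alpha]
      calc (f n)⁻¹ * (t * c) * f n = t * ((f n)⁻¹ * c) * f n := by rw [← mul_assoc, e1]; group
        _ = _ := by rw [e2, map_mul]; group
    by_cases hD : 𝒟 (t * c)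
    · have hiff : ∀ m, 𝒟 (t * (c * f m)) ↔ alpha m * m = 1 := by
        intro m
        refine ⟨hsq m, fun h3 => ?_⟩
        obtain ⟨n, rfl⟩ := twisted m h3
        rw [← hcc]
        have := P.conj _ (f n)⁻¹ hD
        rwa [inv_inv] at this
      rw [Nat.card_congr (Equiv.subtypeEquivRight hiff)]
      exact even_twisted
    · have hemp : IsEmpty {m : H // 𝒟 (t * (c * f m))} := by
        refine ⟨?_⟩
        rintro ⟨m, hm⟩
        obtain ⟨n, rfl⟩ := twisted m (hsq m hm)
        apply hD
        rw [← hcc] at hm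
        have := P.conj _ (f n) hm
        have e : f n * ((f n)⁻¹ * (t * c) * f n) * (f n)⁻¹ = t * c := by group
        rwa [e] at this
      rw [Nat.card_of_isEmpty]
      exact Even.zero
  -- the subgroup
  have hn1 : ∀ g ∈ f.range, c * g * c ∈ f.range := by
    rintro _ ⟨m, rfl⟩
    exact ⟨alpha m, by rw [← h.act, h.inv_c]⟩
  set C₀ := dbl f.range c cc hn1 with hC₀
  have hmem : ∀ g, g ∈ C₀ ↔ ∃ m, g = f m ∨ g = c * f m := by
    intro g
    rw [hC₀, mem_dbl]
    constructor
    · rintro (⟨m, h1⟩ | ⟨m, h1⟩)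
      · exact ⟨m, Or.inl h1.symm⟩
      · exact ⟨m, Or.inr (by rw [h1, ← mul_assoc, cc, one_mul])⟩
    · rintro ⟨m, h1 | h1⟩
      · exact Or.inl ⟨m, h1.symm⟩
      · exact Or.inr ⟨m, by rw [h1, ← mul_assoc, cc, one_mul]⟩
  have hn2 : ∀ g ∈ C₀, t * g * t ∈ C₀ := by
    intro g hg
    have e : t * g * t = g := by
      obtain ⟨m, h1 | h1⟩ := (hmem g).1 hg
      · rw [h1, mul_assoc, h.comm, ← mul_assoc, tt, one_mul]
      · rw [h1]
        calc t * (c * f m) * t = t * c * (f m * t) := by group
          _ = t * (c * t) * f m := by rw [h.comm]; group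
          _ = (t * t) * (c * f m) := by rw [ct]; group
          _ = _ := by rw [tt, one_mul]
    rwa [e]
  have htC : t ∉ C₀ := by
    intro h1
    obtain ⟨m, h2 | h2⟩ := (hmem t).1 h1
    · exact h.nmem m h2.symm
    · apply (h.c_ne m⁻¹).2
      rw [map_inv, eq_mul_inv_iff_mul_eq]
      exact h2.symm
  have hC : dbl C₀ t tt hn2 = Subgroup.centralizer ({t} : Set G) := by
    ext g
    rw [mem_dbl, Subgroup.mem_centralizer_singleton_iff]
    have k1 : ∀ g, g ∈ C₀ → g * t = t * g := by
      intro g hg
      have := hn2 g hg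
      obtain ⟨m, h1 | h1⟩ := (hmem g).1 hg
      · rw [h1, h.comm]
      · rw [h1]
        calc c * f m * t = c * (f m * t) := by group
          _ = (c * t) * f m := by rw [h.comm]; group
          _ = _ := by rw [ct]; group
    constructor
    · rintro (h1 | h1)
      · exact k1 g h1
      · have h2 := k1 _ h1
        calc g * t = (t * t) * g * t := by rw [tt, one_mul]
          _ = t * (t * g * t) := by group
          _ = t * (t * (t * g)) := by rw [h2]
          _ = (t * t) * (t * g) := by group
          _ = t * g := by rw [tt, one_mul]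
    · intro h1
      obtain ⟨m, h2 | h2 | h2 | h2⟩ := h.cent g h1
      · exact Or.inl ((hmem g).2 ⟨m, Or.inl h2⟩)
      · exact Or.inr ((hmem _).2 ⟨m, Or.inl (by rw [h2, ← mul_assoc, tt, one_mul])⟩)
      · exact Or.inl ((hmem g).2 ⟨m, Or.inr h2⟩)
      · exact Or.inr ((hmem _).2 ⟨m, Or.inr (by rw [h2, ← mul_assoc, tt, one_mul])⟩)
  have hrel := relIndex_dbl (hτ := tt) (hn := hn2) htC
  rw [hC] at hrel
  have hev := P.even C₀ (by rw [← hC]; exact le_dbl) hrel
  have hcard : Nat.card {x : G // 𝒟 x ∧ x * t = t * x ∧ x ∉ C₀} =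
      Nat.card ({m : H // 𝒟 (t * f m)} ⊕ {m : H // 𝒟 (t * (c * f m))}) := by
    symm
    have k2 : ∀ m, t * f m ∉ C₀ := by
      intro m hm
      apply htC
      have h3 : f m⁻¹ ∈ C₀ := (hmem _).2 ⟨_, Or.inl rfl⟩
      have := C₀.mul_mem hm h3
      rwa [map_inv, mul_inv_cancel_right] at this
    have k3 : ∀ m, t * (c * f m) ∉ C₀ := by
      intro m hm
      apply htC
      have h3 : c * f m ∈ C₀ := (hmem _).2 ⟨_, Or.inr rfl⟩
      have := C₀.mul_mem hm (C₀.inv_mem h3)
      rwa [mul_inv_cancel_right] at this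
    have k4 : ∀ m, t * (c * f m) * t = t * (t * (c * f m)) := by
      intro m
      calc t * (c * f m) * t = t * c * (f m * t) := by group
        _ = t * (c * t) * f m := by rw [h.comm]; group
        _ = _ := by rw [ct]; group
    apply Nat.card_congr
    refine Equiv.ofBijective (Sum.elim (fun m => ⟨t * f m.1, m.2, hft _, k2 _⟩)
      (fun m => ⟨t * (c * f m.1), m.2, k4 _, k3 _⟩)) ⟨?_, ?_⟩
    · rintro (⟨a, ha⟩ | ⟨a, ha⟩) (⟨b', hb'⟩ | ⟨b', hb'⟩) he
      · have h1 : t * f a = t * f b' := congrArg Subtype.val he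
        have h2 := h.inj (mul_left_cancel h1)
        subst h2
        rfl
      · exfalso
        have h1 : t * f a = t * (c * f b') := congrArg Subtype.val he
        apply (h.c_ne (a * b'⁻¹)).1
        rw [map_mul, map_inv, mul_left_cancel h1, mul_inv_cancel_right]
      · exfalso
        have h1 : t * (c * f a) = t * f b' := congrArg Subtype.val he
        apply (h.c_ne (b' * a⁻¹)).1
        rw [map_mul, map_inv, ← mul_left_cancel h1, mul_inv_cancel_right]
      · have h1 : t * (c * f a) = t * (c * f b') := congrArg Subtype.val he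
        have h2 := h.inj (mul_left_cancel (mul_left_cancel h1))
        subst h2
        rfl
    · rintro ⟨g, hg, hgt, hgC⟩
      obtain ⟨m, h2 | h2 | h2 | h2⟩ := h.cent g hgt
      · exact absurd ((hmem g).2 ⟨m, Or.inl h2⟩) hgC
      · exact ⟨Sum.inl ⟨m, by rw [← h2]; exact hg⟩, Subtype.ext h2.symm⟩
      · exact absurd ((hmem g).2 ⟨m, Or.inr h2⟩) hgC
      · exact ⟨Sum.inr ⟨m, by rw [← h2]; exact hg⟩, Subtype.ext h2.symm⟩
  rw [hcard, Nat.card_sum] at hev
  have hodd := hS1.add_even hS2
  rw [← Nat.not_even_iff_odd] at hodd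
  exact hodd hev

end Cfsg.Agent.CoThreeStd.OutPar
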