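import Cfsg.Agent.CoThreeStd.OutT
import Cfsg.Agent.CoThreeStd.SuzP.Pres

/-!
# S1750, pattern P3 (`Suz:2`): all the relators of `SuzP.Pres.P` (helper810)

`gg t c d f : Lt → G`; `base`: every relator of `Pres.rels` but the last one holds; `exists_last`: the last one holds up
to an element of the elementary abelian group of order 32.
-/

set_option autoImplicit false

namespace Cfsg.Agent.CoThreeStd.OutT

open Cfsg.Agent.CoThreeStd.MTwelve hiding w cj
open Cfsg.Agent.CoThreeStd.OutAut Cfsg.Agent.CoThreeStd.OutCtx
open Cfsg.Agent.CoThreeStd.SuzP.Data (Lt)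
open Cfsg.Agent.CoThreeStd.SuzP.Pres (rels)

variable {G : Type*} [Group G] {t c d : G} {f : H →* G}

/-- the letters -/
def gg (t c d : G) (f : H →* G) : Lt → G
  | .y => f y
  | .p => f p
  | .q => f q
  | .r => f r
  | .s => f s
  | .b => f b
  | .c => c
  | .t => t
  | .d => d
  | .D => d⁻¹

/-- the last relator -/
def lastR : List Lt := [.D, .s, .b, .y, .p, .r, .b, .s, .d, .q, .s, .b, .y, .p, .r, .b, .s, .d, .q, .s, .b, .y, .p, .r,
  .b, .s, .q]

/-- the letters of `M₁₂` -/
def code : Lt → Option ℕ
  | .y => some 0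
  | .p => some 1
  | .q => some 2
  | .r => some 3
  | .s => some 4
  | .b => some 5
  | _ => none

/-- the word in `M₁₂` -/
def codes (w : List Lt) : List ℕ := w.filterMap code

theorem gg_code (l : Lt) (h : (code l).isSome = true) : ∀ k, code l = some k → gg t c d f l = f (gen k) := by
  intro k hk
  cases l <;> simp [code] at hk h <;> subst hk <;> rfl

theorem prod_M (w : List Lt) (h : w.all (fun l => (code l).isSome) = true) :
    (w.map (gg t c d f)).prod = f (wd (codes w)) := by
  induction w with
  | nil => simp [codes, wd_nil]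
  | cons l w ih =>
    rw [List.all_cons, Bool.and_eq_true] at h
    obtain ⟨k, hk⟩ := Option.isSome_iff_exists.1 h.1
    have h2 : codes (l :: w) = k :: codes w := List.filterMap_cons_some hk
    rw [List.map_cons, List.prod_cons, ih h.2, gg_code l h.1 k hk, h2, wd_cons, map_mul]

theorem rel_M (w : List Lt) (h : w.all (fun l => (code l).isSome) = true) (h1 : eqW (codes w) [] = true) :
    (w.map (gg t c d f)).prod = 1 := by
  rw [prod_M w h, wd_eq h1, wd_nil, map_one]

theorem cxcx (C : CtxO t c f) (l l' : List ℕ) (h : eqW (aw l ++ l') [] = true) :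
    c * (f (wd l) * (c * f (wd l'))) = 1 := by
  have h1 := wd_eq h
  rw [wd_append, ← alpha_wd, wd_nil] at h1
  calc c * (f (wd l) * (c * f (wd l'))) = (c * f (wd l)) * c * f (wd l') := by group
    _ = f (alpha (wd l)) * (c * c) * f (wd l') := by rw [C.cf]; group
    _ = 1 := by rw [C.cc, mul_one, ← map_mul, h1, map_one]

theorem txtx (C : CtxO t c f) (k : ℕ) : t * (f (gen k) * (t * f (gen k))) = 1 := by
  calc t * (f (gen k) * (t * f (gen k))) = t * (f (gen k) * t) * f (gen k) := by group
    _ = t * (t * f (gen k)) * f (gen k) := by rw [C.comm]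
    _ = (t * t) * (f (gen k) * f (gen k)) := by group
    _ = 1 := by rw [C.tt, one_mul, ← map_mul, gen_sq, map_one]


namespace TrD

variable (T : TrD t c d f)
include T

theorem dtd : d⁻¹ * (t * (d * (c * t))) = 1 := by
  have C := T.C
  calc d⁻¹ * (t * (d * (c * t))) = (d⁻¹ * t * d) * (c * t) := by group
    _ = t * (c * c) * t := by rw [T.dt]; group
    _ = 1 := by rw [C.cc, mul_one, C.tt]

theorem dtcd : d⁻¹ * (t * (c * (d * (f y * (c * t))))) = 1 := by
  have C := T.C
  have yy : f y * f y = 1 := by rw [← map_mul, y_sq, map_one]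
  calc d⁻¹ * (t * (c * (d * (f y * (c * t))))) = (d⁻¹ * (t * c) * d) * (f y * (c * t)) := by group
    _ = t * c * (f y * f y) * c * t := by rw [T.dtc]; group
    _ = t * (c * c) * t := by rw [yy, mul_one]; group
    _ = 1 := by rw [C.cc, mul_one, C.tt]

theorem base : ∀ w ∈ rels, w = lastR ∨ (w.map (gg t c d f)).prod = 1 := by
  have C := T.C
  have hM : ∀ w ∈ rels, w.all (fun l => (code l).isSome) = true → eqW (codes w) [] = true := by decide +kernel
  intro w hw
  by_cases hm : w.all (fun l => (code l).isSome) = true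
  · exact Or.inr (rel_M w hm (hM w hw hm))
  have hl : w ∈ rels.filter (fun w => !(w.all (fun l => (code l).isSome))) := by
    rw [List.mem_filter]
    exact ⟨hw, by simpa using hm⟩
  have e : rels.filter (fun w => !(w.all (fun l => (code l).isSome))) = [
      [.c, .c], [.t, .t], [.d, .D], [.D, .d],
      [.c, .y, .c, .y], [.c, .p, .c, .p, .y], [.c, .q, .c, .q, .y], [.c, .r, .c, .r, .y], [.c, .s, .c, .s, .y],
      [.c, .b, .c, .s, .p, .b, .s, .p],
      [.t, .y, .t, .y], [.t, .p, .t, .p], [.t, .q, .t, .q], [.t, .r, .t, .r], [.t, .s, .t, .s], [.t, .b, .t, .b],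
      [.t, .c, .t, .c], [.d, .d, .d], [.D, .t, .d, .c, .t], [.D, .t, .c, .d, .y, .c, .t],
      [.p, .d, .p, .d], [.q, .d, .q, .d], [.r, .d, .r, .d], [.s, .d, .s, .d], lastR] := by decide +kernel
  rw [e] at hl
  simp only [List.mem_cons, List.not_mem_nil, or_false] at hl
  have hp : ∀ (l l' : List ℕ), eqW (aw l ++ l') [] = true → c * (f (wd l) * (c * f (wd l'))) = 1 :=
    fun l l' h => cxcx C l l' h
  rcases hl with rfl | rfl | rfl | rfl | rfl | rfl | rfl | rfl | rfl | rfl | rfl | rfl | rfl | rfl | rfl | rfl | rfl |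
    rfl | rfl | rfl | rfl | rfl | rfl | rfl | rfl
  · right; simp only [List.map_cons, List.map_nil, List.prod_cons, List.prod_nil, mul_one, gg]; exact C.cc
  · right; simp only [List.map_cons, List.map_nil, List.prod_cons, List.prod_nil, mul_one, gg]; exact C.tt
  · right; simp only [List.map_cons, List.map_nil, List.prod_cons, List.prod_nil, mul_one, gg]
    exact mul_inv_cancel d
  · right; simp only [List.map_cons, List.map_nil, List.prod_cons, List.prod_nil, mul_one, gg]
    exact inv_mul_cancel d
  · right; simp only [List.map_cons, List.map_nil, List.prod_cons, List.prod_nil, mul_one, gg]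
    have h := hp [0] [0] (by decide +kernel)
    simpa only [wd_y] using h
  · right; simp only [List.map_cons, List.map_nil, List.prod_cons, List.prod_nil, mul_one, gg]
    have h := hp [1] [1, 0] (by decide +kernel)
    simpa [wd, gen] using h
  · right; simp only [List.map_cons, List.map_nil, List.prod_cons, List.prod_nil, mul_one, gg]
    have h := hp [2] [2, 0] (by decide +kernel)
    simpa [wd, gen] using h
  · right; simp only [List.map_cons, List.map_nil, List.prod_cons, List.prod_nil, mul_one, gg]
    have h := hp [3] [3, 0] (by decide +kernel)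
    simpa [wd, gen] using h
  · right; simp only [List.map_cons, List.map_nil, List.prod_cons, List.prod_nil, mul_one, gg]
    have h := hp [4] [4, 0] (by decide +kernel)
    simpa [wd, gen] using h
  · right; simp only [List.map_cons, List.map_nil, List.prod_cons, List.prod_nil, mul_one, gg]
    have h := hp [5] [4, 1, 5, 4, 1] (by decide +kernel)
    simpa [wd, gen] using h
  · right; simp only [List.map_cons, List.map_nil, List.prod_cons, List.prod_nil, mul_one, gg]; exact txtx C 0
  · right; simp only [List.map_cons, List.map_nil, List.prod_cons, List.prod_nil, mul_one, gg]; exact txtx C 1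
  · right; simp only [List.map_cons, List.map_nil, List.prod_cons, List.prod_nil, mul_one, gg]; exact txtx C 2
  · right; simp only [List.map_cons, List.map_nil, List.prod_cons, List.prod_nil, mul_one, gg]; exact txtx C 3
  · right; simp only [List.map_cons, List.map_nil, List.prod_cons, List.prod_nil, mul_one, gg]; exact txtx C 4
  · right; simp only [List.map_cons, List.map_nil, List.prod_cons, List.prod_nil, mul_one, gg]; exact txtx C 5
  · right; simp only [List.map_cons, List.map_nil, List.prod_cons, List.prod_nil, mul_one, gg]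
    calc t * (c * (t * c)) = t * (c * t) * c := by group
      _ = (t * t) * (c * c) := by rw [C.ct]; group
      _ = 1 := by rw [C.tt, C.cc, one_mul]
  · right; simp only [List.map_cons, List.map_nil, List.prod_cons, List.prod_nil, mul_one, gg]
    rw [← mul_assoc]; exact T.ddd
  · right; simp only [List.map_cons, List.map_nil, List.prod_cons, List.prod_nil, mul_one, gg]; exact T.dtd
  · right; simp only [List.map_cons, List.map_nil, List.prod_cons, List.prod_nil, mul_one, gg]; exact T.dtcd
  · right; simp only [List.map_cons, List.map_nil, List.prod_cons, List.prod_nil, mul_one, gg]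
    rw [← mul_assoc]; exact T.dp
  · right; simp only [List.map_cons, List.map_nil, List.prod_cons, List.prod_nil, mul_one, gg]
    rw [← mul_assoc]; exact T.dq
  · right; simp only [List.map_cons, List.map_nil, List.prod_cons, List.prod_nil, mul_one, gg]
    rw [← mul_assoc]; exact T.dr
  · right; simp only [List.map_cons, List.map_nil, List.prod_cons, List.prod_nil, mul_one, gg]
    rw [← mul_assoc]; exact T.ds
  · exact Or.inl rfl

/-- the 32 words -/
def eW (a0 a1 a2 a3 a4 : Bool) : List Lt :=
  (if a0 then [.t] else []) ++ ((if a1 then [.y] else []) ++ ((if a2 then [.c] else []) ++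
    ((if a3 then [.p, .r] else []) ++ (if a4 then [.q, .p, .r, .q] else []))))

end TrD

open TrD in
theorem prod_eW (a0 a1 a2 a3 a4 : Bool) : ((eW a0 a1 a2 a3 a4).map (gg t c d f)).prod =
    pw a0 t * (pw a1 (f y) * (pw a2 c * (pw a3 (f v1) * pw a4 (f v2)))) := by
  have h1 : f v1 = f p * f r := map_mul f _ _
  have h2 : f v2 = f q * (f p * (f r * f q)) := by
    rw [v2, map_mul, map_mul, map_mul]; group
  rw [h1, h2]
  cases a0 <;> cases a1 <;> cases a2 <;> cases a3 <;> cases a4 <;>
    simp [eW, pw, gg, mul_assoc]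

theorem pw_sq {g : G} (h : g * g = 1) (a : Bool) : pw a g * pw a g = 1 := by
  cases a <;> simp [pw, h]

/-- an element of `E32` is an involution or `1` -/
theorem E_sq (C : CtxO t c f) (a0 a1 a2 a3 a4 : Bool) :
    pw a0 t * (pw a1 (f y) * (pw a2 c * (pw a3 (f v1) * pw a4 (f v2)))) *
      (pw a0 t * (pw a1 (f y) * (pw a2 c * (pw a3 (f v1) * pw a4 (f v2))))) = 1 := by
  have F := five C
  have key : ∀ a b : G, Commute a b → a * a = 1 → b * b = 1 → a * b * (a * b) = 1 := by
    intro a b hab ha hb
    calc a * b * (a * b) = a * (b * a) * b := by group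
      _ = a * (a * b) * b := by rw [hab.eq]
      _ = (a * a) * (b * b) := by group
      _ = 1 := by rw [ha, hb, one_mul]
  have k3 := key _ _ (pw_comm F.c34 a3 a4) (pw_sq F.s3 a3) (pw_sq F.s4 a4)
  have k2 := key _ _ ((pw_comm F.c23 a2 a3).mul_right (pw_comm F.c24 a2 a4)) (pw_sq F.s2 a2) k3
  have k1 := key _ _ ((pw_comm F.c12 a1 a2).mul_right ((pw_comm F.c13 a1 a3).mul_right (pw_comm F.c14 a1 a4)))
    (pw_sq F.s1 a1) k2
  exact key _ _ ((pw_comm F.c01 a0 a1).mul_right ((pw_comm F.c02 a0 a2).mul_right
    ((pw_comm F.c03 a0 a3).mul_right (pw_comm F.c04 a0 a4)))) (pw_sq F.s0 a0) k1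

theorem prod_lastR : (lastR.map (gg t c d f)).prod =
    d⁻¹ * f nn * d * f q * f nn * d * f q * f nn * f q := by
  have h1 : f nn = f s * (f b * (f y * (f p * (f r * (f b * f s))))) := by
    simp only [nn, wd, gen, List.map_cons, List.map_nil, List.prod_cons, List.prod_nil, mul_one, map_mul]
  rw [h1]
  simp only [lastR, gg, List.map_cons, List.map_nil, List.prod_cons, List.prod_nil, mul_one, mul_assoc]

open TrD in
/-- **the last relator**, up to an element of `E32` -/
theorem TrD.exists_last (T : TrD t c d f) : ∃ a0 a1 a2 a3 a4 : Bool,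
    ((lastR ++ eW a0 a1 a2 a3 a4).map (gg t c d f)).prod = 1 := by
  obtain ⟨a0, a1, a2, a3, a4, h⟩ := T.exists_r0
  refine ⟨a0, a1, a2, a3, a4, ?_⟩
  rw [List.map_append, List.prod_append, prod_lastR, h, prod_eW]
  exact E_sq T.C a0 a1 a2 a3 a4

end Cfsg.Agent.CoThreeStd.OutT
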