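import Cfsg.Agent.CoThreeStd.AltInner
import Cfsg.Agent.CoThreeStd.OutD
import Cfsg.Agent.CoThreeStd.OutPar
import Cfsg.Agent.CoThreeStd.OutPD
import Cfsg.Agent.CoThreeStd.OutDMain
import Cfsg.Agent.CoThreeStd.OutTRel
import Cfsg.Agent.CoThreeStd.OutMain
import Cfsg.Agent.CoThreeStd.SuzU.Mod
import Cfsg.Agent.CoThreeStd.SuzU.AFacts
import Cfsg.Agent.CoThreeStd.SuzP.ROne
import Cfsg.Agent.CoThreeStd.SuzP.CollMain
import Cfsg.Agent.CoThreeStd.Core.Split

/-!
# S1750, `C(t) = ⟨t⟩ × M₁₂:2` is impossible (helper781)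

`outerDead (hUB : UB) : OuterDead`: dispatch over the conjugates of `t` in `⟨t, c⟩`.
-/

set_option autoImplicit false

namespace Cfsg.Agent.CoThreeStd.OutDead

open Cfsg.Agent.CoThreeStd.MTwelve hiding w cj
open Cfsg.Agent.CoThreeStd.InvTwo Cfsg.Agent.CoThreeStd.Fusion
open Cfsg.Agent.CoThreeStd.OutAut Cfsg.Agent.CoThreeStd.OutCtx Cfsg.Agent.CoThreeStd.Core
open Cfsg.Agent.CoThreeStd.SuzP.Data (Lt)
open Cfsg.Agent.CoThreeStd.SuzP.Pres (rels)
open Cfsg.Agent.SporRec.Co3 (P5)

variable {G : Type*} [Group G] {t c : G} {f : H →* G}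

/-- elements of `C(F)` commute with `f (w σ)`, `σ` even -/
theorem even_comm {d : G} (hd : d ∈ OutCent.Y f) :
    ∀ σ : P5, Equiv.Perm.sign σ = 1 → d * f (MTwelve.w σ) = f (MTwelve.w σ) * d := by
  obtain ⟨h1, -, h3⟩ := OutCent.mem_Y.1 hd
  have ha : Commute d (f (MTwelve.w AltInner.a)) := by
    show d * f (MTwelve.w AltInner.a) = f (MTwelve.w AltInner.a) * d
    rw [show AltInner.a = OutCent.a1 from rfl, OutCent.w_a1]
    exact h1
  have hb : Commute d (f (MTwelve.w AltInner.b)) := by
    show d * f (MTwelve.w AltInner.b) = f (MTwelve.w AltInner.b) * d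
    rw [show AltInner.b = OutCent.a3 from rfl, OutCent.w_a3]
    exact h3
  have key : ∀ l, Commute d (f (MTwelve.w (AltInner.ev l))) := by
    intro l
    induction l with
    | nil =>
      rw [show AltInner.ev [] = 1 from rfl, map_one, map_one]
      exact Commute.one_right _
    | cons k l ih =>
      have e : AltInner.ev (k :: l) = (if k then AltInner.a else AltInner.b) * AltInner.ev l := rfl
      rw [e, map_mul, map_mul]
      refine Commute.mul_right ?_ ih
      split_ifs
      · exact ha
      · exact hb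
  intro σ hσ
  obtain ⟨l, -, rfl⟩ := AltInner.all_even σ hσ
  exact (key l).eq

theorem sq_of {a d : G} (h : a * d * a = d⁻¹) : a * d * (a * d) = 1 := by
  rw [← mul_assoc, h, inv_mul_cancel]

theorem trD (h : CtxO t c f) {d : G} (D : OutD.Dd t c f d) : OutT.TrD t c d f where
  C := h
  ddd := D.ddd
  dt := by
    have h1 := D.toAct.ee_inv h true false false
    rw [OutPat.e100] at h1
    rw [h1]
    exact OutPat.e110
  dtc := by
    have h1 := D.toAct.ee_inv h true true false
    rw [OutPat.e110] at h1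
    rw [h1, mul_assoc]
    exact OutPat.e111
  dw := even_comm D.mem
  dp := sq_of D.dp
  dq := sq_of D.dq
  dr := sq_of D.dr
  ds := sq_of D.ds

/-- `C(t)` is contained in the group generated by the letters -/
theorem cent_le (h : CtxO t c f) (d : G) {x : G} (hx : x * t = t * x) :
    x ∈ Subgroup.closure (Set.range (OutT.gg t c d f)) := by
  have hg : ∀ l, OutT.gg t c d f l ∈ Subgroup.closure (Set.range (OutT.gg t c d f)) :=
    fun l => Subgroup.subset_closure ⟨l, rfl⟩
  have ht := hg .t
  have hc := hg .c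
  have hm : ∀ m : H, f m ∈ Subgroup.closure (Set.range (OutT.gg t c d f)) := by
    have h1 : (⊤ : Subgroup H) ≤ (Subgroup.closure (Set.range (OutT.gg t c d f))).comap f := by
      rw [← closure_gen, Subgroup.closure_le]
      rintro m hm
      simp only [Set.mem_insert_iff, Set.mem_singleton_iff] at hm
      rcases hm with rfl | rfl | rfl | rfl | rfl | rfl
      · exact hg .y
      · exact hg .p
      · exact hg .q
      · exact hg .r
      · exact hg .s
      · exact hg .b
    exact fun m => h1 (Subgroup.mem_top m)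
  obtain ⟨m, h1 | h1 | h1 | h1⟩ := h.cent x hx
  · rw [h1]; exact hm m
  · rw [h1]; exact mul_mem ht (hm m)
  · rw [h1]; exact mul_mem hc (hm m)
  · rw [h1]; exact mul_mem ht (mul_mem hc (hm m))

/-- the relator `r1` -/
theorem r1_ok (h : CtxO t c f) {d : G} (hr : ∀ w ∈ rels, (w.map (OutT.gg t c d f)).prod = 1) :
    (SuzU.r1.map (OutT.gg t c d f)).prod = 1 := by
  have hk : (SuzU.AFacts.kW.map (OutT.gg t c d f)).prod = f SuzP.ROne.kk := by
    simp only [SuzU.AFacts.kW, OutT.gg, SuzP.ROne.kk, wd, gen, List.map_cons, List.map_nil, List.prod_cons,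
      List.prod_nil, mul_one, map_mul]
  have hat := SuzU.AFacts.at_ hr
  have hak := SuzU.AFacts.ak hr
  rw [hk] at hak
  refine SuzP.ROne.r1_ok h (a := (SuzU.AFacts.aW.map (OutT.gg t c d f)).prod) rfl (SuzU.AFacts.aa hr) ?_
    (SuzU.AFacts.ay hr) (SuzU.AFacts.ap hr) (SuzU.AFacts.ar hr) (SuzU.AFacts.ac hr) hak
  rw [map_mul]
  exact hat

/-- no element commutes with all letters -/
theorem central_triv (h : CtxO t c f) {d : G} (T : OutT.TrD t c d f) {x : G}
    (hx : ∀ l, x * OutT.gg t c d f l = OutT.gg t c d f l * x) : x = 1 := by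
  have hm : ∀ m : H, x * f m = f m * x := by
    intro m
    have h1 : (⊤ : Subgroup H) ≤ (Subgroup.centralizer {x}).comap f := by
      rw [← closure_gen, Subgroup.closure_le]
      rintro m hm
      rw [SetLike.mem_coe, Subgroup.mem_comap, Subgroup.mem_centralizer_singleton_iff]
      simp only [Set.mem_insert_iff, Set.mem_singleton_iff] at hm
      rcases hm with rfl | rfl | rfl | rfl | rfl | rfl
      · exact (hx .y).symm
      · exact (hx .p).symm
      · exact (hx .q).symm
      · exact (hx .r).symm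
      · exact (hx .s).symm
      · exact (hx .b).symm
    have h2 := h1 (Subgroup.mem_top m)
    rw [Subgroup.mem_comap, Subgroup.mem_centralizer_singleton_iff] at h2
    exact h2.symm
  rcases OutEnd.cent_f h (hx .t) hm with h1 | h1
  · exact h1
  · exfalso
    have h2 : x * d = d * x := hx .d
    rw [h1] at h2
    have h3 := T.dt
    rw [mul_assoc, h2, inv_mul_cancel_left] at h3
    apply (h.c_ne 1).1
    rw [map_one]
    exact mul_left_cancel (h3.symm.trans (mul_one t).symm)

/-- the pattern `Suz:2` -/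
theorem false_suz [Finite G] {𝒟 : G → Prop} (hUB : SuzU.UB3) (h : CtxO t c f)
    (PP : PD t (fun x => ∃ m, x = f m ∨ x = t * f m) 𝒟) (hty : ¬ IsConj t (t * f y)) (h1 : ¬ IsConj t c)
    (h2 : IsConj t (t * c)) : False := by
  obtain ⟨d, D⟩ := OutD.exists_D h hty h1 h2
  have T := trD h D
  have hlast : OutT.lastR = SuzP.CollBase.r0 := rfl
  have hnot : ∀ w ∈ rels.dropLast, w ≠ OutT.lastR := by decide +kernel
  have hb : SuzP.CollBase.Base (OutT.gg t c d f) := by
    intro w hw
    rcases T.base w (List.mem_of_mem_dropLast hw) with h3 | h3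
    · exact absurd h3 (hnot w hw)
    · exact h3
  have hne : OutT.gg t c d f .c ≠ 1 := by
    intro h3
    apply (h.c_ne 1).1
    rw [map_one]
    exact h3
  have hE : (SuzP.CollBase.r0.map (OutT.gg t c d f)).prod ∈ Subgroup.closure
      ({OutT.gg t c d f .t, OutT.gg t c d f .y, OutT.gg t c d f .c, OutT.gg t c d f .p * OutT.gg t c d f .r,
        OutT.gg t c d f .q * OutT.gg t c d f .p * OutT.gg t c d f .r * OutT.gg t c d f .q} : Set G) := by
    obtain ⟨a0, a1, a2, a3, a4, h3⟩ := T.exists_r0
    rw [← hlast, OutT.prod_lastR, h3]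
    have hpw : ∀ (S : Subgroup G) (a : Bool) (x : G), x ∈ S → OutT.pw a x ∈ S := by
      intro S a x hx
      cases a
      · exact S.one_mem
      · exact hx
    have e1 : f OutT.v1 = f p * f r := map_mul f _ _
    have e2 : f OutT.v2 = f q * f p * f r * f q := by
      rw [OutT.v2, map_mul, map_mul, map_mul]
    refine mul_mem (hpw _ _ _ (Subgroup.subset_closure ?_)) (mul_mem (hpw _ _ _ (Subgroup.subset_closure ?_))
      (mul_mem (hpw _ _ _ (Subgroup.subset_closure ?_)) (mul_mem (hpw _ _ _ (Subgroup.subset_closure ?_))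
      (hpw _ _ _ (Subgroup.subset_closure ?_)))))
    · exact Or.inl rfl
    · exact Or.inr (Or.inl rfl)
    · exact Or.inr (Or.inr (Or.inl rfl))
    · exact Or.inr (Or.inr (Or.inr (Or.inl e1)))
    · exact Or.inr (Or.inr (Or.inr (Or.inr e2)))
  have hr := SuzP.CollMain.rels_ok hb hne hE
  have hy : OutT.gg t c d f .y ≠ 1 := OutPat.y_ne h
  have h3 := SuzU.closing1 hUB PP (OutT.gg t c d f) rfl hr (r1_ok h hr) hy (fun x hx => central_triv h T hx)
    (fun x hx => cent_le h d hx)
  apply hty
  refine PP.comm _ h3 ?_ ⟨y, Or.inr rfl⟩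
  show t * f y * t = t * (t * f y)
  rw [mul_assoc, h.comm]

/-- **the outer case is impossible** -/
theorem outerDead (hUB : SuzU.UB3) : OuterDead := by
  intro Γ _ _ t c f 𝒟 h PP
  have hy := OutPat.not_conj_y h
  have hb := OutPat.not_conj_pr h
  have hty : ¬ IsConj t (t * f y) := fun h1 => OutPD.false_pd PP h h1 hy hb
  have htb : IsConj t (t * f (p * r)) := OutPar.conj_t_mul_b PP h (fun m => ⟨m, Or.inr rfl⟩) isB_pr
  by_cases hc : IsConj t c
  · by_cases htc : IsConj t (t * c)
    · exact OutPat.not_both h hty hc htc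
    · exact false_suz hUB (OutMain.ctx_tc h) PP hty htc (by rwa [← mul_assoc, h.tt, one_mul])
  · by_cases htc : IsConj t (t * c)
    · exact false_suz hUB h PP hty hc htc
    · exact OutD.false_outer h hc htc hy hb hty htb

end Cfsg.Agent.CoThreeStd.OutDead
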