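import Cfsg.Agent.CoThreeStd.OutCent
import Cfsg.Agent.CoThreeStd.Core.Oracle

/-!
# S1750, `C_G(t) = ⟨t⟩ × M₁₂:2`: the patterns of fusion (helper984)

* `not_conj_y`: `t` is not conjugate to `f y`;
* `not_conj_pr`: `t` is not conjugate to `f (p r)`;
* `not_both`: `c` and `t c` are not both conjugate to `t`;
* `conj_t_mul_b`: `t` is conjugate to `t b` for `b` in the class 2B.
-/

set_option autoImplicit false

namespace Cfsg.Agent.CoThreeStd.OutPat

open Cfsg.Agent.CoThreeStd.MTwelve Cfsg.Agent.CoThreeStd.OutAut Cfsg.Agent.CoThreeStd.OutCtx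
open Cfsg.Agent.CoThreeStd.InvTwo Cfsg.Agent.CoThreeStd.OutCent
open Cfsg.Agent.SporRec.Co3 (P5)

variable {G : Type*} [Group G] {t c : G} {f : H →* G}

/-! ### calculations in `E` -/

theorem yy (f : H →* G) : f y * f y = 1 := by rw [← map_mul, y_sq, map_one]

theorem cy (h : CtxO t c f) : f y * c = c * f y := by rw [h.cf, alpha_y]

theorem ee_mul (h : CtxO t c f) (i j k i' j' k' : Bool) :
    ee t c (f y) i j k * ee t c (f y) i' j' k' = ee t c (f y) (xor i i') (xor j j') (xor k k') := by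
  have tt := h.tt
  have cc := h.cc
  have ww := yy f
  have ct := h.ct
  have wt := h.comm y
  have wc := cy h
  generalize f y = w at *
  have tt' : ∀ x, t * (t * x) = x := fun x => by rw [← mul_assoc, tt, one_mul]
  have cc' : ∀ x, c * (c * x) = x := fun x => by rw [← mul_assoc, cc, one_mul]
  have ww' : ∀ x, w * (w * x) = x := fun x => by rw [← mul_assoc, ww, one_mul]
  have ct' : ∀ x, c * (t * x) = t * (c * x) := fun x => by rw [← mul_assoc, ct, mul_assoc]
  have wt' : ∀ x, w * (t * x) = t * (w * x) := fun x => by rw [← mul_assoc, wt, mul_assoc]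
  have wc' : ∀ x, w * (c * x) = c * (w * x) := fun x => by rw [← mul_assoc, wc, mul_assoc]
  cases i <;> cases j <;> cases k <;> cases i' <;> cases j' <;> cases k' <;>
    simp only [ee, if_true, if_false, Bool.false_eq_true, mul_one, one_mul, mul_assoc, tt, cc, ww, ct, wt, wc,
      tt', cc', ww', ct', wt', wc', Bool.xor_false, Bool.xor_true, Bool.false_xor, Bool.true_xor, Bool.not_true,
      Bool.not_false]

theorem e000 : ee t c (f y) false false false = 1 := by simp [ee]
theorem e100 : ee t c (f y) true false false = t := by simp [ee]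
theorem e010 : ee t c (f y) false true false = c := by simp [ee]
theorem e001 : ee t c (f y) false false true = f y := by simp [ee]
theorem e110 : ee t c (f y) true true false = t * c := by simp [ee]
theorem e101 : ee t c (f y) true false true = t * f y := by simp [ee]
theorem e011 : ee t c (f y) false true true = c * f y := by simp [ee]
theorem e111 : ee t c (f y) true true true = t * (c * f y) := by simp [ee]

theorem ee_comm (h : CtxO t c f) (i j k i' j' k' : Bool) :
    ee t c (f y) i j k * ee t c (f y) i' j' k' = ee t c (f y) i' j' k' * ee t c (f y) i j k := by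
  rw [ee_mul h, ee_mul h, Bool.xor_comm i, Bool.xor_comm j, Bool.xor_comm k]

theorem ee_sq (h : CtxO t c f) (i j k : Bool) : ee t c (f y) i j k * ee t c (f y) i j k = 1 := by
  rw [ee_mul h, Bool.xor_self, Bool.xor_self, Bool.xor_self, e000]

theorem ee_inv (h : CtxO t c f) (i j k : Bool) : (ee t c (f y) i j k)⁻¹ = ee t c (f y) i j k :=
  inv_eq_of_mul_eq_one_left (ee_sq h i j k)

/-- action of an element on `E` -/
theorem ee_act (h : CtxO t c f) {g : G} {i1 j1 k1 i2 j2 k2 i3 j3 k3 : Bool}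
    (h1 : g * t * g⁻¹ = ee t c (f y) i1 j1 k1) (h2 : g * c * g⁻¹ = ee t c (f y) i2 j2 k2)
    (h3 : g * f y * g⁻¹ = ee t c (f y) i3 j3 k3) (i j k : Bool) :
    g * ee t c (f y) i j k * g⁻¹ = ee t c (f y) (xor (i && i1) (xor (j && i2) (k && i3)))
      (xor (i && j1) (xor (j && j2) (k && j3))) (xor (i && k1) (xor (j && k2) (k && k3))) := by
  have e : g * ee t c (f y) i j k * g⁻¹ = (if i then g * t * g⁻¹ else 1) * ((if j then g * c * g⁻¹ else 1) *
      (if k then g * f y * g⁻¹ else 1)) := by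
    unfold ee
    cases i <;> cases j <;> cases k <;> simp only [if_true, if_false, Bool.false_eq_true] <;> group
  have e0 : ∀ (b x1 x2 x3 : Bool), (if b then ee t c (f y) x1 x2 x3 else 1) =
      ee t c (f y) (b && x1) (b && x2) (b && x3) := by
    intro b x1 x2 x3
    cases b
    · simp only [Bool.false_and, Bool.false_eq_true, if_false]; exact e000.symm
    · simp only [Bool.true_and, if_true]
  rw [e, h1, h2, h3, e0, e0, e0, ee_mul h, ee_mul h]

theorem cp (h : CtxO t c f) : (f p)⁻¹ * c * f p = c * f y := by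
  have e1 : alpha p = y * p := by
    have := alpha_gen 1
    rw [show gen 1 = p from rfl, show ag 1 = [0, 1] from rfl, wd_cons, wd_cons, wd_nil, mul_one] at this
    exact this
  have e2 : p⁻¹ * (y * p) = y := by
    rw [← w_p, y_comm]; group
  calc (f p)⁻¹ * c * f p = (f p)⁻¹ * (c * f p) := by group
    _ = f (p⁻¹ * (y * p)) * c := by rw [h.cf, e1, map_mul f p⁻¹, map_inv]; group
    _ = _ := by rw [e2, cy h]

theorem tp (h : CtxO t c f) : (f p)⁻¹ * t * f p = t := by
  rw [mul_assoc, ← h.comm]; group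

theorem yp (f : H →* G) : (f p)⁻¹ * f y * f p = f y := by
  rw [← map_inv, ← map_mul, ← map_mul]
  congr 1
  rw [← w_p, mul_assoc, y_comm]; group

/-- `f p` normalises `Y` -/
theorem Y_p {x : G} (hx : x ∈ Y f) : (f p)⁻¹ * x * f p ∈ Y f := by
  obtain ⟨h1, h2, h3⟩ := mem_Y.1 hx
  have key : ∀ a b : H, p * a * p⁻¹ = b → x * f b = f b * x → (f p)⁻¹ * x * f p * f a = f a * ((f p)⁻¹ * x * f p) := by
    intro a b hab hb
    have e : f p * f a * (f p)⁻¹ = f b := by rw [← hab, map_mul, map_mul, map_inv]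
    calc (f p)⁻¹ * x * f p * f a = (f p)⁻¹ * (x * (f p * f a * (f p)⁻¹)) * f p := by group
      _ = (f p)⁻¹ * ((f p * f a * (f p)⁻¹) * x) * f p := by rw [e, hb]
      _ = _ := by group
  have pp : p * p = 1 := gen_sq 1
  have ip : p⁻¹ = p := inv_eq_of_mul_eq_one_left pp
  have i1 : (p * q)⁻¹ = p * q * (p * q) := by
    apply inv_eq_of_mul_eq_one_left
    exact pq3
  refine mem_Y.2 ⟨key _ (p * q)⁻¹ ?_ ?_, key _ (p * q * (p * q) * (q * r)) ?_ ?_, key _ (r * s) ?_ h3⟩
  · rw [i1, ip, ← wd_pq, ← wd_p, ← wd_append, ← wd_append, ← wd_append]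
    exact wd_eq (by decide +kernel)
  · rw [map_inv]
    have : Commute x (f (p * q)) := h1
    exact this.inv_right.eq
  · rw [ip, ← wd_pq, ← wd_qr, ← wd_p, ← wd_append, ← wd_append, ← wd_append, ← wd_append]
    exact wd_eq (by decide +kernel)
  · have k1 : Commute x (f (p * q)) := h1
    have k2 : Commute x (f (q * r)) := h2
    rw [map_mul f (p * q * (p * q)), map_mul f (p * q) (p * q)]
    exact ((k1.mul_right k1).mul_right k2).eq
  · rw [ip, ← wd_rs, ← wd_p, ← wd_append, ← wd_append]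
    exact wd_eq (by decide +kernel)

/-- action of `f p` on `E` -/
theorem ee_p (h : CtxO t c f) (i j k : Bool) :
    (f p)⁻¹ * ee t c (f y) i j k * f p = ee t c (f y) i j (xor k j) := by
  have h1 := ee_act h (g := (f p)⁻¹) (i1 := true) (j1 := false) (k1 := false) (i2 := false) (j2 := true) (k2 := true)
    (i3 := false) (j3 := false) (k3 := true) (by rw [inv_inv, tp h, e100]) (by rw [inv_inv, cp h, e011])
    (by rw [inv_inv, yp, e001]) i j k
  rw [inv_inv] at h1
  rw [h1]
  congr 1 <;> cases i <;> cases j <;> cases k <;> rfl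

theorem t_ne_y (h : CtxO t c f) : t ≠ f y := fun h1 => h.nmem y h1.symm
theorem y_ne (h : CtxO t c f) : f y ≠ 1 := fun h1 => y_ne_one (h.inj (by rw [h1, map_one]))
theorem c_ne_one (h : CtxO t c f) : c ≠ 1 := fun h1 => (h.c_ne 1).1 (by rw [h1, map_one])

theorem conj_mem_Y {g x : G} (hg : g ∈ Y f) (hx : x ∈ Y f) : g * x * g⁻¹ ∈ Y f :=
  (Y f).mul_mem ((Y f).mul_mem hg hx) ((Y f).inv_mem hg)

/-- an element of `Y` moving `x` to `t` sends `E` to `E` -/
theorem conj_E (h : CtxO t c f) {k : G} (hk : k ∈ Y f) {x : G} {i j l : Bool} (hx : x = ee t c (f y) i j l)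
    (hkx : k * x * k⁻¹ = t) (i' j' l' : Bool) : ∃ a b d, k * ee t c (f y) i' j' l' * k⁻¹ = ee t c (f y) a b d := by
  apply cent_Y h (conj_mem_Y hk (ee_mem h _ _ _))
  have h1 := ee_comm h i' j' l' i j l
  rw [← hx] at h1
  have h2 : k * ee t c (f y) i' j' l' * k⁻¹ * (k * x * k⁻¹) = (k * x * k⁻¹) * (k * ee t c (f y) i' j' l' * k⁻¹) := by
    calc k * ee t c (f y) i' j' l' * k⁻¹ * (k * x * k⁻¹) = k * (ee t c (f y) i' j' l' * x) * k⁻¹ := by group
      _ = k * (x * ee t c (f y) i' j' l') * k⁻¹ := by rw [h1]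
      _ = _ := by group
  rwa [hkx] at h2

theorem ne_of_idx (h : CtxO t c f) {i j k i' j' k' : Bool} (hne : (i, j, k) ≠ (i', j', k')) :
    ee t c (f y) i j k ≠ ee t c (f y) i' j' k' := by
  intro he
  obtain ⟨h1, h2, h3⟩ := ee_inj h he
  exact hne (by rw [h1, h2, h3])

theorem tc_ne_one (h : CtxO t c f) : t * c ≠ 1 := by
  have := ne_of_idx h (i := true) (j := true) (k := false) (i' := false) (j' := false) (k' := false) (by decide)
  rwa [e110, e000] at this

theorem tc_ne_y (h : CtxO t c f) : t * c ≠ f y := by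
  have := ne_of_idx h (i := true) (j := true) (k := false) (i' := false) (j' := false) (k' := true) (by decide)
  rwa [e110, e001] at this

theorem ty_ne_one (h : CtxO t c f) : t * f y ≠ 1 := by
  have := ne_of_idx h (i := true) (j := false) (k := true) (i' := false) (j' := false) (k' := false) (by decide)
  rwa [e101, e000] at this

/-- **`t` is not conjugate to `f y`.** -/
theorem not_conj_y (h : CtxO t c f) : ¬ IsConj t (f y) := by
  intro hc
  have wt := h.comm y
  have wc := cy h
  obtain ⟨g, hg, hgw⟩ := conj_in_Y h hc (y_mem f) (t_mem h) (c_mem h) (yy f) h.tt h.cc wt.symm wc.symm h.ct.symm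
    h.t_ne (t_ne_y h) (c_ne_one h) (h.c_ne y).1 (tc_ne_one h) (tc_ne_y h)
  obtain ⟨i, j, k, hE⟩ := conj_E h hg (x := f y) e001.symm hgw false true false
  rw [e010] at hE
  -- `e = (τ⁻¹ g τ) g⁻¹`
  have hgp : (f p)⁻¹ * g * f p ∈ Y f := Y_p hg
  obtain ⟨i', j', k', he⟩ := cent_Y h (x := (f p)⁻¹ * g * f p * g⁻¹) ((Y f).mul_mem hgp ((Y f).inv_mem hg)) (by
    have e1 : g⁻¹ * t * g = f y := by rw [← hgw]; group
    have e2 : f p * f y * (f p)⁻¹ = f y := by
      calc f p * f y * (f p)⁻¹ = f p * ((f p)⁻¹ * f y * f p) * (f p)⁻¹ := by rw [yp]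
        _ = _ := by group
    have e3 := tp h
    have e4 : (f p)⁻¹ * g * f p * g⁻¹ * t * ((f p)⁻¹ * g * f p * g⁻¹)⁻¹ = t := by
      calc (f p)⁻¹ * g * f p * g⁻¹ * t * ((f p)⁻¹ * g * f p * g⁻¹)⁻¹ =
          (f p)⁻¹ * g * (f p * (g⁻¹ * t * g) * (f p)⁻¹) * g⁻¹ * f p := by group
        _ = (f p)⁻¹ * (g * f y * g⁻¹) * f p := by rw [e1, e2]; group
        _ = t := by rw [hgw, e3]
    exact mul_inv_eq_iff_eq_mul.1 e4)
  have e1 : (f p)⁻¹ * (g * c * g⁻¹) * f p = g * c * g⁻¹ * t := by
    calc (f p)⁻¹ * (g * c * g⁻¹) * f p = ((f p)⁻¹ * g * f p * g⁻¹) * (g * ((f p)⁻¹ * c * f p) * g⁻¹) *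
          ((f p)⁻¹ * g * f p * g⁻¹)⁻¹ := by group
      _ = ((f p)⁻¹ * g * f p * g⁻¹) * ((g * c * g⁻¹) * (g * f y * g⁻¹)) * ((f p)⁻¹ * g * f p * g⁻¹)⁻¹ := by
          rw [cp h]; group
      _ = ee t c (f y) i' j' k' * (ee t c (f y) i j k * ee t c (f y) true false false) *
          (ee t c (f y) i' j' k')⁻¹ := by rw [he, hE, hgw, e100]
      _ = ee t c (f y) i j k * ee t c (f y) true false false := by
          rw [ee_mul h i j k, ee_comm h, mul_inv_cancel_right]
      _ = _ := by rw [e100, hE]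
  have e2 := ee_mul h i j k true false false
  rw [e100] at e2
  rw [hE, ee_p h, e2] at e1
  have h4 := (ee_inj h e1).1
  revert h4
  cases i <;> decide

/-- `t` is not conjugate to `f (p r)` -/
theorem not_conj_pr (h : CtxO t c f) : ¬ IsConj t (f (p * r)) := by
  intro hc
  obtain ⟨g, hg⟩ := isConj_iff.1 hc
  have hk : wd [1, 2, 1, 3, 2] * wd [1, 2, 1, 3, 2] = p * r := by
    rw [← wd_append, ← wd_pr]
    exact wd_eq (by decide +kernel)
  generalize wd [1, 2, 1, 3, 2] = k at hk
  have e1 : g⁻¹ * f k * g * (g⁻¹ * f k * g) = t := by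
    calc g⁻¹ * f k * g * (g⁻¹ * f k * g) = g⁻¹ * f (k * k) * g := by rw [map_mul]; group
      _ = t := by rw [hk, ← hg]; group
  obtain ⟨m, hm⟩ := sq_mem h (g := g⁻¹ * f k * g) (by rw [← e1]; group)
  exact h.nmem m (by rw [← hm, e1])

/-- `c` and `t c` are not both conjugate to `t`. -/
theorem not_both (h : CtxO t c f) (hy : ¬ IsConj t (t * f y)) (h1 : IsConj t c) (h2 : IsConj t (t * c)) :
    False := by
  have wt := h.comm y
  have wc := cy h
  have hcp : IsConj c (c * f y) := isConj_iff.2 ⟨(f p)⁻¹, by rw [inv_inv, cp h]⟩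
  have htcp : IsConj (t * c) (t * (c * f y)) := isConj_iff.2 ⟨(f p)⁻¹, by
    rw [inv_inv]
    calc (f p)⁻¹ * (t * c) * f p = ((f p)⁻¹ * t * f p) * ((f p)⁻¹ * c * f p) := by group
      _ = _ := by rw [tp h, cp h]⟩
  obtain ⟨g, hg, hgc⟩ := conj_in_Y h h1 (c_mem h) (t_mem h) (y_mem f) h.cc h.tt (yy f) h.ct.symm wc wt.symm
    h.t_ne (fun h3 => (h.c_ne 1).2 (by rw [map_one, mul_one, ← h3])) (y_ne h) (fun h3 => (h.c_ne y).1 h3.symm)
    (ty_ne_one h) (fun h3 => (h.c_ne y).2 h3.symm)
  -- images of the elements not conjugate to `t`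
  have key : ∀ i j k, ¬ IsConj t (ee t c (f y) i j k) → ee t c (f y) i j k ≠ 1 →
      g * ee t c (f y) i j k * g⁻¹ = f y ∨ g * ee t c (f y) i j k * g⁻¹ = t * f y := by
    intro i j k hn hne
    obtain ⟨i', j', k', he⟩ := conj_E h hg (x := c) e010.symm hgc i j k
    have hn' : ¬ IsConj t (ee t c (f y) i' j' k') := by
      intro h3
      apply hn
      rw [← he] at h3
      exact h3.trans (isConj_iff.2 ⟨g⁻¹, by group⟩)
    have hne' : ee t c (f y) i' j' k' ≠ 1 := by
      rw [← he]
      exact ne_conj g hne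
    rw [he]
    revert hn' hne'
    cases i' <;> cases j' <;> cases k' <;> intro hn' hne'
    · exact absurd e000 hne'
    · exact Or.inl e001
    · rw [e010] at hn'; exact absurd h1 hn'
    · rw [e011] at hn'; exact absurd (h1.trans hcp) hn'
    · rw [e100] at hn'; exact absurd (IsConj.refl t) hn'
    · exact Or.inr e101
    · rw [e110] at hn'; exact absurd h2 hn'
    · rw [e111] at hn'; exact absurd (h2.trans htcp) hn'
  have k1 := key false false true (by rw [e001]; exact not_conj_y h) (by rw [e001]; exact y_ne h)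
  have k2 := key true false true (by rw [e101]; exact hy) (by rw [e101]; exact ty_ne_one h)
  rw [e001] at k1
  rw [e101] at k2
  have e1 : g * t * g⁻¹ = (g * (t * f y) * g⁻¹) * (g * f y * g⁻¹) := by
    calc g * t * g⁻¹ = g * (t * (f y * f y)) * g⁻¹ := by rw [yy, mul_one]
      _ = _ := by group
  have n1 : g * t * g⁻¹ ≠ 1 := ne_conj g h.t_ne
  have n2 : g * t * g⁻¹ ≠ t := by
    intro h3
    apply (h.c_ne 1).2
    rw [map_one, mul_one]
    calc c = g⁻¹ * (g * c * g⁻¹) * g := by group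
      _ = g⁻¹ * (g * t * g⁻¹) * g := by rw [hgc, h3]
      _ = t := by group
  rcases k1 with k1 | k1 <;> rcases k2 with k2 | k2
  · rw [k1, k2, yy] at e1; exact n1 e1
  · rw [k1, k2] at e1
    apply n2
    rw [e1]
    calc t * f y * f y = t * (f y * f y) := by group
      _ = t := by rw [yy, mul_one]
  · rw [k1, k2] at e1
    apply n2
    rw [e1]
    calc f y * (t * f y) = (f y * t) * f y := by group
      _ = t * (f y * f y) := by rw [wt]; group
      _ = t := by rw [yy, mul_one]
  · rw [k1, k2] at e1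
    apply n1
    rw [e1]
    calc t * f y * (t * f y) = t * (f y * t) * f y := by group
      _ = (t * t) * (f y * f y) := by rw [wt]; group
      _ = 1 := by rw [h.tt, yy, one_mul]

end Cfsg.Agent.CoThreeStd.OutPat
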