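import Cfsg.Agent.CoThreeStd.OutD
import Cfsg.Agent.CoThreeStd.SuzP.Pres

/-!
# S1750, `C_G(t) = ⟨t⟩ × M₁₂:2`, pattern `Suz:2`: the relators (helper984)

The elements `y, p, q, r, s, b, c, t, d` of `G` satisfy all the relators of `SuzP.Pres.P` but the last one; for the
last relator `r₀` there is `e` in the elementary abelian group of order 32 with `r₀ e = 1`.
-/

set_option autoImplicit false

namespace Cfsg.Agent.CoThreeStd.OutR

open Cfsg.Agent.CoThreeStd.MTwelve Cfsg.Agent.CoThreeStd.OutAut Cfsg.Agent.CoThreeStd.OutCtx
open Cfsg.Agent.CoThreeStd.InvTwo Cfsg.Agent.CoThreeStd.OutCent Cfsg.Agent.CoThreeStd.OutPat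
open Cfsg.Agent.CoThreeStd.OutD
open Cfsg.Agent.CoThreeStd.SuzP.Data (Lt)

variable {G : Type*} [Group G] {t c : G} {f : H →* G} {d : G}

/-! ### the elementary abelian group of order 32 -/

/-- words of the elements of `⟨y, p r, q p r q⟩` -/
def vw (k l m : Bool) : List ℕ := (if k then [0] else []) ++ ((if l then [1, 3] else []) ++ (if m then [2, 1, 3, 2] else []))

/-- the elements -/
def V (t c : G) (f : H →* G) (i j k l m : Bool) : G := El t c f (i, j, wd (vw k l m))

/-- test: conjugation by the word `n` -/
def chkC (n : List ℕ) (j k l m k' l' m' : Bool) : Bool :=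
  eqW ((if j then aw n else n).reverse ++ (vw k l m ++ n)) (vw k' l' m')

theorem V_conj (h : CtxO t c f) (n : List ℕ) {i j k l m k' l' m' : Bool} (hc : chkC n j k l m k' l' m' = true) :
    (f (wd n))⁻¹ * V t c f i j k l m * f (wd n) = V t c f i j k' l' m' := by
  have h1 := wd_eq hc
  rw [wd_append, wd_append, ← wd_reverse] at h1
  have ht : (f (wd n))⁻¹ * (if i then t else 1) = (if i then t else 1) * (f (wd n))⁻¹ := by
    split_ifs
    · rw [← map_inv]; exact h.comm _
    · rw [mul_one, one_mul]
  have hcj : (f (wd n))⁻¹ * (if j then c else 1) = (if j then c else 1) * (f (wd (if j then aw n else n)))⁻¹ := by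
    split_ifs
    · have e5 : c * f (wd (aw n))⁻¹ = f (wd n)⁻¹ * c := by
        rw [h.cf, map_inv, ← alpha_wd, alpha_alpha]
      rw [← map_inv, ← map_inv, e5]
    · rw [mul_one, one_mul]
  calc (f (wd n))⁻¹ * V t c f i j k l m * f (wd n) =
      ((f (wd n))⁻¹ * (if i then t else 1)) * ((if j then c else 1) * f (wd (vw k l m))) * f (wd n) := by
        simp only [V, El, mul_assoc]
    _ = (if i then t else 1) * (((f (wd n))⁻¹ * (if j then c else 1)) * f (wd (vw k l m))) * f (wd n) := by
        rw [ht]; simp only [mul_assoc]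
    _ = (if i then t else 1) * ((if j then c else 1) *
          ((f (wd (if j then aw n else n)))⁻¹ * (f (wd (vw k l m)) * f (wd n)))) := by
        rw [hcj]; simp only [mul_assoc]
    _ = _ := by
        rw [← map_inv, ← map_mul, ← map_mul, h1]
        rfl

/-- the word `s b y p r b s` -/
def wn : List ℕ := [4, 5, 0, 1, 3, 5, 4]

set_option maxRecDepth 100000 in
theorem chk_n : ∀ j k l m : Bool, chkC wn j k l m (xor k j) (xor l j) (xor m (xor k l)) = true := by decide +kernel

set_option maxRecDepth 100000 in
theorem chk_q : ∀ j k l m : Bool, chkC [2] j k l m (xor k j) m l = true := by decide +kernel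

theorem V_eq (h : CtxO t c f) (i j k l m : Bool) : V t c f i j k l m = ee t c (f y) i j k * f (wd (vw false l m)) := by
  have e : wd (vw k l m) = (if k then y else 1) * wd (vw false l m) := by
    cases k
    · simp only [Bool.false_eq_true, if_false, one_mul]
    · simp only [if_true]
      rw [← wd_y, ← wd_append]; rfl
  rw [V, El, ee]
  simp only [e, map_mul]
  cases k <;> simp [mul_assoc]

/-- elements of `Y` commute with the even elements of `w(S₅)` -/
theorem comm_v1 {x : G} (hx : x ∈ Y f) : Commute x (f (wd [1, 3])) := by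
  obtain ⟨h1, h2, -⟩ := mem_Y.1 hx
  have k1 : Commute x (f (p * q)) := h1
  have k2 : Commute x (f (q * r)) := h2
  have e : wd [1, 3] = p * q * (q * r) := by
    rw [← wd_pq, ← wd_qr, ← wd_append]
    exact wd_eq (by decide +kernel)
  rw [e, map_mul f (p * q) (q * r)]
  exact k1.mul_right k2

theorem comm_v2 {x : G} (hx : x ∈ Y f) : Commute x (f (wd [2, 1, 3, 2])) := by
  obtain ⟨h1, h2, -⟩ := mem_Y.1 hx
  have k1 : Commute x (f (p * q)) := h1
  have k2 : Commute x (f (q * r)) := h2
  have e : wd [2, 1, 3, 2] = p * q * (p * q) * ((q * r) * (q * r)) := by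
    rw [← wd_pq, ← wd_qr, ← wd_append, ← wd_append, ← wd_append]
    exact wd_eq (by decide +kernel)
  rw [e, map_mul f (p * q * (p * q)), map_mul f (p * q) (p * q), map_mul f (q * r) (q * r)]
  exact (k1.mul_right k1).mul_right (k2.mul_right k2)

theorem comm_v {x : G} (hx : x ∈ Y f) (l m : Bool) : Commute x (f (wd (vw false l m))) := by
  have k1 := comm_v1 hx
  have k2 := comm_v2 hx
  cases l <;> cases m
  · rw [show vw false false false = [] from rfl, wd_nil, map_one]; exact Commute.one_right _
  · rw [show vw false false true = [2, 1, 3, 2] from rfl]; exact k2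
  · rw [show vw false true false = [1, 3] from rfl]; exact k1
  · rw [show vw false true true = [1, 3] ++ [2, 1, 3, 2] from rfl, wd_append, map_mul]
    exact k1.mul_right k2

theorem V_D (h : CtxO t c f) (D : Dd t c f d) (i j k l m : Bool) :
    d * V t c f i j k l m * d⁻¹ = V t c f i (xor i (xor j k)) (xor i j) l m := by
  rw [V_eq h, V_eq h, ← D.toAct.ee h]
  have := (comm_v D.mem l m).eq
  calc d * (ee t c (f y) i j k * f (wd (vw false l m))) * d⁻¹ =
      d * ee t c (f y) i j k * d⁻¹ * (d * f (wd (vw false l m))) * d⁻¹ := by group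
    _ = _ := by rw [this]; group

theorem V_d (h : CtxO t c f) (D : Dd t c f d) (i j k l m : Bool) :
    d⁻¹ * V t c f i j k l m * d = V t c f i (xor i k) (xor j k) l m := by
  have h1 := V_D h D i (xor i k) (xor j k) l m
  have e : V t c f i (xor i (xor (xor i k) (xor j k))) (xor i (xor i k)) l m = V t c f i j k l m := by
    congr 1 <;> cases i <;> cases j <;> cases k <;> rfl
  rw [e] at h1
  rw [← h1]
  group

/-- the last relator (as an element) -/
def r0 (f : H →* G) (d : G) : G :=
  d⁻¹ * f (wd wn) * d * f (wd [2]) * f (wd wn) * d * f (wd [2]) * f (wd wn) * f (wd [2])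

theorem r0_comm (h : CtxO t c f) (D : Dd t c f d) (i j k l m : Bool) :
    (r0 f d)⁻¹ * V t c f i j k l m * r0 f d = V t c f i j k l m := by
  have hn : ∀ i j k l m, (f (wd wn))⁻¹ * V t c f i j k l m * f (wd wn) =
    V t c f i j (xor k j) (xor l j) (xor m (xor k l)) := fun i j k l m => V_conj h wn (chk_n j k l m)
  have hq : ∀ i j k l m, (f (wd [2]))⁻¹ * V t c f i j k l m * f (wd [2]) =
    V t c f i j (xor k j) m l := fun i j k l m => V_conj h [2] (chk_q j k l m)
  have hd := V_d h D
  have hD := V_D h D
  have e : (r0 f d)⁻¹ * V t c f i j k l m * r0 f d = (f (wd [2]))⁻¹ * ((f (wd wn))⁻¹ * ((f (wd [2]))⁻¹ *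
      (d⁻¹ * ((f (wd wn))⁻¹ * ((f (wd [2]))⁻¹ * (d⁻¹ * ((f (wd wn))⁻¹ * (d * V t c f i j k l m * d⁻¹) *
      f (wd wn)) * d) * f (wd [2])) * f (wd wn)) * d) * f (wd [2])) * f (wd wn)) * f (wd [2]) := by
    rw [r0]; group
  rw [e, hD, hn, hd, hq, hn, hd, hq, hn, hq]
  congr 1 <;> cases i <;> cases j <;> cases k <;> cases l <;> cases m <;> rfl

theorem V_t : V t c f true false false false false = t := by
  rw [V, show vw false false false = [] from rfl]
  simp [El, wd_nil]

theorem V_c : V t c f false true false false false = c := by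
  rw [V, show vw false false false = [] from rfl]
  simp [El, wd_nil]

theorem V_y : V t c f false false true false false = f y := by
  rw [V, show vw true false false = [0] from rfl]
  simp [El, wd_y]

theorem V_1 : V t c f false false false true false = f (wd [1, 3]) := by
  rw [V, show vw false true false = [1, 3] from rfl]
  simp [El]

theorem V_2 : V t c f false false false false true = f (wd [2, 1, 3, 2]) := by
  rw [V, show vw false false true = [2, 1, 3, 2] from rfl]
  simp [El]

set_option maxRecDepth 100000 in
theorem chk_perm : ∀ k l m : Bool, eqW ((if l then [1, 3] else []) ++ (if m then [2, 1, 3, 2] else []) ++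
    (if k then [0] else [])) (vw k l m) = true := by decide +kernel

/-- the centraliser of the group of order 32 -/
theorem cent_32 (h : CtxO t c f) {x : G} (ht : x * t = t * x) (hy : x * f y = f y * x)
    (h1 : x * f (wd [1, 3]) = f (wd [1, 3]) * x) (h2 : x * f (wd [2, 1, 3, 2]) = f (wd [2, 1, 3, 2]) * x) :
    ∃ i j k l m, x = V t c f i j k l m := by
  obtain ⟨⟨i, j, a⟩, rfl⟩ := El_surj h x ht
  -- `c` and `t` commute with `y, v₁, v₂`
  have key : ∀ b, Commute t (f b) → Commute c (f b) → El t c f (i, j, a) * f b = f b * El t c f (i, j, a) →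
      a * b = b * a := by
    intro b k1 k2 k3
    apply h.inj
    have k4 : Commute (if i then t else 1) (f b) := by
      split_ifs
      · exact k1
      · exact Commute.one_left _
    have k5 : Commute (if j then c else 1) (f b) := by
      split_ifs
      · exact k2
      · exact Commute.one_left _
    have e : f a = (if j then c else 1)⁻¹ * ((if i then t else 1)⁻¹ * El t c f (i, j, a)) := by
      simp only [El]; group
    have k6 : Commute (f a) (f b) := by
      rw [e]
      exact k5.inv_left.mul_left (k4.inv_left.mul_left k3)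
    rw [map_mul, map_mul]
    exact k6.eq
  have c1 := comm_v1 (t_mem h)
  have c2 := comm_v2 (t_mem h)
  have c3 := comm_v1 (c_mem h)
  have c4 := comm_v2 (c_mem h)
  have a1 := key y (h.comm y).symm (cy h).symm hy
  have a2 := key _ c1 c3 h1
  have a3 := key _ c2 c4 h2
  obtain ⟨l, m, k, he⟩ := Cfsg.Agent.CoThreeStd.DeltaData.cent_byv a a2 a3 a1
  have fin : ∀ x : Fin 2, x = 0 ∨ x = 1 := by decide
  have hb : ∀ x : Fin 2, ∃ b : Bool, ∀ z : H, z ^ x.1 = if b then z else 1 := by
    intro x
    rcases fin x with rfl | rfl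
    · exact ⟨false, fun z => by simp⟩
    · exact ⟨true, fun z => by simp⟩
  obtain ⟨l', hl⟩ := hb l
  obtain ⟨m', hm⟩ := hb m
  obtain ⟨k', hk⟩ := hb k
  refine ⟨i, j, k', l', m', ?_⟩
  rw [V]
  congr 3
  rw [he, hl, hm, hk]
  have e1 : (if l' then Cfsg.Agent.CoThreeStd.DeltaData.be else 1) = wd (if l' then [1, 3] else []) := by
    split_ifs <;> rfl
  have e2 : (if m' then Cfsg.Agent.CoThreeStd.DeltaData.v else 1) = wd (if m' then [2, 1, 3, 2] else []) := by
    split_ifs <;> rfl
  have e3 : (if k' then y else 1) = wd (if k' then [0] else []) := by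
    split_ifs
    · exact wd_y.symm
    · rfl
  rw [e1, e2, e3, ← wd_append, ← wd_append]
  exact wd_eq (chk_perm k' l' m')

/-- **`r₀` is in the group of order 32.** -/
theorem r0_mem (h : CtxO t c f) (D : Dd t c f d) : ∃ i j k l m, r0 f d = V t c f i j k l m := by
  have key : ∀ x, (r0 f d)⁻¹ * x * r0 f d = x → r0 f d * x = x * r0 f d := by
    intro x hx
    nth_rewrite 1 [← hx]
    group
  apply cent_32 h
  · apply key; have := r0_comm h D true false false false false; rwa [V_t] at this
  · apply key; have := r0_comm h D false false true false false; rwa [V_y] at this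
  · apply key; have := r0_comm h D false false false true false; rwa [V_1] at this
  · apply key; have := r0_comm h D false false false false true; rwa [V_2] at this

/-! ### the relators -/

/-- the letters in `G` -/
def gl (t c : G) (f : H →* G) (d : G) : Lt → G
  | .y => f y
  | .p => f p
  | .q => f q
  | .r => f r
  | .s => f s
  | .b => f b
  | .c => c
  | .t => t
  | .d => d
  | .D => d⁻¹

/-- the number of a letter of `M₁₂` -/
def num : Lt → ℕ
  | .y => 0
  | .p => 1
  | .q => 2
  | .r => 3
  | .s => 4
  | .b => 5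
  | _ => 6

def isM : Lt → Bool
  | .y | .p | .q | .r | .s | .b => true
  | _ => false

theorem gl_M {x : Lt} (hx : isM x = true) : gl t c f d x = f (gen (num x)) := by
  cases x <;> first | rfl | (exact absurd hx (by decide))

theorem prod_gl (w : List Lt) (hw : w.all isM = true) : (w.map (gl t c f d)).prod = f (wd (w.map num)) := by
  induction w with
  | nil => simp [wd_nil]
  | cons x w ih =>
    rw [List.all_cons, Bool.and_eq_true] at hw
    rw [List.map_cons, List.prod_cons, List.map_cons, wd_cons, map_mul, ih hw.2, gl_M hw.1]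

theorem prod_M (w : List Lt) (hw : w.all isM = true) (he : eqW (w.map num) [] = true) :
    (w.map (gl t c f d)).prod = 1 := by
  rw [prod_gl w hw, wd_eq he, wd_nil, map_one]

theorem prod_C (h : CtxO t c f) (u v : List Lt) (hu : u.all isM = true) (hv : v.all isM = true)
    (he : eqW (aw (u.map num) ++ v.map num) [] = true) :
    ((.c :: (u ++ .c :: v)).map (gl t c f d)).prod = 1 := by
  have h1 := wd_eq he
  rw [wd_append, ← alpha_wd, wd_nil] at h1
  rw [List.map_cons, List.prod_cons, List.map_append, List.prod_append, List.map_cons, List.prod_cons, prod_gl u hu,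
    prod_gl v hv]
  show c * (f (wd (u.map num)) * (c * f (wd (v.map num)))) = 1
  calc c * (f (wd (u.map num)) * (c * f (wd (v.map num)))) = (c * f (wd (u.map num))) * c * f (wd (v.map num)) := by
        group
    _ = f (alpha (wd (u.map num))) * (c * c) * f (wd (v.map num)) := by rw [h.cf]; group
    _ = 1 := by rw [h.cc, mul_one, ← map_mul, h1, map_one]

theorem prod_T (h : CtxO t c f) (u v : List Lt) (hu : u.all isM = true) (hv : v.all isM = true)
    (he : eqW (u.map num ++ v.map num) [] = true) :
    ((.t :: (u ++ .t :: v)).map (gl t c f d)).prod = 1 := by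
  have h1 := wd_eq he
  rw [wd_append, wd_nil] at h1
  rw [List.map_cons, List.prod_cons, List.map_append, List.prod_append, List.map_cons, List.prod_cons, prod_gl u hu,
    prod_gl v hv]
  show t * (f (wd (u.map num)) * (t * f (wd (v.map num)))) = 1
  calc t * (f (wd (u.map num)) * (t * f (wd (v.map num)))) = t * (f (wd (u.map num)) * t) * f (wd (v.map num)) := by
        group
    _ = (t * t) * (f (wd (u.map num)) * f (wd (v.map num))) := by rw [h.comm]; group
    _ = 1 := by rw [h.tt, one_mul, ← map_mul, h1, map_one]

theorem r_cc (h : CtxO t c f) : (([.c, .c] : List Lt).map (gl t c f d)).prod = 1 := by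
  simp only [List.map_cons, List.map_nil, List.prod_cons, List.prod_nil, mul_one, gl, h.cc]

theorem r_tt (h : CtxO t c f) : (([.t, .t] : List Lt).map (gl t c f d)).prod = 1 := by
  simp only [List.map_cons, List.map_nil, List.prod_cons, List.prod_nil, mul_one, gl, h.tt]

theorem r_dD : (([.d, .D] : List Lt).map (gl t c f d)).prod = 1 := by
  simp only [List.map_cons, List.map_nil, List.prod_cons, List.prod_nil, mul_one, gl, mul_inv_cancel]

theorem r_Dd : (([.D, .d] : List Lt).map (gl t c f d)).prod = 1 := by
  simp only [List.map_cons, List.map_nil, List.prod_cons, List.prod_nil, mul_one, gl, inv_mul_cancel]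

theorem r_tc (h : CtxO t c f) : (([.t, .c, .t, .c] : List Lt).map (gl t c f d)).prod = 1 := by
  simp only [List.map_cons, List.map_nil, List.prod_cons, List.prod_nil, mul_one, gl]
  calc t * (c * (t * c)) = t * (c * t) * c := by group
    _ = (t * t) * (c * c) := by rw [h.ct]; group
    _ = 1 := by rw [h.tt, h.cc, one_mul]

theorem r_ddd (D : Dd t c f d) : (([.d, .d, .d] : List Lt).map (gl t c f d)).prod = 1 := by
  simp only [List.map_cons, List.map_nil, List.prod_cons, List.prod_nil, mul_one, gl]
  rw [← mul_assoc, D.ddd]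

theorem r_a (h : CtxO t c f) (D : Dd t c f d) : (([.D, .t, .d, .c, .t] : List Lt).map (gl t c f d)).prod = 1 := by
  simp only [List.map_cons, List.map_nil, List.prod_cons, List.prod_nil, mul_one, gl]
  have e := D.toAct.ee_inv h true false false
  rw [e100] at e
  have e' : d⁻¹ * t * d = t * c := e.trans e110
  calc d⁻¹ * (t * (d * (c * t))) = (d⁻¹ * t * d) * (c * t) := by group
    _ = t * (c * c) * t := by rw [e']; group
    _ = 1 := by rw [h.cc, mul_one, h.tt]

theorem r_b (h : CtxO t c f) (D : Dd t c f d) :
    (([.D, .t, .c, .d, .y, .c, .t] : List Lt).map (gl t c f d)).prod = 1 := by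
  simp only [List.map_cons, List.map_nil, List.prod_cons, List.prod_nil, mul_one, gl]
  have e := D.toAct.ee_inv h true true false
  rw [e110] at e
  have e' : d⁻¹ * (t * c) * d = t * (c * f y) := e.trans e111
  calc d⁻¹ * (t * (c * (d * (f y * (c * t))))) = (d⁻¹ * (t * c) * d) * (f y * (c * t)) := by group
    _ = t * c * (f y * f y) * c * t := by rw [e']; group
    _ = t * (c * c) * t := by rw [yy]; group
    _ = 1 := by rw [h.cc, mul_one, h.tt]

theorem r_x {a : Lt} {x : H} (ha : gl t c f d a = f x) (hd : f x * d * f x = d⁻¹) :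
    ((([a, .d, a, .d] : List Lt)).map (gl t c f d)).prod = 1 := by
  simp only [List.map_cons, List.map_nil, List.prod_cons, List.prod_nil, mul_one, ha]
  show f x * (d * (f x * d)) = 1
  calc f x * (d * (f x * d)) = (f x * d * f x) * d := by group
    _ = 1 := by rw [hd, inv_mul_cancel]

set_option maxRecDepth 100000 in
theorem base (h : CtxO t c f) (D : Dd t c f d) :
    ∀ w ∈ Cfsg.Agent.CoThreeStd.SuzP.Pres.rels.dropLast, (w.map (gl t c f d)).prod = 1 := by
  intro w hw
  simp only [Cfsg.Agent.CoThreeStd.SuzP.Pres.rels, List.dropLast, List.mem_cons, List.not_mem_nil, or_false] at hw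
  rcases hw with rfl | rfl | rfl | rfl | rfl | rfl | rfl | rfl | rfl | rfl | rfl | rfl | rfl | rfl | rfl | rfl | rfl | rfl | rfl | rfl | rfl | rfl | rfl | rfl | rfl | rfl | rfl | rfl | rfl | rfl | rfl | rfl | rfl | rfl | rfl | rfl | rfl | rfl | rfl | rfl | rfl | rfl | rfl | rfl | rfl | rfl | rfl
  · exact prod_M [.y, .y] (by decide) (by decide +kernel)
  · exact prod_M [.p, .p] (by decide) (by decide +kernel)
  · exact prod_M [.q, .q] (by decide) (by decide +kernel)
  · exact prod_M [.r, .r] (by decide) (by decide +kernel)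
  · exact prod_M [.s, .s] (by decide) (by decide +kernel)
  · exact prod_M [.b, .b] (by decide) (by decide +kernel)
  · exact r_cc h
  · exact r_tt h
  · exact r_dD
  · exact r_Dd
  · exact prod_M [.p, .q, .p, .q, .p, .q] (by decide) (by decide +kernel)
  · exact prod_M [.q, .r, .q, .r, .q, .r] (by decide) (by decide +kernel)
  · exact prod_M [.r, .s, .r, .s, .r, .s] (by decide) (by decide +kernel)
  · exact prod_M [.p, .r, .p, .r] (by decide) (by decide +kernel)
  · exact prod_M [.p, .s, .p, .s] (by decide) (by decide +kernel)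
  · exact prod_M [.q, .s, .q, .s] (by decide) (by decide +kernel)
  · exact prod_M [.y, .p, .y, .p] (by decide) (by decide +kernel)
  · exact prod_M [.y, .q, .y, .q] (by decide) (by decide +kernel)
  · exact prod_M [.y, .r, .y, .r] (by decide) (by decide +kernel)
  · exact prod_M [.y, .s, .y, .s] (by decide) (by decide +kernel)
  · exact prod_M [.b, .q, .b, .q, .b, .q] (by decide) (by decide +kernel)
  · exact prod_M [.b, .r, .b, .r, .b, .r] (by decide) (by decide +kernel)
  · exact prod_M [.b, .p, .q, .b, .p, .q, .b, .p, .q] (by decide) (by decide +kernel)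
  · exact prod_M [.b, .r, .s, .b, .r, .s, .b, .r, .s] (by decide) (by decide +kernel)
  · exact prod_M [.b, .p, .r, .b, .q, .s, .b, .p, .r, .b, .s, .q] (by decide) (by decide +kernel)
  · exact prod_M [.b, .p, .s, .y, .b, .s, .p, .y, .b, .y, .p, .s] (by decide) (by decide +kernel)
  · exact prod_M [.b, .p, .y, .b, .q, .y, .b, .p, .y, .b, .y, .q] (by decide) (by decide +kernel)
  · exact prod_C h [.y] [.y] (by decide) (by decide) (by decide +kernel)
  · exact prod_C h [.p] [.p, .y] (by decide) (by decide) (by decide +kernel)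
  · exact prod_C h [.q] [.q, .y] (by decide) (by decide) (by decide +kernel)
  · exact prod_C h [.r] [.r, .y] (by decide) (by decide) (by decide +kernel)
  · exact prod_C h [.s] [.s, .y] (by decide) (by decide) (by decide +kernel)
  · exact prod_C h [.b] [.s, .p, .b, .s, .p] (by decide) (by decide) (by decide +kernel)
  · exact prod_T h [.y] [.y] (by decide) (by decide) (by decide +kernel)
  · exact prod_T h [.p] [.p] (by decide) (by decide) (by decide +kernel)
  · exact prod_T h [.q] [.q] (by decide) (by decide) (by decide +kernel)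
  · exact prod_T h [.r] [.r] (by decide) (by decide) (by decide +kernel)
  · exact prod_T h [.s] [.s] (by decide) (by decide) (by decide +kernel)
  · exact prod_T h [.b] [.b] (by decide) (by decide) (by decide +kernel)
  · exact r_tc h
  · exact r_ddd D
  · exact r_a h D
  · exact r_b h D
  · exact r_x rfl  D.dp
  · exact r_x rfl  D.dq
  · exact r_x rfl  D.dr
  · exact r_x rfl  D.ds

/-- the last relator -/
def r0w : List Lt := [.D, .s, .b, .y, .p, .r, .b, .s, .d, .q, .s, .b, .y, .p, .r, .b, .s, .d, .q, .s, .b, .y, .p, .r, .b,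
  .s, .q]

theorem rels_eq : Cfsg.Agent.CoThreeStd.SuzP.Pres.rels = Cfsg.Agent.CoThreeStd.SuzP.Pres.rels.dropLast ++ [r0w] := rfl

/-- a word or the empty word -/
def oif (b : Bool) (w : List Lt) : List Lt := if b then w else []

/-- the words of the group of order 32 -/
def ew (i j k l m : Bool) : List Lt :=
  List.append (oif i [.t]) (List.append (oif j [.c]) (List.append (oif k [.y])
    (List.append (oif l [.p, .r]) (oif m [.q, .p, .r, .q]))))

theorem prod_oif (b : Bool) (w : List Lt) :
    ((oif b w).map (gl t c f d)).prod = if b then (w.map (gl t c f d)).prod else 1 := by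
  cases b <;> simp [oif]

theorem prod_append (u v : List Lt) :
    ((List.append u v).map (gl t c f d)).prod = (u.map (gl t c f d)).prod * (v.map (gl t c f d)).prod := by
  show ((u ++ v).map (gl t c f d)).prod = _
  rw [List.map_append, List.prod_append]

theorem prod_ew (i j k l m : Bool) : ((ew i j k l m).map (gl t c f d)).prod = V t c f i j k l m := by
  have e2 : ∀ (b : Bool) (l : List ℕ), wd (if b then l else []) = if b then wd l else 1 := by
    intro b l
    cases b <;> simp [wd_nil]
  have e3 : ∀ (b : Bool) (x : H), f (if b then x else 1) = if b then f x else 1 := by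
    intro b x
    cases b <;> simp
  have k1 : (([.y] : List Lt).map (gl t c f d)).prod = f (wd [0]) := by
    rw [prod_gl [.y] rfl, show List.map num ([.y] : List Lt) = [0] from rfl]
  have k2 : (([.p, .r] : List Lt).map (gl t c f d)).prod = f (wd [1, 3]) := by
    rw [prod_gl [.p, .r] rfl, show List.map num ([.p, .r] : List Lt) = [1, 3] from rfl]
  have k3 : (([.q, .p, .r, .q] : List Lt).map (gl t c f d)).prod = f (wd [2, 1, 3, 2]) := by
    rw [prod_gl [.q, .p, .r, .q] rfl, show List.map num ([.q, .p, .r, .q] : List Lt) = [2, 1, 3, 2] from rfl]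
  have k4 : (([.t] : List Lt).map (gl t c f d)).prod = t := by simp [gl]
  have k5 : (([.c] : List Lt).map (gl t c f d)).prod = c := by simp [gl]
  rw [ew, V, El, vw]
  simp only [prod_append, prod_oif, wd_append, map_mul, e2, e3]
  rw [k1, k2, k3, k4, k5]

/-- `s b y p r b s` -/
def nw : List Lt := [.s, .b, .y, .p, .r, .b, .s]

theorem prod_nw : (nw.map (gl t c f d)).prod = f (wd wn) := by
  rw [prod_gl nw rfl, show List.map num nw = wn from rfl]

theorem r0w_eq : r0w = List.append [.D] (List.append nw (List.append [.d] (List.append [.q] (List.append nw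
    (List.append [.d] (List.append [.q] (List.append nw [.q]))))))) := rfl

theorem prod_r0 : (r0w.map (gl t c f d)).prod = r0 f d := by
  have k2 : (([.q] : List Lt).map (gl t c f d)).prod = f (wd [2]) := by
    rw [prod_gl [.q] rfl, show List.map num ([.q] : List Lt) = [2] from rfl]
  have k3 : (([.D] : List Lt).map (gl t c f d)).prod = d⁻¹ := by simp [gl]
  have k4 : (([.d] : List Lt).map (gl t c f d)).prod = d := by simp [gl]
  rw [r0w_eq]
  simp only [prod_append, prod_nw, k2, k3, k4]
  rw [r0]
  simp only [mul_assoc]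

theorem V_sq (h : CtxO t c f) (i j k l m : Bool) : V t c f i j k l m * V t c f i j k l m = 1 := by
  have hm := ee_mem h i j k
  have h1 := (comm_v hm l m).eq
  have h2 : f (wd (vw false l m)) * f (wd (vw false l m)) = 1 := by
    rw [← map_mul, ← wd_append]
    have : ∀ l m : Bool, eqW (vw false l m ++ vw false l m) [] = true := by decide +kernel
    rw [wd_eq (this l m), wd_nil, map_one]
  rw [V_eq h]
  calc ee t c (f y) i j k * f (wd (vw false l m)) * (ee t c (f y) i j k * f (wd (vw false l m))) =
      ee t c (f y) i j k * (f (wd (vw false l m)) * ee t c (f y) i j k) * f (wd (vw false l m)) := by group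
    _ = (ee t c (f y) i j k * ee t c (f y) i j k) * (f (wd (vw false l m)) * f (wd (vw false l m))) := by
        rw [← h1]; group
    _ = 1 := by rw [ee_sq h, h2, one_mul]

/-- **The relators hold in `G`, the last one up to an element of the group of order 32.** -/
theorem main (h : CtxO t c f) (hy : ¬ IsConj t (t * f y)) (h1 : ¬ IsConj t c) (h2 : IsConj t (t * c)) :
    ∃ d, Dd t c f d ∧ (∀ w ∈ Cfsg.Agent.CoThreeStd.SuzP.Pres.rels.dropLast, (w.map (gl t c f d)).prod = 1) ∧
      ∃ i j k l m, ((r0w ++ ew i j k l m).map (gl t c f d)).prod = 1 := by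
  obtain ⟨d, D⟩ := exists_D h hy h1 h2
  obtain ⟨i, j, k, l, m, he⟩ := r0_mem h D
  have e : ((List.append r0w (ew i j k l m)).map (gl t c f d)).prod = 1 := by
    rw [prod_append, prod_r0, prod_ew, he, V_sq h]
  have hb := base h D
  exact ⟨d, D, hb, ⟨i, j, k, l, m, e⟩⟩

end Cfsg.Agent.CoThreeStd.OutR
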