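import Cfsg.Agent.CoThreeStd.OutBase

/-!
# S1750, `C_G(t) = ⟨t⟩ × M₁₂:2`, patterns with `t ~ t y`: the element `g`, second part (helper781)
-/

set_option autoImplicit false

namespace Cfsg.Agent.CoThreeStd.OutStep

open Cfsg.Agent.CoThreeStd.MTwelve Cfsg.Agent.CoThreeStd.OutAut Cfsg.Agent.CoThreeStd.OutCtx
open Cfsg.Agent.CoThreeStd.Gamma Cfsg.Agent.SporRec.Co3 Cfsg.Agent.CoThreeStd.OutBase

variable {G : Type*} [Group G] {t c : G} {f : H →* G}

/-- The group `⟨t, c, y⟩`. -/
def inE (t c : G) (f : H →* G) (v : G) : Prop := ∃ (i j k : ℕ), v = t ^ i * (c ^ j * f y ^ k)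

theorem cy (h : CtxO t c f) : Commute c (f y) := by
  show c * f y = f y * c
  rw [h.cf, alpha_y]

theorem ty (h : CtxO t c f) : Commute t (f y) := (h.comm y).symm

theorem inE_of_inV {v : G} (hv : inV t f v) : inE t c f v := by
  obtain ⟨i, j, rfl⟩ := hv
  exact ⟨i, 0, j, by rw [pow_zero, one_mul]⟩

theorem inE_one : inE t c f 1 := ⟨0, 0, 0, by simp⟩
theorem inE_c : inE t c f c := ⟨0, 1, 0, by simp⟩
theorem inE_y : inE t c f (f y) := ⟨0, 0, 1, by simp⟩

theorem inE_mul (h : CtxO t c f) {u v : G} (hu : inE t c f u) (hv : inE t c f v) : inE t c f (u * v) := by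
  obtain ⟨i, j, k, rfl⟩ := hu
  obtain ⟨i', j', k', rfl⟩ := hv
  have hct : Commute c t := h.ct
  have h1 : Commute (c ^ j * f y ^ k) (t ^ i') := (hct.pow_pow j i').mul_left ((ty h).symm.pow_pow k i')
  have h2 : Commute (f y ^ k) (c ^ j') := (cy h).symm.pow_pow k j'
  refine ⟨i + i', j + j', k + k', ?_⟩
  calc t ^ i * (c ^ j * f y ^ k) * (t ^ i' * (c ^ j' * f y ^ k'))
      = t ^ i * ((c ^ j * f y ^ k) * t ^ i') * (c ^ j' * f y ^ k') := by group
    _ = t ^ i * t ^ i' * (c ^ j * (f y ^ k * c ^ j') * f y ^ k') := by rw [h1.eq]; group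
    _ = t ^ i * t ^ i' * (c ^ j * c ^ j' * (f y ^ k * f y ^ k')) := by rw [h2.eq]; group
    _ = _ := by rw [pow_add, pow_add, pow_add]

theorem inE_comm (h : CtxO t c f) {u v : G} (hu : inE t c f u) (hv : inE t c f v) : Commute u v := by
  obtain ⟨i, j, k, rfl⟩ := hu
  obtain ⟨i', j', k', rfl⟩ := hv
  have hct : Commute c t := h.ct
  have h1 : Commute t (f y) := ty h
  have h2 : Commute c (f y) := cy h
  have k1 : ∀ x, Commute x t → Commute x c → Commute x (f y) → Commute x (t ^ i' * (c ^ j' * f y ^ k')) :=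
    fun x a b d => (a.pow_right i').mul_right ((b.pow_right j').mul_right (d.pow_right k'))
  refine Commute.mul_left ((k1 t (Commute.refl t) hct.symm h1).pow_left i) (Commute.mul_left
    ((k1 c hct (Commute.refl c) h2).pow_left j) ((k1 (f y) h1.symm h2.symm (Commute.refl _)).pow_left k))

theorem inE_sq (h : CtxO t c f) {u : G} (hu : inE t c f u) : u * u = 1 := by
  obtain ⟨i, j, k, rfl⟩ := hu
  have hct : Commute c t := h.ct
  have h1 : Commute t (f y) := ty h
  have h2 : Commute c (f y) := cy h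
  have hy : f y * f y = 1 := by rw [← map_mul, y_sq, map_one]
  have e1 : Commute (c ^ j * f y ^ k) (t ^ i) := ((hct.symm.pow_pow i j).mul_right (h1.pow_pow i k)).symm
  rw [e1.mul_mul_mul_comm, (h2.pow_pow j k).symm.mul_mul_mul_comm, ← (Commute.refl t).mul_pow, h.tt, one_pow,
    ← (Commute.refl c).mul_pow, h.cc, one_pow, ← (Commute.refl (f y)).mul_pow, hy, one_pow, one_mul, one_mul]

theorem inE_t (h : CtxO t c f) {u : G} (hu : inE t c f u) : u * t = t * u :=
  (inE_comm h hu (inE_of_inV ⟨1, 0, by simp⟩)).eq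

/-- `E` is normalised by `f (w σ)` -/
theorem inE_conj (h : CtxO t c f) {u : G} (hu : inE t c f u) (σ : P5) :
    inE t c f (f (w σ) * u * (f (w σ))⁻¹) ∧ (Equiv.Perm.sign σ = 1 → f (w σ) * u * (f (w σ))⁻¹ = u) := by
  obtain ⟨i, j, k, rfl⟩ := hu
  have h1 : f (w σ) * t * (f (w σ))⁻¹ = t := by rw [h.comm]; group
  have h2 : f (w σ) * f y * (f (w σ))⁻¹ = f y := by rw [← map_mul, ← y_comm, map_mul]; group
  have h3 : ∃ l : ℕ, f (w σ) * c * (f (w σ))⁻¹ = c * f y ^ l ∧ (Equiv.Perm.sign σ = 1 → l = 0) := by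
    have e1 : f (w σ) * c * (f (w σ))⁻¹ = c * (f (alpha (w σ)) * (f (w σ))⁻¹) := by
      have e2 : f (w σ) * c = c * f (alpha (w σ)) := by rw [h.cf, alpha_alpha]
      rw [e2]; group
    rcases Int.units_eq_one_or (Equiv.Perm.sign σ) with h4 | h4
    · exact ⟨0, by rw [e1, alpha_even h4]; group, fun _ => rfl⟩
    · refine ⟨1, ?_, fun h5 => absurd (h4.symm.trans h5) (by decide)⟩
      rw [e1, alpha_odd h4, map_mul]; group
  obtain ⟨l, h4, h5⟩ := h3
  have e1 : f (w σ) * (t ^ i * (c ^ j * f y ^ k)) * (f (w σ))⁻¹ =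
      (f (w σ) * t * (f (w σ))⁻¹) ^ i * ((f (w σ) * c * (f (w σ))⁻¹) ^ j * (f (w σ) * f y * (f (w σ))⁻¹) ^ k) := by
    rw [conj_pow, conj_pow, conj_pow]; group
  rw [e1, h1, h2, h4]
  constructor
  · refine inE_mul h ⟨i, 0, 0, by simp⟩ (inE_mul h ?_ ⟨0, 0, k, by simp⟩)
    refine ⟨0, j, l * j, ?_⟩
    rw [((cy h).pow_right l).mul_pow, pow_zero, one_mul, pow_mul]
  · intro h6
    rw [h5 h6, pow_zero, mul_one]

/-- `C(t) ∩ C(y)` -/
theorem decompE (h : CtxO t c f) {z : G} (h1 : z * t = t * z) (h2 : z * f y = f y * z) :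
    ∃ σ u, inE t c f u ∧ z = u * f (w σ) := by
  obtain ⟨⟨a, b, m⟩, rfl⟩ := El_surj h z h1
  have h3 := (comm_El_y h _).1 h2
  have h4 : inE t c f ((if a then t else 1) * (if b then c else 1)) := by
    cases a <;> cases b
    · exact ⟨0, 0, 0, by simp⟩
    · exact ⟨0, 1, 0, by simp⟩
    · exact ⟨1, 0, 0, by simp⟩
    · exact ⟨1, 1, 0, by simp⟩
  obtain ⟨σ, hσ | hσ⟩ := cent_y m h3
  · exact ⟨σ, _, h4, by rw [← hσ]; simp only [El, mul_assoc]⟩
  · refine ⟨σ, _, inE_mul h h4 inE_y, ?_⟩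
    show (if a then t else 1) * ((if b then c else 1) * f m) = _
    rw [hσ, map_mul]
    simp only [mul_assoc]

/-- elements of `E` in `f (w S₅)` are trivial -/
theorem inE_w (h : CtxO t c f) {σ : P5} (hu : inE t c f (f (w σ))) : σ = 1 := by
  obtain ⟨i, j, k, he⟩ := hu
  have hc := h.c_ne
  have hy : f y * f y = 1 := by rw [← map_mul, y_sq, map_one]
  have hv : inV t f (t ^ i * f y ^ k) := ⟨i, k, rfl⟩
  rcases pow_two_cases h.cc j with h1 | h1
  · rw [h1, one_mul] at he
    exact inV_w (toCx h) (by rw [he]; exact hv)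
  · exfalso
    rw [h1] at he
    have e1 : c = t ^ i * f (w σ * (y ^ k)⁻¹) := by
      have hti : Commute (t ^ i) c := (show Commute t c from h.ct.symm).pow_left i
      have hti2 : t ^ i * t ^ i = 1 := by
        rw [← (Commute.refl t).mul_pow, h.tt, one_pow]
      rw [map_mul, he, map_inv, map_pow]
      calc c = (t ^ i * t ^ i) * c := by rw [hti2, one_mul]
        _ = _ := by group
    rcases pow_two_cases h.tt i with h2 | h2
    · rw [h2, one_mul] at e1
      exact (hc _).1 e1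
    · rw [h2] at e1
      exact (hc _).2 e1

theorem uniqE (h : CtxO t c f) {u v : G} (hu : inE t c f u) (hv : inE t c f v) {σ τ : P5}
    (he : u * f (w σ) = v * f (w τ)) : u = v ∧ σ = τ := by
  have h1 : f (w (σ * τ⁻¹)) = u * v := by
    rw [map_mul, map_mul, map_inv, map_inv]
    have e : f (w σ) = u * (v * f (w τ)) := by
      rw [← he, ← mul_assoc, inE_sq h hu, one_mul]
    rw [e]; group
  have h2 : σ * τ⁻¹ = 1 := by
    apply inE_w h
    rw [h1]
    exact inE_mul h hu hv
  have h3 : σ = τ := mul_inv_eq_one.1 h2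
  subst h3
  exact ⟨mul_right_cancel he, rfl⟩

theorem normal_exp_two : ∀ σ : P5, σ * σ = 1 → (∀ τ : P5, (σ * (τ * σ * τ⁻¹)) * (σ * (τ * σ * τ⁻¹)) = 1) → σ = 1 := by
  decide +kernel

theorem three_cycle_pow {σ : P5} (h : σ.IsThreeCycle) : σ * σ * (σ * σ) = σ := by
  have h1 : σ ^ 3 = 1 := by rw [← h.orderOf, pow_orderOf_eq_one]
  calc σ * σ * (σ * σ) = σ ^ 3 * σ := by rw [pow_succ, pow_two]; simp only [mul_assoc]
    _ = σ := by rw [h1, one_mul]

/-- the last part of the construction of `g` -/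
theorem finish (cx : Cx t f) {x1 : G} (hx1t : x1 * t * x1⁻¹ = t * f y)
    (hx1w' : ∀ σ, f (w σ) * x1 = x1 * f (w σ)) (hx1y' : f y * x1 = x1 * f y) :
    ∃ g : G, g * g = 1 ∧ g * t * g⁻¹ = t * f y ∧ ∀ m, m * y = y * m → f m * g = g * f m := by
  have hyy : f y * f y = 1 := by rw [← map_mul, y_sq, map_one]
  have hx1y : x1 * f y * x1⁻¹ = f y := by rw [← hx1y']; group
  have hcomm : ∀ m, m * y = y * m → f m * x1 = x1 * f m := by
    intro m hm
    obtain ⟨σ, rfl | rfl⟩ := cent_y m hm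
    · exact hx1w' σ
    · rw [map_mul, mul_assoc, hx1w', ← mul_assoc, hx1y', mul_assoc]
  have hsqt : (x1 * x1) * t = t * (x1 * x1) := by
    rw [← mul_inv_eq_iff_eq_mul]
    calc x1 * x1 * t * (x1 * x1)⁻¹ = x1 * (x1 * t * x1⁻¹) * x1⁻¹ := by group
      _ = x1 * (t * f y) * x1⁻¹ := by rw [hx1t]
      _ = (x1 * t * x1⁻¹) * (x1 * f y * x1⁻¹) := by group
      _ = t * (f y * f y) := by rw [hx1t, hx1y]; group
      _ = t := by rw [hyy, mul_one]
  have hsqc : ∀ m, m * y = y * m → (x1 * x1) * f m = f m * (x1 * x1) := by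
    intro m hm
    have := hcomm m hm
    rw [← mul_assoc, this, mul_assoc x1 (f m), this, mul_assoc]
  obtain ⟨σ, v, hv, hσ⟩ := decomp2 cx hsqt (hsqc y rfl) (τ := Equiv.swap 3 4)
    (Equiv.Perm.sign_swap (by decide)) (hsqc _ (y_comm _).symm)
  have hσ1 : σ = 1 := by
    apply perm5_central
    intro τ
    have h4 := hsqc (w τ) (y_comm τ).symm
    rw [hσ] at h4
    have h5 : v * f (w (σ * τ)) = v * f (w (τ * σ)) := by
      rw [map_mul, map_mul, map_mul, map_mul, ← mul_assoc, h4, ← mul_assoc, ← mul_assoc, inV_comm_w cx hv]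
    exact w_injective (cx.inj (mul_left_cancel h5))
  rw [hσ1, map_one, map_one, mul_one] at hσ
  have hnt : x1 * t ≠ t * x1 := by
    intro h4
    rw [h4] at hx1t
    have h5 : f y = f 1 := by
      rw [map_one]
      apply mul_left_cancel (a := t)
      rw [← hx1t]; group
    exact y_ne_one (cx.inj h5)
  have htt := cx.tt
  rcases inV_cases cx hv with h5 | h5 | h5 | h5
  · exact ⟨x1, by rw [hσ, h5], hx1t, hcomm⟩
  · exfalso
    apply hnt
    rw [← h5, ← hσ]; group
  · refine ⟨t * x1, ?_, ?_, ?_⟩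
    · calc t * x1 * (t * x1) = t * (x1 * t * x1⁻¹) * (x1 * x1) := by group
        _ = (t * t) * (f y * f y) := by rw [hx1t, hσ, h5]; group
        _ = 1 := by rw [hyy, cx.tt, one_mul]
    · calc t * x1 * t * (t * x1)⁻¹ = t * (x1 * t * x1⁻¹) * t⁻¹ := by group
        _ = t * (t * f y) * t⁻¹ := by rw [hx1t]
        _ = t * (f y * t) * t⁻¹ := by rw [cx.comm]
        _ = _ := by group
    · intro m hm
      calc f m * (t * x1) = (f m * t) * x1 := by group
        _ = t * (f m * x1) := by rw [cx.comm]; group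
        _ = _ := by rw [hcomm m hm]; group
  · exfalso
    apply hnt
    have h6 : x1 * (t * f y) = (t * f y) * x1 := by rw [← h5, ← hσ]; group
    calc x1 * t = x1 * (t * f y) * (f y)⁻¹ := by group
      _ = t * (f y * x1) * (f y)⁻¹ := by rw [h6]; group
      _ = t * x1 := by rw [hx1y']; group

theorem exists_g [Finite G] (h : CtxO t c f) (h1 : IsConj t (t * f y)) (h2 : ¬ IsConj t (f y))
    (h3 : ¬ IsConj t (f (p * r))) :
    ∃ g : G, g * g = 1 ∧ g * t * g⁻¹ = t * f y ∧ ∀ m, m * y = y * m → f m * g = g * f m := by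
  obtain ⟨x, hxt, hxy⟩ := OutBase.exists_swap_t h h1 h2 h3
  have cx := toCx h
  have hyy : f y * f y = 1 := by rw [← map_mul, y_sq, map_one]
  have hxty : x * (t * f y) * x⁻¹ = t := by
    calc x * (t * f y) * x⁻¹ = (x * t * x⁻¹) * (x * f y * x⁻¹) := by group
      _ = t * (f y * f y) := by rw [hxt, hxy]; group
      _ = t := by rw [hyy, mul_one]
  -- the induced map on `S₅`
  have hstep : ∀ σ : P5, ∃ τ u, inE t c f u ∧ x * f (w σ) * x⁻¹ = u * f (w τ) := by
    intro σ
    apply decompE h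
    · have e : f (w σ) * (t * f y) = (t * f y) * f (w σ) := by
        have e1 : f (w σ) * f y = f y * f (w σ) := by rw [← map_mul, ← y_comm, map_mul]
        calc f (w σ) * (t * f y) = (f (w σ) * t) * f y := by group
          _ = t * (f (w σ) * f y) := by rw [h.comm]; group
          _ = _ := by rw [e1]; group
      calc x * f (w σ) * x⁻¹ * t = x * f (w σ) * x⁻¹ * (x * (t * f y) * x⁻¹) := by rw [hxty]
        _ = x * (f (w σ) * (t * f y)) * x⁻¹ := by group
        _ = (x * (t * f y) * x⁻¹) * (x * f (w σ) * x⁻¹) := by rw [e]; group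
        _ = _ := by rw [hxty]
    · have e1 : f (w σ) * f y = f y * f (w σ) := by rw [← map_mul, ← y_comm, map_mul]
      calc x * f (w σ) * x⁻¹ * f y = x * f (w σ) * x⁻¹ * (x * f y * x⁻¹) := by rw [hxy]
        _ = x * (f (w σ) * f y) * x⁻¹ := by group
        _ = (x * f y * x⁻¹) * (x * f (w σ) * x⁻¹) := by rw [e1]; group
        _ = _ := by rw [hxy]
  choose α u hu hα using hstep
  have hmul : ∀ σ τ, u (σ * τ) = u σ * (f (w (α σ)) * u τ * (f (w (α σ)))⁻¹) ∧ α (σ * τ) = α σ * α τ := by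
    intro σ τ
    apply uniqE h (hu _) (inE_mul h (hu _) (inE_conj h (hu _) _).1)
    rw [← hα]
    calc x * f (w (σ * τ)) * x⁻¹ = (x * f (w σ) * x⁻¹) * (x * f (w τ) * x⁻¹) := by
          rw [map_mul, map_mul]; group
      _ = u σ * f (w (α σ)) * (u τ * f (w (α τ))) := by rw [hα, hα]
      _ = _ := by rw [map_mul, map_mul]; group
  let A : P5 →* P5 := MonoidHom.mk' α (fun σ τ => (hmul σ τ).2)
  have hker : ∀ σ, α σ = 1 → σ * σ = 1 := by
    intro σ hσ
    have h4 : x * f (w σ) * x⁻¹ = u σ := by rw [hα, hσ, map_one, map_one, mul_one]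
    have h5 := inE_sq h (hu σ)
    rw [← h4] at h5
    apply w_injective
    apply h.inj
    rw [map_mul, map_mul, map_one, map_one]
    calc f (w σ) * f (w σ) = x⁻¹ * (x * f (w σ) * x⁻¹ * (x * f (w σ) * x⁻¹)) * x := by group
      _ = 1 := by rw [h5]; group
  have hinj : Function.Injective A := by
    rw [injective_iff_map_eq_one]
    intro σ hσ
    apply normal_exp_two σ (hker σ hσ)
    intro τ
    apply hker
    show A (σ * (τ * σ * τ⁻¹)) = 1
    rw [map_mul, map_mul, map_mul, map_inv, hσ]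
    group
  obtain ⟨κ, hκ⟩ := Cfsg.Agent.CoThreeStd.SymFive.inner A hinj
  -- adjust
  obtain ⟨x1, hx1⟩ : ∃ x1, x1 = (f (w κ))⁻¹ * x := ⟨_, rfl⟩
  have hkc : ∀ v, inV t f v → (f (w κ))⁻¹ * v * f (w κ) = v := by
    intro v hv
    rw [mul_assoc, inV_comm_w cx hv]; group
  have hVt : inV t f t := ⟨1, 0, by simp⟩
  have hVy : inV t f (f y) := ⟨0, 1, by simp⟩
  have hx1t : x1 * t * x1⁻¹ = t * f y := by
    calc x1 * t * x1⁻¹ = (f (w κ))⁻¹ * (x * t * x⁻¹) * f (w κ) := by rw [hx1]; group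
      _ = _ := by rw [hxt, hkc _ (inV_mul cx hVt hVy)]
  have hx1y : x1 * f y * x1⁻¹ = f y := by
    calc x1 * f y * x1⁻¹ = (f (w κ))⁻¹ * (x * f y * x⁻¹) * f (w κ) := by rw [hx1]; group
      _ = _ := by rw [hxy, hkc _ hVy]
  have hx1w : ∀ σ, ∃ v, inE t c f v ∧ x1 * f (w σ) * x1⁻¹ = v * f (w σ) := by
    intro σ
    refine ⟨(f (w κ))⁻¹ * u σ * f (w κ), ?_, ?_⟩
    · have := (inE_conj h (hu σ) κ⁻¹).1
      rwa [map_inv, map_inv, inv_inv] at this
    · calc x1 * f (w σ) * x1⁻¹ = (f (w κ))⁻¹ * (x * f (w σ) * x⁻¹) * f (w κ) := by rw [hx1]; group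
        _ = ((f (w κ))⁻¹ * u σ * f (w κ)) * ((f (w κ))⁻¹ * f (w (A σ)) * f (w κ)) := by
          rw [hα]; show _ = _ * ((f (w κ))⁻¹ * f (w (α σ)) * f (w κ)); group
        _ = _ := by
          rw [hκ, map_mul, map_mul, map_mul, map_mul, map_inv, map_inv]; group
  choose v hv hx1v using hx1w
  have hvmul : ∀ σ τ, v (σ * τ) = v σ * (f (w σ) * v τ * (f (w σ))⁻¹) := by
    intro σ τ
    have e1 : v (σ * τ) * f (w (σ * τ)) = v σ * (f (w σ) * v τ * (f (w σ))⁻¹) * f (w (σ * τ)) := by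
      rw [← hx1v]
      calc x1 * f (w (σ * τ)) * x1⁻¹ = (x1 * f (w σ) * x1⁻¹) * (x1 * f (w τ) * x1⁻¹) := by
            rw [map_mul, map_mul]; group
        _ = v σ * f (w σ) * (v τ * f (w τ)) := by rw [hx1v, hx1v]
        _ = _ := by rw [map_mul, map_mul]; group
    exact mul_right_cancel e1
  -- trivial on even elements
  have hv1 : v 1 = 1 := by
    have := hvmul 1 1
    rw [mul_one, map_one, map_one, inv_one, one_mul, mul_one] at this
    exact (mul_eq_left.1 this.symm)
  have hveven : ∀ σ, Equiv.Perm.sign σ = 1 → v σ = 1 := by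
    intro σ hσ
    have hmem : σ ∈ Subgroup.closure {σ : P5 | σ.IsThreeCycle} := by
      rw [Equiv.Perm.closure_three_cycles_eq_alternating]
      exact Equiv.Perm.mem_alternatingGroup.2 hσ
    have hsg : ∀ σ ∈ Subgroup.closure {σ : P5 | σ.IsThreeCycle}, Equiv.Perm.sign σ = 1 := by
      intro σ hσ
      rw [Equiv.Perm.closure_three_cycles_eq_alternating] at hσ
      exact Equiv.Perm.mem_alternatingGroup.1 hσ
    clear hσ
    induction hmem using Subgroup.closure_induction with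
    | mem σ hσ =>
      have h5 : σ.IsThreeCycle := hσ
      have h6 : Equiv.Perm.sign (σ * σ) = 1 := by
        rw [map_mul, h5.sign, one_mul]
      have h7 := hvmul (σ * σ) (σ * σ)
      rw [three_cycle_pow h5, (inE_conj h (hv (σ * σ)) (σ * σ)).2 h6, inE_sq h (hv _)] at h7
      exact h7
    | one => exact hv1
    | mul a b _ _ ha hb =>
      rw [hvmul, ha, hb]; group
    | inv a ha' ha =>
      have h7 := hvmul a a⁻¹
      rw [mul_inv_cancel, hv1, ha, one_mul] at h7
      calc v a⁻¹ = (f (w a))⁻¹ * (f (w a) * v a⁻¹ * (f (w a))⁻¹) * f (w a) := by group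
        _ = 1 := by rw [← h7]; group
  -- constant on odd elements
  have hvodd : ∀ σ, Equiv.Perm.sign σ = -1 → v σ = v (Equiv.swap 3 4) := by
    intro σ hσ
    have h5 : Equiv.Perm.sign (σ * Equiv.swap 3 4) = 1 := by
      rw [map_mul, hσ, Equiv.Perm.sign_swap (by decide)]; decide
    have h6 := hvmul (σ * Equiv.swap 3 4) (Equiv.swap 3 4)
    rw [mul_assoc, Equiv.swap_mul_self, mul_one, hveven _ h5, one_mul, (inE_conj h (hv _) _).2 h5] at h6
    exact h6
  have hss : f s * f s = 1 := by rw [← map_mul, s_sq, map_one]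
  have hvs := hx1v (Equiv.swap 3 4)
  rw [w_s] at hvs
  have hvV : inV t f (v (Equiv.swap 3 4)) := by
    obtain ⟨i, j, k, he⟩ := hv (Equiv.swap 3 4)
    rcases pow_two_cases h.cc j with h5 | h5
    · rw [he, h5, one_mul]
      exact ⟨i, k, rfl⟩
    · exfalso
      rw [h5] at he
      have e1 : (v (Equiv.swap 3 4) * f s) * (v (Equiv.swap 3 4) * f s) = 1 := by
        rw [← hvs]
        calc x1 * f s * x1⁻¹ * (x1 * f s * x1⁻¹) = x1 * (f s * f s) * x1⁻¹ := by group
          _ = 1 := by rw [hss]; group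
      -- `v = v' c` with `v' ∈ ⟨t, y⟩`
      have hv' : inV t f (t ^ i * f y ^ k) := ⟨i, k, rfl⟩
      obtain ⟨v', hv'e⟩ : ∃ v', v' = t ^ i * f y ^ k := ⟨_, rfl⟩
      rw [← hv'e] at hv'
      have e2 : v (Equiv.swap 3 4) = v' * c := by
        have : Commute c (f y ^ k) := (cy h).pow_right k
        rw [he, hv'e, this.eq]; group
      have e3 : c * v' = v' * c := (inE_comm h inE_c (inE_of_inV hv')).eq
      have e4 : f s * v' = v' * f s := by rw [← w_s]; exact (inV_comm_w cx hv' _).symm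
      have e5 : c * f s * c = f y * f s := by
        have h6 : f (alpha s) = f (y * s) := by
          rw [← w_s, alpha_odd (Equiv.Perm.sign_swap (by decide))]
        rw [h.cf, h6, mul_assoc, h.cc, mul_one, map_mul]
      rw [e2] at e1
      have e6 : v' * c * f s * (v' * c * f s) = f y := by
        calc v' * c * f s * (v' * c * f s) = v' * c * (f s * v') * c * f s := by group
          _ = v' * (c * v') * f s * c * f s := by rw [e4]; group
          _ = (v' * v') * (c * f s * c) * f s := by rw [e3]; group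
          _ = f y * (f s * f s) := by rw [inV_sq cx hv', e5]; group
          _ = f y := by rw [hss, mul_one]
      rw [e6] at e1
      exact y_ne_one (h.inj (by rw [e1, map_one]))
  have hsp : ∀ e : H, (∃ n, n⁻¹ * y * n = e) → x1 * f p * x1⁻¹ = t * f e → False := by
    rintro e ⟨n, hn⟩ h4
    apply h2
    have h5 : IsConj t (x1 * f p * x1⁻¹) := by
      rw [h4]
      refine h1.trans (isConj_iff.2 ⟨(f n)⁻¹, ?_⟩)
      rw [← hn, map_mul, map_mul, map_inv]
      have h6 : (f n)⁻¹ * t = t * (f n)⁻¹ := by rw [← map_inv]; exact h.comm _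
      calc (f n)⁻¹ * (t * f y) * (f n)⁻¹⁻¹ = ((f n)⁻¹ * t) * f y * f n := by group
        _ = (t * (f n)⁻¹) * f y * f n := by rw [h6]
        _ = _ := by group
    have h6 : IsConj t (f p) := h5.trans (isConj_iff.2 ⟨x1⁻¹, by group⟩)
    exact conj_of_class h6 p_class
  have hvp := hx1v (Equiv.swap 0 1)
  rw [hvodd _ (Equiv.Perm.sign_swap (by decide)), w_p] at hvp
  -- the two cases
  rcases inV_cases cx hvV with h5 | h5 | h5 | h5
  · apply finish cx hx1t
    · intro σ
      have h6 : v σ = 1 := by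
        rcases Int.units_eq_one_or (Equiv.Perm.sign σ) with h7 | h7
        · exact hveven σ h7
        · rw [hvodd σ h7, h5]
      have h8 := hx1v σ
      rw [h6, one_mul, mul_inv_eq_iff_eq_mul] at h8
      exact h8.symm
    · rw [mul_inv_eq_iff_eq_mul] at hx1y
      exact hx1y.symm
  · exfalso
    rw [h5] at hvp
    exact hsp p p_class hvp
  · -- replace `x1` by `x1 c`
    have e0 : c * f y = f y * c := (cy h).eq
    apply finish (x1 := x1 * c) cx
    · calc x1 * c * t * (x1 * c)⁻¹ = x1 * (c * t) * c⁻¹ * x1⁻¹ := by group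
        _ = x1 * t * x1⁻¹ := by rw [h.ct]; group
        _ = _ := hx1t
    · intro σ
      have h8 := hx1v σ
      rw [mul_inv_eq_iff_eq_mul] at h8
      rcases Int.units_eq_one_or (Equiv.Perm.sign σ) with h7 | h7
      · rw [hveven σ h7, one_mul] at h8
        calc f (w σ) * (x1 * c) = (f (w σ) * x1) * c := by group
          _ = x1 * (f (alpha (w σ)) * c) := by rw [← h8, alpha_even h7]; group
          _ = x1 * c * f (w σ) := by rw [← h.cf]; group
      · rw [hvodd σ h7, h5] at h8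
        rw [mul_inv_eq_iff_eq_mul] at hx1y
        symm
        calc x1 * c * f (w σ) = x1 * (c * f (w σ)) := by group
          _ = x1 * f y * f (w σ) * c := by rw [h.cf, alpha_odd h7, map_mul]; group
          _ = f y * (x1 * f (w σ)) * c := by rw [hx1y]; group
          _ = (f y * f y) * f (w σ) * x1 * c := by rw [h8]; group
          _ = _ := by rw [hyy]; group
    · rw [mul_inv_eq_iff_eq_mul] at hx1y
      calc f y * (x1 * c) = (f y * x1) * c := by group
        _ = x1 * (f y * c) := by rw [← hx1y]; group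
        _ = _ := by rw [← e0]; group
  · exfalso
    rw [h5] at hvp
    exact hsp (y * p) yp_class (by rw [hvp, map_mul]; group)

end Cfsg.Agent.CoThreeStd.OutStep
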