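import Cfsg.Agent.CoThreeStd.OutCtx
import Cfsg.Agent.CoThreeStd.DeltaLoc

/-!
# S1750, pattern P3 (`Suz:2`): the last relation (helper810)

`C_G(t) = ⟨t⟩ × f(M₁₂)⟨c⟩`, `d` of order three with `t ↦ t c ↦ t c y ↦ t`, centralising `A₅` and inverted by the
transpositions. With `n = s b y p r b s` the element `d⁻¹ n d q n d q n q` lies in the elementary abelian
group `E32 = ⟨t, y, c, p r, q p r q⟩`, because it centralises it and `C_G(E32) = E32`.
-/

set_option autoImplicit false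

namespace Cfsg.Agent.CoThreeStd.OutT

open Cfsg.Agent.CoThreeStd.MTwelve hiding w cj
open Cfsg.Agent.CoThreeStd.OutAut Cfsg.Agent.CoThreeStd.OutCtx
open Cfsg.Agent.CoThreeStd.DeltaLoc (cj cj_apply cj_cj cj_of_comm comm_of_cj)

/-- the element of order three of pattern P3 -/
structure TrD {G : Type*} [Group G] (t c d : G) (f : H →* G) : Prop where
  C : CtxO t c f
  ddd : d * d * d = 1
  dt : d⁻¹ * t * d = t * c
  dtc : d⁻¹ * (t * c) * d = t * c * f y
  /-- `d` commutes with `A₅` -/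
  dw : ∀ σ : Equiv.Perm (Fin 5), Equiv.Perm.sign σ = 1 → d * f (MTwelve.w σ) = f (MTwelve.w σ) * d
  dp : f p * d * (f p * d) = 1
  dq : f q * d * (f q * d) = 1
  dr : f r * d * (f r * d) = 1
  ds : f s * d * (f s * d) = 1

theorem TrD.of {G : Type*} [Group G] {t c d : G} {f : H →* G} (C : CtxO t c f) (h3 : d * d * d = 1)
    (h1 : d⁻¹ * t * d = t * c) (h2 : d⁻¹ * (t * c) * d = t * c * f y)
    (he : ∀ σ : Equiv.Perm (Fin 5), Equiv.Perm.sign σ = 1 → d * f (MTwelve.w σ) = f (MTwelve.w σ) * d)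
    (ho : ∀ σ : Equiv.Perm (Fin 5), Equiv.Perm.sign σ = -1 →
      f (MTwelve.w σ) * d * (f (MTwelve.w σ))⁻¹ = d⁻¹) : TrD t c d f := by
  have key : ∀ i j : Fin 5, i ≠ j → f (MTwelve.w (Equiv.swap i j)) * d * (f (MTwelve.w (Equiv.swap i j)) * d) = 1 := by
    intro i j hij
    have h4 := ho _ (Equiv.Perm.sign_swap hij)
    have h5 : (f (MTwelve.w (Equiv.swap i j)))⁻¹ = f (MTwelve.w (Equiv.swap i j)) := by
      rw [← map_inv, ← map_inv, Equiv.swap_inv]
    rw [h5] at h4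
    rw [← mul_assoc, h4, inv_mul_cancel]
  refine ⟨C, h3, h1, h2, he, ?_, ?_, ?_, ?_⟩
  · rw [← w_p]; exact key _ _ (by decide)
  · rw [← w_q]; exact key _ _ (by decide)
  · rw [← w_r]; exact key _ _ (by decide)
  · rw [← w_s]; exact key _ _ (by decide)

/-! ### elementary abelian group of order 32 as a list of bits -/

section bits

variable {G : Type*} [Group G]

/-- power with a bit -/
def pw (a : Bool) (g : G) : G := if a then g else 1

theorem pw_xor {g : G} (hg : g * g = 1) (a a' : Bool) : pw (a ^^ a') g = pw a g * pw a' g := by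
  cases a <;> cases a' <;> simp [pw, hg]

theorem map_pw {K : Type*} [Group K] (φ : G →* K) (a : Bool) (g : G) : φ (pw a g) = pw a (φ g) := by
  cases a <;> simp [pw]

theorem pw_comm {g h : G} (hg : Commute g h) (a a' : Bool) : Commute (pw a g) (pw a' h) := by
  cases a <;> cases a' <;> simp [pw, hg]

/-- five commuting involutions -/
structure Five (e0 e1 e2 e3 e4 : G) : Prop where
  s0 : e0 * e0 = 1
  s1 : e1 * e1 = 1
  s2 : e2 * e2 = 1
  s3 : e3 * e3 = 1
  s4 : e4 * e4 = 1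
  c01 : Commute e0 e1
  c02 : Commute e0 e2
  c03 : Commute e0 e3
  c04 : Commute e0 e4
  c12 : Commute e1 e2
  c13 : Commute e1 e3
  c14 : Commute e1 e4
  c23 : Commute e2 e3
  c24 : Commute e2 e4
  c34 : Commute e3 e4

/-- the element with the bits of `x` -/
def ev (e0 e1 e2 e3 e4 : G) (x : ℕ) : G :=
  pw (x.testBit 0) e0 * (pw (x.testBit 1) e1 * (pw (x.testBit 2) e2 * (pw (x.testBit 3) e3 * pw (x.testBit 4) e4)))

variable {e0 e1 e2 e3 e4 : G}

theorem ev_xor (h : Five e0 e1 e2 e3 e4) (x z : ℕ) :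
    ev e0 e1 e2 e3 e4 (x ^^^ z) = ev e0 e1 e2 e3 e4 x * ev e0 e1 e2 e3 e4 z := by
  simp only [ev, Nat.testBit_xor, pw_xor h.s0, pw_xor h.s1, pw_xor h.s2, pw_xor h.s3, pw_xor h.s4]
  have key : ∀ a a' b b' : G, Commute b a' → a * a' * (b * b') = a * b * (a' * b') := by
    intro a a' b b' hb
    calc a * a' * (b * b') = a * (a' * b) * b' := by group
      _ = a * (b * a') * b' := by rw [hb.eq]
      _ = _ := by group
  set a0 := pw (x.testBit 0) e0 with ha0
  set a1 := pw (x.testBit 1) e1 with ha1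
  set a2 := pw (x.testBit 2) e2 with ha2
  set a3 := pw (x.testBit 3) e3 with ha3
  set a4 := pw (x.testBit 4) e4 with ha4
  set b0 := pw (z.testBit 0) e0 with hb0
  set b1 := pw (z.testBit 1) e1 with hb1
  set b2 := pw (z.testBit 2) e2 with hb2
  set b3 := pw (z.testBit 3) e3 with hb3
  set b4 := pw (z.testBit 4) e4 with hb4
  have r3 : a3 * b3 * (a4 * b4) = a3 * a4 * (b3 * b4) := key _ _ _ _ (pw_comm h.c34.symm _ _)
  have r2 : a2 * b2 * (a3 * a4 * (b3 * b4)) = a2 * (a3 * a4) * (b2 * (b3 * b4)) :=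
    key _ _ _ _ ((pw_comm h.c23.symm _ _).mul_left (pw_comm h.c24.symm _ _))
  have r1 : a1 * b1 * (a2 * (a3 * a4) * (b2 * (b3 * b4))) = a1 * (a2 * (a3 * a4)) * (b1 * (b2 * (b3 * b4))) :=
    key _ _ _ _ ((pw_comm h.c12.symm _ _).mul_left ((pw_comm h.c13.symm _ _).mul_left (pw_comm h.c14.symm _ _)))
  have r0 : a0 * b0 * (a1 * (a2 * (a3 * a4)) * (b1 * (b2 * (b3 * b4)))) =
      a0 * (a1 * (a2 * (a3 * a4))) * (b0 * (b1 * (b2 * (b3 * b4)))) :=
    key _ _ _ _ ((pw_comm h.c01.symm _ _).mul_left ((pw_comm h.c02.symm _ _).mul_left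
      ((pw_comm h.c03.symm _ _).mul_left (pw_comm h.c04.symm _ _))))
  rw [r3, r2, r1, r0]

/-- `if` on numbers -/
def pn (a : Bool) (n : ℕ) : ℕ := bif a then n else 0

/-- the linear map with images `m0 .. m4` -/
def lin (m0 m1 m2 m3 m4 x : ℕ) : ℕ :=
  pn (x.testBit 0) m0 ^^^ (pn (x.testBit 1) m1 ^^^ (pn (x.testBit 2) m2 ^^^
    (pn (x.testBit 3) m3 ^^^ pn (x.testBit 4) m4)))

theorem ev_zero : ev e0 e1 e2 e3 e4 0 = 1 := by simp [ev, pw]

theorem ev_pn (a : Bool) (n : ℕ) : ev e0 e1 e2 e3 e4 (pn a n) = pw a (ev e0 e1 e2 e3 e4 n) := by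
  cases a
  · simp [pn, pw, ev_zero]
  · simp [pn, pw]

theorem map_ev (h : Five e0 e1 e2 e3 e4) (φ : G →* G) {m0 m1 m2 m3 m4 : ℕ}
    (h0 : φ e0 = ev e0 e1 e2 e3 e4 m0) (h1 : φ e1 = ev e0 e1 e2 e3 e4 m1) (h2 : φ e2 = ev e0 e1 e2 e3 e4 m2)
    (h3 : φ e3 = ev e0 e1 e2 e3 e4 m3) (h4 : φ e4 = ev e0 e1 e2 e3 e4 m4) (x : ℕ) :
    φ (ev e0 e1 e2 e3 e4 x) = ev e0 e1 e2 e3 e4 (lin m0 m1 m2 m3 m4 x) := by
  rw [lin, ev_xor h, ev_xor h, ev_xor h, ev_xor h]
  simp only [ev_pn, ← h0, ← h1, ← h2, ← h3, ← h4]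
  rw [ev]
  simp only [map_mul, map_pw]

end bits

theorem lin_d : ∀ x < 32, lin 5 6 2 8 16 (lin 7 4 6 8 16 x) = x := by decide

/-- the composite of the nine conjugations -/
theorem lin_all : ∀ x < 32, lin 1 2 6 16 8 (lin 1 18 14 24 16 (lin 1 2 6 16 8 (lin 5 6 2 8 16 (lin 1 18 14 24 16
    (lin 1 2 6 16 8 (lin 5 6 2 8 16 (lin 1 18 14 24 16 (lin 7 4 6 8 16 x)))))))) = x := by decide

variable {G : Type*} [Group G] {t c d : G} {f : H →* G}

/-- the word `n = s b y p r b s` -/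
abbrev nn : H := wd [4, 5, 0, 1, 3, 5, 4]
abbrev v1 : H := p * r
abbrev v2 : H := q * p * r * q

/-- the element of `E32` with bits `x` -/
abbrev E (t c : G) (f : H →* G) (x : ℕ) : G := ev t (f y) c (f v1) (f v2) x

theorem w_v1 : v1 = MTwelve.w (Equiv.swap 0 1 * Equiv.swap 2 3) := by rw [map_mul, w_p, w_r]
theorem w_v2 : v2 = MTwelve.w (Equiv.swap 1 2 * Equiv.swap 0 1 * Equiv.swap 2 3 * Equiv.swap 1 2) := by
  rw [map_mul, map_mul, map_mul, w_p, w_r, w_q]

theorem sign1 : Equiv.Perm.sign (Equiv.swap (0 : Fin 5) 1 * Equiv.swap 2 3) = 1 := by decide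
theorem sign2 : Equiv.Perm.sign (Equiv.swap (1 : Fin 5) 2 * Equiv.swap 0 1 * Equiv.swap 2 3 * Equiv.swap 1 2) = 1 := by
  decide

theorem alpha_v1 : alpha v1 = v1 := by rw [w_v1]; exact alpha_even sign1
theorem alpha_v2 : alpha v2 = v2 := by rw [w_v2]; exact alpha_even sign2

theorem v1_sq : v1 * v1 = 1 := by
  rw [w_v1, ← map_mul, ← map_one MTwelve.w]; congr 1; decide
theorem v2_sq : v2 * v2 = 1 := by
  rw [w_v2, ← map_mul, ← map_one MTwelve.w]; congr 1; decide
theorem v12 : v1 * v2 = v2 * v1 := by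
  rw [w_v1, w_v2, ← map_mul, ← map_mul]; congr 1; decide
theorem y_v1 : y * v1 = v1 * y := by rw [w_v1]; exact y_comm _
theorem y_v2 : y * v2 = v2 * y := by rw [w_v2]; exact y_comm _

theorem five (h : CtxO t c f) : Five t (f y) c (f v1) (f v2) where
  s0 := h.tt
  s1 := by rw [← map_mul, y_sq, map_one]
  s2 := h.cc
  s3 := by rw [← map_mul, v1_sq, map_one]
  s4 := by rw [← map_mul, v2_sq, map_one]
  c01 := (h.comm _).symm
  c02 := h.ct.symm
  c03 := (h.comm _).symm
  c04 := (h.comm _).symm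
  c12 := by
    show f y * c = c * f y
    rw [h.cf, alpha_y]
  c13 := by show f y * f v1 = f v1 * f y; rw [← map_mul, ← map_mul, y_v1]
  c14 := by show f y * f v2 = f v2 * f y; rw [← map_mul, ← map_mul, y_v2]
  c23 := by
    show c * f v1 = f v1 * c
    rw [h.cf, alpha_v1]
  c24 := by
    show c * f v2 = f v2 * c
    rw [h.cf, alpha_v2]
  c34 := by show f v1 * f v2 = f v2 * f v1; rw [← map_mul, ← map_mul, v12]

/-! ### the action of the letters -/

section act

variable {e0 e1 e2 e3 e4 : G}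

theorem ev_t : ev e0 e1 e2 e3 e4 1 = e0 := by simp [ev, pw, Nat.testBit]
theorem ev_y : ev e0 e1 e2 e3 e4 2 = e1 := by simp [ev, pw, Nat.testBit]
theorem ev_c : ev e0 e1 e2 e3 e4 4 = e2 := by simp [ev, pw, Nat.testBit]
theorem ev_v : ev e0 e1 e2 e3 e4 8 = e3 := by simp [ev, pw, Nat.testBit]
theorem ev_v' : ev e0 e1 e2 e3 e4 16 = e4 := by simp [ev, pw, Nat.testBit]
theorem ev_5 : ev e0 e1 e2 e3 e4 5 = e0 * e2 := by simp [ev, pw, Nat.testBit]
theorem ev_6 : ev e0 e1 e2 e3 e4 6 = e1 * e2 := by simp [ev, pw, Nat.testBit]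
theorem ev_7 : ev e0 e1 e2 e3 e4 7 = e0 * (e1 * e2) := by simp [ev, pw, Nat.testBit]
theorem ev_14 : ev e0 e1 e2 e3 e4 14 = e1 * (e2 * e3) := by simp [ev, pw, Nat.testBit]
theorem ev_18 : ev e0 e1 e2 e3 e4 18 = e1 * e4 := by simp [ev, pw, Nat.testBit]
theorem ev_24 : ev e0 e1 e2 e3 e4 24 = e3 * e4 := by simp [ev, pw, Nat.testBit]

end act

/-- conjugation by `f m` on `f x` -/
theorem cjf {m x z : H} (h : x * m = m * z) : cj (f m) (f x) = f z := by
  rw [cj_apply, ← map_inv, ← map_mul, ← map_mul, mul_assoc, h, inv_mul_cancel_left]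

/-- conjugation by `f m` on `c` -/
theorem cjc (C : CtxO t c f) {m z : H} (h : alpha m * z = m) : cj (f m) c = c * f z := by
  rw [cj_apply]
  have h1 : (f m)⁻¹ * c = c * f (alpha m)⁻¹ := by
    rw [← map_inv, ← map_inv, C.cf, alpha_alpha]
  rw [h1, mul_assoc, ← map_mul]
  congr 2
  rw [inv_mul_eq_iff_eq_mul]
  exact h.symm

theorem cjt (C : CtxO t c f) (m : H) : cj (f m) t = t := cj_of_comm (C.comm m).symm

theorem act_q (C : CtxO t c f) (x : ℕ) : cj (f q) (E t c f x) = E t c f (lin 1 2 6 16 8 x) := by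
  apply map_ev (five C)
  · rw [ev_t]; exact cjt C _
  · rw [ev_y]; apply cjf; rw [← w_q]; exact y_comm _
  · rw [ev_6, cjc C (z := y)]
    · rw [C.cf, alpha_y]
    · rw [← w_q, alpha_odd (Equiv.Perm.sign_swap (by decide)), mul_assoc, ← y_comm, ← mul_assoc, y_sq, one_mul]
  · rw [ev_v']
    apply cjf
    have : q * q = 1 := gen_sq 2
    rw [v1, v2]
    calc p * r * q = (q * q) * (p * r) * q := by rw [this, one_mul]
      _ = _ := by group
  · rw [ev_v]
    apply cjf
    have : q * q = 1 := gen_sq 2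
    rw [v1, v2]
    calc q * p * r * q * q = q * (p * r) * (q * q) := by group
      _ = _ := by rw [this, mul_one]

theorem wd_v1 : wd [1, 3] = v1 := wd_pr
theorem wd_v2 : wd [2, 1, 3, 2] = v2 := by
  rw [show ([2, 1, 3, 2] : List ℕ) = [2] ++ [1] ++ [3] ++ [2] from rfl]
  simp only [wd_append, wd_q, wd_p, wd_r]

theorem act_n (C : CtxO t c f) (x : ℕ) : cj (f nn) (E t c f x) = E t c f (lin 1 18 14 24 16 x) := by
  have h1 : y * nn = nn * (y * v2) := by
    rw [← wd_v2, nn, ← wd_y, ← wd_append, ← wd_append, ← wd_append]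
    exact wd_eq (by decide +kernel)
  have h2 : alpha nn * (y * v1) = nn := by
    rw [← wd_v1, nn, alpha_wd, ← wd_y, ← wd_append, ← wd_append]
    exact wd_eq (by decide +kernel)
  have h3 : v1 * nn = nn * (v1 * v2) := by
    rw [← wd_v2, ← wd_v1, nn, ← wd_append, ← wd_append, ← wd_append]
    exact wd_eq (by decide +kernel)
  have h4 : v2 * nn = nn * v2 := by
    rw [← wd_v2, nn, ← wd_append, ← wd_append]
    exact wd_eq (by decide +kernel)
  have F := five C
  apply map_ev F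
  · rw [ev_t]; exact cjt C _
  · rw [ev_18, ← map_mul]; exact cjf h1
  · rw [ev_14, cjc C h2, map_mul, ← mul_assoc, ← F.c12.eq, mul_assoc]
  · rw [ev_24, ← map_mul]; exact cjf h3
  · rw [ev_v']; exact cjf h4

namespace TrD

variable (T : TrD t c d f)
include T

theorem d_t : cj d t = t * c := by rw [cj_apply]; exact T.dt
theorem d_tc : cj d (t * c) = t * c * f y := by rw [cj_apply]; exact T.dtc

theorem d_c : cj d c = f y := by
  have h1 : c = t * (t * c) := by rw [← mul_assoc, T.C.tt, one_mul]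
  have h2 : (t * c) * (t * c) = 1 := by
    calc (t * c) * (t * c) = t * (c * t) * c := by group
      _ = t * (t * c) * c := by rw [T.C.ct]
      _ = (t * t) * (c * c) := by group
      _ = 1 := by rw [T.C.tt, T.C.cc, one_mul]
  calc cj d c = cj d t * cj d (t * c) := by rw [← map_mul, ← h1]
    _ = (t * c) * (t * c * f y) := by rw [T.d_t, T.d_tc]
    _ = ((t * c) * (t * c)) * f y := by group
    _ = f y := by rw [h2, one_mul]

theorem d_tcy : cj d (t * c * f y) = t := by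
  have h1 : cj d (cj d (cj d t)) = t := by
    rw [cj_cj, cj_cj, ← mul_assoc, T.ddd, cj_apply]; group
  rwa [T.d_t, T.d_tc] at h1

theorem d_y : cj d (f y) = f y * c := by
  have F := five T.C
  have h2 : (t * c) * (t * c) = 1 := by
    calc (t * c) * (t * c) = t * (c * t) * c := by group
      _ = t * (t * c) * c := by rw [T.C.ct]
      _ = (t * t) * (c * c) := by group
      _ = 1 := by rw [T.C.tt, T.C.cc, one_mul]
  have h1 : f y = (t * c) * (t * c * f y) := by rw [← mul_assoc, h2, one_mul]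
  calc cj d (f y) = cj d (t * c) * cj d (t * c * f y) := by rw [← map_mul, ← h1]
    _ = t * c * f y * t := by rw [T.d_tc, T.d_tcy]
    _ = t * c * (f y * t) := by group
    _ = t * c * (t * f y) := by rw [T.C.comm]
    _ = t * (c * t) * f y := by group
    _ = t * (t * c) * f y := by rw [T.C.ct]
    _ = (t * t) * (c * f y) := by group
    _ = f y * c := by rw [T.C.tt, one_mul, F.c12.eq]

theorem act_d (x : ℕ) : cj d (E t c f x) = E t c f (lin 5 6 2 8 16 x) := by
  apply map_ev (five T.C)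
  · rw [ev_5]; exact T.d_t
  · rw [ev_6]; exact T.d_y
  · rw [ev_y]; exact T.d_c
  · rw [ev_v, w_v1]; exact cj_of_comm (T.dw _ sign1).symm
  · rw [ev_v', w_v2]; exact cj_of_comm (T.dw _ sign2).symm

theorem act_D {x : ℕ} (hx : x < 32) : cj d⁻¹ (E t c f x) = E t c f (lin 7 4 6 8 16 x) := by
  have h1 := T.act_d (lin 7 4 6 8 16 x)
  rw [lin_d x hx] at h1
  rw [← h1, cj_cj, mul_inv_cancel, cj_apply]
  group

/-- the element `r0` -/
theorem act_r0 {x : ℕ} (hx : x < 32) :
    cj (d⁻¹ * f nn * d * f q * f nn * d * f q * f nn * f q) (E t c f x) = E t c f x := by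
  simp only [← cj_cj]
  rw [T.act_D hx, act_n T.C, T.act_d, act_q T.C, act_n T.C, T.act_d, act_q T.C, act_n T.C, act_q T.C,
    lin_all x hx]

end TrD

/-! ### the centralizer of `E32` -/

theorem cent_perm : ∀ σ : Equiv.Perm (Fin 5), Equiv.Perm.sign σ = 1 →
    σ * (Equiv.swap 0 1 * Equiv.swap 2 3) = (Equiv.swap 0 1 * Equiv.swap 2 3) * σ →
    σ * (Equiv.swap 1 2 * Equiv.swap 0 1 * Equiv.swap 2 3 * Equiv.swap 1 2) =
      (Equiv.swap 1 2 * Equiv.swap 0 1 * Equiv.swap 2 3 * Equiv.swap 1 2) * σ →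
    σ = 1 ∨ σ = Equiv.swap 0 1 * Equiv.swap 2 3 ∨
      σ = Equiv.swap 1 2 * Equiv.swap 0 1 * Equiv.swap 2 3 * Equiv.swap 1 2 ∨
      σ = (Equiv.swap 0 1 * Equiv.swap 2 3) *
        (Equiv.swap 1 2 * Equiv.swap 0 1 * Equiv.swap 2 3 * Equiv.swap 1 2) := by
  decide +kernel

theorem cent_M {m : H} (h1 : alpha m = m) (h2 : m * y = y * m) (h3 : m * v1 = v1 * m) (h4 : m * v2 = v2 * m) :
    ∃ a a1 a2 : Bool, m = pw a y * (pw a1 v1 * pw a2 v2) := by
  obtain ⟨σ, hσ, h⟩ := fix_cent h1 h2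
  have key : ∀ z : H, z * MTwelve.w σ = MTwelve.w σ * z ∨ True := fun _ => Or.inr trivial
  have e : ∀ z : H, y * z = z * y → m * z = z * m → MTwelve.w σ * z = z * MTwelve.w σ := by
    intro z hz hm
    rcases h with rfl | rfl
    · exact hm
    · have h5 : y * (MTwelve.w σ * z) = y * (z * MTwelve.w σ) := by
        rw [← mul_assoc, hm, ← mul_assoc, ← mul_assoc, hz]
      exact mul_left_cancel h5
  have e1 := e v1 y_v1 h3
  have e2 := e v2 y_v2 h4
  rw [w_v1, ← map_mul, ← map_mul] at e1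
  rw [w_v2, ← map_mul, ← map_mul] at e2
  have hσ2 : ∃ a1 a2 : Bool, MTwelve.w σ = pw a1 v1 * pw a2 v2 := by
    rcases cent_perm σ hσ (w_injective e1) (w_injective e2) with rfl | rfl | rfl | rfl
    · exact ⟨false, false, by simp [pw]⟩
    · exact ⟨true, false, by simp [pw, w_v1]⟩
    · exact ⟨false, true, by simp [pw, w_v2]⟩
    · exact ⟨true, true, by simp only [pw, if_true]; rw [w_v1, w_v2, ← map_mul]⟩
  obtain ⟨a1, a2, h5⟩ := hσ2
  rcases h with h | h
  · exact ⟨false, a1, a2, by rw [h, h5]; simp [pw]⟩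
  · exact ⟨true, a1, a2, by rw [h, h5]; simp [pw]⟩

/-- `C_G(E32) = E32` -/
theorem cent_E (C : CtxO t c f) {g : G} (h0 : g * t = t * g) (h1 : g * f y = f y * g) (h2 : g * c = c * g)
    (h3 : g * f v1 = f v1 * g) (h4 : g * f v2 = f v2 * g) :
    ∃ a0 a1 a2 a3 a4 : Bool, g = pw a0 t * (pw a1 (f y) * (pw a2 c * (pw a3 (f v1) * pw a4 (f v2)))) := by
  have F := five C
  obtain ⟨m, hm⟩ := C.cent g h0
  -- the part in `f(M₁₂)`
  have key : ∀ a : G, g = a * f m → Commute a t → Commute a c → Commute a (f y) → Commute a (f v1) →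
      Commute a (f v2) → ∃ b1 b3 b4 : Bool, f m = pw b1 (f y) * (pw b3 (f v1) * pw b4 (f v2)) := by
    intro a ha _ a2 a1 a3 a4
    have cc : ∀ {x : G}, Commute a x → g * x = x * g → Commute (f m) x := by
      intro x hx hg
      have h5 : f m = a⁻¹ * g := by rw [ha]; group
      rw [h5]
      exact hx.inv_left.mul_left hg
    have m1 : alpha m = m := by
      apply C.inj
      have h5 := (cc a2 h2).eq
      rw [C.cf] at h5
      exact (mul_right_cancel h5).symm
    have m2 : m * y = y * m := C.inj (by rw [map_mul, map_mul]; exact (cc a1 h1).eq)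
    have m3 : m * v1 = v1 * m := C.inj (by rw [map_mul f m v1, map_mul f v1 m]; exact (cc a3 h3).eq)
    have m4 : m * v2 = v2 * m := C.inj (by rw [map_mul f m v2, map_mul f v2 m]; exact (cc a4 h4).eq)
    obtain ⟨b, b1, b2, hb⟩ := cent_M m1 m2 m3 m4
    exact ⟨b, b1, b2, by rw [hb, map_mul, map_mul, map_pw, map_pw, map_pw]⟩
  have ctc : Commute c t := C.ct
  rcases hm with hm | hm | hm | hm
  · obtain ⟨b1, b3, b4, h5⟩ := key 1 (by rw [one_mul]; exact hm) (Commute.one_left _) (Commute.one_left _)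
      (Commute.one_left _) (Commute.one_left _) (Commute.one_left _)
    exact ⟨false, b1, false, b3, b4, by rw [hm, h5]; simp [pw]⟩
  · obtain ⟨b1, b3, b4, h5⟩ := key t hm (Commute.refl _) F.c02 F.c01 F.c03 F.c04
    exact ⟨true, b1, false, b3, b4, by rw [hm, h5]; simp [pw]⟩
  · obtain ⟨b1, b3, b4, h5⟩ := key c hm ctc (Commute.refl _) F.c12.symm F.c23 F.c24
    refine ⟨false, b1, true, b3, b4, ?_⟩
    have hc : Commute c (pw b1 (f y)) := pw_comm F.c12.symm true b1
    rw [hm, h5, ← mul_assoc, hc.eq]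
    simp only [pw, if_true, Bool.false_eq_true, if_false, one_mul, mul_assoc]
  · obtain ⟨b1, b3, b4, h5⟩ := key (t * c) (by rw [hm, mul_assoc]) ((Commute.refl t).mul_left ctc)
      (F.c02.mul_left (Commute.refl c)) (F.c01.mul_left F.c12.symm) (F.c03.mul_left F.c23)
      (F.c04.mul_left F.c24)
    refine ⟨true, b1, true, b3, b4, ?_⟩
    have hc : Commute c (pw b1 (f y)) := pw_comm F.c12.symm true b1
    rw [hm, h5, ← mul_assoc c, hc.eq]
    simp only [pw, if_true, mul_assoc]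

/-- the last relation -/
theorem TrD.exists_r0 (T : TrD t c d f) : ∃ a0 a1 a2 a3 a4 : Bool,
    d⁻¹ * f nn * d * f q * f nn * d * f q * f nn * f q =
      pw a0 t * (pw a1 (f y) * (pw a2 c * (pw a3 (f v1) * pw a4 (f v2)))) := by
  have h0 := comm_of_cj (T.act_r0 (x := 1) (by norm_num))
  have h1 := comm_of_cj (T.act_r0 (x := 2) (by norm_num))
  have h2 := comm_of_cj (T.act_r0 (x := 4) (by norm_num))
  have h3 := comm_of_cj (T.act_r0 (x := 8) (by norm_num))
  have h4 := comm_of_cj (T.act_r0 (x := 16) (by norm_num))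
  rw [E, ev_t] at h0
  rw [E, ev_y] at h1
  rw [E, ev_c] at h2
  rw [E, ev_v] at h3
  rw [E, ev_v'] at h4
  exact cent_E T.C h0.symm h1.symm h2.symm h3.symm h4.symm

end Cfsg.Agent.CoThreeStd.OutT
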