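import Cfsg.Agent.CoThreeStd.Frame

set_option autoImplicit false

/-!
Pairs of frames: the case in which an element of `F'.K` induces on `ι S` an inner automorphism by a
2A-involution.
-/

namespace Cfsg.Agent.CoThreeStd.PairAC

open Subgroup Cfsg.Agent.CoThreeStd.FactsDef Cfsg.Agent.CoThreeStd.Frame
open Cfsg.Agent.CoThreeStd.Frame.Fr Cfsg.Agent.CoThreeStd.Frame.Two
open scoped commutatorElement

variable {G S : Type*} [Group G] [Group S] {IsA IsB : S → Prop}

/-! ### General facts -/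

/-- A normal subgroup of index at most two of a nonabelian simple group is the whole group. -/
theorem eq_top_of_index_two {E : Type*} [Group E] (hE : IsSimpleGroup E)
    (hna : ∃ x y : E, x * y ≠ y * x) (N : Subgroup E) [N.Normal]
    (h : ∀ x y, x ∉ N → y ∉ N → x * y ∈ N) : N = ⊤ := by
  rcases (inferInstance : N.Normal).eq_bot_or_eq_top with h1 | h1
  · exfalso
    obtain ⟨x, y, hxy⟩ := hna
    apply hxy
    by_cases hx : x = 1
    · rw [hx, one_mul, mul_one]
    by_cases hy : y = 1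
    · rw [hy, one_mul, mul_one]
    have h2 := h x y (by rw [h1, mem_bot]; exact hx) (by rw [h1, mem_bot]; exact hy)
    have h3 := h y x (by rw [h1, mem_bot]; exact hy) (by rw [h1, mem_bot]; exact hx)
    rw [h1, mem_bot] at h2 h3
    rw [h2, h3]
  · exact h1

/-- A homomorphism of a nonabelian simple group to elements of square one is trivial. -/
theorem trivial_of_sq {E A : Type*} [Group E] [Group A] (hE : IsSimpleGroup E)
    (hna : ∃ x y : E, x * y ≠ y * x) (f : E →* A) (h : ∀ x, f x * f x = 1) (x : E) : f x = 1 := by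
  have h1 : f.ker = ⊤ := by
    rcases (inferInstance : f.ker.Normal).eq_bot_or_eq_top with h1 | h1
    · exfalso
      obtain ⟨x, y, hxy⟩ := hna
      apply hxy
      have h2 : ∀ z : E, z * z = 1 := by
        intro z
        have : z * z ∈ f.ker := by rw [MonoidHom.mem_ker, map_mul]; exact h z
        rwa [h1, mem_bot] at this
      have h3 := h2 (x * y)
      have h4 : x⁻¹ = x := inv_eq_of_mul_eq_one_left (h2 x)
      have h5 : y⁻¹ = y := inv_eq_of_mul_eq_one_left (h2 y)
      have h6 : (x * y)⁻¹ = x * y := inv_eq_of_mul_eq_one_left h3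
      rw [mul_inv_rev, h4, h5] at h6
      exact h6.symm
    · exact h1
  have : x ∈ f.ker := by rw [h1]; trivial
  exact this

theorem cj_inj (hF : Facts IsA IsB) : Function.Injective (MulAut.conj : S →* MulAut S) := by
  rw [injective_iff_map_eq_one]
  intro s hs
  have hc : s ∈ center S := by
    rw [mem_center_iff]
    intro g
    have h1 := congrArg (fun φ : MulAut S => φ g) hs
    have h2 : s * g * s⁻¹ = g := h1
    exact (mul_inv_eq_iff_eq_mul.1 h2).symm
  rcases hF.simple.eq_bot_or_eq_top_of_normal (center S) inferInstance with h | h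
  · rw [h, mem_bot] at hc
    exact hc
  · exfalso
    obtain ⟨x, y, hxy⟩ := hF.nonab
    apply hxy
    have : y ∈ center S := by rw [h]; trivial
    exact mem_center_iff.1 this x

theorem conj_act (φ : MulAut S) (s : S) : φ * MulAut.conj s * φ⁻¹ = MulAut.conj (φ s) := by
  ext r
  simp [MulAut.mul_apply, MulAut.conj_apply]

theorem inn_normal : (Inn S).Normal := ⟨by
  rintro _ ⟨s, rfl⟩ φ
  exact ⟨φ s, (conj_act φ s).symm⟩⟩

theorem conj_mem_inn (s : S) : MulAut.conj s ∈ Inn S := ⟨s, rfl⟩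

/-- Facts on `A5`. -/
theorem alt_facts {E : Type*} [Group E] (e : E ≃* alternatingGroup (Fin 5)) :
    IsSimpleGroup E ∧ (∃ x y : E, x * y ≠ y * x) ∧ Nat.card E = 60 := by
  have h5 : IsSimpleGroup (alternatingGroup (Fin 5)) := alternatingGroup.isSimpleGroup_five
  have hcard : Nat.card (alternatingGroup (Fin 5)) = 60 := by
    rw [nat_card_alternatingGroup, Nat.card_fin]
    rfl
  refine ⟨?_, ?_, ?_⟩
  · have : Nontrivial E := e.toEquiv.nontrivial
    exact IsSimpleGroup.isSimpleGroup_of_surjective e.symm.toMonoidHom e.symm.surjective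
  · by_contra hcon
    push Not at hcon
    have hc : ∀ x y : alternatingGroup (Fin 5), x * y = y * x := by
      intro x y
      apply e.symm.injective
      rw [map_mul, map_mul]
      exact hcon _ _
    have h1 : (c[(0 : Fin 5), 1, 2] : Equiv.Perm (Fin 5)) * c[(2 : Fin 5), 3, 4] =
        c[(2 : Fin 5), 3, 4] * c[(0 : Fin 5), 1, 2] := by
      have h6 := hc ⟨c[(0 : Fin 5), 1, 2], Equiv.Perm.mem_alternatingGroup.2 (by decide)⟩
        ⟨c[(2 : Fin 5), 3, 4], Equiv.Perm.mem_alternatingGroup.2 (by decide)⟩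
      exact congrArg Subtype.val h6
    exact absurd h1 (by decide)
  · rw [Nat.card_congr e.toEquiv, hcard]

/-! ### The normaliser of the image -/

variable {F F' : Fr G S}

/-- The elements of `S` normalising the image of `F'.K ∩ F.M` are in `HS`. -/
def NormHS (F F' : Fr G S) : Prop :=
  ∀ s, (∀ x ∈ Xb F F', MulAut.conj s * x * (MulAut.conj s)⁻¹ ∈ Xb F F') → s ∈ HS F F'

theorem normHS_A (hF : Facts IsA IsB) {a : S} (h : CaseA F F' IsA a) : NormHS F F' := by
  intro s hs
  have h1 := hs _ h.mem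
  have h2 : MulAut.conj s * MulAut.conj a * (MulAut.conj s)⁻¹ = MulAut.conj (s * a * s⁻¹) := by
    rw [map_mul, map_mul, map_inv]
  rw [h2] at h1
  rw [h.H]
  rcases (hF.centFA a h.isA _ (h.fix _ h1)).2 (conj_mem_inn _) with h3 | h3
  · exfalso
    have h4 : s * a * s⁻¹ = 1 := cj_inj hF (h3.trans (map_one _).symm)
    apply (hF.invA a h.isA).2
    calc a = s⁻¹ * (s * a * s⁻¹) * s := by group
      _ = 1 := by rw [h4]; group
  · exact mul_inv_eq_iff_eq_mul.1 (cj_inj hF h3)

theorem normHS_B (hF : Facts IsA IsB) {b : S} (h : CaseB F F' IsB b) : NormHS F F' := by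
  intro s hs
  have h1 := hs _ h.mem
  have h2 : MulAut.conj s * MulAut.conj b * (MulAut.conj s)⁻¹ = MulAut.conj (s * b * s⁻¹) := by
    rw [map_mul, map_mul, map_inv]
  rw [h2] at h1
  rw [h.H]
  have h5 : MulAut.conj (s * b * s⁻¹) * MulAut.conj (s * b * s⁻¹) = 1 := by
    rw [← map_mul]
    have : s * b * s⁻¹ * (s * b * s⁻¹) = 1 := by
      calc s * b * s⁻¹ * (s * b * s⁻¹) = s * (b * b) * s⁻¹ := by group
        _ = 1 := by rw [(hF.invB b h.isB).1]; group
    rw [this, map_one]
  rcases h.uniq _ h1 h5 with h3 | h3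
  · exfalso
    have h4 : s * b * s⁻¹ = 1 := cj_inj hF (h3.trans (map_one _).symm)
    apply (hF.invB b h.isB).2
    calc b = s⁻¹ * (s * b * s⁻¹) * s := by group
      _ = 1 := by rw [h4]; group
  · exact mul_inv_eq_iff_eq_mul.1 (cj_inj hF h3)

theorem normHS_C (hF : Facts IsA IsB) {c : MulAut S} (h : CaseC F F' c) : NormHS F F' := by
  intro s hs
  have hc : c ≠ 1 := fun e => h.out (by rw [e]; exact one_mem _)
  have h1 := (h.eq _).1 (hs c ((h.eq c).2 (Or.inr rfl)))
  rw [h.H]
  rcases h1 with h1 | h1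
  · exfalso
    apply hc
    calc c = (MulAut.conj s)⁻¹ * (MulAut.conj s * c * (MulAut.conj s)⁻¹) * MulAut.conj s := by group
      _ = 1 := by rw [h1]; group
  · have h2 : c * MulAut.conj s * c⁻¹ = MulAut.conj s := by
      have h3 : MulAut.conj s * c = c * MulAut.conj s := mul_inv_eq_iff_eq_mul.1 h1
      rw [← h3, mul_inv_cancel_right]
    rw [conj_act] at h2
    exact cj_inj hF h2

/-- An element of both `M`s inducing an inner automorphism on `ι S` is a product of elements of
`ι S ∩ F'.M` and `F.K ∩ F'.M`. -/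
theorem split (hn : NormHS F F') {d : G} (hd : d ∈ F.M) (hd' : d ∈ F'.M) {s : S}
    (hs : F.act d = MulAut.conj s) :
    s ∈ HS F F' ∧ (F.ι s)⁻¹ * d ∈ F.K ∧ (F.ι s)⁻¹ * d ∈ F'.M := by
  have h1 : s ∈ HS F F' := by
    apply hn
    rintro _ ⟨x, hx, hxM, rfl⟩
    refine ⟨d * x * d⁻¹, F'.K_conj hd' hx, F.M.mul_mem (F.M.mul_mem hd hxM) (F.M.inv_mem hd), ?_⟩
    rw [F.act_mul (F.M.mul_mem hd hxM) (F.M.inv_mem hd), F.act_mul hd hxM, F.act_inv hd, hs]
  exact ⟨h1, F.mem_K_of_inner hd hs, F'.M.mul_mem (F'.M.inv_mem h1) hd'⟩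

/-! ### The common part of the cases A and C -/

/-- The common part of the cases A and C. -/
structure AC (F F' : Fr G S) (IsA : S → Prop) (a : S) : Prop where
  isA : IsA a
  sub : ∀ f ∈ FA a, f ∈ HS F F'
  mema : a ∈ HS F F'
  H : ∀ s ∈ HS F F', s * a = a * s
  fix : ∀ x ∈ Xb F F', ∀ f ∈ FA a, x f = f
  norm : NormHS F F'

theorem FA_le (a : S) : FA a ≤ centralizer ({a} : Set S) := by
  rw [FA, commutator_le]
  intro x hx y hy
  rw [commutatorElement_def]
  exact mul_mem (mul_mem (mul_mem hx hy) (inv_mem hx)) (inv_mem hy)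

theorem FA_comm {a f : S} (hf : f ∈ FA a) : f * a = a * f :=
  mem_centralizer_singleton_iff.1 (FA_le a hf)

theorem CaseA.toAC (hF : Facts IsA IsB) {a : S} (h : CaseA F F' IsA a) : AC F F' IsA a where
  isA := h.isA
  sub := fun f hf => (h.H f).2 (FA_comm hf)
  mema := (h.H a).2 rfl
  H := fun s hs => (h.H s).1 hs
  fix := h.fix
  norm := normHS_A hF h

theorem CaseC.toAC (hF : Facts IsA IsB) {c : MulAut S} (h : CaseC F F' c) :
    ∃ a, AC F F' IsA a ∧ ∃ τ : S, τ * a = a * τ ∧ c τ = τ * a := by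
  obtain ⟨a, ha, hiff, hτ⟩ := hF.centC c h.out h.cc
  have haa := (hF.invA a ha).1
  have hfix : ∀ f ∈ FA a, c f = f := fun f hf => (hiff f).2 (Or.inl hf)
  refine ⟨a, ⟨ha, fun f hf => (h.H f).2 (hfix f hf), ?_, ?_, ?_, normHS_C hF h⟩, hτ⟩
  · rw [h.H, hiff]
    right
    rw [haa]
    exact (FA a).one_mem
  · intro s hs
    rw [h.H, hiff] at hs
    rcases hs with hs | hs
    · exact FA_comm hs
    · have h1 := FA_comm hs
      have h2 : s * a * a = s := by rw [mul_assoc, haa, mul_one]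
      rw [h2] at h1
      calc s * a = a * (a * (s * a)) := by rw [← mul_assoc, haa, one_mul]
        _ = a * s := by rw [← h1]
  · intro x hx f hf
    rcases (h.eq x).1 hx with h1 | h1
    · rw [h1]; rfl
    · rw [h1]; exact hfix f hf

/-- The group `ι (FA a)` is contained in `F'.ι S`. -/
theorem exists_pi [Finite G] (hF : Facts IsA IsB) (h : Two F F') {a : S} (hac : AC F F' IsA a)
    (hn' : NormHS F' F) :
    ∃ π : FA a →* S, ∀ f : FA a, F.ι f = F'.ι (π f) ∧ π f ∈ HS F' F := by
  obtain ⟨e⟩ := hF.altFA a hac.isA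
  obtain ⟨hsE, hnaE, hcE⟩ := alt_facts e
  -- the action on the second frame
  let α : FA a →* MulAut S :=
    { toFun := fun f => F'.act (F.ι f)
      map_one' := by
        show F'.act (F.ι ((1 : FA a) : S)) = 1
        rw [coe_one, map_one, F'.act_one]
      map_mul' := fun f g => by
        show F'.act (F.ι ((f * g : FA a) : S)) = _
        rw [coe_mul, map_mul]
        exact F'.act_mul (hac.sub f f.2) (hac.sub g g.2) }
  have hα : ∀ f, α f ∈ Inn S := by
    intro f
    have hnorm : ((Inn S).comap α).Normal := by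
      have := inn_normal (S := S)
      infer_instance
    have h1 : (Inn S).comap α = ⊤ := eq_top_of_index_two hsE hnaE _ (fun x y hx hy => by
      rw [mem_comap] at hx hy ⊢
      rw [map_mul]
      exact hF.out _ _ hx hy)
    have h2 : f ∈ (Inn S).comap α := by rw [h1]; trivial
    exact h2
  let β : FA a →* Inn S := α.codRestrict (Inn S) hα
  let π : FA a →* S := (MonoidHom.ofInjective (cj_inj hF)).symm.toMonoidHom.comp β
  have hπ : ∀ f, MulAut.conj (π f) = α f := fun f => by
    exact MonoidHom.apply_ofInjective_symm (cj_inj hF) (β f)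
  have hsplit : ∀ f : FA a, π f ∈ HS F' F ∧ (F'.ι (π f))⁻¹ * F.ι f ∈ F'.K ∧
      (F'.ι (π f))⁻¹ * F.ι f ∈ F.M := fun f =>
    split hn' (hac.sub f f.2) (F.mem f) (hπ f).symm
  let κ : FA a →* G :=
    { toFun := fun f => (F'.ι (π f))⁻¹ * F.ι f
      map_one' := by
        show (F'.ι (π 1))⁻¹ * F.ι ((1 : FA a) : S) = 1
        rw [map_one, coe_one, map_one, map_one, inv_one, one_mul]
      map_mul' := fun f g => by
        show (F'.ι (π (f * g)))⁻¹ * F.ι ((f * g : FA a) : S) =
          (F'.ι (π f))⁻¹ * F.ι f * ((F'.ι (π g))⁻¹ * F.ι g)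
        have h1 : (F'.ι (π f))⁻¹ * F.ι f * (F'.ι (π g))⁻¹ =
            (F'.ι (π g))⁻¹ * ((F'.ι (π f))⁻¹ * F.ι f) := by
          have := (hsplit f).2.1 ((π g)⁻¹)
          rw [map_inv] at this
          exact this
        rw [← mul_assoc, h1, map_mul, map_mul, coe_mul, map_mul]
        group }
  have hκK : ∀ f, κ f ∈ F'.K := fun f => (hsplit f).2.1
  have hκM : ∀ f, κ f ∈ F.M := fun f => (hsplit f).2.2
  let γ : FA a →* MulAut S :=
    { toFun := fun f => F.act (κ f)
      map_one' := by rw [map_one, F.act_one]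
      map_mul' := fun f g => by rw [map_mul]; exact F.act_mul (hκM f) (hκM g) }
  have hγ : ∀ f, γ f = 1 := trivial_of_sq hsE hnaE γ (fun f =>
    (hF.centFA a hac.isA _ (hac.fix _ ⟨κ f, hκK f, hκM f, rfl⟩)).1)
  have hW : ∀ f, κ f ∈ F.K := fun f => F.mem_K_of_act (hκM f) (hγ f)
  have hker : κ.ker = ⊤ := by
    rcases (inferInstance : κ.ker.Normal).eq_bot_or_eq_top with h1 | h1
    · exfalso
      have hfin : Finite (FA a) := Nat.finite_of_card_ne_zero (by rw [hcE]; norm_num)
      obtain ⟨x, hx⟩ := exists_prime_orderOf_dvd_card' (G := FA a) 2 (by rw [hcE]; norm_num)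
      have hxx : x * x = 1 := by
        have := pow_orderOf_eq_one x
        rwa [hx, sq] at this
      have h2 : κ x = 1 := h.tight _ (hW x) (hκK x) (by rw [← map_mul, hxx, map_one])
      have h3 : x ∈ κ.ker := h2
      rw [h1, mem_bot] at h3
      rw [h3, orderOf_one] at hx
      exact absurd hx (by norm_num)
    · exact h1
  refine ⟨π, fun f => ⟨?_, (hsplit f).1⟩⟩
  have h2 : f ∈ κ.ker := by rw [hker]; trivial
  have h3 : (F'.ι (π f))⁻¹ * F.ι f = 1 := h2
  exact (inv_mul_eq_one.1 h3).symm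

/-- For two frames in case A or C the groups `ι (FA a)` are equal. -/
theorem exists_FA [Finite G] (hF : Facts IsA IsB) (h : Two F F') {a a' : S}
    (hac : AC F F' IsA a) (hac' : AC F' F IsA a') {f : S} (hf : f ∈ FA a) :
    ∃ f' ∈ FA a', F.ι f = F'.ι f' := by
  obtain ⟨π, hπ⟩ := exists_pi hF h hac hac'.norm
  obtain ⟨e⟩ := hF.altFA a hac.isA
  obtain ⟨hsE, hnaE, hcE⟩ := alt_facts e
  refine ⟨π ⟨f, hf⟩, ?_, (hπ ⟨f, hf⟩).1⟩
  have h1 : commutator (FA a) = ⊤ := by
    rcases (inferInstance : (commutator (FA a)).Normal).eq_bot_or_eq_top with h1 | h1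
    · exfalso
      obtain ⟨x, y, hxy⟩ := hnaE
      apply hxy
      have h2 : ⁅x, y⁆ ∈ commutator (FA a) := commutator_mem_commutator (mem_top x) (mem_top y)
      rw [h1, mem_bot] at h2
      exact commutatorElement_eq_one_iff_mul_comm.1 h2
    · exact h1
  have h2 : (commutator (FA a)).map π ≤ FA a' := by
    rw [_root_.commutator_def, map_commutator]
    refine commutator_mono ?_ ?_ <;>
    · rintro _ ⟨x, -, rfl⟩
      exact mem_centralizer_singleton_iff.2 (hac'.H _ (hπ x).2)
  apply h2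
  rw [h1]
  exact ⟨⟨f, hf⟩, trivial, rfl⟩

/-- Mixed cases are impossible. -/
theorem no_mixed [Finite G] (hF : Facts IsA IsB) (h : Two F F') {a b' : S}
    (hac : AC F F' IsA a) (hB : CaseB F' F IsB b') : False := by
  obtain ⟨π, hπ⟩ := exists_pi hF h hac (normHS_B hF hB)
  obtain ⟨e⟩ := hF.altFA a hac.isA
  obtain ⟨hsE, hnaE, hcE⟩ := alt_facts e
  have hinj : Function.Injective π := by
    intro x y hxy
    apply Subtype.ext
    apply F.inj
    rw [(hπ x).1, (hπ y).1, hxy]
  have h1 : π.range ≤ centralizer ({b'} : Set S) := by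
    rintro _ ⟨x, rfl⟩
    exact mem_centralizer_singleton_iff.2 ((hB.H _).1 (hπ x).2)
  have h2 := card_dvd_of_le h1
  rw [hF.cardB b' hB.isB, ← Nat.card_congr (MonoidHom.ofInjective hinj).toEquiv, hcE] at h2
  exact absurd h2 (by norm_num)

/-! ### Counting -/

/-- If `F.K ∩ F'.M` induces at most two automorphisms then its order is not divisible by four. -/
theorem not_four_of_two [Finite G] (h : Two F F') (g : MulAut S)
    (h2 : ∀ x ∈ F.K, x ∈ F'.M → F'.act x = 1 ∨ F'.act x = g) :
    ¬ 4 ∣ Nat.card (F.K ⊓ F'.M : Subgroup G) := by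
  let β : (F.K ⊓ F'.M : Subgroup G) →* MulAut S :=
    { toFun := fun x => F'.act x
      map_one' := F'.act_one
      map_mul' := fun x y => F'.act_mul (mem_inf.1 x.2).2 (mem_inf.1 y.2).2 }
  have hcard : Nat.card (F.K ⊓ F'.M : Subgroup G) = Nat.card β.ker * Nat.card β.range := by
    rw [← card_mul_index β.ker, index_ker]
  have hodd : Odd (Nat.card β.ker) := by
    apply GrpAux.odd_of_no_inv
    intro x hx hxx
    apply Subtype.ext
    exact h.tight x (mem_inf.1 x.2).1 (F'.mem_K_of_act (mem_inf.1 x.2).2 hx)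
      (congrArg Subtype.val hxx)
  have hr : Nat.card β.range ≤ 2 := by
    have h3 : (β.range : Set (MulAut S)) ⊆ {1, g} := by
      rintro _ ⟨x, rfl⟩
      exact h2 x (mem_inf.1 x.2).1 (mem_inf.1 x.2).2
    have h4 : Nat.card β.range = (β.range : Set (MulAut S)).ncard := Nat.card_coe_set_eq _
    rw [h4]
    exact (Set.ncard_le_ncard h3 (by simp)).trans ((Set.ncard_insert_le _ _).trans (by simp))
  rw [hcard]
  intro hd
  have h3 : Nat.Coprime 4 (Nat.card β.ker) := by
    have : Nat.Coprime 2 (Nat.card β.ker) := (Nat.coprime_two_left).2 hodd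
    exact Nat.Coprime.pow_left 2 this
  have h4 := h3.dvd_of_dvd_mul_left hd
  have hfin : Finite β.range := Finite.of_surjective β.rangeRestrict β.rangeRestrict_surjective
  have h5 := Nat.le_of_dvd Nat.card_pos h4
  omega

/-- If an element `k` of `F.K` of square one is such that its centraliser in `F.K` is contained in
`F'.M`, then `4 ∣ |F.K|` implies `4 ∣ |F.K ∩ F'.M|`. -/
theorem four_dvd_of_centralizer [Finite G] {k : G} (hk : k ∈ F.K) (hkk : k * k = 1)
    (hc : ∀ x ∈ F.K, x * k = k * x → x ∈ F'.M) (h4 : 4 ∣ Nat.card F.K) :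
    4 ∣ Nat.card (F.K ⊓ F'.M : Subgroup G) := by
  refine (GrpAux.four_dvd_inf_centralizer F.K k hk hkk h4).trans (card_dvd_of_le ?_)
  intro x hx
  exact mem_inf.2 ⟨(mem_inf.1 hx).1, hc x (mem_inf.1 hx).1
    (mem_centralizer_singleton_iff.1 (mem_inf.1 hx).2)⟩

/-! ### Case A -/

theorem caseA_not_four [Finite G] (hF : Facts IsA IsB) (h : Two F F') {a a' : S}
    (hA : CaseA F F' IsA a) (hac' : AC F' F IsA a') : ¬ 4 ∣ Nat.card F.K := by
  intro h4
  have hac := CaseA.toAC hF hA
  have haa := (hF.invA a hA.isA).1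
  have ha1 := (hF.invA a hA.isA).2
  have hcjne : MulAut.conj a ≠ 1 := fun e => ha1 (cj_inj hF (e.trans (map_one _).symm))
  obtain ⟨y, hy, hyM, hyy, hy1, hya⟩ := h.lift hA.mem (by rw [← map_mul, haa, map_one]) hcjne
  have hk : (F.ι a)⁻¹ * y ∈ F.K := F.mem_K_of_inner hyM hya
  have hιinv : (F.ι a)⁻¹ = F.ι a := by
    rw [← map_inv, inv_eq_of_mul_eq_one_left haa]
  have hcomm : y * F.ι a = F.ι a * y := by
    rw [← F.comm_iff hyM, hya, MulAut.conj_apply, mul_inv_cancel_right]
  have hkk : (F.ι a)⁻¹ * y * ((F.ι a)⁻¹ * y) = 1 := by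
    rw [hιinv]
    calc F.ι a * y * (F.ι a * y) = F.ι a * (y * F.ι a) * y := by group
      _ = F.ι a * (F.ι a * y) * y := by rw [hcomm]
      _ = (F.ι (a * a)) * (y * y) := by rw [map_mul]; group
      _ = 1 := by rw [haa, map_one, hyy, one_mul]
  have h5 := four_dvd_of_centralizer (F' := F') hk hkk (by
    intro x hx hxk
    apply h.cent' y hy hyy hy1
    have h6 : y = F.ι a * ((F.ι a)⁻¹ * y) := by group
    rw [h6, ← mul_assoc, hx a, mul_assoc, hxk]
    group) h4
  refine not_four_of_two h (MulAut.conj a') (fun x hx hxM => ?_) h5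
  have hfix : ∀ f ∈ FA a', F'.act x f = f := hac'.fix _ ⟨x, hx, hxM, rfl⟩
  apply (hF.centFA a' hac'.isA _ hfix).2
  by_contra hout
  -- `τ` induces an outer automorphism on `FA a`
  obtain ⟨τ, hτa, hτ⟩ := hF.outFA a hA.isA
  have hτM : F.ι τ ∈ F'.M := (hA.H τ).2 hτa
  obtain ⟨g', hg', hgf⟩ := hF.innFA a' hac'.isA (F'.act x) (F'.act (F.ι τ)) hout hfix (by
    rw [← F'.act_mul hτM hxM, ← F'.act_mul hxM hτM, hx τ])
  obtain ⟨g, hg, hgg⟩ := exists_FA hF h.symm hac' hac hg'
  obtain ⟨f, hf, hfne⟩ := hτ g hg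
  apply hfne
  apply F.inj
  obtain ⟨f', hf', hff⟩ := exists_FA hF h hac hac' hf
  rw [map_mul, map_mul, map_inv, map_mul, map_mul, map_inv, hff, ← hgg,
    F'.conj _ hτM, hgf f' hf', map_mul, map_mul, map_inv]

end Cfsg.Agent.CoThreeStd.PairAC
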