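import Cfsg.Agent.CoThreeStd.Fam
import Cfsg.Agent.Lib.GoldschmidtFusion
import Cfsg.Agent.S1335

set_option autoImplicit false

/-!
Pairs of frames: the case in which an element of `F'.K` induces on `ι S` an inner automorphism by a
2B-involution.
-/

namespace Cfsg.Agent.CoThreeStd.PairB

open Subgroup Cfsg.Agent.CoThreeStd.FactsDef Cfsg.Agent.CoThreeStd.Frame
open Cfsg.Agent.CoThreeStd.Frame.Fr Cfsg.Agent.CoThreeStd.Frame.Two Cfsg.Agent.CoThreeStd.PairAC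
open Cfsg.Agent.CoThreeStd.Fam

variable {G S : Type*} [Group G] [Group S] {IsA IsB : S → Prop} {F F' : Fr G S}

theorem PB_comm {b p : S} (hp : p ∈ PB b) : p * b = b * p := by
  unfold PB at hp
  induction hp using closure_induction with
  | mem x hx => exact hx.1
  | one => rw [one_mul, mul_one]
  | mul x y _ _ hx hy => rw [mul_assoc, hy, ← mul_assoc, hx, mul_assoc]
  | inv x _ hx =>
    calc x⁻¹ * b = x⁻¹ * (b * x) * x⁻¹ := by group
      _ = x⁻¹ * (x * b) * x⁻¹ := by rw [hx]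
      _ = b * x⁻¹ := by group

theorem ι_mem_K (hF : Facts IsA IsB) {s : S} (h : F.ι s ∈ F.K) : s = 1 := by
  have h1 := F.act_K h
  rw [F.act_ι] at h1
  exact cj_inj hF (h1.trans (map_one _).symm)

theorem eq_one_of_pows {A : Type*} [Group A] {x : A} {n : ℕ} (h1 : x ^ 2 ^ n = 1)
    (h2 : x ^ 3 = 1) : x = 1 := by
  have h3 : orderOf x ∣ 2 ^ n := orderOf_dvd_of_pow_eq_one h1
  have h4 : orderOf x ∣ 3 := orderOf_dvd_of_pow_eq_one h2
  have h5 : orderOf x ∣ 1 := by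
    have h6 : Nat.Coprime (2 ^ n) 3 := Nat.Coprime.pow_left n (by norm_num)
    rw [← h6]
    exact Nat.dvd_gcd h3 h4
  exact orderOf_eq_one_iff.1 (Nat.dvd_one.1 h5)

/-- The image of `PB b` in the second frame, modulo the intersection of the centralisers. -/
theorem pb_image (hF : Facts IsA IsB) {b b' : S} (hB : CaseB F F' IsB b)
    (hB' : CaseB F' F IsB b') {p : S} (hp : p ∈ PB b) :
    ∃ p' ∈ PB b', ∃ w ∈ W F F', F.ι p = F'.ι p' * w := by
  unfold PB at hp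
  induction hp using closure_induction with
  | mem p hp =>
    obtain ⟨hpb, hp3⟩ := hp
    have hpM : F.ι p ∈ F'.M := (hB.H p).2 hpb
    have hφ3 : F'.act (F.ι p) ^ 3 = 1 := by
      rw [← F'.act_pow hpM, ← map_pow, hp3, map_one, F'.act_one]
    have hInn : F'.act (F.ι p) ∈ Inn S := by
      by_contra hn
      have h1 := hF.out _ _ hn hn
      have h2 : F'.act (F.ι p) = (F'.act (F.ι p) * F'.act (F.ι p))⁻¹ := by
        rw [eq_inv_iff_mul_eq_one, ← mul_assoc, ← hφ3, pow_succ, sq]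
      apply hn
      rw [h2]
      exact inv_mem h1
    obtain ⟨p', hp'⟩ := hInn
    obtain ⟨h1, h2, h3⟩ := split (normHS_B hF hB') hpM (F.mem p) hp'.symm
    have hp'3 : p' ^ 3 = 1 := by
      apply cj_inj hF
      rw [map_pow, map_one, hp', hφ3]
    have hκ3 : ((F'.ι p')⁻¹ * F.ι p) ^ 3 = 1 := by
      have hc : Commute (F'.ι p') ((F'.ι p')⁻¹ * F.ι p) := (h2 p').symm
      have h4 : (F'.ι p' * ((F'.ι p')⁻¹ * F.ι p)) ^ 3 = 1 := by
        rw [mul_inv_cancel_left, ← map_pow, hp3, map_one]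
      rw [hc.mul_pow, ← map_pow, hp'3, map_one, one_mul] at h4
      exact h4
    have hκ1 : F.act ((F'.ι p')⁻¹ * F.ι p) = 1 := by
      obtain ⟨n, hn⟩ := hB.pg _ ⟨_, h2, h3, rfl⟩
      apply eq_one_of_pows hn
      rw [← F.act_pow h3, hκ3, F.act_one]
    exact ⟨p', subset_closure ⟨(hB'.H p').1 h1, hp'3⟩, _,
      mem_inf.2 ⟨F.mem_K_of_act h3 hκ1, h2⟩, by group⟩
  | one => exact ⟨1, one_mem _, 1, one_mem _, by simp⟩
  | mul x y _ _ hx hy =>
    obtain ⟨x', hx', w, hw, ex⟩ := hx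
    obtain ⟨y', hy', u, hu, ey⟩ := hy
    refine ⟨x' * y', mul_mem hx' hy', w * u, mul_mem hw hu, ?_⟩
    rw [map_mul, ex, ey, map_mul]
    have := (mem_inf.1 hw).2 y'
    calc F'.ι x' * w * (F'.ι y' * u) = F'.ι x' * (w * F'.ι y') * u := by group
      _ = F'.ι x' * (F'.ι y' * w) * u := by rw [this]
      _ = _ := by group
  | inv x _ hx =>
    obtain ⟨x', hx', w, hw, ex⟩ := hx
    refine ⟨x'⁻¹, inv_mem hx', w⁻¹, inv_mem hw, ?_⟩
    rw [map_inv, ex, mul_inv_rev, map_inv]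
    have := (mem_inf.1 (inv_mem hw)).2 x'⁻¹
    rw [map_inv] at this
    exact this

/-- The two 2B-involutions are equal. -/
theorem b_eq (hF : Facts IsA IsB) (h : Two F F') {b b' : S} (hB : CaseB F F' IsB b)
    (hB' : CaseB F' F IsB b') : F.ι b = F'.ι b' := by
  obtain ⟨p', hp', w, hw, e⟩ := pb_image hF hB hB' (hF.mem_PB b hB.isB)
  have hwK := mem_inf.1 hw
  have hcen : ∀ q' ∈ PB b', p' * q' = q' * p' := by
    intro q' hq'
    obtain ⟨q, hq, u, hu, eq⟩ := pb_image hF hB' hB hq'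
    apply F'.inj
    have hb : Commute (F'.ι q') (F.ι b) := by
      rw [eq]
      have h1 : Commute (F.ι q) (F.ι b) := by
        show F.ι q * F.ι b = F.ι b * F.ι q
        rw [← map_mul, PB_comm hq, map_mul]
      have h2 : Commute u (F.ι b) := (mem_inf.1 hu).2 b
      exact h1.mul_left h2
    have hw' : Commute (F'.ι q') w := (hwK.2 q').symm
    have hp : F'.ι p' = F.ι b * w⁻¹ := by rw [e]; group
    rw [map_mul, map_mul, hp]
    exact (hb.mul_right hw'.inv_right).eq.symm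
  rcases hF.centPB b' hB'.isB p' hp' hcen with h1 | h1
  · exfalso
    rw [h1, map_one, one_mul] at e
    apply (hF.invB b hB.isB).2
    apply ι_mem_K (F := F) hF
    rw [e]
    exact hwK.1
  · rw [h1] at e
    have h2 : w * w = 1 := by
      have hc : Commute w (F'.ι b') := hwK.2 b'
      have h3 : F.ι b * F.ι b = 1 := by rw [← map_mul, (hF.invB b hB.isB).1, map_one]
      have h4 : F'.ι b' * F'.ι b' = 1 := by rw [← map_mul, (hF.invB b' hB'.isB).1, map_one]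
      rw [e] at h3
      calc w * w = (F'.ι b' * F'.ι b') * (w * w) := by rw [h4, one_mul]
        _ = F'.ι b' * (F'.ι b' * w) * w := by group
        _ = F'.ι b' * (w * F'.ι b') * w := by rw [hc.eq]
        _ = 1 := by rw [← h3]; group
    rw [e, h.tight w hwK.1 hwK.2 h2, mul_one]

theorem exists_sq_one {A : Type*} [Group A] {x : A} (hx : x ≠ 1) :
    ∀ n : ℕ, x ^ 2 ^ n = 1 → ∃ j : ℕ, x ^ j * x ^ j = 1 ∧ x ^ j ≠ 1 := by
  intro n
  induction n with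
  | zero => intro h; exact absurd (by simpa using h) hx
  | succ n ih =>
    intro h
    by_cases h1 : x ^ 2 ^ n = 1
    · exact ih h1
    · refine ⟨2 ^ n, ?_, h1⟩
      rw [← pow_add, ← h]
      congr 1
      ring

/-- Elements of `F.K ∩ F'.M` inducing inner automorphisms on the second frame. -/
theorem inner_X (hF : Facts IsA IsB) (h : Two F F') {b b' : S} (hB : CaseB F F' IsB b)
    (hB' : CaseB F' F IsB b') {u : G} (hu : u ∈ F.K) (huM : u ∈ F'.M) {v : S}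
    (huv : F'.act u = MulAut.conj v) : v = 1 ∨ v = b' := by
  have hv : v ∈ PB b' := hB'.inner v ⟨u, hu, huM, huv⟩
  obtain ⟨u1, hu1, w, hw, e⟩ := pb_image hF hB' hB hv
  have hwK := mem_inf.1 hw
  have hbb := b_eq hF h hB hB'
  have hκ : (F'.ι v)⁻¹ * u ∈ F'.K := F'.mem_K_of_inner huM huv
  have hcen : ∀ p ∈ PB b, u1 * p = p * u1 := by
    intro p hp
    have hpM : F.ι p ∈ F'.M := (hB.H p).2 (PB_comm hp)
    have h1 := F'.K.mul_mem hκ (F'.K.inv_mem (F'.K_conj hpM hκ))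
    have hs : F.ι (u1⁻¹ * (p * u1 * p⁻¹)) ∈ F'.K := by
      have e2 : F.ι (u1⁻¹ * (p * u1 * p⁻¹)) =
          (F'.ι v)⁻¹ * u * (F.ι p * ((F'.ι v)⁻¹ * u) * (F.ι p)⁻¹)⁻¹ := by
        rw [e]
        have c1 : F.ι p * w = w * F.ι p := (hwK.2 p).symm
        have c2 : F.ι p * u = u * F.ι p := (hu p).symm
        have c3 : (F.ι p)⁻¹ * w = w * (F.ι p)⁻¹ := by
          have := hwK.2 p⁻¹
          rw [map_inv] at this
          exact this.symm
        have c4 : (F.ι p)⁻¹ * u⁻¹ = u⁻¹ * (F.ι p)⁻¹ := by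
          rw [← mul_inv_rev, ← mul_inv_rev, c2]
        have c5 : w * F.ι (u1⁻¹ * (p * u1 * p⁻¹)) = F.ι (u1⁻¹ * (p * u1 * p⁻¹)) * w :=
          hwK.2 _
        calc F.ι (u1⁻¹ * (p * u1 * p⁻¹)) = w⁻¹ * (w * F.ι (u1⁻¹ * (p * u1 * p⁻¹))) := by group
          _ = w⁻¹ * (F.ι (u1⁻¹ * (p * u1 * p⁻¹)) * w) := by rw [c5]
          _ = w⁻¹ * (F.ι u1)⁻¹ * F.ι p * F.ι u1 * ((F.ι p)⁻¹ * w) := by
              rw [map_mul, map_mul, map_mul, map_inv, map_inv]; group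
          _ = w⁻¹ * (F.ι u1)⁻¹ * F.ι p * F.ι u1 * (w * (F.ι p)⁻¹) := by rw [c3]
          _ = w⁻¹ * (F.ι u1)⁻¹ * u * (u⁻¹ * F.ι p) * F.ι u1 * w * (F.ι p)⁻¹ := by group
          _ = w⁻¹ * (F.ι u1)⁻¹ * u * (F.ι p * u⁻¹) * F.ι u1 * w * (F.ι p)⁻¹ := by
              have c6 : u⁻¹ * F.ι p = F.ι p * u⁻¹ := F.K.inv_mem hu p
              rw [c6]
          _ = _ := by group
      rw [e2]
      exact h1
    obtain ⟨s, hsdef⟩ : ∃ s, s = u1⁻¹ * (p * u1 * p⁻¹) := ⟨_, rfl⟩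
    rw [← hsdef] at hs
    have hs1 : s = 1 := by
      by_contra hne
      have hX : MulAut.conj s ∈ Xb F F' := ⟨F.ι s, hs, F.mem s, F.act_ι s⟩
      obtain ⟨n, hn⟩ := hB.pg _ hX
      have hsn : s ^ 2 ^ n = 1 := by
        apply cj_inj hF
        rw [map_pow, hn, map_one]
      obtain ⟨j, hj, hj1⟩ := exists_sq_one hne n hsn
      have h3 : MulAut.conj (s ^ j) ∈ Xb F F' := by
        rw [map_pow]
        exact pow_mem hX j
      rcases hB.uniq _ h3 (by rw [← map_mul, hj, map_one]) with h4 | h4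
      · exact hj1 (cj_inj hF (h4.trans (map_one _).symm))
      · have h5 : s ^ j = b := cj_inj hF h4
        have h6 : F'.ι b' ∈ F'.K := by
          rw [← hbb, ← h5, map_pow]
          exact F'.K.pow_mem hs j
        exact (hF.invB b' hB'.isB).2 (ι_mem_K hF h6)
    rw [hsdef, inv_mul_eq_one] at hs1
    rw [eq_comm, mul_inv_eq_iff_eq_mul] at hs1
    exact hs1.symm
  rcases hF.centPB b hB.isB u1 hu1 hcen with h1 | h1
  · left
    apply ι_mem_K (F := F') hF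
    rw [e, h1, map_one, one_mul]
    exact hwK.1
  · right
    have h2 : b'⁻¹ * v = 1 := by
      apply ι_mem_K (F := F') hF
      rw [map_mul, map_inv, e, h1, hbb, inv_mul_cancel_left]
      exact hwK.1
    exact (inv_mul_eq_one.1 h2).symm

/-- An involution of `F.K` with centraliser in `F.K` contained in `F'.M`. -/
theorem exists_k [Finite G] (hF : Facts IsA IsB) (h : Two F F') {b : S}
    (hB : CaseB F F' IsB b) :
    ∃ k ∈ F.K, k * k = 1 ∧ ∀ x ∈ F.K, x * k = k * x → x ∈ F'.M := by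
  have hbb := (hF.invB b hB.isB).1
  have hb1 := (hF.invB b hB.isB).2
  have hcjne : MulAut.conj b ≠ 1 := fun e => hb1 (cj_inj hF (e.trans (map_one _).symm))
  obtain ⟨y, hy, hyM, hyy, hy1, hya⟩ := h.lift hB.mem (by rw [← map_mul, hbb, map_one]) hcjne
  have hk : (F.ι b)⁻¹ * y ∈ F.K := F.mem_K_of_inner hyM hya
  have hιinv : (F.ι b)⁻¹ = F.ι b := by
    rw [← map_inv, inv_eq_of_mul_eq_one_left hbb]
  have hcomm : y * F.ι b = F.ι b * y := by
    rw [← F.comm_iff hyM, hya, MulAut.conj_apply, mul_inv_cancel_right]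
  refine ⟨_, hk, ?_, ?_⟩
  · rw [hιinv]
    calc F.ι b * y * (F.ι b * y) = F.ι b * (y * F.ι b) * y := by group
      _ = F.ι b * (F.ι b * y) * y := by rw [hcomm]
      _ = (F.ι (b * b)) * (y * y) := by rw [map_mul]; group
      _ = 1 := by rw [hbb, map_one, hyy, one_mul]
  · intro x hx hxk
    apply h.cent' y hy hyy hy1
    have h6 : y = F.ι b * ((F.ι b)⁻¹ * y) := by group
    rw [h6, ← mul_assoc, hx b, mul_assoc, hxk]
    group

theorem exists_outer [Finite G] (hF : Facts IsA IsB) (h : Two F F') {b b' : S}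
    (hB : CaseB F F' IsB b) (hB' : CaseB F' F IsB b') (h4 : 4 ∣ Nat.card F.K) :
    ∃ x ∈ F.K, x ∈ F'.M ∧ F'.act x ∉ Inn S := by
  by_contra hcon
  push Not at hcon
  obtain ⟨k, hk, hkk, hc⟩ := exists_k hF h hB
  refine not_four_of_two h (MulAut.conj b') (fun x hx hxM => ?_)
    (four_dvd_of_centralizer hk hkk hc h4)
  obtain ⟨v, hv⟩ := hcon x hx hxM
  rcases inner_X hF h hB hB' hx hxM hv.symm with h1 | h1
  · left; rw [← hv, h1, map_one]
  · right; rw [← hv, h1]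

/-- Commuting 2-elements of `F.K ∩ F'.M` and `F'.K ∩ F.M` inducing outer automorphisms. -/
theorem exists_pair [Finite G] (h : Two F F') (hpg : ∀ x ∈ Xb F F', ∃ n : ℕ, x ^ 2 ^ n = 1)
    (hpg' : ∀ x ∈ Xb F' F, ∃ n : ℕ, x ^ 2 ^ n = 1) {x0 x1 : G} (hx0 : x0 ∈ F.K)
    (hx0M : x0 ∈ F'.M) (hx1 : x1 ∈ F'.K) (hx1M : x1 ∈ F.M) :
    ∃ f0 ∈ F.K, f0 ∈ F'.M ∧ F'.act f0 = F'.act x0 ∧ (∃ n : ℕ, f0 ^ 2 ^ n = 1) ∧
      ∃ f ∈ F'.K, f ∈ F.M ∧ F.act f = F.act x1 ∧ f * f0 = f0 * f := by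
  have : Fact (Nat.Prime 2) := ⟨Nat.prime_two⟩
  set D : Subgroup G := F.M ⊓ F'.M with hD
  have hn1 : (F.K.subgroupOf D).Normal := ⟨fun x hx g => by
    rw [mem_subgroupOf] at hx ⊢
    exact F.K_conj (mem_inf.1 g.2).1 hx⟩
  have hn2 : (F'.K.subgroupOf D).Normal := ⟨fun x hx g => by
    rw [mem_subgroupOf] at hx ⊢
    exact F'.K_conj (mem_inf.1 g.2).2 hx⟩
  let P : Sylow 2 D := default
  have hle1 := Cfsg.Agent.Lib.SylowNormalInf.le_sup_inf P (F.K.subgroupOf D) (F'.K.subgroupOf D)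
    (fun x hx => by
      rw [mem_subgroupOf] at hx
      obtain ⟨n, hn⟩ := hpg' (F'.act (x : G)) ⟨x, hx, (mem_inf.1 x.2).2, rfl⟩
      refine ⟨n, ?_⟩
      rw [mem_subgroupOf]
      apply F'.mem_K_of_act (F'.M.pow_mem (mem_inf.1 x.2).2 _)
      show F'.act ((x : G) ^ 2 ^ n) = 1
      rw [F'.act_pow (mem_inf.1 x.2).2, hn])
  have hle2 := Cfsg.Agent.Lib.SylowNormalInf.le_sup_inf P (F'.K.subgroupOf D) (F.K.subgroupOf D)
    (fun x hx => by
      rw [mem_subgroupOf] at hx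
      obtain ⟨n, hn⟩ := hpg (F.act (x : G)) ⟨x, hx, (mem_inf.1 x.2).1, rfl⟩
      refine ⟨n, ?_⟩
      rw [mem_subgroupOf]
      apply F.mem_K_of_act (F.M.pow_mem (mem_inf.1 x.2).1 _)
      show F.act ((x : G) ^ 2 ^ n) = 1
      rw [F.act_pow (mem_inf.1 x.2).1, hn])
  have hx0D : x0 ∈ D := mem_inf.2 ⟨F.K_le hx0, hx0M⟩
  have hx1D : x1 ∈ D := mem_inf.2 ⟨hx1M, F'.K_le hx1⟩
  obtain ⟨n, hn, f0, hf0, e0⟩ := mem_sup_of_normal_left.1
    (hle1 (show (⟨x0, hx0D⟩ : D) ∈ F.K.subgroupOf D from hx0))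
  obtain ⟨m, hm, f, hf, e1⟩ := mem_sup_of_normal_left.1
    (hle2 (show (⟨x1, hx1D⟩ : D) ∈ F'.K.subgroupOf D from hx1))
  have hnK : (n : G) ∈ F'.K := hn
  have hmK : (m : G) ∈ F.K := hm
  have hf0K : (f0 : G) ∈ F.K := (mem_inf.1 hf0).2
  have hfK : (f : G) ∈ F'.K := (mem_inf.1 hf).2
  refine ⟨f0, hf0K, (mem_inf.1 f0.2).2, ?_, ?_, f, hfK, (mem_inf.1 f.2).1, ?_, ?_⟩
  · have e2 : (n : G) * f0 = x0 := congrArg Subtype.val e0
    rw [← e2, F'.act_mul (F'.K_le hnK) (mem_inf.1 f0.2).2, F'.act_K hnK, one_mul]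
  · obtain ⟨k, hk⟩ := P.isPGroup' ⟨f0, (mem_inf.1 hf0).1⟩
    exact ⟨k, congrArg (fun z : P => ((z : D) : G)) hk⟩
  · have e2 : (m : G) * f = x1 := congrArg Subtype.val e1
    rw [← e2, F.act_mul (F.K_le hmK) (mem_inf.1 f.2).1, F.act_K hmK, one_mul]
  · -- the commutator
    have h1 : (f * f0 * f⁻¹ * f0⁻¹ : D) ∈ (P : Subgroup D) :=
      mul_mem (mul_mem (mul_mem (mem_inf.1 hf).1 (mem_inf.1 hf0).1) (inv_mem (mem_inf.1 hf).1))
        (inv_mem (mem_inf.1 hf0).1)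
    have h2 : (f : G) * f0 * (f : G)⁻¹ * (f0 : G)⁻¹ ∈ W F F' := by
      refine mem_inf.2 ⟨F.K.mul_mem (F.K_conj (mem_inf.1 f.2).1 hf0K) (F.K.inv_mem hf0K), ?_⟩
      have e3 : (f : G) * f0 * (f : G)⁻¹ * (f0 : G)⁻¹ =
          (f : G) * (f0 * (f : G)⁻¹ * (f0 : G)⁻¹) := by group
      rw [e3]
      exact F'.K.mul_mem hfK (F'.K_conj (mem_inf.1 f0.2).2 (F'.K.inv_mem hfK))
    obtain ⟨k, hk⟩ := P.isPGroup' ⟨_, h1⟩
    have hk' : ((f : G) * f0 * (f : G)⁻¹ * (f0 : G)⁻¹) ^ 2 ^ k = 1 :=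
      congrArg (fun z : P => ((z : D) : G)) hk
    have h3 : (f : G) * f0 * (f : G)⁻¹ * (f0 : G)⁻¹ = 1 := by
      by_contra hne
      obtain ⟨j, hj, hj1⟩ := exists_sq_one hne k hk'
      exact hj1 (h.W_no_inv _ (pow_mem h2 j) hj)
    rw [mul_inv_eq_one, mul_inv_eq_iff_eq_mul] at h3
    exact h3

end Cfsg.Agent.CoThreeStd.PairB
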