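import Cfsg.Agent.CoThreeStd.PairB

set_option autoImplicit false

/-!
Pairs of frames in case B: the group `F.K` has order not divisible by four.
-/

namespace Cfsg.Agent.CoThreeStd.PairBTwo

open Subgroup Cfsg.Agent.CoThreeStd.FactsDef Cfsg.Agent.CoThreeStd.Frame
open Cfsg.Agent.CoThreeStd.Frame.Fr Cfsg.Agent.CoThreeStd.Frame.Two Cfsg.Agent.CoThreeStd.PairAC
open Cfsg.Agent.CoThreeStd.Fam Cfsg.Agent.CoThreeStd.PairB

variable {G S : Type*} [Group G] [Group S] {IsA IsB : S → Prop} {F F' : Fr G S}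

/-- The key facts: a 2-subgroup of `F.K` containing `f0` is `⟨f0⟩`. -/
def Syl (F : Fr G S) (f0 : G) : Prop :=
  ∀ R : Subgroup G, R ≤ F.K → IsPGroup 2 R → f0 ∈ R → ∀ x ∈ R, x ∈ zpowers f0

theorem pow_four (x : G) : x ^ 4 = x * x * (x * x) := by
  rw [show (4 : ℕ) = 2 + 2 from rfl, pow_add, sq]

theorem mem_zpowers_four {f0 : G} (h4 : f0 * f0 * (f0 * f0) = 1) {x : G} (hx : x ∈ zpowers f0) :
    x = 1 ∨ x = f0 ∨ x = f0 * f0 ∨ x = f0 * (f0 * f0) := by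
  obtain ⟨k, rfl⟩ := mem_zpowers_iff.1 hx
  have h5 : f0 ^ (4 : ℤ) = 1 := by
    rw [show (4 : ℤ) = ((4 : ℕ) : ℤ) from rfl, zpow_natCast, pow_four, h4]
  have h6 : f0 ^ k = f0 ^ (k % 4) := by
    conv_lhs => rw [← Int.mul_ediv_add_emod k 4, zpow_add, zpow_mul, h5, one_zpow, one_mul]
  have h7 : k % 4 = 0 ∨ k % 4 = 1 ∨ k % 4 = 2 ∨ k % 4 = 3 := by omega
  rcases h7 with h | h | h | h <;> rw [h6, h]
  · left; simp
  · right; left; simp
  · right; right; left; rw [zpow_two]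
  · right; right; right
    rw [show (3 : ℤ) = ((3 : ℕ) : ℤ) from rfl, zpow_natCast, pow_succ', sq]

theorem isPGroup_zpowers {f0 : G} (htt : f0 * f0 * (f0 * f0) = 1) : IsPGroup 2 (zpowers f0) := by
  have h4 : f0 ^ 2 ^ 2 = 1 := by
    rw [show (2 : ℕ) ^ 2 = 4 from rfl, pow_four, htt]
  intro x
  refine ⟨2, ?_⟩
  obtain ⟨k, hk⟩ := mem_zpowers_iff.1 x.2
  apply Subtype.ext
  show (x : G) ^ 2 ^ 2 = 1
  rw [← hk, ← zpow_natCast, ← zpow_mul, mul_comm, zpow_mul, zpow_natCast, h4, one_zpow]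

theorem syl_of [Finite G] (hF : Facts IsA IsB) (h : Two F F') {b b' : S} (hB : CaseB F F' IsB b)
    (hB' : CaseB F' F IsB b') {f0 : G} (hf0 : f0 ∈ F.K) (hf0M : f0 ∈ F'.M)
    (hout : F'.act f0 ∉ Inn S) (ht : F'.act (f0 * f0) = MulAut.conj b')
    (htt : f0 * f0 * (f0 * f0) = 1)
    (hc : ∀ x ∈ F.K, x * (f0 * f0) = f0 * f0 * x → x ∈ F'.M) : Syl F f0 := by
  have : Fact (Nat.Prime 2) := ⟨Nat.prime_two⟩
  intro R hRK hR hf0R
  have htR : f0 * f0 ∈ R := R.mul_mem hf0R hf0R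
  have ht1 : f0 * f0 ≠ 1 := by
    intro e
    rw [e, F'.act_one] at ht
    exact (hF.invB b' hB'.isB).2 (cj_inj hF (ht.symm.trans (map_one _).symm))
  -- elements of `R` inducing the identity are trivial
  have hW : ∀ x ∈ R, x ∈ F'.M → F'.act x = 1 → x = 1 := by
    intro x hx hxM hx1
    obtain ⟨n, hn⟩ := hR ⟨x, hx⟩
    have hn' : x ^ 2 ^ n = 1 := congrArg Subtype.val hn
    by_contra hne
    obtain ⟨j, hj, hj1⟩ := exists_sq_one hne n hn'
    exact hj1 (h.W_no_inv _ (pow_mem (mem_inf.2 ⟨hRK hx, F'.mem_K_of_act hxM hx1⟩) j) hj)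
  have hinner : ∀ x ∈ R, x ∈ F'.M → F'.act x ∈ Inn S → x ∈ zpowers f0 := by
    intro x hx hxM hxI
    obtain ⟨v, hv⟩ := hxI
    rcases inner_X hF h hB hB' (hRK hx) hxM hv.symm with h1 | h1
    · rw [hW x hx hxM (by rw [← hv, h1, map_one])]
      exact one_mem _
    · have h2 : (f0 * f0)⁻¹ * x = 1 := by
        have htM : f0 * f0 ∈ F'.M := F'.M.mul_mem hf0M hf0M
        apply hW _ (R.mul_mem (R.inv_mem htR) hx) (F'.M.mul_mem (F'.M.inv_mem htM) hxM)
        rw [F'.act_mul (F'.M.inv_mem htM) hxM, F'.act_inv htM, ht, ← hv, h1, inv_mul_cancel]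
      rw [← inv_mul_eq_one.1 h2]
      exact mul_mem (mem_zpowers _) (mem_zpowers _)
  have hCR : ∀ x ∈ R, x * (f0 * f0) = f0 * f0 * x → x ∈ zpowers f0 := by
    intro x hx hxt
    have hxM := hc x (hRK hx) hxt
    by_cases hxI : F'.act x ∈ Inn S
    · exact hinner x hx hxM hxI
    · have h1 := hF.out _ _ hxI hout
      rw [← F'.act_mul hxM hf0M] at h1
      have h2 := hinner _ (R.mul_mem hx hf0R) (F'.M.mul_mem hxM hf0M) h1
      have h3 : x = x * f0 * f0⁻¹ := by group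
      rw [h3]
      exact mul_mem h2 (inv_mem (mem_zpowers _))
  -- `t` is central in `R`
  have hnt : Nontrivial R := ⟨⟨⟨f0 * f0, htR⟩, 1, fun e => ht1 (congrArg Subtype.val e)⟩⟩
  have hcn := hR.center_nontrivial
  obtain ⟨⟨⟨c, hcR⟩, hcc⟩, hc1⟩ := exists_ne (1 : center R)
  have hccomm : ∀ x ∈ R, x * c = c * x := fun x hx =>
    congrArg Subtype.val (mem_center_iff.1 hcc ⟨x, hx⟩)
  have hcf : c ∈ zpowers f0 := hCR c hcR (hccomm _ htR).symm
  have hcne : c ≠ 1 := fun e => hc1 (Subtype.ext (Subtype.ext e))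
  have htc : f0 * f0 = c ∨ f0 * f0 = c * c := by
    rcases mem_zpowers_four htt hcf with e | e | e | e
    · exact absurd e hcne
    · right; rw [e]
    · left; rw [e]
    · right
      rw [e]
      calc f0 * f0 = f0 * f0 * (f0 * f0 * (f0 * f0)) := by rw [htt, mul_one]
        _ = f0 * (f0 * f0) * (f0 * (f0 * f0)) := by group
  intro x hx
  apply hCR x hx
  rcases htc with e | e
  · rw [e, hccomm x hx]
  · rw [e, ← mul_assoc, hccomm x hx, mul_assoc, hccomm x hx, ← mul_assoc]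

/-- Involutions of `F.K` are conjugate to `t`. -/
theorem conj_of_syl [Finite G] {f0 : G} (hf0 : f0 ∈ F.K) (ht1 : f0 * f0 ≠ 1)
    (htt : f0 * f0 * (f0 * f0) = 1)
    (hs : Syl F f0) {j : G} (hj : j ∈ F.K) (hjj : j * j = 1) (hj1 : j ≠ 1) :
    ∃ κ ∈ F.K, κ * j * κ⁻¹ = f0 * f0 := by
  have : Fact (Nat.Prime 2) := ⟨Nat.prime_two⟩
  have hf2 : IsPGroup 2 (zpowers f0) := isPGroup_zpowers htt
  obtain ⟨R, hR1, hR2, hR3, hR4⟩ := Cfsg.Agent.Lib.GoldschmidtFusion.exists_sylow_in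
    (N := F.K) (D := zpowers f0) (by rw [zpowers_le]; exact hf0) hf2
  have hjp : IsPGroup 2 (zpowers j) := by
    apply IsPGroup.of_card (n := 1)
    rw [Nat.card_zpowers, pow_one]
    exact orderOf_eq_prime (by rw [sq]; exact hjj) hj1
  obtain ⟨κ, hκ, hle⟩ := Cfsg.Agent.Lib.GoldschmidtFusion.exists_conj_le_in hR3 hR4
    (D := zpowers j) (by rw [zpowers_le]; exact hj) hjp
  refine ⟨κ, hκ, ?_⟩
  have h1 : κ * j * κ⁻¹ ∈ R := hle ⟨j, mem_zpowers j, rfl⟩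
  have h2 := hs R hR2 hR3 (hR1 (mem_zpowers _)) _ h1
  have h3 : κ * j * κ⁻¹ * (κ * j * κ⁻¹) = 1 := by
    calc κ * j * κ⁻¹ * (κ * j * κ⁻¹) = κ * (j * j) * κ⁻¹ := by group
      _ = 1 := by rw [hjj]; group
  have h4 : κ * j * κ⁻¹ ≠ 1 := by
    intro e
    apply hj1
    calc j = κ⁻¹ * (κ * j * κ⁻¹) * κ := by group
      _ = 1 := by rw [e]; group
  rcases mem_zpowers_four htt h2 with e | e | e | e
  · exact absurd e h4
  · rw [e] at h3
    exact absurd h3 ht1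
  · exact e
  · rw [e] at h3
    exfalso
    apply ht1
    calc f0 * f0 = f0 * f0 * (f0 * f0 * (f0 * f0)) := by rw [htt, mul_one]
      _ = f0 * (f0 * f0) * (f0 * (f0 * f0)) := by group
      _ = 1 := h3

/-- An element of `F.K` normalising `⟨f0⟩` centralises `f0`. -/
theorem comm_of_syl [Finite G] {f0 : G} (hf0 : f0 ∈ F.K) (ht1 : f0 * f0 ≠ 1)
    (htt : f0 * f0 * (f0 * f0) = 1) (hs : Syl F f0) {κ : G} (hκ : κ ∈ F.K)
    (hn : κ * f0 * κ⁻¹ ∈ zpowers f0) : κ * f0 * κ⁻¹ = f0 := by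
  have : Fact (Nat.Prime 2) := ⟨Nat.prime_two⟩
  have hsq : κ * f0 * κ⁻¹ * (κ * f0 * κ⁻¹) = κ * (f0 * f0) * κ⁻¹ := by group
  have hinv : f0 * (f0 * f0) = f0⁻¹ := by
    rw [eq_inv_iff_mul_eq_one]
    calc f0 * (f0 * f0) * f0 = f0 * f0 * (f0 * f0) := by group
      _ = 1 := htt
  have hcase : κ * f0 * κ⁻¹ = f0 ∨ κ * f0 * κ⁻¹ = f0⁻¹ := by
    rcases mem_zpowers_four htt hn with e | e | e | e
    · exfalso
      apply ht1
      have : f0 = 1 := by
        calc f0 = κ⁻¹ * (κ * f0 * κ⁻¹) * κ := by group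
          _ = 1 := by rw [e]; group
      rw [this, one_mul]
    · exact Or.inl e
    · exfalso
      apply ht1
      rw [e] at hsq
      rw [htt] at hsq
      calc f0 * f0 = κ⁻¹ * (κ * (f0 * f0) * κ⁻¹) * κ := by group
        _ = 1 := by rw [← hsq]; group
    · right; rw [e, hinv]
  rcases hcase with e | e
  · exact e
  exfalso
  -- an odd power `κ'` of `κ` of 2-power order inverts `f0`
  obtain ⟨m, hm, r, hr⟩ : ∃ m : ℕ, Odd m ∧ ∃ r : ℕ, (κ ^ m) ^ 2 ^ r = 1 := by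
    obtain ⟨r, m, hm, he⟩ := Nat.exists_eq_two_pow_mul_odd (orderOf_pos κ).ne'
    refine ⟨m, hm, r, ?_⟩
    rw [← pow_mul, mul_comm, ← he, pow_orderOf_eq_one]
  have hpow : ∀ n : ℕ, κ ^ (2 * n) * f0 * (κ ^ (2 * n))⁻¹ = f0 := by
    intro n
    induction n with
    | zero => simp
    | succ n ih =>
      have e3 : κ ^ (2 * (n + 1)) = κ ^ (2 * n) * (κ * κ) := by
        rw [show 2 * (n + 1) = 2 * n + 2 by ring, pow_add, sq]
      rw [e3]
      have e4 : κ * f0⁻¹ * κ⁻¹ = f0 := by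
        rw [← inv_inj]
        calc (κ * f0⁻¹ * κ⁻¹)⁻¹ = κ * f0 * κ⁻¹ := by group
          _ = f0⁻¹ := e
      calc κ ^ (2 * n) * (κ * κ) * f0 * (κ ^ (2 * n) * (κ * κ))⁻¹ =
            κ ^ (2 * n) * (κ * (κ * f0 * κ⁻¹) * κ⁻¹) * (κ ^ (2 * n))⁻¹ := by group
        _ = κ ^ (2 * n) * f0 * (κ ^ (2 * n))⁻¹ := by rw [e, e4]
        _ = f0 := ih
  have hodd : κ ^ m * f0 * (κ ^ m)⁻¹ = f0⁻¹ := by
    obtain ⟨n, rfl⟩ := hm
    calc κ ^ (2 * n + 1) * f0 * (κ ^ (2 * n + 1))⁻¹ =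
          κ * (κ ^ (2 * n) * f0 * (κ ^ (2 * n))⁻¹) * κ⁻¹ := by
            rw [pow_succ']; group
      _ = f0⁻¹ := by rw [hpow n, e]
  -- the group generated by `κ'` and `f0` is a 2-group
  have hf2 : IsPGroup 2 (zpowers f0) := isPGroup_zpowers htt
  have hk2 : IsPGroup 2 (zpowers (κ ^ m)) := by
    intro x
    refine ⟨r, ?_⟩
    obtain ⟨k, hk⟩ := mem_zpowers_iff.1 x.2
    apply Subtype.ext
    show (x : G) ^ 2 ^ r = 1
    rw [← hk, ← zpow_natCast, ← zpow_mul, mul_comm, zpow_mul, zpow_natCast, hr, one_zpow]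
  have hle : zpowers (κ ^ m) ≤ normalizer (zpowers f0 : Set G) := by
    rw [zpowers_le, mem_normalizer_iff]
    intro x
    constructor
    · intro hx
      obtain ⟨k, rfl⟩ := mem_zpowers_iff.1 hx
      rw [← conj_zpow, hodd]
      exact zpow_mem (inv_mem (mem_zpowers _)) k
    · intro hx
      obtain ⟨k, hk⟩ := mem_zpowers_iff.1 hx
      have e5 : (κ ^ m)⁻¹ * f0 * κ ^ m = f0⁻¹ := by
        rw [← inv_inj]
        calc ((κ ^ m)⁻¹ * f0 * κ ^ m)⁻¹ = (κ ^ m)⁻¹ * f0⁻¹ * κ ^ m := by group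
          _ = (κ ^ m)⁻¹ * (κ ^ m * f0 * (κ ^ m)⁻¹) * κ ^ m := by rw [hodd]
          _ = f0⁻¹⁻¹ := by group
      have e6 : x = ((κ ^ m)⁻¹ * f0 * κ ^ m) ^ k := by
        have h7 : ((κ ^ m)⁻¹ * f0 * κ ^ m) ^ k = (κ ^ m)⁻¹ * f0 ^ k * κ ^ m := by
          have := conj_zpow (a := (κ ^ m)⁻¹) (b := f0) (i := k)
          rw [inv_inv] at this
          exact this
        rw [h7, hk]
        group
      rw [e6, e5]
      exact zpow_mem (inv_mem (mem_zpowers _)) k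
  have hsup := hk2.to_sup_of_normal_right' hf2 hle
  have h1 := hs (zpowers (κ ^ m) ⊔ zpowers f0)
    (sup_le (by rw [zpowers_le]; exact pow_mem hκ m) (by rw [zpowers_le]; exact hf0)) hsup
    ((le_sup_right : zpowers f0 ≤ _) (mem_zpowers _)) (κ ^ m)
    ((le_sup_left : zpowers (κ ^ m) ≤ _) (mem_zpowers _))
  obtain ⟨k, hk⟩ := mem_zpowers_iff.1 h1
  have h2 : κ ^ m * f0 * (κ ^ m)⁻¹ = f0 := by
    rw [← hk]
    group
  rw [h2] at hodd
  apply ht1
  nth_rewrite 1 [hodd]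
  exact inv_mul_cancel f0

theorem final_contra [Finite G] (hF : Facts IsA IsB) (hstd : StdF F) {g f0 f : G} {b : S}
    (hb : IsB b) (hf0 : f0 ∈ F.K) (ht1 : f0 * f0 ≠ 1) (htt : f0 * f0 * (f0 * f0) = 1)
    (hconj : g⁻¹ * (F.ι b * (f0 * f0)) * g ∈ F.K) (hfM : f ∈ F.M) (hfout : F.act f ∉ Inn S)
    (hff0 : f * f0 = f0 * f) (hs : Syl F f0) : False := by
  have : Fact (Nat.Prime 2) := ⟨Nat.prime_two⟩
  have hf2 : IsPGroup 2 (zpowers f0) := isPGroup_zpowers htt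
  have htK : f0 * f0 ∈ F.K := F.K.mul_mem hf0 hf0
  -- a Sylow 2-subgroup of `F.M`
  obtain ⟨T, hT1, hT2, hT3, hT4⟩ := Cfsg.Agent.Lib.GoldschmidtFusion.exists_sylow_in
    (N := F.M) (D := zpowers f0) (by rw [zpowers_le]; exact F.K_le hf0) hf2
  have hf0T : f0 ∈ T := hT1 (mem_zpowers _)
  have hTK : ∀ x ∈ T, x ∈ F.K → x ∈ zpowers f0 := fun x hx hxK =>
    hs (T ⊓ F.K) inf_le_right (hT3.to_le inf_le_left) (mem_inf.2 ⟨hf0T, hf0⟩) x
      (mem_inf.2 ⟨hx, hxK⟩)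
  -- `T` centralises `f0`
  have hTf0 : ∀ x ∈ T, x * f0 = f0 * x := by
    have key : ∀ x ∈ T, ∀ c : G, c * f0 = f0 * c → F.act (x * c) ∈ Inn S → c ∈ F.M →
        x * f0 = f0 * x := by
      intro x hx c hc hI hcM
      obtain ⟨s, hs'⟩ := hI
      have hκ := F.mem_K_of_inner (F.M.mul_mem (hT2 hx) hcM) hs'.symm
      obtain ⟨κ, hκdef⟩ : ∃ κ, κ = (F.ι s)⁻¹ * (x * c) := ⟨_, rfl⟩
      rw [← hκdef] at hκ
      have hx' : x = F.ι s * κ * c⁻¹ := by rw [hκdef]; group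
      have hcc : c⁻¹ * f0 * c = f0 := by
        calc c⁻¹ * f0 * c = c⁻¹ * (f0 * c) := by group
          _ = c⁻¹ * (c * f0) := by rw [hc]
          _ = f0 := by group
      have e1 : x * f0 * x⁻¹ = κ * f0 * κ⁻¹ := by
        have h1 := (F.K.mul_mem (F.K.mul_mem hκ hf0) (F.K.inv_mem hκ)) s
        calc x * f0 * x⁻¹ = F.ι s * (κ * (c⁻¹ * f0 * c) * κ⁻¹) * (F.ι s)⁻¹ := by
              rw [hx']; group
          _ = F.ι s * (κ * f0 * κ⁻¹) * (F.ι s)⁻¹ := by rw [hcc]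
          _ = κ * f0 * κ⁻¹ := by rw [← h1]; group
      have h2 : x * f0 * x⁻¹ ∈ zpowers f0 :=
        hTK _ (T.mul_mem (T.mul_mem hx hf0T) (T.inv_mem hx)) (F.K_conj (hT2 hx) hf0)
      rw [e1] at h2
      have h3 := comm_of_syl hf0 ht1 htt hs hκ h2
      rw [← e1] at h3
      exact mul_inv_eq_iff_eq_mul.1 h3
    intro x hx
    by_cases hI : F.act x ∈ Inn S
    · exact key x hx 1 (by rw [one_mul, mul_one]) (by rw [mul_one]; exact hI) F.M.one_mem
    · exact key x hx f hff0 (by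
        rw [F.act_mul (hT2 hx) hfM]
        exact hF.out _ _ hI hfout) hfM
  -- the Sylow 2-subgroup `P` of `S`
  have hnormM : (F.ι.range.subgroupOf F.M).Normal := ⟨by
    rintro ⟨_, hx⟩ ⟨s, rfl⟩ y
    rw [mem_subgroupOf]
    exact ⟨F.act y s, (F.conj y y.2 s).symm⟩⟩
  have hcomapP : IsPGroup 2 (T.comap F.ι) := hT3.comap_of_injective F.ι F.inj
  have hTM : IsPGroup 2 (T.subgroupOf F.M) := hT3.comap_of_injective F.M.subtype F.M.subtype_injective
  have hTMi : ¬ 2 ∣ (T.subgroupOf F.M).index := hT4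
  let T' : Sylow 2 F.M := hTM.toSylow hTMi
  have hPi : ¬ 2 ∣ (T.comap F.ι).index := by
    rw [index_comap]
    have h1 := Cfsg.Agent.Lib.SylowNormalInf.not_dvd_relIndex T' (F.ι.range.subgroupOf F.M)
    have h2 : ((T' : Subgroup F.M)).relIndex (F.ι.range.subgroupOf F.M) =
        T.relIndex F.ι.range := by
      apply relIndex_subgroupOf
      rintro _ ⟨s, rfl⟩
      exact F.mem s
    rwa [h2] at h1
  have hfinS : Finite S := Finite.of_injective F.ι F.inj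
  let P : Sylow 2 S := hcomapP.toSylow hPi
  have hmemP : ∀ s, s ∈ P ↔ F.ι s ∈ T := fun s => Iff.rfl
  obtain ⟨b0, hb0, hb0P, hcent⟩ := hF.sylow P
  have hb0ne := (hF.invB b0 hb0).2
  -- `b0` is central in `P`
  have hb0c : ∀ p ∈ P, p * b0 = b0 * p := by
    have hnt : Nontrivial P := ⟨⟨⟨b0, hb0P⟩, 1, fun e => hb0ne (congrArg Subtype.val e)⟩⟩
    have hcn := P.isPGroup'.center_nontrivial
    obtain ⟨⟨⟨c, hcP⟩, hcc⟩, hc1⟩ := exists_ne (1 : center P)
    have hccomm : ∀ x ∈ P, x * c = c * x := fun x hx =>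
      congrArg Subtype.val (mem_center_iff.1 hcc ⟨x, hx⟩)
    have hcne : c ≠ 1 := fun e => hc1 (Subtype.ext (Subtype.ext e))
    rcases hcent (MulAut.conj c) (fun p hp => by
      rw [MulAut.conj_apply, ← hccomm p hp, mul_inv_cancel_right]) with e | e
    · exact absurd (cj_inj hF (e.trans (map_one _).symm)) hcne
    · have : c = b0 := cj_inj hF e
      rw [← this]
      exact hccomm
  -- `ι b0` is centralised by `T`
  have hTb0 : ∀ x ∈ T, x * F.ι b0 = F.ι b0 * x := by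
    intro x hx
    have hact : ∀ y ∈ T, ∀ p ∈ P, F.act y p ∈ P := by
      intro y hy p hp
      rw [hmemP, ← F.conj y (hT2 hy)]
      exact T.mul_mem (T.mul_mem hy hp) (T.inv_mem hy)
    have h1 : F.act x b0 = b0 := by
      rcases hcent (MulAut.conj (F.act x b0)) (fun p hp => by
        have h2 := hact x⁻¹ (T.inv_mem hx) p hp
        have h3 : p = F.act x (F.act x⁻¹ p) := by
          rw [F.act_inv (hT2 hx), MulAut.apply_inv_self]
        rw [MulAut.conj_apply]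
        nth_rewrite 1 [h3]
        rw [← map_mul, ← hb0c _ h2, map_mul, mul_inv_cancel_right]
        exact h3.symm) with e | e
      · exfalso
        have h4 : F.act x b0 = 1 := cj_inj hF (e.trans (map_one _).symm)
        exact hb0ne ((F.act x).injective (h4.trans (map_one _).symm))
      · exact cj_inj hF e
    exact (F.comm_iff (hT2 hx) b0).1 h1
  -- squares of central elements
  have hsq : ∀ ζ ∈ T, (∀ x ∈ T, x * ζ = ζ * x) → ζ * ζ = 1 ∨ ζ * ζ = f0 * f0 := by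
    have hz : ∀ κ ∈ zpowers f0, κ * κ = 1 ∨ κ * κ = f0 * f0 := by
      intro κ hκ
      rcases mem_zpowers_four htt hκ with e | e | e | e
      · left; rw [e, one_mul]
      · right; rw [e]
      · left; rw [e, htt]
      · right
        rw [e]
        calc f0 * (f0 * f0) * (f0 * (f0 * f0)) = f0 * f0 * (f0 * f0 * (f0 * f0)) := by group
          _ = f0 * f0 := by rw [htt, mul_one]
    intro ζ hζ hζc
    have h1 : ∀ p ∈ P, F.act ζ p = p := fun p hp => by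
      rw [F.comm_iff (hT2 hζ)]
      exact (hζc _ hp).symm
    rcases hcent _ h1 with e | e
    · exact hz ζ (hTK ζ hζ (F.mem_K_of_act (hT2 hζ) e))
    · have h2 := F.mem_K_of_inner (hT2 hζ) e
      have h3 : (F.ι b0)⁻¹ * ζ ∈ T := T.mul_mem (T.inv_mem hb0P) hζ
      have h4 := hz _ (hTK _ h3 h2)
      have hbb : F.ι b0 * F.ι b0 = 1 := by rw [← map_mul, (hF.invB b0 hb0).1, map_one]
      have h5 : ζ * ζ = (F.ι b0)⁻¹ * ζ * ((F.ι b0)⁻¹ * ζ) := by
        have h6 : ζ * (F.ι b0)⁻¹ = (F.ι b0)⁻¹ * ζ := by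
          have h7 := hTb0 ζ hζ
          rw [mul_inv_eq_iff_eq_mul, mul_assoc, h7, inv_mul_cancel_left]
        have hbi : (F.ι b0)⁻¹ * (F.ι b0)⁻¹ = 1 := by rw [← mul_inv_rev, hbb, inv_one]
        calc ζ * ζ = ((F.ι b0)⁻¹ * (F.ι b0)⁻¹) * (ζ * ζ) := by rw [hbi, one_mul]
          _ = (F.ι b0)⁻¹ * ((F.ι b0)⁻¹ * ζ) * ζ := by group
          _ = (F.ι b0)⁻¹ * (ζ * (F.ι b0)⁻¹) * ζ := by rw [h6]
          _ = _ := by group
      rw [h5]
      exact h4
  -- the normaliser of `T`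
  have hNT : ∀ n ∈ normalizer (T : Set G), n * (f0 * f0) * n⁻¹ = f0 * f0 := by
    intro n hn
    rw [mem_normalizer_iff] at hn
    have h1 : n * f0 * n⁻¹ ∈ T := (hn f0).1 hf0T
    have h2 : ∀ x ∈ T, x * (n * f0 * n⁻¹) = n * f0 * n⁻¹ * x := by
      intro x hx
      have h3 : n⁻¹ * x * n ∈ T := by
        rw [hn]
        rwa [show n * (n⁻¹ * x * n) * n⁻¹ = x by group]
      have h4 := hTf0 _ h3
      calc x * (n * f0 * n⁻¹) = n * (n⁻¹ * x * n * f0) * n⁻¹ := by group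
        _ = n * (f0 * (n⁻¹ * x * n)) * n⁻¹ := by rw [h4]
        _ = n * f0 * n⁻¹ * x := by group
    have h5 : n * f0 * n⁻¹ * (n * f0 * n⁻¹) = n * (f0 * f0) * n⁻¹ := by group
    rcases hsq _ h1 h2 with e | e
    · exfalso
      rw [h5] at e
      apply ht1
      calc f0 * f0 = n⁻¹ * (n * (f0 * f0) * n⁻¹) * n := by group
        _ = 1 := by rw [e]; group
    · rw [h5] at e; exact e
  have hNM : normalizer (T : Set G) ≤ F.M := by
    intro n hn
    exact hstd.cent _ htK htt ht1 n (mul_inv_eq_iff_eq_mul.1 (hNT n hn))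
  have hTmap : ((T' : Subgroup F.M)).map F.M.subtype = T := by
    show (T.subgroupOf F.M).map F.M.subtype = T
    rw [subgroupOf_map_subtype]
    exact inf_eq_left.2 hT2
  obtain ⟨Q, hQ⟩ := Cfsg.Agent.S1335.sylow_of_normalizer_le F.M T' (by rw [hTmap]; exact hNM)
  rw [hTmap] at hQ
  -- `ι b0 t` is conjugate to `t`
  obtain ⟨s, hsb⟩ := hF.conjB b b0 hb hb0
  have hbt : F.ι b * (f0 * f0) * (F.ι b * (f0 * f0)) = 1 := by
    have h1 := htK b
    calc F.ι b * (f0 * f0) * (F.ι b * (f0 * f0)) = F.ι b * (f0 * f0 * F.ι b) * (f0 * f0) := by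
          group
      _ = F.ι b * (F.ι b * (f0 * f0)) * (f0 * f0) := by rw [h1]
      _ = F.ι (b * b) * (f0 * f0 * (f0 * f0)) := by rw [map_mul]; group
      _ = 1 := by rw [(hF.invB b hb).1, map_one, htt, one_mul]
  have hbt1 : F.ι b * (f0 * f0) ≠ 1 := by
    intro e
    apply (hF.invB b hb).2
    apply ι_mem_K (F := F) hF
    rw [mul_eq_one_iff_eq_inv.1 e]
    exact F.K.inv_mem htK
  obtain ⟨κ, hκ, hκt⟩ := conj_of_syl hf0 ht1 htt hs hconj (by
    calc g⁻¹ * (F.ι b * (f0 * f0)) * g * (g⁻¹ * (F.ι b * (f0 * f0)) * g) =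
          g⁻¹ * (F.ι b * (f0 * f0) * (F.ι b * (f0 * f0))) * g := by group
      _ = 1 := by rw [hbt]; group) (by
    intro e
    apply hbt1
    calc F.ι b * (f0 * f0) = g * (g⁻¹ * (F.ι b * (f0 * f0)) * g) * g⁻¹ := by group
      _ = 1 := by rw [e]; group)
  -- Burnside
  obtain ⟨y0, hy0⟩ : ∃ y0, y0 = F.ι b0 * (f0 * f0) := ⟨_, rfl⟩
  have hγ : (F.ι s * g * κ⁻¹)⁻¹ * y0 * (F.ι s * g * κ⁻¹) = f0 * f0 := by
    have h1 : (F.ι s)⁻¹ * y0 * F.ι s = F.ι b * (f0 * f0) := by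
      have h2 := htK s
      rw [hy0, ← hsb, map_mul, map_mul, map_inv]
      calc (F.ι s)⁻¹ * (F.ι s * F.ι b * (F.ι s)⁻¹ * (f0 * f0)) * F.ι s =
            F.ι b * (F.ι s)⁻¹ * ((f0 * f0) * F.ι s) := by group
        _ = F.ι b * (F.ι s)⁻¹ * (F.ι s * (f0 * f0)) := by rw [h2]
        _ = F.ι b * (f0 * f0) := by group
    rw [← hκt, ← h1]
    group
  have hmem : ∀ x, (∀ u ∈ T, u * x = x * u) → x ∈ centralizer (Q : Set G) := by
    intro x hx
    rw [mem_centralizer_iff]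
    intro u hu
    apply hx u
    rw [← hQ]
    exact hu
  have hct : ∀ u ∈ T, u * (f0 * f0) = f0 * f0 * u := by
    intro u hu
    rw [← mul_assoc, hTf0 u hu, mul_assoc, hTf0 u hu, ← mul_assoc]
  have hcy : ∀ u ∈ T, u * y0 = y0 * u := by
    intro u hu
    rw [hy0, ← mul_assoc, hTb0 u hu, mul_assoc, hct u hu, ← mul_assoc]
  obtain ⟨n, hn, hn2⟩ := Sylow.conj_eq_normalizer_conj_of_mem_centralizer Q y0
    (F.ι s * g * κ⁻¹) (hmem _ hcy) (by rw [hγ]; exact hmem _ hct)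
  rw [hγ] at hn2
  have hn3 : n ∈ normalizer (T : Set G) := by
    have : ((Q : Subgroup G) : Set G) = (T : Set G) := by rw [hQ]
    rw [← this]
    exact hn
  have h1 := hNT n hn3
  have h2 : y0 = f0 * f0 := by
    calc y0 = n * (n⁻¹ * y0 * n) * n⁻¹ := by group
      _ = n * (f0 * f0) * n⁻¹ := by rw [← hn2]
      _ = f0 * f0 := h1
  rw [hy0] at h2
  have h3 : F.ι b0 = 1 := mul_eq_right.1 h2
  exact hb0ne (F.inj (h3.trans (map_one _).symm))

/-- **Case B.** -/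
theorem caseB_not_four [Finite G] (hF : Facts IsA IsB) (hstd : StdF F) {g : G}
    (h : Two F (F.cg g)) {b b' : S} (hB : CaseB F (F.cg g) IsB b) (hB' : CaseB (F.cg g) F IsB b') :
    ¬ 4 ∣ Nat.card F.K := by
  intro h4
  have h4' : 4 ∣ Nat.card (F.cg g).K := by rw [card_cg_K]; exact h4
  obtain ⟨F', hF'⟩ : ∃ F', F' = F.cg g := ⟨_, rfl⟩
  rw [← hF'] at h hB hB' h4'
  obtain ⟨x0, hx0, hx0M, hx0o⟩ := exists_outer hF h hB hB' h4
  obtain ⟨x1, hx1, hx1M, hx1o⟩ := exists_outer hF h.symm hB' hB h4'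
  obtain ⟨f0, hf0, hf0M, hf0a, ⟨n, hn⟩, f, hf, hfM, hfa, hff0⟩ :=
    exists_pair h hB.pg hB'.pg hx0 hx0M hx1 hx1M
  rw [← hf0a] at hx0o
  rw [← hfa] at hx1o
  have htM : f0 * f0 ∈ F'.M := F'.M.mul_mem hf0M hf0M
  have htK : f0 * f0 ∈ F.K := F.K.mul_mem hf0 hf0
  have hbb := b_eq hF h hB hB'
  have hat : F'.act (f0 * f0) = MulAut.conj b' := by
    have h1 := hF.out _ _ hx0o hx0o
    rw [← F'.act_mul hf0M hf0M] at h1
    obtain ⟨v, hv⟩ := h1
    rcases inner_X hF h hB hB' htK htM hv.symm with e | e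
    · exfalso
      have h2 : F'.act f0 * F'.act f0 = 1 := by
        rw [← F'.act_mul hf0M hf0M, ← hv, e, map_one]
      rcases hB'.uniq _ ⟨f0, hf0, hf0M, rfl⟩ h2 with e2 | e2
      · exact hx0o (by rw [e2]; exact one_mem _)
      · exact hx0o (by rw [e2]; exact conj_mem_inn _)
    · rw [← hv, e]
  have hbb' := (hF.invB b' hB'.isB).1
  have ht1 : f0 * f0 ≠ 1 := by
    intro e
    rw [e, F'.act_one] at hat
    exact (hF.invB b' hB'.isB).2 (cj_inj hF (hat.symm.trans (map_one _).symm))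
  have htt : f0 * f0 * (f0 * f0) = 1 := by
    have h1 : F'.act (f0 * f0 * (f0 * f0)) = 1 := by
      rw [F'.act_mul htM htM, hat, ← map_mul, hbb', map_one]
    have h2 : f0 * f0 * (f0 * f0) ∈ W F F' :=
      mem_inf.2 ⟨F.K.mul_mem htK htK, F'.mem_K_of_act (F'.M.mul_mem htM htM) h1⟩
    by_contra hne
    have h3 : (f0 * f0 * (f0 * f0)) ^ 2 ^ n = 1 := by
      rw [← pow_four, ← pow_mul, mul_comm, pow_mul, hn, one_pow]
    obtain ⟨j, hj, hj1⟩ := exists_sq_one hne n h3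
    exact hj1 (h.W_no_inv _ (pow_mem h2 j) hj)
  -- `y1 = ι b * t` is in `F'.K`
  have hbM : F.ι b ∈ F'.M := (hB.H b).2 rfl
  have hy1 : F.ι b * (f0 * f0) ∈ F'.K := by
    apply F'.mem_K_of_act (F'.M.mul_mem hbM htM)
    rw [F'.act_mul hbM htM, hat, hbb, F'.act_ι, ← map_mul, hbb', map_one]
  have hy1' : F.ι b * (f0 * f0) * (F.ι b * (f0 * f0)) = 1 := by
    have h1 := htK b
    calc F.ι b * (f0 * f0) * (F.ι b * (f0 * f0)) = F.ι b * (f0 * f0 * F.ι b) * (f0 * f0) := by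
          group
      _ = F.ι b * (F.ι b * (f0 * f0)) * (f0 * f0) := by rw [h1]
      _ = F.ι (b * b) * (f0 * f0 * (f0 * f0)) := by rw [map_mul]; group
      _ = 1 := by rw [(hF.invB b hB.isB).1, map_one, htt, one_mul]
  have hy1ne : F.ι b * (f0 * f0) ≠ 1 := by
    intro e
    apply (hF.invB b hB.isB).2
    apply ι_mem_K (F := F) hF
    rw [mul_eq_one_iff_eq_inv.1 e]
    exact F.K.inv_mem htK
  have hc : ∀ x ∈ F.K, x * (f0 * f0) = f0 * f0 * x → x ∈ F'.M := by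
    intro x hx hxt
    apply h.cent' _ hy1 hy1' hy1ne
    rw [← mul_assoc, hx b, mul_assoc, hxt, ← mul_assoc]
  have hsyl := syl_of hF h hB hB' hf0 hf0M hx0o hat htt hc
  rw [hF', mem_cg_K] at hy1
  exact final_contra hF hstd hB.isB hf0 ht1 htt hy1 hfM hx1o hff0 hsyl

end Cfsg.Agent.CoThreeStd.PairBTwo
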