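import Cfsg.Agent.CoThreeStd.Parity

/-!
# The parity hypothesis of S1750

`Par t T` replaces "no subgroup of index two" in the arguments for `C_G(t) = ⟨t⟩ × L`.  `T` is a conjugation
invariant set of involutions containing `t` (for `G` itself the class of `t`; for `N_G(D)/D`, `D = O(C_G(t))`, the
images of the conjugates of `t` in `N_G(D)`).
-/

set_option autoImplicit false

namespace Cfsg.Agent.CoThreeStd.Par

open Cfsg.Agent.CoThreeStd.Parity

/-- The parity hypothesis. -/
structure Par {G : Type*} [Group G] (t : G) (T : G → Prop) : Prop where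
  self : T t
  conj : ∀ h, T h → ∀ g : G, T (g * h * g⁻¹)
  sq : ∀ h, T h → h * h = 1
  ne : ∀ h, T h → h ≠ 1
  /-- the parity lemma -/
  par : ∀ C₀ C : Subgroup G, C₀ ≤ C → C₀.relIndex C = 2 →
    (∀ h ∈ C, h ∉ C₀ → T h → IsConj t h) →
    2 * Nat.card C ∣ Nat.card (Subgroup.centralizer ({t} : Set G)) *
      Nat.card {h : G // (h ∈ C ∧ h ∉ C₀) ∧ IsConj t h}
  /-- subgroups of the centraliser of an element of `T` without normal subgroups of odd order -/
  dvd : ∀ h, T h → ∀ X : Subgroup G, (∀ x ∈ X, x * h = h * x) →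
    (∀ Y : Subgroup G, Y ≤ X → Odd (Nat.card Y) → (∀ x ∈ X, ∀ y ∈ Y, x * y * x⁻¹ ∈ Y) → Y = ⊥) →
    Nat.card X ∣ Nat.card (Subgroup.centralizer ({t} : Set G))

variable {G : Type*} [Group G] {t : G} {T : G → Prop}

/-- Conjugates of `t` are in `T`. -/
theorem Par.of_conj (h : Par t T) {x : G} (hx : IsConj t x) : T x := by
  obtain ⟨c, rfl⟩ := isConj_iff.1 hx
  exact h.conj t h.self c

/-- A finite group without subgroups of index two satisfies `Par` for the class of `t`. -/
theorem Par.of_index [Finite G] (hG : ∀ H : Subgroup G, H.index ≠ 2) (tt : t * t = 1) (tne : t ≠ 1) :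
    Par t (IsConj t) where
  self := IsConj.refl t
  conj := by
    intro h hh g
    exact hh.trans (isConj_iff.2 ⟨g, rfl⟩)
  sq := by
    intro h hh
    obtain ⟨c, rfl⟩ := isConj_iff.1 hh
    calc c * t * c⁻¹ * (c * t * c⁻¹) = c * (t * t) * c⁻¹ := by group
      _ = 1 := by rw [tt]; group
  ne := by
    intro h hh e
    obtain ⟨c, rfl⟩ := isConj_iff.1 hh
    apply tne
    calc t = c⁻¹ * (c * t * c⁻¹) * c := by group
      _ = 1 := by rw [e]; group
  par := fun C₀ C hle h2 _ => two_mul_card_dvd hG hle h2 t tt
  dvd := by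
    intro h hh X hX _
    obtain ⟨c, rfl⟩ := isConj_iff.1 hh
    let f : X →* Subgroup.centralizer ({t} : Set G) :=
      { toFun := fun x => ⟨c⁻¹ * x * c, by
          rw [Subgroup.mem_centralizer_singleton_iff]
          have h1 := hX x x.2
          calc c⁻¹ * (x : G) * c * t = c⁻¹ * (x * (c * t * c⁻¹)) * c := by group
            _ = c⁻¹ * (c * t * c⁻¹ * x) * c := by rw [h1]
            _ = t * (c⁻¹ * x * c) := by group⟩
        map_one' := by
          apply Subtype.ext
          simp
        map_mul' := by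
          intro x y
          apply Subtype.ext
          simp only [Subgroup.coe_mul]
          group }
    apply Subgroup.card_dvd_of_injective f
    intro x y hxy
    have h1 : c⁻¹ * (x : G) * c = c⁻¹ * y * c := congrArg Subtype.val hxy
    exact Subtype.ext (mul_left_cancel (mul_right_cancel h1))

end Cfsg.Agent.CoThreeStd.Par
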