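import Cfsg.Agent.LargeExtra.Transfer

/-!
# The parity lemma (S1750, team M₁₂ → Co₃; helper178)

`G` a finite group without subgroups of index two, `H₀ ≤ H ≤ G` with `|H : H₀| = 2`, `u ∈ G` with `u² = 1`.
Then the number of cosets `gH` with `g⁻¹ u g ∈ H ∖ H₀` is even (`even_card_odd1`). In terms of the classes:
`2 |H|` divides `|C_G(u)| · #{h ∈ H ∖ H₀ : h ~ u}` (`two_mul_card_dvd`). No condition on `|G : H|`.
-/

set_option autoImplicit false
set_option linter.style.haveILetI false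

namespace Cfsg.Agent.CoThreeStd.Parity

open Equiv.Perm Cfsg.Agent.LargeExtra.Transfer

variable {G : Type*} [Group G] {C C₀ : Subgroup G}

/-- The number of points fixed by an element `u` with `u² = 1` has the parity of the set. -/
theorem card_fix_mod_two [Finite G] {X : Type*} [Finite X] [MulAction G X] (u : G) (hu : u * u = 1) :
    Nat.card {x : X // u • x = x} % 2 = Nat.card X % 2 := by
  classical
  have hu2 : u ^ 2 = 1 := by rw [pow_two, hu]
  have hp : IsPGroup 2 (Subgroup.zpowers u) := by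
    rw [IsPGroup.iff_card]
    rcases eq_or_ne u 1 with rfl | hne
    · exact ⟨0, by rw [Nat.card_zpowers, orderOf_one, pow_zero]⟩
    · exact ⟨1, by rw [Nat.card_zpowers, orderOf_eq_prime hu2 hne, pow_one]⟩
  have : Fact (Nat.Prime 2) := ⟨Nat.prime_two⟩
  have h3 := hp.card_modEq_card_fixedPoints X
  have h4 : Nat.card (MulAction.fixedPoints (Subgroup.zpowers u) X) =
      Nat.card {x : X // u • x = x} := by
    apply Nat.card_congr
    refine Equiv.subtypeEquivRight fun x => ?_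
    rw [MulAction.mem_fixedPoints]
    constructor
    · intro h
      exact h ⟨u, Subgroup.mem_zpowers u⟩
    · rintro h ⟨v, hv⟩
      obtain ⟨k, rfl⟩ := Subgroup.mem_zpowers_iff.1 hv
      show u ^ k • x = x
      have hx : u ∈ MulAction.stabilizer G x := h
      exact (MulAction.stabilizer G x).zpow_mem hx k
  rw [h4] at h3
  exact h3.symm

/-- The number of cosets `gC` with `g⁻¹ u g ∈ C ∖ C₀` is even. -/
theorem even_card_odd1 [Finite G] (hG : ∀ H : Subgroup G, H.index ≠ 2)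
    (hle : C₀ ≤ C) (h2 : C₀.relIndex C = 2) (u : G) (hu : u * u = 1) :
    Even (Nat.card {x : G ⧸ C // Odd1 C C₀ u x}) := by
  classical
  have : Fintype (G ⧸ C) := Fintype.ofFinite _
  have : Fintype (G ⧸ C₀) := Fintype.ofFinite _
  have hu2 : u ^ 2 = 1 := by rw [pow_two, hu]
  set m := C.index with hm
  set n0 := Nat.card {x : G ⧸ C // x.out⁻¹ * u * x.out ∈ C₀} with hn0
  set n1 := Nat.card {x : G ⧸ C // Odd1 C C₀ u x} with hn1
  have hC0 : Nat.card C = 2 * Nat.card C₀ := by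
    have h3 := (C₀.subgroupOf C).card_mul_index
    have h4 : (C₀.subgroupOf C).index = 2 := h2
    rw [h4, Nat.card_congr (Subgroup.subgroupOfEquivOfLe hle).toEquiv] at h3
    rw [← h3, mul_comm]
  have hpos : 0 < Nat.card C₀ := Nat.card_pos
  have hp0 : ∀ g h, h ∈ C₀ → ((g * h)⁻¹ * u * (g * h) ∈ C₀ ↔ g⁻¹ * u * g ∈ C₀) := by
    intro g h hh
    have e : (g * h)⁻¹ * u * (g * h) = h⁻¹ * (g⁻¹ * u * g) * h := by group
    rw [e]
    constructor
    · intro h3
      have := C₀.mul_mem (C₀.mul_mem hh h3) (C₀.inv_mem hh)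
      have e2 : h * (h⁻¹ * (g⁻¹ * u * g) * h) * h⁻¹ = g⁻¹ * u * g := by group
      rwa [e2] at this
    · intro h3
      exact C₀.mul_mem (C₀.mul_mem (C₀.inv_mem hh) h3) hh
  have hp1 : ∀ g h, h ∈ C → ((g * h)⁻¹ * u * (g * h) ∈ C₀ ↔ g⁻¹ * u * g ∈ C₀) := by
    intro g h hh
    have e : (g * h)⁻¹ * u * (g * h) = h⁻¹ * (g⁻¹ * u * g) * h := by group
    rw [e]
    exact normal_of_relIndex hle h2 hh
  have hc0 := card_subtype_eq C₀ (fun g => g⁻¹ * u * g ∈ C₀) hp0
  have hc1 := card_subtype_eq C (fun g => g⁻¹ * u * g ∈ C₀) hp1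
  have hfix0 : Nat.card {x : G ⧸ C₀ // u • x = x} = Nat.card {x : G ⧸ C₀ // x.out⁻¹ * u * x.out ∈ C₀} := by
    apply Nat.card_congr
    refine Equiv.subtypeEquivRight fun x => ?_
    rw [← smul_eq_iff C₀ u x.out, QuotientGroup.out_eq']
  have hfix : Nat.card {x : G ⧸ C₀ // u • x = x} = 2 * n0 := by
    rw [hfix0]
    apply Nat.eq_of_mul_eq_mul_right hpos
    rw [← hc0, hc1, hC0, hn0]
    ring
  have hidx : C₀.index = 2 * m := by
    rw [← Subgroup.relIndex_mul_index hle, h2]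
  have hcard0 : Fintype.card (G ⧸ C₀) = 2 * m := by
    rw [← Nat.card_eq_fintype_card, ← Subgroup.index_eq_card, hidx]
  have hn0m : n0 ≤ m := by
    rw [hn0, hm, Subgroup.index_eq_card]
    exact Nat.card_le_card_of_injective _ Subtype.val_injective
  have hsign : Equiv.Perm.sign (MulAction.toPermHom G (G ⧸ C₀) u) = (-1) ^ (m - n0) := by
    have h3 : (MulAction.toPermHom G (G ⧸ C₀) u) ^ 2 = 1 := by
      rw [← map_pow, hu2, map_one]
    rw [sign_of_pow_two_eq_one h3, hcard0]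
    have h4 : Fintype.card (Function.fixedPoints (MulAction.toPermHom G (G ⧸ C₀) u)) = 2 * n0 := by
      rw [← Nat.card_eq_fintype_card, ← hfix]
      rfl
    rw [h4, ← Nat.mul_sub, Nat.mul_div_cancel_left _ (by norm_num)]
  have heven0 : Even (m - n0) := by
    by_contra hne
    rw [Nat.not_even_iff_odd] at hne
    rw [hne.neg_one_pow] at hsign
    set f : G →* ℤˣ := (Equiv.Perm.sign).comp (MulAction.toPermHom G (G ⧸ C₀)) with hf
    apply hG f.ker
    rw [Subgroup.index_ker]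
    have : f.range = ⊤ := by
      rw [eq_top_iff]
      intro x _
      rcases Int.units_eq_one_or x with rfl | rfl
      · exact f.range.one_mem
      · exact ⟨u, hsign⟩
    rw [this, Subgroup.card_top, Nat.card_eq_fintype_card]
    rfl
  have hfixC : Nat.card {x : G ⧸ C // u • x = x} = n0 + n1 := by
    have h3 : Nat.card {x : G ⧸ C // u • x = x} =
        Nat.card ({x : G ⧸ C // x.out⁻¹ * u * x.out ∈ C₀} ⊕ {x : G ⧸ C // Odd1 C C₀ u x}) := by
      apply Nat.card_congr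
      have h4 : ∀ x : G ⧸ C, u • x = x ↔ (x.out⁻¹ * u * x.out ∈ C₀ ∨ Odd1 C C₀ u x) := by
        intro x
        have h5 : u • x = x ↔ x.out⁻¹ * u * x.out ∈ C := by
          rw [← smul_eq_iff C u x.out, QuotientGroup.out_eq']
        rw [h5]
        constructor
        · intro h6
          by_cases h7 : x.out⁻¹ * u * x.out ∈ C₀
          · exact Or.inl h7
          · exact Or.inr ⟨h6, h7⟩
        · rintro (h6 | h6)
          · exact hle h6
          · exact h6.1
      refine (Equiv.subtypeEquivRight h4).trans ?_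
      apply subtypeOrEquiv
      rw [disjoint_iff_inf_le]
      rintro x ⟨h5, h6⟩
      exact h6.2 h5
    rw [h3, Nat.card_sum]
  have h6 := card_fix_mod_two (X := G ⧸ C) u hu
  rw [hfixC, ← Subgroup.index_eq_card, ← hm] at h6
  rcases heven0 with ⟨r, hr⟩
  rw [Nat.even_iff]
  omega

/-- Counting `{g : g⁻¹ u g ∈ S}` through the conjugates of `u`. -/
theorem card_conj_eq [Finite G] (u : G) (p : G → Prop) :
    Nat.card {g : G // p (g⁻¹ * u * g)} =
      Nat.card (Subgroup.centralizer ({u} : Set G)) * Nat.card {h : G // p h ∧ IsConj u h} := by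
  classical
  have hch : ∀ h : {h : G // p h ∧ IsConj u h}, ∃ g : G, g⁻¹ * u * g = h.1 := by
    rintro ⟨h, _, hc⟩
    obtain ⟨c, hc⟩ := isConj_iff.1 hc
    exact ⟨c⁻¹, by rw [inv_inv]; exact hc⟩
  choose f hf using hch
  rw [mul_comm, ← Nat.card_prod]
  apply Nat.card_congr
  refine
    { toFun := fun g => (⟨g.1⁻¹ * u * g.1, g.2, isConj_iff.2 ⟨g.1⁻¹, by rw [inv_inv]⟩⟩,
        ⟨g.1 * (f ⟨g.1⁻¹ * u * g.1, g.2, isConj_iff.2 ⟨g.1⁻¹, by rw [inv_inv]⟩⟩)⁻¹, ?_⟩)
      invFun := fun x => ⟨(x.2 : G) * f x.1, ?_⟩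
      left_inv := fun g => ?_
      right_inv := fun x => ?_ }
  · set k := f ⟨g.1⁻¹ * u * g.1, g.2, isConj_iff.2 ⟨g.1⁻¹, by rw [inv_inv]⟩⟩ with hk
    have h1 : k⁻¹ * u * k = g.1⁻¹ * u * g.1 := hf _
    rw [Subgroup.mem_centralizer_singleton_iff]
    calc g.1 * k⁻¹ * u = g.1 * (k⁻¹ * u * k) * k⁻¹ := by group
      _ = g.1 * (g.1⁻¹ * u * g.1) * k⁻¹ := by rw [h1]
      _ = u * (g.1 * k⁻¹) := by group
  · have h1 := Subgroup.mem_centralizer_singleton_iff.1 x.2.2
    have h2 : ((x.2 : G) * f x.1)⁻¹ * u * ((x.2 : G) * f x.1) = x.1.1 := by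
      rw [← hf x.1]
      calc ((x.2 : G) * f x.1)⁻¹ * u * ((x.2 : G) * f x.1)
          = (f x.1)⁻¹ * (x.2 : G)⁻¹ * (u * (x.2 : G)) * f x.1 := by group
        _ = (f x.1)⁻¹ * (x.2 : G)⁻¹ * ((x.2 : G) * u) * f x.1 := by rw [h1]
        _ = (f x.1)⁻¹ * u * f x.1 := by group
    rw [h2]
    exact x.1.2.1
  · apply Subtype.ext
    show _ * _⁻¹ * _ = _
    rw [inv_mul_cancel_right]
  · have h1 := Subgroup.mem_centralizer_singleton_iff.1 x.2.2
    have h2 : ((x.2 : G) * f x.1)⁻¹ * u * ((x.2 : G) * f x.1) = x.1.1 := by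
      rw [← hf x.1]
      calc ((x.2 : G) * f x.1)⁻¹ * u * ((x.2 : G) * f x.1)
          = (f x.1)⁻¹ * (x.2 : G)⁻¹ * (u * (x.2 : G)) * f x.1 := by group
        _ = (f x.1)⁻¹ * (x.2 : G)⁻¹ * ((x.2 : G) * u) * f x.1 := by rw [h1]
        _ = (f x.1)⁻¹ * u * f x.1 := by group
    have h3 : (⟨((x.2 : G) * f x.1)⁻¹ * u * ((x.2 : G) * f x.1), by rw [h2]; exact x.1.2⟩ :
        {h : G // p h ∧ IsConj u h}) = x.1 := Subtype.ext h2
    apply Prod.ext
    · exact h3
    · apply Subtype.ext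
      show (x.2 : G) * f x.1 * (f ⟨((x.2 : G) * f x.1)⁻¹ * u * ((x.2 : G) * f x.1), _⟩)⁻¹ = _
      rw [h3, mul_inv_cancel_right]

/-- **Parity lemma**, by classes: if `G` has no subgroup of index two, `|C : C₀| = 2` and `u² = 1`, then
`2 |C|` divides `|C_G(u)| · #{h ∈ C ∖ C₀ : h ~ u}`. -/
theorem two_mul_card_dvd [Finite G] (hG : ∀ H : Subgroup G, H.index ≠ 2)
    (hle : C₀ ≤ C) (h2 : C₀.relIndex C = 2) (u : G) (hu : u * u = 1) :
    2 * Nat.card C ∣ Nat.card (Subgroup.centralizer ({u} : Set G)) *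
      Nat.card {h : G // (h ∈ C ∧ h ∉ C₀) ∧ IsConj u h} := by
  have h3 := even_card_odd1 hG hle h2 u hu
  have h4 := card_subtype_eq C (fun g => g⁻¹ * u * g ∈ C ∧ g⁻¹ * u * g ∉ C₀) (by
    intro g h hh
    have e : (g * h)⁻¹ * u * (g * h) = h⁻¹ * (g⁻¹ * u * g) * h := by group
    rw [e, normal_of_relIndex hle h2 hh]
    have : h⁻¹ * (g⁻¹ * u * g) * h ∈ C ↔ g⁻¹ * u * g ∈ C := by
      constructor
      · intro h5
        have := C.mul_mem (C.mul_mem hh h5) (C.inv_mem hh)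
        have e2 : h * (h⁻¹ * (g⁻¹ * u * g) * h) * h⁻¹ = g⁻¹ * u * g := by group
        rwa [e2] at this
      · intro h5
        exact C.mul_mem (C.mul_mem (C.inv_mem hh) h5) hh
    rw [this])
  rw [← card_conj_eq u (fun h => h ∈ C ∧ h ∉ C₀), h4]
  obtain ⟨r, hr⟩ := h3
  have h5 : Nat.card {x : G ⧸ C // x.out⁻¹ * u * x.out ∈ C ∧ x.out⁻¹ * u * x.out ∉ C₀} = r + r := hr
  rw [h5]
  exact ⟨r, by ring⟩

/-- A simple group of order other than two has no subgroup of index two. -/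
theorem index_ne_two [IsSimpleGroup G] (hc : Nat.card G ≠ 2) (H : Subgroup G) : H.index ≠ 2 := by
  intro h
  have hN := Subgroup.normal_of_index_eq_two h
  rcases hN.eq_bot_or_eq_top with h1 | h1
  · rw [h1, Subgroup.index_bot] at h
    exact hc h
  · rw [h1, Subgroup.index_top] at h
    norm_num at h

/-- A nonabelian simple group has no subgroup of index two. -/
theorem index_ne_two_of_noncomm [IsSimpleGroup G] (hc : ∃ a b : G, a * b ≠ b * a) (H : Subgroup G) :
    H.index ≠ 2 := by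
  apply index_ne_two
  intro h
  obtain ⟨a, b, hab⟩ := hc
  have : Fact (Nat.Prime 2) := ⟨Nat.prime_two⟩
  have := isCyclic_of_prime_card h
  have : IsMulCommutative G := IsCyclic.isMulCommutative
  exact hab (mul_comm' a b)

end Cfsg.Agent.CoThreeStd.Parity
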