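import Cfsg.Agent.CoThreeStd.SymFive

/-!
# Relations of the normalisers of `⟨t, y⟩` and `⟨t, y, p, s⟩` (S1750, part [B])

`M` is a group with an involution `y` such that `C_M(y) = ⟨y⟩ × S₅` (a `Frame`), `C_G(t) = ⟨t⟩ × M`, and some
`g₀` induces `t ↦ y ↦ yt` on `⟨t, y⟩`.
-/

set_option autoImplicit false

namespace Cfsg.Agent.CoThreeStd.RelB

open Equiv Cfsg.Agent.SporRec.Co3 Cfsg.Agent.SporRec.Co3.FiveHom

/-- An involution with centraliser `2 × S₅`, and two more elements. -/
structure Frame (M : Type*) [Group M] where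
  /-- the symmetric group -/
  sg : P5 →* M
  /-- the involution -/
  y : M
  /-- an involution moving `y` -/
  e : M
  /-- an element of order three moving `y` -/
  d : M
  inj : Function.Injective sg
  yy : y * y = 1
  comm : ∀ w, y * sg w = sg w * y
  nmem : ∀ w, sg w ≠ y
  cent : ∀ m, m * y = y * m → ∃ w, m = sg w ∨ m = y * sg w
  dy : d⁻¹ * y * d = sg (tp 3)
  ds : d⁻¹ * sg (tp 3) * d = y * sg (tp 3)
  ee : e * e = 1
  ep : e * sg (tp 0) = sg (tp 0) * e
  es : e * sg (tp 3) = sg (tp 3) * e
  ey : e * y * e = y * (sg (tp 0) * sg (tp 3))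

/-- An involution with centraliser `2 × M`. -/
structure Ctx {G M : Type*} [Group G] [Group M] (i : M →* G) (t : G) : Prop where
  inj : Function.Injective i
  tt : t * t = 1
  comm : ∀ m, t * i m = i m * t
  nmem : ∀ m, i m ≠ t
  cent : ∀ x, x * t = t * x → ∃ m, x = i m ∨ x = t * i m

variable {G M : Type*} [Group G] [Group M] {i : M →* G} {t : G}

/-- `x' = g⁻¹ x g`. -/
def C (g x x' : G) : Prop := x * g = g * x'

theorem C.mul {g x x' y y' : G} (h : C g x x') (h' : C g y y') : C g (x * y) (x' * y') := by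
  unfold C at *
  rw [mul_assoc, h', ← mul_assoc, h, mul_assoc]

theorem C.comp {g h x x' x'' : G} (h1 : C g x x') (h2 : C h x' x'') : C (g * h) x x'' := by
  unfold C at *
  rw [← mul_assoc, h1, mul_assoc, h2, mul_assoc]

theorem C.inv {g x x' : G} (h : C g x x') : C g⁻¹ x' x := by
  unfold C at *
  rw [eq_inv_mul_iff_mul_eq, ← mul_assoc, ← h, mul_assoc, mul_inv_cancel, mul_one]

theorem C.inv_arg {g x x' : G} (h : C g x x') : C g x⁻¹ x'⁻¹ := by
  unfold C at *
  rw [inv_mul_eq_iff_eq_mul, ← mul_assoc, h, mul_assoc, mul_inv_cancel, mul_one]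

theorem C.of_eq {g x x' : G} (h : g⁻¹ * x * g = x') : C g x x' := by
  unfold C
  rw [← h]; group

theorem C.eq {g x x' : G} (h : C g x x') : g⁻¹ * x * g = x' := by
  unfold C at h
  rw [mul_assoc, h, inv_mul_cancel_left]

theorem C.uniq {g x x' x'' : G} (h : C g x x') (h' : C g x x'') : x' = x'' := by
  rw [← h.eq, ← h'.eq]

theorem C.of_comm {g x : G} (h : x * g = g * x) : C g x x := h

namespace Frame

variable (F : Frame M)

/-- `yᵇ` -/
def ym (b : Bool) : M := bif b then F.y else 1

theorem ym_mul (b b' : Bool) : F.ym b * F.ym b' = F.ym (xor b b') := by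
  cases b <;> cases b' <;> simp [ym, F.yy]

end Frame

section nf

variable (F : Frame M) (i t)

/-- `tᵃ yᵇ w` -/
def nf (a b : Bool) (w : P5) : G := (bif a then t else 1) * i (F.ym b * F.sg w)

end nf

variable {F : Frame M}

theorem nf_mul (h : Ctx i t) (a b : Bool) (w : P5) (a' b' : Bool) (w' : P5) :
    nf i t F a b w * nf i t F a' b' w' = nf i t F (xor a a') (xor b b') (w * w') := by
  have h1 : i (F.ym b * F.sg w) * i (F.ym b' * F.sg w') = i (F.ym (xor b b') * F.sg (w * w')) := by
    rw [← map_mul, ← F.ym_mul, map_mul F.sg]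
    congr 1
    have h2 : F.ym b' * F.sg w = F.sg w * F.ym b' := by
      cases b'
      · simp [Frame.ym]
      · exact F.comm w
    calc F.ym b * F.sg w * (F.ym b' * F.sg w') = F.ym b * (F.sg w * F.ym b') * F.sg w' := by group
      _ = _ := by rw [← h2]; group
  have h3 : i (F.ym b * F.sg w) * (bif a' then t else 1) = (bif a' then t else 1) * i (F.ym b * F.sg w) := by
    cases a'
    · simp
    · exact (h.comm _).symm
  have h4 : (bif a then t else 1) * (bif a' then t else 1) = (bif xor a a' then t else 1) := by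
    cases a <;> cases a' <;> simp [h.tt]
  unfold nf
  calc _ = (bif a then t else 1) * (i (F.ym b * F.sg w) * (bif a' then t else 1)) * i (F.ym b' * F.sg w') := by
        group
    _ = ((bif a then t else 1) * (bif a' then t else 1)) * (i (F.ym b * F.sg w) * i (F.ym b' * F.sg w')) := by
        rw [h3]; group
    _ = _ := by rw [h4, h1]

theorem nf_inj (h : Ctx i t) {a b : Bool} {w : P5} {a' b' : Bool} {w' : P5}
    (he : nf i t F a b w = nf i t F a' b' w') : a = a' ∧ b = b' ∧ w = w' := by
  unfold nf at he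
  have ha : a = a' := by
    cases a <;> cases a'
    · rfl
    · exfalso
      simp only [cond_true, cond_false, one_mul] at he
      apply h.nmem (F.ym b * F.sg w * (F.ym b' * F.sg w')⁻¹)
      rw [map_mul, map_inv, he, mul_inv_cancel_right]
    · exfalso
      simp only [cond_true, cond_false, one_mul] at he
      apply h.nmem (F.ym b' * F.sg w' * (F.ym b * F.sg w)⁻¹)
      rw [map_mul, map_inv, ← he, mul_inv_cancel_right]
    · rfl
  subst ha
  have h1 := h.inj (mul_left_cancel he)
  have hb : b = b' := by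
    cases b <;> cases b'
    · rfl
    · exfalso
      simp only [Frame.ym, cond_true, cond_false, one_mul] at h1
      apply F.nmem (w * w'⁻¹)
      rw [map_mul, map_inv, h1, mul_inv_cancel_right]
    · exfalso
      simp only [Frame.ym, cond_true, cond_false, one_mul] at h1
      apply F.nmem (w' * w⁻¹)
      rw [map_mul, map_inv, ← h1, mul_inv_cancel_right]
    · rfl
  subst hb
  exact ⟨rfl, rfl, F.inj (mul_left_cancel h1)⟩

/-- `C_G(⟨t, y⟩)` -/
theorem exists_nf (h : Ctx i t) {x : G} (hx : x * t = t * x) (hy : x * i F.y = i F.y * x) :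
    ∃ a b w, x = nf i t F a b w := by
  have key : ∀ m, i m * i F.y = i F.y * i m → ∃ b w, i m = i (F.ym b * F.sg w) := by
    intro m hm
    rw [← map_mul, ← map_mul] at hm
    obtain ⟨w, hw | hw⟩ := F.cent m (h.inj hm)
    · exact ⟨false, w, by rw [hw]; simp [Frame.ym]⟩
    · exact ⟨true, w, by rw [hw]; simp [Frame.ym]⟩
  obtain ⟨m, hm | hm⟩ := h.cent x hx
  · obtain ⟨b, w, hb⟩ := key m (by rw [← hm]; exact hy)
    exact ⟨false, b, w, by rw [hm, hb]; simp [nf]⟩
  · have h1 : i m * i F.y = i F.y * i m := by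
      rw [hm] at hy
      have h2 : t * (i m * i F.y) = t * (i F.y * i m) := by
        rw [← mul_assoc, hy, ← mul_assoc, ← mul_assoc, h.comm]
      exact mul_left_cancel h2
    obtain ⟨b, w, hb⟩ := key m h1
    exact ⟨true, b, w, by rw [hm, hb]; simp [nf]⟩

theorem nf_t : nf i t F true false 1 = t := by simp [nf, Frame.ym]
theorem nf_y : nf i t F false true 1 = i F.y := by simp [nf, Frame.ym]
theorem nf_sg (w : P5) : nf i t F false false w = i (F.sg w) := by simp [nf, Frame.ym]
theorem nf_one : nf i t F false false 1 = 1 := by simp [nf, Frame.ym]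

theorem nf_inv (h : Ctx i t) (a b : Bool) (w : P5) : (nf i t F a b w)⁻¹ = nf i t F a b w⁻¹ := by
  rw [inv_eq_iff_mul_eq_one, nf_mul h]
  simp [nf_one]

/-- Elements of `C_G(⟨t, y⟩)` commute with `⟨t, y⟩`. -/
theorem nf_comm (h : Ctx i t) (a b : Bool) (w : P5) (a' b' : Bool) :
    nf i t F a b w * nf i t F a' b' 1 = nf i t F a' b' 1 * nf i t F a b w := by
  rw [nf_mul h, nf_mul h, mul_one, one_mul, Bool.xor_comm a, Bool.xor_comm b]

/-- The action of `g` on `⟨t, y⟩`. -/
structure Tri (i : M →* G) (t : G) (F : Frame M) (g : G) : Prop where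
  ct : C g t (i F.y)
  cy : C g (i F.y) (t * i F.y)

theorem nf_ty : nf i t F true true 1 = t * i F.y := by simp [nf, Frame.ym]

theorem Tri.cv (h : Ctx i t) {g : G} (hg : Tri i t F g) (a b : Bool) :
    C g (nf i t F a b 1) (nf i t F b (xor a b) 1) := by
  have h1 : C g (nf i t F true false 1) (nf i t F false true 1) := by rw [nf_t, nf_y]; exact hg.ct
  have h2 : C g (nf i t F false true 1) (nf i t F true true 1) := by rw [nf_ty, nf_y]; exact hg.cy
  have h3 : C g (nf i t F true true 1) (nf i t F true false 1) := by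
    have := h1.mul h2
    rwa [nf_mul h, nf_mul h, mul_one] at this
  cases a <;> cases b
  · show nf i t F false false 1 * g = g * nf i t F false false 1
    rw [nf_one, one_mul, mul_one]
  · exact h2
  · exact h1
  · exact h3

theorem Tri.mul_nf (h : Ctx i t) {g : G} (hg : Tri i t F g) (a b : Bool) (w : P5) :
    Tri i t F (g * nf i t F a b w) := by
  constructor
  · refine hg.ct.comp ?_
    show _ = _
    rw [← nf_y, nf_comm h]
  · refine hg.cy.comp ?_
    show _ = _
    rw [← nf_ty, nf_comm h]

/-- The conjugate of the symmetric group. -/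
theorem Tri.exists_conj (h : Ctx i t) {g : G} (hg : Tri i t F g) (w : P5) :
    ∃ a b w', C g (i (F.sg w)) (nf i t F a b w') := by
  have h0 : ∀ a b, (g⁻¹ * i (F.sg w) * g) * nf i t F b (xor a b) 1 =
      nf i t F b (xor a b) 1 * (g⁻¹ * i (F.sg w) * g) := by
    intro a b
    have h1 : C g (i (F.sg w)) (g⁻¹ * i (F.sg w) * g) := C.of_eq rfl
    have h2 := h1.mul (hg.cv h a b)
    have h3 := (hg.cv h a b).mul h1
    rw [← nf_sg, nf_comm h, nf_sg] at h2
    exact h2.uniq h3
  obtain ⟨a, b, w', he⟩ := exists_nf (F := F) h (x := g⁻¹ * i (F.sg w) * g)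
    (by have := h0 true true; rwa [show xor true true = false from rfl, nf_t] at this)
    (by have := h0 true false; rwa [show xor true false = true from rfl, nf_y] at this)
  exact ⟨a, b, w', C.of_eq he⟩

/-- (B1): adjust `g` such that it acts trivially modulo `⟨t, y⟩`. -/
theorem Tri.exists_adjust (h : Ctx i t) {g : G} (hg : Tri i t F g) :
    ∃ c : P5, Tri i t F (g * i (F.sg c)) ∧
      ∃ a b : Bool, ∀ k : Fin 4, C (g * i (F.sg c)) (i (F.sg (tp k))) (nf i t F a b (tp k)) := by
  choose a b α hα using fun w => hg.exists_conj h w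
  have hmul : ∀ w w', a (w * w') = xor (a w) (a w') ∧ b (w * w') = xor (b w) (b w') ∧
      α (w * w') = α w * α w' := by
    intro w w'
    have h1 := (hα w).mul (hα w')
    rw [← map_mul, ← map_mul, nf_mul h] at h1
    exact nf_inj h ((hα (w * w')).uniq h1)
  let A : P5 →* P5 := MonoidHom.mk' α fun w w' => (hmul w w').2.2
  have hinj : Function.Injective A := by
    rw [injective_iff_map_eq_one]
    intro w hw
    have h1 : α w = 1 := hw
    have h2 := hα w
    rw [h1] at h2
    have h3 : ∃ a' b', C g (nf i t F a' b' 1) (nf i t F (a w) (b w) 1) := by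
      refine ⟨xor (a w) (b w), a w, ?_⟩
      have := hg.cv h (xor (a w) (b w)) (a w)
      rwa [show xor (xor (a w) (b w)) (a w) = b w by cases a w <;> cases b w <;> rfl] at this
    obtain ⟨a', b', h4⟩ := h3
    have h5 : i (F.sg w) = nf i t F a' b' 1 := h2.inv.uniq h4.inv
    rw [← nf_sg] at h5
    exact (nf_inj h h5).2.2
  obtain ⟨c, hc⟩ := SymFive.inner A hinj
  have hcw : ∀ w, C (g * i (F.sg c)) (i (F.sg w)) (nf i t F (a w) (b w) w) := by
    intro w
    refine (hα w).comp ?_
    show _ = _
    rw [show α w = c * w * c⁻¹ from hc w, ← nf_sg, nf_mul h, nf_mul h, inv_mul_cancel_right,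
      Bool.xor_false, Bool.xor_false, Bool.false_xor, Bool.false_xor]
  refine ⟨c, by rw [← nf_sg]; exact hg.mul_nf h _ _ _, a (tp 0), b (tp 0), ?_⟩
  have hbr : ∀ k l : Fin 4, k.val + 1 = l.val → a (tp k) = a (tp l) ∧ b (tp k) = b (tp l) := by
    intro k l hkl
    have h1 : tp k * tp l * tp k = tp l * tp k * tp l := by revert k l; decide +kernel
    have ha1 := congrArg a h1
    have hb1 := congrArg b h1
    rw [(hmul _ _).1, (hmul _ _).1, (hmul _ _).1, (hmul _ _).1] at ha1
    rw [(hmul _ _).2.1, (hmul _ _).2.1, (hmul _ _).2.1, (hmul _ _).2.1] at hb1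
    constructor
    · revert ha1; cases a (tp k) <;> cases a (tp l) <;> simp
    · revert hb1; cases b (tp k) <;> cases b (tp l) <;> simp
  have h01 := hbr 0 1 rfl
  have h12 := hbr 1 2 rfl
  have h23 := hbr 2 3 rfl
  intro k
  have hk : a (tp k) = a (tp 0) ∧ b (tp k) = b (tp 0) := by
    fin_cases k
    · exact ⟨rfl, rfl⟩
    · exact ⟨h01.1.symm, h01.2.symm⟩
    · exact ⟨h12.1.symm.trans h01.1.symm, h12.2.symm.trans h01.2.symm⟩
    · exact ⟨h23.1.symm.trans (h12.1.symm.trans h01.1.symm), h23.2.symm.trans (h12.2.symm.trans h01.2.symm)⟩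
  rw [← hk.1, ← hk.2]
  exact hcw _

theorem cent_even : ∀ w : P5, (∀ k l : Fin 4, w * (tp k * tp l) = (tp k * tp l) * w) → w = 1 := by
  decide +kernel

/-- `g³ = 1`. -/
theorem Tri.cube (h : Ctx i t) {g : G} (hg : Tri i t F g) {a b : Bool}
    (hs : ∀ k : Fin 4, C g (i (F.sg (tp k))) (nf i t F a b (tp k))) : g * g * g = 1 := by
  have hv : ∀ a b, C (g * g * g) (nf i t F a b 1) (nf i t F a b 1) := by
    intro a b
    have h1 := ((hg.cv h a b).comp (hg.cv h b (xor a b))).comp (hg.cv h (xor a b) (xor b (xor a b)))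
    rwa [show xor b (xor a b) = a by cases a <;> cases b <;> rfl,
      show xor (xor a b) a = b by cases a <;> cases b <;> rfl] at h1
  obtain ⟨a', b', w, he⟩ := exists_nf (F := F) h (x := g * g * g)
    (by have := hv true false; rw [nf_t] at this; exact Eq.symm this)
    (by have := hv false true; rw [nf_y] at this; exact Eq.symm this)
  have hw : w = 1 := by
    apply cent_even
    intro k l
    have h1 : C g (i (F.sg (tp k * tp l))) (i (F.sg (tp k * tp l))) := by
      have := (hs k).mul (hs l)
      rwa [nf_mul h, Bool.xor_self, Bool.xor_self, nf_sg, ← map_mul, ← map_mul] at this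
    have h2 : C (g * g * g) (i (F.sg (tp k * tp l))) (i (F.sg (tp k * tp l))) := (h1.comp h1).comp h1
    have h3 : i (F.sg (tp k * tp l)) * (g * g * g) = (g * g * g) * i (F.sg (tp k * tp l)) := h2
    rw [he, ← nf_sg, nf_mul h, nf_mul h] at h3
    exact (nf_inj h h3).2.2.symm
  subst hw
  have h1 := hg.cv h a' b'
  rw [← he] at h1
  have h2 : C g (g * g * g) (g * g * g) := by show _ = _; group
  have h3 := h2.uniq h1
  rw [he] at h3
  obtain ⟨h4, h5, -⟩ := nf_inj h h3
  rw [he]
  have h6 : a' = false ∧ b' = false := by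
    revert h4 h5
    cases a' <;> cases b' <;> simp
  rw [h6.1, h6.2, nf_one]

/-- (B3): `g` cannot centralise `s` (or `ys`). -/
theorem Tri.dead (h : Ctx i t) {g : G} (hg : Tri i t F g) {b : Bool} {δ : G} (hδ : t * δ = δ * t)
    (h1 : C δ (i F.y) (nf i t F false b (tp 3))) (h2 : C δ (nf i t F false b (tp 3)) (nf i t F false (!b) (tp 3)))
    (hs : C g (nf i t F false b (tp 3)) (nf i t F false b (tp 3))) : False := by
  set s := nf i t F false b (tp 3) with hsd
  have hY : i F.y * i F.y = 1 := by rw [← map_mul, F.yy, map_one]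
  have hss : s * s = 1 := by
    rw [hsd, nf_mul h, show tp 3 * tp 3 = 1 by decide +kernel, Bool.xor_self, Bool.xor_self, nf_one]
  have hYs : nf i t F false (!b) (tp 3) = i F.y * s := by
    rw [hsd, ← nf_y, nf_mul h, one_mul, Bool.false_xor, Bool.true_xor]
  have hsY : i F.y * s = s * i F.y := by rw [hsd, ← nf_y, nf_comm h]
  have hst : t * s = s * t := by rw [hsd]; nth_rewrite 1 [← nf_t (i := i) (t := t) (F := F)]; rw [← nf_comm h, nf_t]
  have hYt : t * i F.y = i F.y * t := h.comm _
  rw [hYs] at h2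
  set Y := i F.y with hYd
  -- inverse tables
  have g1 : C g⁻¹ t (t * Y) := by
    have h3 := hg.ct.mul hg.cy
    have h4 : Y * (t * Y) = t := by rw [hYt, ← mul_assoc, hY, one_mul]
    rw [← hYd, h4] at h3
    exact h3.inv
  have g2 : C g⁻¹ Y t := hg.ct.inv
  have g3 : C g⁻¹ s s := hs.inv
  have d1 : C δ⁻¹ s Y := h1.inv
  have d2 : C δ⁻¹ Y (Y * s) := by
    have h3 := h1.mul h2
    have h4 : s * (Y * s) = Y := by rw [hsY, ← mul_assoc, hss, one_mul]
    rw [h4] at h3
    exact h3.inv
  have d3 : C δ⁻¹ t t := (C.of_comm hδ).inv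
  have ct : C g t Y := hg.ct
  have cy : C g Y (t * Y) := hg.cy
  have kt : C (g * δ⁻¹ * g⁻¹ * δ⁻¹ * g * δ⁻¹) t t := by
    -- t → Y → Ys → ts → tY → t → t
    have e1 : C (g * δ⁻¹) t (Y * s) := ct.comp d2
    have e2 : C (g * δ⁻¹ * g⁻¹) t (t * s) := e1.comp (g2.mul g3)
    have e3 : C (g * δ⁻¹ * g⁻¹ * δ⁻¹) t (t * Y) := e2.comp (d3.mul d1)
    have e4 : C (g * δ⁻¹ * g⁻¹ * δ⁻¹ * g) t (Y * (t * Y)) := e3.comp (ct.mul cy)
    have h4 : Y * (t * Y) = t := by rw [hYt, ← mul_assoc, hY, one_mul]
    rw [h4] at e4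
    exact e4.comp d3
  have ky : C (g * δ⁻¹ * g⁻¹ * δ⁻¹ * g * δ⁻¹) Y Y := by
    -- Y → tY → tYs → Ys → s → s → Y
    have e1 : C (g * δ⁻¹) Y (t * (Y * s)) := cy.comp (d3.mul d2)
    have e2 : C (g * δ⁻¹ * g⁻¹) Y (t * Y * (t * s)) := e1.comp (g1.mul (g2.mul g3))
    have h4 : t * Y * (t * s) = Y * s := by
      rw [hYt, mul_assoc, ← mul_assoc t t, h.tt, one_mul]
    rw [h4] at e2
    have e3 : C (g * δ⁻¹ * g⁻¹ * δ⁻¹) Y (Y * s * Y) := e2.comp (d2.mul d1)
    have h5 : Y * s * Y = s := by rw [hsY, mul_assoc, hY, mul_one]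
    rw [h5] at e3
    exact (e3.comp hs).comp d1
  have ks : C (g * δ⁻¹ * g⁻¹ * δ⁻¹ * g * δ⁻¹) s (Y * s) := by
    -- s → s → Y → t → t → Y → Ys
    exact ((((hs.comp d1).comp g2).comp d3).comp ct).comp d2
  obtain ⟨a', b', w, he⟩ := exists_nf (F := F) h (x := g * δ⁻¹ * g⁻¹ * δ⁻¹ * g * δ⁻¹)
    (Eq.symm kt) (Eq.symm ky)
  have h6 : s * (g * δ⁻¹ * g⁻¹ * δ⁻¹ * g * δ⁻¹) = (g * δ⁻¹ * g⁻¹ * δ⁻¹ * g * δ⁻¹) * (Y * s) := ks
  rw [he, ← hYs, hsd, nf_mul h, nf_mul h] at h6
  have h7 := (nf_inj h h6).2.1
  revert h7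
  cases b <;> cases b' <;> simp

/-- (B2) + (B3): after an adjustment `g` centralises `t s_k` for all `k`, or `t y s_k` for all `k`. -/
theorem exists_g (h : Ctx i t) {g0 : G} (hg : Tri i t F g0) :
    ∃ c : P5, Tri i t F (g0 * i (F.sg c)) ∧ (g0 * i (F.sg c)) * (g0 * i (F.sg c)) * (g0 * i (F.sg c)) = 1 ∧
      ((∀ k : Fin 4, C (g0 * i (F.sg c)) (t * i (F.sg (tp k))) (t * i (F.sg (tp k)))) ∨
        ∀ k : Fin 4, C (g0 * i (F.sg c)) (t * i (F.y * F.sg (tp k))) (t * i (F.y * F.sg (tp k)))) := by
  obtain ⟨c, hc, a, b, hs⟩ := hg.exists_adjust h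
  refine ⟨c, hc, hc.cube h hs, ?_⟩
  have hδt : t * i F.d = i F.d * t := h.comm _
  have hδ1 : C (i F.d) (i F.y) (nf i t F false false (tp 3)) := by
    apply C.of_eq
    rw [nf_sg, ← F.dy, map_mul, map_mul, map_inv]
  have hδ2 : C (i F.d) (nf i t F false false (tp 3)) (nf i t F false true (tp 3)) := by
    apply C.of_eq
    rw [nf_sg, ← map_inv, ← map_mul, ← map_mul, F.ds]
    simp [nf, Frame.ym]
  -- the general conjugation
  have hgen : ∀ a' b' k, C (g0 * i (F.sg c)) (nf i t F a' b' (tp k))
      (nf i t F (xor b' a) (xor (xor a' b') b) (tp k)) := by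
    intro a' b' k
    have h1 := (hc.cv h a' b').mul (hs k)
    have h0 : i (F.sg (tp k)) = nf i t F false false (tp k) := (nf_sg _).symm
    rw [h0, nf_mul h, nf_mul h, Bool.xor_false, Bool.xor_false, one_mul] at h1
    exact h1
  cases a <;> cases b
  · -- v = 1
    exfalso
    exact hc.dead h (b := false) hδt hδ1 hδ2 (hgen false false 3)
  · -- v = y : t y s_k
    right
    intro k
    have h1 := hgen true true k
    have h2 : nf i t F true true (tp k) = t * i (F.y * F.sg (tp k)) := by simp [nf, Frame.ym]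
    rw [h2] at h1
    exact h1
  · -- v = t : dead
    exfalso
    have h3 : C (i F.d)⁻¹ (i F.y) (nf i t F false true (tp 3)) := by
      have h4 := hδ1.mul hδ2
      rw [nf_mul h, show tp 3 * tp 3 = 1 by decide +kernel] at h4
      have h5 : nf i t F (xor false false) (xor false true) 1 = i F.y := nf_y
      have h6 : i F.y * nf i t F false false (tp 3) = nf i t F false true (tp 3) := by
        rw [← nf_y, nf_mul h, one_mul]; rfl
      rw [h5, h6] at h4
      exact h4.inv
    refine hc.dead h (b := true) (δ := (i F.d)⁻¹) ?_ h3 hδ2.inv (hgen false true 3)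
    rw [← map_inv]; exact h.comm _
  · -- v = ty
    left
    intro k
    have h1 : C (g0 * i (F.sg c)) (nf i t F true false (tp k)) (nf i t F true false (tp k)) := hgen true false k
    have h2 : nf i t F true false (tp k) = t * i (F.sg (tp k)) := by simp [nf, Frame.ym]
    rw [h2] at h1
    exact h1

theorem cent_ps : ∀ w : P5, w * tp 0 = tp 0 * w → w * tp 3 = tp 3 * w →
    w = 1 ∨ w = tp 0 ∨ w = tp 3 ∨ w = tp 0 * tp 3 := by
  decide +kernel

/-- The data of the first four relations. -/
structure Good (i : M →* G) (t : G) (F : Frame M) (g : G) : Prop extends Tri i t F g where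
  cube : g * g * g = 1
  cs : ∀ k : Fin 4, C g (t * i (F.sg (tp k))) (t * i (F.sg (tp k)))

theorem Good.conj_y (h : Ctx i t) {g : G} (hg : Good i t F g) : Good i t F (i F.y * g * i F.y) := by
  have hY : i F.y * i F.y = 1 := by rw [← map_mul, F.yy, map_one]
  have hYt : t * i F.y = i F.y * t := h.comm _
  have ty : C (i F.y) t t := hYt
  have yy : C (i F.y) (i F.y) (i F.y) := rfl
  refine ⟨⟨(ty.comp hg.ct).comp yy, (yy.comp hg.cy).comp (ty.mul yy)⟩, ?_, fun k => ?_⟩
  · calc i F.y * g * i F.y * (i F.y * g * i F.y) * (i F.y * g * i F.y)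
        = i F.y * g * (i F.y * i F.y) * g * (i F.y * i F.y) * g * i F.y := by group
      _ = i F.y * (g * g * g) * i F.y := by rw [hY]; group
      _ = 1 := by rw [hg.cube, mul_one, hY]
  · have h1 : C (i F.y) (t * i (F.sg (tp k))) (t * i (F.sg (tp k))) := by
      refine ty.mul ?_
      show _ = _
      rw [← map_mul, ← map_mul, F.comm]
    exact (h1.comp (hg.cs k)).comp h1

/-- The element `tᵃ yᵇ pᶜ sᵈ`. -/
def vec (i : M →* G) (t : G) (F : Frame M) (v : Bool × Bool × Bool × Bool) : G :=
  nf i t F v.1 v.2.1 ((bif v.2.2.1 then tp 0 else 1) * (bif v.2.2.2 then tp 3 else 1))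

/-- The action of `eg` on these elements. -/
def stp (v : Bool × Bool × Bool × Bool) : Bool × Bool × Bool × Bool :=
  (xor v.2.1 (xor v.2.2.1 v.2.2.2), xor v.1 (xor v.2.1 (xor v.2.2.1 v.2.2.2)), xor v.2.1 v.2.2.1,
    xor v.2.1 v.2.2.2)

theorem stp_stp_stp : ∀ v, stp (stp (stp v)) = v := by decide

/-- (B5): the element `(eg)³`. -/
theorem Good.cube_eg (h : Ctx i t) {g : G} (hg : Good i t F g) :
    (i F.e * g) * (i F.e * g) * (i F.e * g) = 1 ∨
    (i F.e * g) * (i F.e * g) * (i F.e * g) = nf i t F true false (tp 0) ∨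
    (i F.e * g) * (i F.e * g) * (i F.e * g) = nf i t F true false (tp 3) ∨
    (i F.e * g) * (i F.e * g) * (i F.e * g) = nf i t F false false (tp 0 * tp 3) := by
  have h03 : tp 0 * tp 3 = tp 3 * tp 0 := by decide +kernel
  have h00 : tp 0 * tp 0 = 1 := by decide +kernel
  have h33 : tp 3 * tp 3 = 1 := by decide +kernel
  -- action of `g`
  have gv := hg.cv h
  have gp : ∀ k, C g (nf i t F false false (tp k)) (nf i t F true true (tp k)) := by
    intro k
    have h1 := (gv true false).mul (hg.cs k)
    rw [← nf_sg] at h1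
    have h2 : t * nf i t F false false (tp k) = nf i t F true false (tp k) := by
      nth_rewrite 1 [← nf_t (i := i) (t := t) (F := F)]
      rw [nf_mul h, one_mul]; rfl
    rw [h2, nf_mul h, nf_mul h, one_mul] at h1
    exact h1
  -- action of `e`
  have et : C (i F.e) (nf i t F true false 1) (nf i t F true false 1) := by rw [nf_t]; exact h.comm _
  have ey : C (i F.e) (nf i t F false true 1) (nf i t F false true (tp 0 * tp 3)) := by
    apply C.of_eq
    have h1 : (i F.e)⁻¹ = i F.e := by rw [inv_eq_iff_mul_eq_one, ← map_mul, F.ee, map_one]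
    rw [h1, nf_y, ← map_mul, ← map_mul, F.ey]
    simp [nf, Frame.ym]
  have ep : C (i F.e) (nf i t F false false (tp 0)) (nf i t F false false (tp 0)) := by
    show _ = _
    rw [nf_sg, ← map_mul, ← map_mul, F.ep]
  have es : C (i F.e) (nf i t F false false (tp 3)) (nf i t F false false (tp 3)) := by
    show _ = _
    rw [nf_sg, ← map_mul, ← map_mul, F.es]
  -- action of `eg`
  have eps : C (i F.e) (nf i t F false false (tp 0 * tp 3)) (nf i t F false false (tp 0 * tp 3)) := by
    have := ep.mul es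
    rwa [nf_mul h] at this
  have gps : C g (nf i t F false false (tp 0 * tp 3)) (nf i t F false false (tp 0 * tp 3)) := by
    have := (gp 0).mul (gp 3)
    rwa [nf_mul h, nf_mul h] at this
  have at_ : C (i F.e * g) (nf i t F true false 1) (nf i t F false true 1) := et.comp (gv true false)
  have ay : C (i F.e * g) (nf i t F false true 1) (nf i t F true true (tp 0 * tp 3)) := by
    have h1 := (gv false true).mul gps
    rw [nf_mul h, nf_mul h] at h1
    exact ey.comp (by simpa using h1)
  have ap : C (i F.e * g) (nf i t F false false (tp 0)) (nf i t F true true (tp 0)) := ep.comp (gp 0)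
  have as : C (i F.e * g) (nf i t F false false (tp 3)) (nf i t F true true (tp 3)) := es.comp (gp 3)
  -- the general formula
  have agen : ∀ v : Bool × Bool × Bool × Bool, C (i F.e * g) (vec i t F v) (vec i t F (stp v)) := by
    have one : C (i F.e * g) (nf i t F false false 1) (nf i t F false false 1) := by
      show _ = _; rw [nf_one, one_mul, mul_one]
    rintro ⟨a, b, c, d⟩
    have ha : C (i F.e * g) (nf i t F a false 1) (nf i t F false a 1) := by cases a <;> assumption
    have hb : C (i F.e * g) (nf i t F false b 1)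
        (nf i t F b b ((bif b then tp 0 else 1) * (bif b then tp 3 else 1))) := by
      cases b
      · simpa using one
      · exact ay
    have hc : C (i F.e * g) (nf i t F false false (bif c then tp 0 else 1))
        (nf i t F c c (bif c then tp 0 else 1)) := by cases c <;> assumption
    have hd : C (i F.e * g) (nf i t F false false (bif d then tp 3 else 1))
        (nf i t F d d (bif d then tp 3 else 1)) := by cases d <;> assumption
    have h1 := ((ha.mul hb).mul hc).mul hd
    simp only [nf_mul h] at h1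
    have h2 : ∀ b c d : Bool, 1 * ((bif b then tp 0 else 1) * (bif b then tp 3 else 1)) *
        (bif c then tp 0 else 1) * (bif d then tp 3 else 1) =
        ((bif xor b c then tp 0 else 1) * (bif xor b d then tp 3 else 1) : P5) := by decide +kernel
    rw [h2] at h1
    have e1 : ∀ a b c d : Bool, xor (xor (xor a false) false) false = a ∧
      xor (xor (xor false b) false) false = b ∧
      xor (xor (xor false b) c) d = xor b (xor c d) ∧ xor (xor (xor a b) c) d = xor a (xor b (xor c d)) := by
      decide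
    obtain ⟨e2, e3, e4, e5⟩ := e1 a b c d
    rw [e2, e3, e4, e5, one_mul, one_mul] at h1
    exact h1
  set u := (i F.e * g) * (i F.e * g) * (i F.e * g) with hu
  have ufix : ∀ v : Bool × Bool × Bool × Bool, C u (vec i t F v) (vec i t F v) := by
    intro v
    have h1 := ((agen v).comp (agen _)).comp (agen _)
    rwa [stp_stp_stp] at h1
  have hut : C u t t := by
    have := ufix (true, false, false, false)
    rwa [show vec i t F (true, false, false, false) = nf i t F true false 1 by simp [vec], nf_t] at this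
  have huy : C u (i F.y) (i F.y) := by
    have := ufix (false, true, false, false)
    rwa [show vec i t F (false, true, false, false) = nf i t F false true 1 by simp [vec], nf_y] at this
  have hup : C u (nf i t F false false (tp 0)) (nf i t F false false (tp 0)) := by
    have := ufix (false, false, true, false)
    rwa [show vec i t F (false, false, true, false) = nf i t F false false (tp 0) by simp [vec]] at this
  have hus : C u (nf i t F false false (tp 3)) (nf i t F false false (tp 3)) := by
    have := ufix (false, false, false, true)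
    rwa [show vec i t F (false, false, false, true) = nf i t F false false (tp 3) by simp [vec]] at this
  obtain ⟨a, b, w, he⟩ := exists_nf (F := F) h (x := u) (Eq.symm hut) (Eq.symm huy)
  have hwp : w * tp 0 = tp 0 * w := by
    have h1 : nf i t F false false (tp 0) * u = u * nf i t F false false (tp 0) := hup
    rw [he, nf_mul h, nf_mul h] at h1
    exact (nf_inj h h1).2.2.symm
  have hws : w * tp 3 = tp 3 * w := by
    have h1 : nf i t F false false (tp 3) * u = u * nf i t F false false (tp 3) := hus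
    rw [he, nf_mul h, nf_mul h] at h1
    exact (nf_inj h h1).2.2.symm
  have hw : ∃ c d : Bool, w = (bif c then tp 0 else 1) * (bif d then tp 3 else 1) := by
    rcases cent_ps w hwp hws with h1 | h1 | h1 | h1
    · exact ⟨false, false, by rw [h1]; rfl⟩
    · exact ⟨true, false, by rw [h1]; rfl⟩
    · exact ⟨false, true, by rw [h1]; rfl⟩
    · exact ⟨true, true, by rw [h1]; rfl⟩
  obtain ⟨c, d, rfl⟩ := hw
  have h1 := agen (a, b, c, d)
  rw [show vec i t F (a, b, c, d) = u from he.symm] at h1
  have h2 : C (i F.e * g) u u := by show _ = _; rw [hu]; group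
  have h3 := h2.uniq h1
  rw [he] at h3
  obtain ⟨h4, h5, h6⟩ := nf_inj h h3
  have key : ∀ a b c d : Bool, a = (stp (a, b, c, d)).1 → b = (stp (a, b, c, d)).2.1 →
      ((bif c then tp 0 else 1) * (bif d then tp 3 else 1) : P5) =
        ((bif (stp (a, b, c, d)).2.2.1 then tp 0 else 1) * (bif (stp (a, b, c, d)).2.2.2 then tp 3 else 1)) →
      (b = false ∧ a = xor c d) := by decide +kernel
  obtain ⟨h7, h8⟩ := key a b c d h4 h5 h6
  rw [he, h8, h7]
  cases c <;> cases d
  · left; exact nf_one
  · right; right; left; simp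
  · right; left; simp
  · right; right; right; simp

/-- (B5): we may assume `(eg)³ ∈ {1, tp}`. -/
theorem Good.exists_good (h : Ctx i t) {g : G} (hg : Good i t F g) :
    ∃ g', (g' = g ∨ g' = i F.y * g * i F.y) ∧ Good i t F g' ∧
      ((i F.e * g') * (i F.e * g') * (i F.e * g') = 1 ∨
        (i F.e * g') * (i F.e * g') * (i F.e * g') = t * i (F.sg (tp 0))) := by
  have h33 : tp 3 * tp 3 = 1 := by decide +kernel
  have h4 : tp 3 * (tp 0 * tp 3) = tp 0 := by decide +kernel
  have h5 : (tp 0 * tp 3) * (tp 0 * tp 3) = 1 := by decide +kernel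
  have htp : nf i t F true false (tp 0) = t * i (F.sg (tp 0)) := by simp [nf, Frame.ym]
  -- the element for `g^y`
  set ps := nf i t F false false (tp 0 * tp 3) with hps
  have hY : i F.y * i F.y = 1 := by rw [← map_mul, F.yy, map_one]
  have hee : i F.e * i F.e = 1 := by rw [← map_mul, F.ee, map_one]
  have hpsg : ps * g = g * ps := by
    have gp : ∀ k, C g (nf i t F false false (tp k)) (nf i t F true true (tp k)) := by
      intro k
      have h1 := (hg.cv h true false).mul (hg.cs k)
      rw [← nf_sg] at h1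
      have h2 : t * nf i t F false false (tp k) = nf i t F true false (tp k) := by
        nth_rewrite 1 [← nf_t (i := i) (t := t) (F := F)]
        rw [nf_mul h, one_mul]; rfl
      rw [h2, nf_mul h, nf_mul h, one_mul] at h1
      exact h1
    have := (gp 0).mul (gp 3)
    rw [nf_mul h, nf_mul h] at this
    exact this
  have hpse : ps * i F.e = i F.e * ps := by
    rw [hps, nf_sg, ← map_mul, ← map_mul]
    congr 1
    rw [map_mul, mul_assoc, ← F.es, ← mul_assoc, ← F.ep, mul_assoc]
  have hpsY : ps * i F.y = i F.y * ps := by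
    rw [hps, ← nf_y, nf_comm h]
  have hpsps : ps * ps = 1 := by
    rw [hps, nf_mul h, h5]; exact nf_one
  have hYeY : i F.y * i F.e * i F.y = i F.e * ps := by
    have h1 : i F.e * i F.y * i F.e = i F.y * ps := by
      rw [← map_mul, ← map_mul, F.ey, map_mul, hps, nf_sg, map_mul F.sg]
    calc i F.y * i F.e * i F.y = i F.e * (i F.e * i F.y * i F.e) * i F.y := by
          rw [mul_assoc (i F.e) (i F.y), ← mul_assoc (i F.e) (i F.e), hee, one_mul]
      _ = i F.e * (ps * i F.y) * i F.y := by rw [h1, hpsY]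
      _ = i F.e * ps := by rw [mul_assoc, mul_assoc, hY, mul_one]
  have hcube : (i F.e * (i F.y * g * i F.y)) * (i F.e * (i F.y * g * i F.y)) * (i F.e * (i F.y * g * i F.y)) =
      i F.y * (((i F.e * g) * (i F.e * g) * (i F.e * g)) * ps) * i F.y := by
    have h1 : i F.e * (i F.y * g * i F.y) = i F.y * (i F.e * g * ps) * i F.y := by
      calc i F.e * (i F.y * g * i F.y) = i F.y * (i F.y * i F.e * i F.y) * g * i F.y := by
            rw [← mul_assoc (i F.y) (i F.y * i F.e), ← mul_assoc (i F.y) (i F.y), hY, one_mul]; group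
        _ = i F.y * (i F.e * (ps * g)) * i F.y := by rw [hYeY]; group
        _ = _ := by rw [hpsg]; group
    have h2 : ps * (i F.e * g) = (i F.e * g) * ps := by
      rw [← mul_assoc, hpse, mul_assoc, hpsg, mul_assoc]
    have h3 : (i F.e * g * ps) * (i F.e * g * ps) * (i F.e * g * ps) =
        ((i F.e * g) * (i F.e * g) * (i F.e * g)) * ps := by
      calc (i F.e * g * ps) * (i F.e * g * ps) * (i F.e * g * ps)
          = (i F.e * g) * (ps * (i F.e * g)) * ps * (i F.e * g) * ps := by group
        _ = (i F.e * g) * (i F.e * g) * (ps * ps) * (i F.e * g) * ps := by rw [h2]; group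
        _ = _ := by rw [hpsps]; group
    rw [h1]
    calc i F.y * (i F.e * g * ps) * i F.y * (i F.y * (i F.e * g * ps) * i F.y) *
          (i F.y * (i F.e * g * ps) * i F.y)
        = i F.y * (i F.e * g * ps) * (i F.y * i F.y) * (i F.e * g * ps) * (i F.y * i F.y) *
          (i F.e * g * ps) * i F.y := by group
      _ = i F.y * ((i F.e * g * ps) * (i F.e * g * ps) * (i F.e * g * ps)) * i F.y := by rw [hY]; group
      _ = _ := by rw [h3]
  rcases hg.cube_eg h with h1 | h1 | h1 | h1
  · exact ⟨g, Or.inl rfl, hg, Or.inl h1⟩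
  · exact ⟨g, Or.inl rfl, hg, Or.inr (by rw [h1, htp])⟩
  · refine ⟨i F.y * g * i F.y, Or.inr rfl, hg.conj_y h, Or.inr ?_⟩
    rw [hcube, h1, hps, nf_mul h, h4, ← nf_y, nf_mul h, nf_mul h, one_mul, mul_one]
    exact htp
  · refine ⟨i F.y * g * i F.y, Or.inr rfl, hg.conj_y h, Or.inl ?_⟩
    rw [hcube, h1, hpsps, mul_one, hY]

end Cfsg.Agent.CoThreeStd.RelB
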