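import Cfsg.Agent.CoThreeStd.RelTwist
import Cfsg.Agent.CoThreeStd.MTwelveCent

/-!
# S1750, part [B]: the relations, final form

`RelMain.main`: from `C_G(t) = ⟨t⟩ × ι(M₁₂)` and `g₀ : t ↦ y ↦ ty` we get `h : Fin 8 → G` (letters
`t x s₁ s₂ s₃ s₄ e d`) satisfying all words `w` with `okR w = true`, and `(ed)³ ∈ {1, t s₁}`.
-/

set_option autoImplicit false

namespace Cfsg.Agent.CoThreeStd.RelMain

open Cfsg Equiv Cfsg.Agent.SporRec.Co3 Cfsg.Agent.SporRec.Co3.FiveHom Cfsg.Agent.CoThreeStd.RelB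
  Cfsg.Agent.CoThreeStd.MTwelve

/-- The first frame in `M₁₂`. -/
noncomputable def F1 : Frame H where
  sg := w
  y := y
  e := wd [0, 5, 0, 2, 3, 2, 5, 0]
  d := wd [5, 0, 5, 4, 3, 5, 0, 5]
  inj := w_injective
  yy := y_sq
  comm := y_comm
  nmem := fun σ h => y_ne_w σ h.symm
  cent := fun m hm => cent_y m hm
  dy := by
    rw [w_tp, ← wd_y, ← wd_cj, show cox 3 = wd [4] from wd_s.symm]
    exact wd_eq (by decide +kernel)
  ds := by
    rw [w_tp, show cox 3 = wd [4] from wd_s.symm, ← wd_y, ← wd_cj, ← wd_append]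
    exact wd_eq (by decide +kernel)
  ee := by
    rw [← wd_append, ← wd_nil]
    exact wd_eq (by decide +kernel)
  ep := by
    rw [w_tp, show cox 0 = wd [1] from wd_p.symm, ← wd_append, ← wd_append]
    exact wd_eq (by decide +kernel)
  es := by
    rw [w_tp, show cox 3 = wd [4] from wd_s.symm, ← wd_append, ← wd_append]
    exact wd_eq (by decide +kernel)
  ey := by
    rw [w_tp, w_tp, show cox 3 = wd [4] from wd_s.symm, show cox 0 = wd [1] from wd_p.symm, ← wd_y,
      ← wd_append, ← wd_append, ← wd_append, ← wd_append]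
    exact wd_eq (by decide +kernel)

theorem tp_sq : ∀ k, tp k * tp k = 1 := by decide +kernel

theorem F1_tp (k : Fin 4) : F1.sg (tp k) = wd [k.val + 1] := by
  show w (tp k) = _
  rw [w_tp]
  simp [cox, wd]

theorem F1_y : F1.y = wd [0] := wd_y.symm

/-- The second frame in `M₁₂`. -/
noncomputable def F2 : Frame H := F1.twist (wd [5, 1, 2, 3, 4, 3, 2, 1, 5])
  (by rw [← wd_append, ← wd_nil]; exact wd_eq (by decide +kernel))
  (by rw [F1_tp, F1_y, ← wd_append, ← wd_append, ← wd_append]; exact wd_eq (by decide +kernel))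
  (by rw [F1_tp, F1_y, ← wd_append, ← wd_append, ← wd_append]; exact wd_eq (by decide +kernel))
  (by rw [F1_tp, F1_tp, F1_y, ← wd_append, ← wd_append, ← wd_append, ← wd_append]
      exact wd_eq (by decide +kernel))

theorem F2_tp (k : Fin 4) : F2.sg (tp k) = wd [0, k.val + 1] := by
  show F1.tw (tp k) = _
  rw [Frame.tw_tp, F1_tp, F1_y, ← wd_append]
  rfl

/-- Words for the letters `1 .. 6 = x s₁ s₂ s₃ s₄ e`, first choice. -/
def sub1 : ℕ → List ℕ
  | 1 => [0]
  | 2 => [1]
  | 3 => [2]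
  | 4 => [3]
  | 5 => [4]
  | 6 => [0, 5, 0, 2, 3, 2, 5, 0]
  | _ => []

/-- Words for the letters `1 .. 6 = x s₁ s₂ s₃ s₄ e`, second choice. -/
def sub2 : ℕ → List ℕ
  | 1 => [0]
  | 2 => [0, 1]
  | 3 => [0, 2]
  | 4 => [0, 3]
  | 5 => [0, 4]
  | 6 => [5, 1, 2, 3, 4, 3, 2, 1, 5]
  | _ => []

/-- A frame with words for its letters. -/
structure Sub (s : ℕ → List ℕ) (F : Frame H) : Prop where
  y : F.y = wd (s 1)
  tp : ∀ k : Fin 4, F.sg (tp k) = wd (s (k.val + 2))
  e : F.e = wd (s 6)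
  b : ∃ l : List ℕ, (∀ k ∈ l, 1 ≤ k ∧ k ≤ 6) ∧ wd (l.flatMap s) = wd [5]
  l : ∀ k < 5, ∃ l : List ℕ, (∀ k ∈ l, 1 ≤ k ∧ k ≤ 6) ∧ wd (l.flatMap s) = wd [k]
  cases : s = sub1 ∨ s = sub2

theorem sub_one : Sub sub1 F1 where
  y := F1_y
  tp k := by rw [F1_tp]; fin_cases k <;> rfl
  e := rfl
  b := ⟨[3, 4, 5, 6, 4, 3, 6, 3, 4, 5, 6, 4, 3], by decide, wd_eq (by decide +kernel)⟩
  l := by
    intro k hk
    interval_cases k
    exacts [⟨[1], by decide, rfl⟩, ⟨[2], by decide, rfl⟩, ⟨[3], by decide, rfl⟩, ⟨[4], by decide, rfl⟩,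
      ⟨[5], by decide, rfl⟩]
  cases := Or.inl rfl

theorem sub_two : Sub sub2 F2 where
  y := F1_y
  tp k := by rw [F2_tp]; fin_cases k <;> rfl
  e := rfl
  b := ⟨[2, 4, 6, 4, 3, 6, 4, 3, 5, 6, 4, 3, 6], by decide, wd_eq (by decide +kernel)⟩
  l := by
    intro k hk
    interval_cases k
    exacts [⟨[1], by decide, rfl⟩, ⟨[1, 2], by decide, wd_eq (by decide +kernel)⟩,
      ⟨[1, 3], by decide, wd_eq (by decide +kernel)⟩, ⟨[1, 4], by decide, wd_eq (by decide +kernel)⟩,
      ⟨[1, 5], by decide, wd_eq (by decide +kernel)⟩]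
  cases := Or.inr rfl

variable {G : Type*} [Group G] {ι : H →* G} {t : G}

/-- The letters in `G`. -/
def lets (ι : H →* G) (t : G) (s : ℕ → List ℕ) (g : G) (k : Fin 8) : G :=
  if k = 0 then t else if k = 7 then g else ι (wd (s k.val))

theorem lets_zero (s : ℕ → List ℕ) (g : G) : lets ι t s g 0 = t := rfl
theorem lets_seven (s : ℕ → List ℕ) (g : G) : lets ι t s g 7 = g := rfl

theorem lets_mid (s : ℕ → List ℕ) (g : G) {k : Fin 8} (h0 : k ≠ 0) (h7 : k ≠ 7) :
    lets ι t s g k = ι (wd (s k.val)) := by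
  unfold lets
  rw [if_neg h0, if_neg h7]

/-- All letters are in `M₁₂`. -/
def midW (w : List (Fin 8)) : Bool := w.all fun k => !(k == 0) && !(k == 7)

/-- A relator of `M₁₂` (in both frames). -/
def mchk (w : List (Fin 8)) : Bool :=
  midW w && eqW ((w.map Fin.val).flatMap sub1) [] && eqW ((w.map Fin.val).flatMap sub2) []

theorem prod_mid (s : ℕ → List ℕ) (g : G) {w : List (Fin 8)} (h : midW w = true) :
    (w.map (lets ι t s g)).prod = ι (wd ((w.map Fin.val).flatMap s)) := by
  induction w with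
  | nil => simp [wd]
  | cons k w ih =>
    unfold midW at h ih
    rw [List.all_cons, Bool.and_eq_true] at h
    have h1 := h.1
    simp only [Bool.and_eq_true, Bool.not_eq_true', beq_eq_false_iff_ne, ne_eq] at h1
    rw [List.map_cons, List.prod_cons, ih h.2, lets_mid s g h1.1 h1.2, List.map_cons,
      List.flatMap_cons, wd_append, map_mul]

theorem prod_of_mchk {s : ℕ → List ℕ} (hs : s = sub1 ∨ s = sub2) (g : G) {w : List (Fin 8)}
    (h : mchk w = true) : (w.map (lets ι t s g)).prod = 1 := by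
  unfold mchk at h
  rw [Bool.and_eq_true, Bool.and_eq_true] at h
  rw [prod_mid s g h.1.1]
  rcases hs with rfl | rfl
  · rw [wd_eq h.1.2, wd_nil, map_one]
  · rw [wd_eq h.2, wd_nil, map_one]

/-- The relators which are not words in `M₁₂`. -/
def R0 : List (List (Fin 8)) :=
  [[0, 0], [0, 1, 0, 1], [0, 2, 0, 2], [0, 3, 0, 3], [0, 4, 0, 4], [0, 5, 0, 5], [0, 6, 0, 6], [7, 7, 7],
    [7, 7, 0, 7, 1], [7, 7, 1, 7, 1, 0], [7, 7, 0, 2, 7, 2, 0], [7, 7, 0, 3, 7, 3, 0],
    [7, 7, 0, 4, 7, 4, 0], [7, 7, 0, 5, 7, 5, 0]]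

-- the relators of the form `[0, k, 0, k]` are also covered by `cchk`

/-- A relator of `⟨t⟩ × M₁₂`. -/
def cchk (w : List (Fin 8)) : Bool :=
  mchk (w.filter fun k => !(k == 0)) && Nat.beq ((w.count 0) % 2) 0

/-- The relator is known. -/
def okR (w : List (Fin 8)) : Bool := cchk w || R0.contains w

/-- The result of part [B]. -/
structure Out (t : G) (ι : H →* G) (g0 : G) (h : Fin 8 → G) : Prop where
  zero : h 0 = t
  rel : ∀ w, okR w = true → (w.map h).prod = 1
  alt : ([6, 7, 6, 7, 6, 7].map h).prod = 1 ∨ ([6, 7, 6, 7, 6, 7, 2, 0].map h).prod = 1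
  cl : Subgroup.closure (Set.range h) = Subgroup.closure (insert g0 {x | x * t = t * x})
  le : ∀ m, ι m ∈ Subgroup.closure (Set.range h)
  /-- the letters `1, …, 6` are faithful -/
  sub : ∃ s : ℕ → List ℕ, (s = sub1 ∨ s = sub2) ∧ ∀ k : Fin 8, k ≠ 0 → k ≠ 7 → h k = ι (wd (s k.val))

theorem ctx_of {t : G} {ι : H →* G} (c : Fusion.Ctx t ι) : RelB.Ctx ι t :=
  ⟨c.inj, c.tt, fun m => (c.comm m).symm, c.nmem, c.cent⟩

theorem lets_sq {s : ℕ → List ℕ} (hs : s = sub1 ∨ s = sub2) (g : G) {k : Fin 8} (h0 : k ≠ 0) (h7 : k ≠ 7) :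
    lets ι t s g k * lets ι t s g k = 1 := by
  have h : ∀ k : Fin 8, k ≠ 0 → k ≠ 7 → mchk [k, k] = true := by decide +kernel
  have := prod_of_mchk (ι := ι) (t := t) hs g (h k h0 h7)
  simpa using this

theorem prod_of_cchk (c : Fusion.Ctx t ι) {s : ℕ → List ℕ} (hs : s = sub1 ∨ s = sub2) (g : G)
    {w : List (Fin 8)} (h : cchk w = true) : (w.map (lets ι t s g)).prod = 1 := by
  unfold cchk at h
  rw [Bool.and_eq_true] at h
  have key : ∀ w : List (Fin 8), midW (w.filter fun k => !(k == 0)) = true →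
      (w.map (lets ι t s g)).prod =
        t ^ (w.count 0) * ((w.filter fun k => !(k == 0)).map (lets ι t s g)).prod := by
    intro w
    induction w with
    | nil => intro _; simp
    | cons k w ih =>
      intro hw
      by_cases hk : k = 0
      · subst hk
        rw [List.filter_cons_of_neg (by simp)] at hw ⊢
        rw [List.map_cons, List.prod_cons, ih hw, List.count_cons_self, pow_succ', lets_zero, mul_assoc]
      · rw [List.filter_cons_of_pos (by simpa using hk)] at hw ⊢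
        have hw' := hw
        unfold midW at hw'
        rw [List.all_cons, Bool.and_eq_true] at hw'
        have h7 : k ≠ 7 := by
          have := hw'.1
          simp only [Bool.and_eq_true, Bool.not_eq_true', beq_eq_false_iff_ne, ne_eq] at this
          exact this.2
        rw [List.map_cons, List.prod_cons, ih hw'.2, List.count_cons_of_ne hk, List.map_cons,
          List.prod_cons, lets_mid s g hk h7, ← mul_assoc, ← mul_assoc]
        congr 1
        have h1 : Commute (ι (wd (s k.val))) t := c.comm _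
        exact (h1.pow_right _).eq
  have h2 := h.1
  have hmid : midW (w.filter fun k => !(k == 0)) = true := by
    unfold mchk at h2
    rw [Bool.and_eq_true, Bool.and_eq_true] at h2
    exact h2.1.1
  rw [key w hmid, prod_of_mchk hs g h2, mul_one]
  have h3 := Nat.eq_of_beq_eq_true h.2
  obtain ⟨n, hn⟩ := Nat.dvd_of_mod_eq_zero h3
  rw [hn, pow_mul, pow_two, c.tt, one_pow]

theorem rel_of_good (c : Fusion.Ctx t ι) {s : ℕ → List ℕ} {F : Frame H} (hs : Sub s F) {g : G}
    (hg : Good ι t F g) (w : List (Fin 8)) (hw : okR w = true) : (w.map (lets ι t s g)).prod = 1 := by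
  unfold okR at hw
  rw [Bool.or_eq_true] at hw
  rcases hw with hw | hw
  · exact prod_of_cchk c hs.cases g hw
  set h := lets ι t s g with hh
  have l0 : h 0 = t := rfl
  have l7 : h 7 = g := rfl
  have l1 : h 1 = ι F.y := by rw [hs.y]; rfl
  have ltp : ∀ k : Fin 4, h ⟨k.val + 2, by omega⟩ = ι (F.sg (tp k)) := by
    intro k
    rw [hs.tp k, hh, lets_mid]
    · intro h; exact absurd (congrArg Fin.val h) (by simp)
    · intro h; exact absurd (congrArg Fin.val h) (by simp; omega)
  have l2 : h 2 = ι (F.sg (tp 0)) := ltp 0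
  have l3 : h 3 = ι (F.sg (tp 1)) := ltp 1
  have l4 : h 4 = ι (F.sg (tp 2)) := ltp 2
  have l5 : h 5 = ι (F.sg (tp 3)) := ltp 3
  have l6 : h 6 = ι F.e := by rw [hs.e]; rfl
  have sq : ∀ k : Fin 8, k ≠ 0 → k ≠ 7 → h k * h k = 1 := fun k h0 h7 => lets_sq hs.cases g h0 h7
  have cm : ∀ k : Fin 8, k ≠ 0 → k ≠ 7 → h 0 * h k = h k * h 0 := by
    intro k h0 h7
    rw [l0, hh, lets_mid s g h0 h7, c.comm]
  have hcm : ∀ k : Fin 8, k ≠ 0 → k ≠ 7 → h 0 * (h k * (h 0 * h k)) = 1 := by
    intro k h0 h7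
    rw [cm k h0 h7, ← mul_assoc (h k), sq k h0 h7, one_mul, l0, c.tt]
  have h77 : h 7 * h 7 = (h 7)⁻¹ := by
    rw [eq_inv_iff_mul_eq_one, l7]; exact hg.cube
  have e1 : g⁻¹ * t * g = ι F.y := hg.ct.eq
  have e2 : g⁻¹ * ι F.y * g = t * ι F.y := hg.cy.eq
  have hyy : ι F.y * ι F.y = 1 := by rw [← map_mul, F.yy, map_one]
  have hs' : ∀ k : Fin 4, h 7 * (h 7 * (h 0 * (h ⟨k.val + 2, by omega⟩ * (h 7 *
      (h ⟨k.val + 2, by omega⟩ * h 0))))) = 1 := by
    intro k
    rw [ltp, ← mul_assoc (h 7) (h 7), h77, l0, l7]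
    have h1 : g⁻¹ * (t * ι (F.sg (tp k))) * g = t * ι (F.sg (tp k)) := (hg.cs k).eq
    have h2 : ι (F.sg (tp k)) * ι (F.sg (tp k)) = 1 := by
      rw [← map_mul, ← map_mul, tp_sq, map_one, map_one]
    calc g⁻¹ * (t * (ι (F.sg (tp k)) * (g * (ι (F.sg (tp k)) * t))))
        = (g⁻¹ * (t * ι (F.sg (tp k))) * g) * (ι (F.sg (tp k)) * t) := by group
      _ = t * (ι (F.sg (tp k)) * ι (F.sg (tp k))) * t := by rw [h1]; group
      _ = 1 := by rw [h2, mul_one, c.tt]
  have hw' : w ∈ R0 := by simpa using hw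
  simp only [R0, List.mem_cons, List.not_mem_nil, or_false] at hw'
  rcases hw' with rfl | rfl | rfl | rfl | rfl | rfl | rfl | rfl | rfl | rfl | rfl | rfl | rfl | rfl <;>
    simp only [List.map_cons, List.map_nil, List.prod_cons, List.prod_nil, mul_one]
  · rw [l0, c.tt]
  · exact hcm 1 (by decide) (by decide)
  · exact hcm 2 (by decide) (by decide)
  · exact hcm 3 (by decide) (by decide)
  · exact hcm 4 (by decide) (by decide)
  · exact hcm 5 (by decide) (by decide)
  · exact hcm 6 (by decide) (by decide)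
  · rw [← mul_assoc, l7]; exact hg.cube
  · rw [← mul_assoc (h 7) (h 7), h77, l0, l1, l7]
    calc g⁻¹ * (t * (g * ι F.y)) = (g⁻¹ * t * g) * ι F.y := by group
      _ = 1 := by rw [e1, hyy]
  · rw [← mul_assoc (h 7) (h 7), h77, l0, l1, l7]
    calc g⁻¹ * (ι F.y * (g * (ι F.y * t))) = (g⁻¹ * ι F.y * g) * (ι F.y * t) := by group
      _ = t * (ι F.y * ι F.y) * t := by rw [e2]; group
      _ = 1 := by rw [hyy, mul_one, c.tt]
  · exact hs' 0
  · exact hs' 1
  · exact hs' 2
  · exact hs' 3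

theorem out_of_good (c : Fusion.Ctx t ι) {s : ℕ → List ℕ} {F : Frame H} (hs : Sub s F) {g g0 : G}
    (hg : Good ι t F g)
    (ha : (ι F.e * g) * (ι F.e * g) * (ι F.e * g) = 1 ∨
        (ι F.e * g) * (ι F.e * g) * (ι F.e * g) = t * ι (F.sg (tp 0)))
    (hg0 : ∃ a b : H, g = ι a * g0⁻¹ * ι b) : Out t ι g0 (lets ι t s g) := by
  set h := lets ι t s g with hh
  have l0 : h 0 = t := rfl
  have l7 : h 7 = g := rfl
  have l2 : h 2 = ι (F.sg (tp 0)) := by rw [hs.tp 0]; rfl
  have l6 : h 6 = ι F.e := by rw [hs.e]; rfl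
  have hle : ∀ m, ι m ∈ Subgroup.closure (Set.range h) := by
    have hword : ∀ l : List ℕ, (∀ k ∈ l, 1 ≤ k ∧ k ≤ 6) →
        ι (wd (l.flatMap s)) ∈ Subgroup.closure (Set.range h) := by
      intro l
      induction l with
      | nil => intro _; rw [List.flatMap_nil, wd_nil, map_one]; exact one_mem _
      | cons k l ih =>
        intro hk
        have h1 := hk k (by simp)
        rw [List.flatMap_cons, wd_append, map_mul]
        refine mul_mem ?_ (ih fun k hk' => hk k (by simp [hk']))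
        have h2 : h ⟨k, by omega⟩ = ι (wd (s k)) := by
          rw [hh, lets_mid]
          · intro h; have := congrArg Fin.val h; simp at this; omega
          · intro h; have := congrArg Fin.val h; simp at this; omega
        rw [← h2]
        exact Subgroup.subset_closure ⟨_, rfl⟩
    have hgen : ∀ k, ι (gen k) ∈ Subgroup.closure (Set.range h) := by
      intro k
      have e1 : gen k = wd [k] := by simp [wd]
      rw [e1]
      rcases Nat.lt_trichotomy k 5 with hk | rfl | hk
      · obtain ⟨l, hl, hl'⟩ := hs.l k hk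
        rw [← hl']; exact hword l hl
      · obtain ⟨l, hl, hl'⟩ := hs.b
        rw [← hl']; exact hword l hl
      · have h6 : gen k = 1 := by
          obtain ⟨j, rfl⟩ := Nat.exists_eq_add_of_le (show 6 ≤ k from hk)
          rw [Nat.add_comm]; rfl
        rw [← e1, h6, map_one]; exact one_mem _
    intro m
    obtain ⟨l, rfl⟩ := mem_wd m
    induction l with
    | nil => rw [wd_nil, map_one]; exact one_mem _
    | cons k l ih => rw [wd_cons, map_mul]; exact mul_mem (hgen k) ih
  have hC : ∀ x, x * t = t * x → x ∈ Subgroup.closure (Set.range h) := by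
    intro x hx
    obtain ⟨m, rfl | rfl⟩ := c.cent x hx
    · exact hle m
    · exact mul_mem (Subgroup.subset_closure ⟨0, rfl⟩) (hle m)
  obtain ⟨a, b, hab⟩ := hg0
  refine ⟨rfl, rel_of_good c hs hg, ?_, ?_, hle, s, hs.cases, fun k h0 h7 => lets_mid s g h0 h7⟩
  · rcases ha with ha | ha
    · left
      simp only [List.map_cons, List.map_nil, List.prod_cons, List.prod_nil, mul_one]
      rw [l6, l7, ← ha]
      group
    · right
      simp only [List.map_cons, List.map_nil, List.prod_cons, List.prod_nil, mul_one]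
      rw [l6, l7, l2, l0]
      have h2 : ι (F.sg (tp 0)) * ι (F.sg (tp 0)) = 1 := by
        rw [← map_mul, ← map_mul, show tp 0 * tp 0 = 1 by decide +kernel, map_one, map_one]
      calc _ = ((ι F.e * g) * (ι F.e * g) * (ι F.e * g)) * (ι (F.sg (tp 0)) * t) := by group
        _ = t * (ι (F.sg (tp 0)) * ι (F.sg (tp 0))) * t := by rw [ha]; group
        _ = 1 := by rw [h2, mul_one, c.tt]
  · apply le_antisymm
    · rw [Subgroup.closure_le]
      have hι : ∀ m, ι m ∈ Subgroup.closure (insert g0 {x | x * t = t * x}) := fun m =>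
        Subgroup.subset_closure (Or.inr (c.comm m))
      rintro _ ⟨k, rfl⟩
      by_cases h0 : k = 0
      · subst h0; exact Subgroup.subset_closure (Or.inr rfl)
      by_cases h7 : k = 7
      · subst h7
        show h 7 ∈ _
        rw [l7, hab]
        exact mul_mem (mul_mem (hι a) (inv_mem (Subgroup.subset_closure (Or.inl rfl)))) (hι b)
      · show h k ∈ _
        rw [hh, lets_mid s g h0 h7]
        exact hι _
    · rw [Subgroup.closure_le]
      rintro x (rfl | hx)
      · show x ∈ Subgroup.closure (Set.range h)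
        have h1 : x = ι b * g⁻¹ * ι a := by rw [hab]; group
        rw [h1]
        exact mul_mem (mul_mem (hle b) (inv_mem (Subgroup.subset_closure ⟨7, rfl⟩))) (hle a)
      · exact hC x hx

/-- **Part [B]**: the relations. -/
theorem main (c : Fusion.Ctx t ι) {g0 : G} (h1 : g0 * t * g0⁻¹ = ι y) (h2 : g0 * ι y * g0⁻¹ = t * ι y) :
    ∃ h : Fin 8 → G, Out t ι g0 h := by
  have hc := ctx_of c
  have hT : ∀ F : Frame H, F.y = y → Tri ι t F g0⁻¹ := by
    intro F hF
    refine ⟨C.of_eq ?_, C.of_eq ?_⟩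
    · rw [inv_inv, hF]; exact h1
    · rw [inv_inv, hF]; exact h2
  obtain ⟨cc, hg, hcube, halt⟩ := exists_g hc (hT F1 rfl)
  have key : ∀ (s : ℕ → List ℕ) (F : Frame H), Sub s F → Good ι t F (g0⁻¹ * ι (F1.sg cc)) →
      ∃ h : Fin 8 → G, Out t ι g0 h := by
    intro s F hs hgood
    obtain ⟨g', hg', hgood', ha⟩ := hgood.exists_good hc
    refine ⟨_, out_of_good c hs hgood' ha ?_⟩
    rcases hg' with rfl | rfl
    · exact ⟨1, F1.sg cc, by rw [map_one, one_mul]⟩
    · exact ⟨F.y, F1.sg cc * F.y, by rw [map_mul]; group⟩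
  rcases halt with h | h
  · exact key sub1 F1 sub_one ⟨hg, hcube, h⟩
  · refine key sub2 F2 sub_two ⟨?_, hcube, ?_⟩
    · exact ⟨hg.ct, hg.cy⟩
    · intro k
      have := h k
      rw [show F2.sg (tp k) = F1.y * F1.sg (tp k) from F1.tw_tp k]
      exact this

end Cfsg.Agent.CoThreeStd.RelMain
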