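import Cfsg.Agent.CoThreeStd.RelB
import Cfsg.Agent.CoThreeStd.Fusion

/-!
# Relations for S1750, part [B]: the twisted frame and the final list
-/

set_option autoImplicit false

namespace Cfsg.Agent.CoThreeStd.RelB

open Equiv Cfsg.Agent.SporRec.Co3 Cfsg.Agent.SporRec.Co3.FiveHom

/-- The permutation is odd. -/
def od (w : P5) : Bool := decide (Perm.sign w = -1)

theorem od_mul (w w' : P5) : od (w * w') = xor (od w) (od w') := by
  unfold od
  rw [Perm.sign_mul]
  rcases Int.units_eq_one_or (Perm.sign w) with h | h <;>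
    rcases Int.units_eq_one_or (Perm.sign w') with h' | h' <;> rw [h, h'] <;> decide

theorem od_tp : ∀ k, od (tp k) = true := by decide +kernel

namespace Frame

variable {M : Type*} [Group M] (F : Frame M)

theorem ym_comm (b : Bool) (w : P5) : F.ym b * F.sg w = F.sg w * F.ym b := by
  cases b
  · simp [ym]
  · exact F.comm w

/-- The twisted embedding of the symmetric group. -/
def tw : P5 →* M := MonoidHom.mk' (fun w => F.ym (od w) * F.sg w) (by
  intro w w'
  rw [od_mul, ← F.ym_mul, map_mul]
  calc F.ym (od w) * F.ym (od w') * (F.sg w * F.sg w') = F.ym (od w) * (F.ym (od w') * F.sg w) * F.sg w' := by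
        group
    _ = _ := by rw [F.ym_comm]; group)

theorem tw_apply (w : P5) : F.tw w = F.ym (od w) * F.sg w := rfl

theorem tw_tp (k : Fin 4) : F.tw (tp k) = F.y * F.sg (tp k) := by rw [tw_apply, od_tp]; rfl

theorem sg_ne_y_mul (w w' : P5) : F.sg w ≠ F.y * F.sg w' := by
  intro h
  apply F.nmem (w * w'⁻¹)
  rw [map_mul, map_inv, h, mul_inv_cancel_right]

/-- The twisted frame. -/
def twist (e' : M) (ee : e' * e' = 1) (ep : e' * (F.y * F.sg (tp 0)) = (F.y * F.sg (tp 0)) * e')
    (es : e' * (F.y * F.sg (tp 3)) = (F.y * F.sg (tp 3)) * e')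
    (ey : e' * F.y * e' = F.y * (F.sg (tp 0) * F.sg (tp 3))) : Frame M where
  sg := F.tw
  y := F.y
  e := e'
  d := F.d⁻¹
  inj := by
    intro w w' h
    rw [tw_apply, tw_apply] at h
    cases hw : od w <;> cases hw' : od w' <;> rw [hw, hw'] at h
    · exact F.inj (mul_left_cancel h)
    · exact absurd (by simpa [ym] using h) (F.sg_ne_y_mul w w')
    · exact absurd (by simpa [ym] using h.symm) (F.sg_ne_y_mul w' w)
    · exact F.inj (mul_left_cancel h)
  yy := F.yy
  comm := by
    intro w
    rw [tw_apply, ← mul_assoc]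
    cases od w
    · simp only [ym, cond_false, mul_one, one_mul]; exact F.comm w
    · simp only [ym, cond_true]; rw [F.yy, one_mul, mul_assoc, ← F.comm, ← mul_assoc, F.yy, one_mul]
  nmem := by
    intro w h
    rw [tw_apply] at h
    cases hw : od w <;> rw [hw] at h
    · exact F.nmem w (by simpa [ym] using h)
    · have h1 : F.sg w = F.sg 1 := by
        simp only [ym, cond_true] at h
        rw [map_one]
        exact mul_left_cancel (h.trans (mul_one _).symm)
      rw [F.inj h1] at hw
      exact absurd hw (by decide +kernel)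
  cent := by
    intro m hm
    obtain ⟨w, h⟩ := F.cent m hm
    refine ⟨w, ?_⟩
    rw [tw_apply]
    cases od w <;> simp only [ym, cond_true, cond_false, one_mul]
    · exact h
    · rw [← mul_assoc, F.yy, one_mul]; exact h.symm
  dy := by
    rw [tw_tp, inv_inv]
    have h1 : F.d⁻¹ * (F.y * F.sg (tp 3)) * F.d = F.y := by
      calc F.d⁻¹ * (F.y * F.sg (tp 3)) * F.d = (F.d⁻¹ * F.y * F.d) * (F.d⁻¹ * F.sg (tp 3) * F.d) := by group
        _ = F.sg (tp 3) * (F.y * F.sg (tp 3)) := by rw [F.dy, F.ds]
        _ = F.y * F.sg (tp 3 * tp 3) := by rw [← mul_assoc, ← F.comm, map_mul, mul_assoc]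
        _ = F.y := by rw [show tp 3 * tp 3 = 1 by decide +kernel, map_one, mul_one]
    nth_rewrite 1 [← h1]
    group
  ds := by
    rw [tw_tp, inv_inv]
    have h1 : F.y * (F.y * F.sg (tp 3)) = F.sg (tp 3) := by rw [← mul_assoc, F.yy, one_mul]
    rw [h1, ← F.ds]
    group
  ee := ee
  ep := by rw [tw_tp]; exact ep
  es := by rw [tw_tp]; exact es
  ey := by
    rw [tw_tp, tw_tp, ey]
    congr 1
    rw [F.comm (tp 0), mul_assoc, ← mul_assoc F.y F.y, F.yy, one_mul]

end Frame

end Cfsg.Agent.CoThreeStd.RelB
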