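import Cfsg.Agent.CoThreeStd.SevData

set_option autoImplicit false
set_option maxRecDepth 100000

namespace Cfsg.Agent.CoThreeStd.SevChk0

open Cfsg.Agent.SporadicRecognition.CosetCert Cfsg.Agent.Lib.CosetPartial Cfsg.Agent.CoThreeStd.SevData

theorem c0 : PartP C 0 18 := runP_sound C (by decide +kernel : runP C 7 127 0x4069800000001020010000080010200100000b1810200102000800102001004608001020010000080010208033260808002080024608083030c1020408000 7 127 0x730000000000000000000000000000 0 18 = true)

theorem all : PartP C 0 18 := c0

end Cfsg.Agent.CoThreeStd.SevChk0
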