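import Cfsg.Agent.Lib.CosetPartial

set_option autoImplicit false
set_option maxRecDepth 100000

namespace Cfsg.Agent.CoThreeStd.SevData

open Cfsg.Agent.SporadicRecognition.CosetCert

noncomputable def tree : Tr := (.N 16 (.L 0xfff23fffcf1ffe7fffffcb0fff1383ffc0dfff1bfff9ffffff0bae93cc0ffee2fffbedb647fffffbacffed283ffae4ffedafff9fff50c997ffa080ffe71fffa29ffe7fffff9e8ffe5883ff925553ffd609fff492518727ff1ffe28d857ff20a7ffd950c40c469c7ff821aa461c419fffa6410bffffff) (.L 0x3ffd62a03633ff95e1ffffffffcd00))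

noncomputable def wtree : WT := (.N 4 (.N 2 (.N 1 (.L 0 [1,1]) (.L 3 [1,3,0,2,1])) (.N 3 (.L 3 [2,2]) (.L 0 [2,0,3,0,3]))) (.N 6 (.N 5 (.L 2 [3,3]) (.L 1 [3,0,3,1,2])) (.N 7 (.L 1 [0,0]) (.L 4 [0,3,0,3,1,2]))))

noncomputable def stree : ST := (.L 4 [] [])

noncomputable def C : Cert where
  data := tree
  lm := 15
  rb := 59
  fb := 11
  mask := 2047
  B := 32
  k := 4
  N := 18
  inv := fun x => bif Nat.beq x 0 then 1 else bif Nat.beq x 1 then 0 else bif Nat.beq x 2 then 3 else bif Nat.beq x 3 then 2 else x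
  words := wtree
  subs := stree

/-- letters: 0 = m, 1 = M, 2 = g, 3 = G -/
def rels : List (List Nat) := [[0,0,0], [2,2,2], [3,0,2,1,2,1]]

def subw : List (List Nat) := []

/-- targets:  gmgmgm;  gMgMgMgMgMgMgM -/
def targets : List (List Nat) := [[2,0,2,0,2,0], [2,1,2,1,2,1,2,1,2,1,2,1,2,1]]

end Cfsg.Agent.CoThreeStd.SevData
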