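import Cfsg.Agent.CoThreeStd.Fam
import Cfsg.Agent.StdAlt.Conj

set_option autoImplicit false

/-!
The frame of a standard subgroup.
-/

namespace Cfsg.Agent.CoThreeStd.StdFrame

open Subgroup Cfsg.Agent.CoThreeStd.FactsDef Cfsg.Agent.CoThreeStd.Frame
open Cfsg.Agent.CoThreeStd.Frame.Fr Cfsg.Agent.CoThreeStd.Fam

variable {G S : Type*} [Group G] [Group S]

open Classical in
/-- The frame of the subgroup `L ≃* S`. -/
noncomputable def frame (L : Subgroup G) (e : L ≃* S) : Fr G S where
  M := normalizer (L : Set G)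
  ι := L.subtype.comp e.symm.toMonoidHom
  act := fun x => if h : x ∈ normalizer (L : Set G) then
    MulAut.congr e (L.normalizerMonoidHom ⟨x, h⟩) else 1
  mem := fun s => le_normalizer (e.symm s).2
  inj := L.subtype_injective.comp e.symm.injective
  conj := by
    intro x hx s
    rw [dif_pos hx]
    show x * (e.symm s : G) * x⁻¹ = (e.symm (e (L.normalizerMonoidHom ⟨x, hx⟩ (e.symm s))) : G)
    rw [e.symm_apply_apply]
    rfl
  cent := by
    intro x h
    apply centralizer_le_normalizer (L : Set G)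
    rw [mem_centralizer_iff]
    intro a ha
    have := h (e ⟨a, ha⟩)
    change x * (e.symm (e ⟨a, ha⟩) : G) = (e.symm (e ⟨a, ha⟩) : G) * x at this
    rw [e.symm_apply_apply] at this
    exact this.symm

variable {L : Subgroup G} (e : L ≃* S)

theorem frame_M : (frame L e).M = normalizer (L : Set G) := rfl

theorem frame_ι (s : S) : (frame L e).ι s = (e.symm s : G) := rfl

theorem frame_ι_e {a : G} (ha : a ∈ L) : (frame L e).ι (e ⟨a, ha⟩) = a := by
  rw [frame_ι, e.symm_apply_apply]

theorem mem_range_ι {a : G} : (∃ s, (frame L e).ι s = a) ↔ a ∈ L := by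
  constructor
  · rintro ⟨s, rfl⟩
    exact (e.symm s).2
  · intro ha
    exact ⟨_, frame_ι_e e ha⟩

theorem frame_K : (frame L e).K = centralizer (L : Set G) := by
  ext x
  rw [mem_K, mem_centralizer_iff]
  constructor
  · intro h a ha
    have := h (e ⟨a, ha⟩)
    rw [frame_ι_e] at this
    exact this.symm
  · intro h s
    exact (h _ (e.symm s).2).symm

/-- The frame of a standard simple subgroup. -/
theorem stdF [Finite G] (hL : Cfsg.IsStandardSubgroup L) (hS : IsSimpleGroup S) :
    StdF (frame L e) := by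
  have hsL : IsSimpleGroup L := (MulEquiv.isSimpleGroup_congr e).2 hS
  have hte := StdAlt.Conj.TE.of_standard hL hsL
  refine ⟨?_, ?_, ?_⟩
  · intro y hy hyy hy1 x hxy
    rw [frame_K] at hy
    exact hte.nrm hy hy1 hyy hxy
  · intro g hg y hy hy' hyy
    by_contra hy1
    rw [frame_K] at hy hy'
    apply hg
    rw [frame_M]
    refine hte.key (g⁻¹ * y * g) g hy' ?_ ?_ ?_
    · intro h
      apply hy1
      rw [show y = g * (g⁻¹ * y * g) * g⁻¹ by group, h]; group
    · rw [show g⁻¹ * y * g * (g⁻¹ * y * g) = g⁻¹ * (y * y) * g by group, hyy]; group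
    · rw [show g * (g⁻¹ * y * g) * g⁻¹ = y by group]
      exact hy
  · intro g _
    by_contra hcon
    push_neg at hcon
    refine hte.ncomm (StdAlt.Conj.cj g L) (StdAlt.Conj.Cj.cj L g) ?_
    intro a ha
    rw [StdAlt.Conj.mem_C]
    intro b hb
    rw [StdAlt.Conj.mem_cj] at hb
    have := hcon (e ⟨a, ha⟩) (e ⟨_, hb⟩)
    rw [frame_ι_e, frame_ι_e] at this
    rwa [show g * (g⁻¹ * b * g) * g⁻¹ = b by group] at this

end Cfsg.Agent.CoThreeStd.StdFrame
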