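import Cfsg.Agent.SporRec.Closing

/-!
# The relative closing step

`D` is a set of elements of `G`, closed under conjugation, each of which fixes at most one point of
`G ⧸ H`.  Let `Y ≤ H` be an abelian 2-subgroup whose `G`-conjugates in `H` are `H`-conjugate, and
let `P` be a Sylow 2-subgroup of `C_H(Y)` which meets `D`.  If `Y` fixes two points of `G ⧸ H`, then
there is a subgroup `X`, `Y ≤ X ≤ P`, which fixes two points (so `X` is `D`-free) and such that all
involutions of `N_C(X) / X`, `C = C_G(Y)`, are conjugate (`exists_step`).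
-/

set_option autoImplicit false

namespace Cfsg.Agent.CoThreeStd.Step

open Cfsg.Agent.SporRec.Closing

variable {G : Type*} [Group G]

/-- the subgroup `S` fixes two points of `G ⧸ H` -/
def Two (H S : Subgroup G) : Prop := ∃ x y : G ⧸ H, x ∈ Fix H S ∧ y ∈ Fix H S ∧ x ≠ y

theorem Two.mono {H S R : Subgroup G} (h : Two H S) (hRS : R ≤ S) : Two H R := by
  obtain ⟨x, y, hx, hy, hxy⟩ := h
  exact ⟨x, y, fun s hs => hx s (hRS hs), fun s hs => hy s (hRS hs), hxy⟩

/-- `g S g⁻¹` fixes two points iff `S` does -/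
theorem Two.conj {H S R : Subgroup G} (h : Two H S) (g : G) (hRS : ∀ r ∈ R, g⁻¹ * r * g ∈ S) :
    Two H R := by
  obtain ⟨x, y, hx, hy, hxy⟩ := h
  refine ⟨g • x, g • y, ?_, ?_, fun h => hxy (smul_left_cancel _ h)⟩
  · intro r hr
    have h1 := hx _ (hRS r hr)
    calc r • g • x = g • ((g⁻¹ * r * g) • x) := by rw [smul_smul, smul_smul]; congr 1; group
      _ = g • x := by rw [h1]
  · intro r hr
    have h1 := hy _ (hRS r hr)
    calc r • g • y = g • ((g⁻¹ * r * g) • y) := by rw [smul_smul, smul_smul]; congr 1; group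
      _ = g • y := by rw [h1]

theorem two_iff {H S : Subgroup G} (hSH : S ≤ H) :
    Two H S ↔ ∃ g, g ∉ H ∧ ∀ s ∈ S, g⁻¹ * s * g ∈ H := by
  have h1 : (QuotientGroup.mk 1 : G ⧸ H) ∈ Fix H S := by
    rw [mk_mem_Fix]
    intro s hs
    simpa using hSH hs
  constructor
  · rintro ⟨x, y, hx, hy, hxy⟩
    obtain ⟨z, hz, hz1⟩ : ∃ z ∈ Fix H S, z ≠ (QuotientGroup.mk 1 : G ⧸ H) := by
      by_cases h : x = QuotientGroup.mk 1
      · exact ⟨y, hy, fun h' => hxy (h.trans h'.symm)⟩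
      · exact ⟨x, hx, h⟩
    induction z using QuotientGroup.induction_on with
    | H a =>
      refine ⟨a, ?_, (mk_mem_Fix H S a).1 hz⟩
      intro ha
      apply hz1
      rw [eq_comm, QuotientGroup.eq]
      simpa using ha
  · rintro ⟨g, hg, hgS⟩
    refine ⟨QuotientGroup.mk 1, QuotientGroup.mk g, h1, (mk_mem_Fix H S g).2 hgS, ?_⟩
    intro h
    rw [QuotientGroup.eq] at h
    apply hg
    simpa using h

/-- if the trivial subgroup fixes only one point, then `H = ⊤` -/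
theorem eq_top_of_not_two {H : Subgroup G} (h : ¬ Two H (⊥ : Subgroup G)) : H = ⊤ := by
  by_contra hne
  apply h
  rw [two_iff bot_le]
  obtain ⟨g, hg⟩ : ∃ g, g ∉ H := by
    by_contra h
    push Not at h
    exact hne (Subgroup.eq_top_iff' H |>.2 h)
  refine ⟨g, hg, ?_⟩
  intro s hs
  rw [Subgroup.mem_bot.1 hs]
  simp

/-- The set-up of a step. -/
structure Setup (H : Subgroup G) (D : Set G) (Y P : Subgroup G) : Prop where
  /-- `D` is closed under conjugation -/
  conjD : ∀ d ∈ D, ∀ g : G, g * d * g⁻¹ ∈ D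
  /-- elements of `D` fix at most one point -/
  one : ∀ d ∈ D, ∀ x y : G ⧸ H, d • x = x → d • y = y → x = y
  /-- `Y` is abelian -/
  comm : ∀ a ∈ Y, ∀ b ∈ Y, a * b = b * a
  /-- `Y ≤ H` -/
  leH : Y ≤ H
  /-- `G`-conjugates of `Y` in `H` are `H`-conjugate to `Y` -/
  fus : ∀ g : G, (∀ y ∈ Y, g⁻¹ * y * g ∈ H) → ∃ h ∈ H, ∀ y ∈ Y, h⁻¹ * (g⁻¹ * y * g) * h ∈ Y
  /-- `P` is a 2-group -/
  two : IsPGroup 2 P
  /-- `P ≤ H` -/
  PH : P ≤ H
  /-- `P` centralises `Y` -/
  PC : ∀ a ∈ P, ∀ b ∈ Y, a * b = b * a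
  /-- `Y ≤ P` -/
  YP : Y ≤ P
  /-- `P` is a Sylow 2-subgroup of `C_H(Y)` -/
  syl : ∀ R : Subgroup G, IsPGroup 2 R → R ≤ H → (∀ a ∈ R, ∀ b ∈ Y, a * b = b * a) →
    ∃ c ∈ H, (∀ b ∈ Y, c * b = b * c) ∧ ∀ r ∈ R, c⁻¹ * r * c ∈ P
  /-- `P` meets `D` -/
  meet : ∃ d ∈ P, d ∈ D

/-- The output of a step. -/
structure IsStep (H : Subgroup G) (D : Set G) (Y P X : Subgroup G) : Prop where
  /-- `Y ≤ X` -/
  le : Y ≤ X
  /-- `X ≤ P` -/
  le' : X ≤ P
  /-- `X` is `D`-free -/
  free : ∀ x ∈ X, x ∉ D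
  /-- `X` fixes two points -/
  two : Two H X
  /-- all involutions of `N_C(X)/X` are conjugate -/
  conj : ∀ a ∈ Subgroup.normalizer (X : Set G), (∀ b ∈ Y, a * b = b * a) → a ∉ X → a * a ∈ X →
    ∀ a' ∈ Subgroup.normalizer (X : Set G), (∀ b ∈ Y, a' * b = b * a') → a' ∉ X → a' * a' ∈ X →
    ∃ n ∈ Subgroup.normalizer (X : Set G), (∀ b ∈ Y, n * b = b * n) ∧ n * a * n⁻¹ * a'⁻¹ ∈ X
  /-- `N_C(X)` is transitive on the fixed points of `X` -/
  trans : ∀ x y, x ∈ Fix H X → y ∈ Fix H X →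
    ∃ n ∈ Subgroup.normalizer (X : Set G), (∀ b ∈ Y, n * b = b * n) ∧ n • x = y
  /-- the number of fixed points of `X` is odd -/
  odd : Odd (Nat.card {x : G ⧸ H // x ∈ Fix H X})
  /-- maximality -/
  max : ∀ R : Subgroup G, IsPGroup 2 R → Y ≤ R → (∀ a ∈ R, ∀ b ∈ Y, a * b = b * a) → Two H R →
    Nat.card R ≤ Nat.card X

/-- in a 2-group a proper subgroup has an involution of its normaliser quotient -/
theorem exists_inv_mod [Finite G] (X P : Subgroup G) (hP : IsPGroup 2 P) (hXP : X ≤ P)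
    (hne : X ≠ P) : ∃ a ∈ P, a ∈ Subgroup.normalizer (X : Set G) ∧ a ∉ X ∧ a * a ∈ X := by
  classical
  -- inside `P`
  let X' : Subgroup P := X.subgroupOf P
  have hX'ne : X' ≠ ⊤ := by
    intro h
    apply hne
    rw [Subgroup.subgroupOf_eq_top] at h
    exact le_antisymm hXP h
  have hnil : Group.IsNilpotent P := hP.isNilpotent
  have hnc := Group.normalizerCondition_of_isNilpotent (G := P)
  have hlt := hnc X' (lt_top_iff_ne_top.2 hX'ne)
  obtain ⟨w, hwN, hwX⟩ := SetLike.exists_of_lt hlt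
  -- the quotient `N/X`
  obtain ⟨k, hk⟩ := hP w
  -- least power of two landing in `X'`
  have hex : ∃ j, w ^ 2 ^ j ∈ X' := ⟨k, by rw [hk]; exact X'.one_mem⟩
  obtain ⟨j, hj, hjm⟩ : ∃ j, w ^ 2 ^ j ∈ X' ∧ ∀ i < j, w ^ 2 ^ i ∉ X' :=
    ⟨Nat.find hex, Nat.find_spec hex, fun i hi => Nat.find_min hex hi⟩
  obtain ⟨i, rfl⟩ : ∃ i, j = i + 1 := by
    cases j with
    | zero => exact absurd (by simpa using hj) hwX
    | succ i => exact ⟨i, rfl⟩
  have hai := hjm i (Nat.lt_succ_self i)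
  have hNi : w ^ 2 ^ i ∈ Subgroup.normalizer (X' : Set P) := Subgroup.pow_mem _ hwN _
  refine ⟨(w ^ 2 ^ i : P), (w ^ 2 ^ i : P).2, ?_, ?_, ?_⟩
  · rw [Subgroup.mem_normalizer_iff] at hNi ⊢
    intro h
    constructor
    · intro hh
      have h1 := (hNi ⟨h, hXP hh⟩).1 (Subgroup.mem_subgroupOf.2 hh)
      exact Subgroup.mem_subgroupOf.1 h1
    · intro hh
      have hhP : h ∈ P := by
        have h2 := P.mul_mem (P.mul_mem (P.inv_mem (w ^ 2 ^ i : P).2) (hXP hh)) (w ^ 2 ^ i : P).2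
        have e : ((w ^ 2 ^ i : P) : G)⁻¹ * (((w ^ 2 ^ i : P) : G) * h * ((w ^ 2 ^ i : P) : G)⁻¹) *
          ((w ^ 2 ^ i : P) : G) = h := by group
        rwa [e] at h2
      have h1 := (hNi ⟨h, hhP⟩).2 (Subgroup.mem_subgroupOf.2 hh)
      exact Subgroup.mem_subgroupOf.1 h1
  · intro h
    exact hai (Subgroup.mem_subgroupOf.2 h)
  · have h1 : (w ^ 2 ^ i) * (w ^ 2 ^ i) ∈ X' := by
      rw [← pow_add, ← two_mul, ← pow_succ']
      exact hj
    exact Subgroup.mem_subgroupOf.1 h1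

/-- adjoining an involution modulo `S` gives a larger 2-group -/
theorem exists_larger_ge [Finite G] (S : Subgroup G) (hS : IsPGroup 2 S) (x : G)
    (hx : x ∈ Subgroup.normalizer (S : Set G)) (hxS : x ∉ S) (hxx : x * x ∈ S) :
    ∃ R : Subgroup G, IsPGroup 2 R ∧ S ≤ R ∧ Nat.card S < Nat.card R ∧
      ∀ r ∈ R, r ∈ S ∨ ∃ s ∈ S, r = x * s := by
  classical
  have hxi : ∀ s ∈ S, x⁻¹ * s * x ∈ S := by
    intro s hs
    have := (Subgroup.mem_normalizer_iff.1 (Subgroup.inv_mem _ hx) s).1 hs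
    rwa [inv_inv] at this
  let R : Subgroup G :=
    { carrier := {r | r ∈ S ∨ ∃ s ∈ S, r = x * s}
      one_mem' := Or.inl S.one_mem
      mul_mem' := by
        rintro a b (ha | ⟨s, hs, rfl⟩) (hb | ⟨t, ht, rfl⟩)
        · exact Or.inl (S.mul_mem ha hb)
        · refine Or.inr ⟨x⁻¹ * a * x * t, S.mul_mem (hxi a ha) ht, ?_⟩
          group
        · exact Or.inr ⟨s * b, S.mul_mem hs hb, by group⟩
        · refine Or.inl ?_
          have : x * s * (x * t) = (x * x) * (x⁻¹ * s * x) * t := by group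
          rw [this]
          exact S.mul_mem (S.mul_mem hxx (hxi s hs)) ht
      inv_mem' := by
        rintro a (ha | ⟨s, hs, rfl⟩)
        · exact Or.inl (S.inv_mem ha)
        · refine Or.inr ⟨(x * x)⁻¹ * (x * s⁻¹ * x⁻¹), ?_, ?_⟩
          · exact S.mul_mem (S.inv_mem hxx)
              ((Subgroup.mem_normalizer_iff.1 hx _).1 (S.inv_mem hs))
          · group }
  refine ⟨R, ?_, fun s hs => Or.inl hs, ?_, fun r hr => hr⟩
  · intro r
    obtain ⟨r, hr⟩ := r
    have hsq : r * r ∈ S := by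
      rcases hr with h | ⟨s, hs, rfl⟩
      · exact S.mul_mem h h
      · have : x * s * (x * s) = (x * x) * (x⁻¹ * s * x) * s := by group
        rw [this]
        exact S.mul_mem (S.mul_mem hxx (hxi s hs)) hs
    obtain ⟨k, hk⟩ := hS ⟨r * r, hsq⟩
    refine ⟨k + 1, ?_⟩
    apply Subtype.ext
    have : (r * r) ^ 2 ^ k = 1 := congrArg Subtype.val hk
    show r ^ 2 ^ (k + 1) = 1
    rw [pow_succ', pow_mul, pow_two, this]
  · have hle : S ≤ R := fun s hs => Or.inl hs
    have hlt : S < R := lt_of_le_of_ne hle (by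
      intro h
      apply hxS
      rw [h]
      exact Or.inr ⟨1, S.one_mem, by group⟩)
    exact Set.ncard_lt_ncard (s := (S : Set G)) (t := (R : Set G)) hlt (Set.toFinite _)

/-- conjugating a 2-subgroup of `C_G(Y)` containing `Y` into `P`, prescribing the fixed point -/
theorem Setup.move [Finite G] {H : Subgroup G} {D : Set G} {Y P : Subgroup G} (h : Setup H D Y P)
    (S : Subgroup G) (hS : IsPGroup 2 S) (hSC : ∀ a ∈ S, ∀ b ∈ Y, a * b = b * a)
    (hYS : Y ≤ S) (g : G) (hg : (QuotientGroup.mk g : G ⧸ H) ∈ Fix H S) :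
    ∃ k : G, (QuotientGroup.mk k : G ⧸ H) = QuotientGroup.mk g ∧
      k ∈ Subgroup.normalizer (Y : Set G) ∧ ∀ s ∈ S, k⁻¹ * s * k ∈ P := by
  rw [mk_mem_Fix] at hg
  obtain ⟨x, hx, hxY⟩ := h.fus g (fun y hy => hg y (hYS hy))
  have hnY : (g * x)⁻¹ ∈ Subgroup.normalizer (Y : Set G) := by
    apply Subgroup.mem_normalizer_fintype
    intro y hy
    have := hxY y hy
    have e : (g * x)⁻¹ * y * ((g * x)⁻¹)⁻¹ = x⁻¹ * (g⁻¹ * y * g) * x := by group
    rw [e]
    exact this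
  have hnY' : g * x ∈ Subgroup.normalizer (Y : Set G) := by
    have := Subgroup.inv_mem _ hnY
    rwa [inv_inv] at this
  let R : Subgroup G := S.map (MulAut.conj (g * x)⁻¹).toMonoidHom
  have hR : IsPGroup 2 R := hS.map _
  have hRmem : ∀ r ∈ R, ∃ s ∈ S, (g * x)⁻¹ * s * (g * x) = r := by
    rintro _ ⟨s, hs, rfl⟩
    refine ⟨s, hs, ?_⟩
    show (g * x)⁻¹ * s * (g * x) = (g * x)⁻¹ * s * ((g * x)⁻¹)⁻¹
    rw [inv_inv]
  obtain ⟨c, hc, hcY, hcR⟩ := h.syl R hR (by
    intro r hr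
    obtain ⟨s, hs, rfl⟩ := hRmem r hr
    have := H.mul_mem (H.mul_mem (H.inv_mem hx) (hg s hs)) hx
    have e : (g * x)⁻¹ * s * (g * x) = x⁻¹ * (g⁻¹ * s * g) * x := by group
    rw [e]
    exact this) (by
    intro r hr b hb
    obtain ⟨s, hs, rfl⟩ := hRmem r hr
    have hb' : (g * x) * b * (g * x)⁻¹ ∈ Y := (Subgroup.mem_normalizer_iff.1 hnY' b).1 hb
    have h1 := hSC s hs _ hb'
    calc (g * x)⁻¹ * s * (g * x) * b = (g * x)⁻¹ * (s * ((g * x) * b * (g * x)⁻¹)) * (g * x) := by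
          group
      _ = _ := by rw [h1]; group)
  refine ⟨g * x * c, ?_, ?_, ?_⟩
  · rw [QuotientGroup.eq]
    have : (g * x * c)⁻¹ * g = c⁻¹ * x⁻¹ := by group
    rw [this]
    exact H.mul_mem (H.inv_mem hc) (H.inv_mem hx)
  · apply Subgroup.mul_mem _ hnY'
    rw [Subgroup.mem_normalizer_iff]
    intro y
    constructor
    · intro hy
      rw [hcY y hy, mul_inv_cancel_right]
      exact hy
    · intro hy
      have h1 := hcY _ hy
      have h2 : y = c * y * c⁻¹ := by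
        calc y = c⁻¹ * (c * y * c⁻¹ * c) := by group
          _ = c⁻¹ * (c * (c * y * c⁻¹)) := by rw [← h1]
          _ = c * y * c⁻¹ := by group
      rw [h2]
      exact hy
  · intro s hs
    have h1 := hcR _ ⟨s, hs, rfl⟩
    have e : (g * x * c)⁻¹ * s * (g * x * c) =
        c⁻¹ * ((MulAut.conj (g * x)⁻¹).toMonoidHom s) * c := by
      show (g * x * c)⁻¹ * s * (g * x * c) = c⁻¹ * ((g * x)⁻¹ * s * ((g * x)⁻¹)⁻¹) * c
      group
    rw [e]
    exact h1

/-- a subgroup fixing two points is `D`-free -/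
theorem Setup.free_of_two {H : Subgroup G} {D : Set G} {Y P : Subgroup G} (h : Setup H D Y P)
    {S : Subgroup G} (hS : Two H S) : ∀ x ∈ S, x ∉ D := by
  intro d hd hdD
  obtain ⟨x, y, hx, hy, hxy⟩ := hS
  exact hxy (h.one d hdD x y (hx d hd) (hy d hd))

/-- The core lemma. -/
theorem Setup.core [Finite G] {H : Subgroup G} {D : Set G} {Y P : Subgroup G} (h : Setup H D Y P)
    (S : Subgroup G) (hS : IsPGroup 2 S) (hSC : ∀ a ∈ S, ∀ b ∈ Y, a * b = b * a)
    (hYS : Y ≤ S) (hS2 : Two H S)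
    (hmax : ∀ R : Subgroup G, IsPGroup 2 R → Y ≤ R → (∀ a ∈ R, ∀ b ∈ Y, a * b = b * a) → Two H R →
      Nat.card R ≤ Nat.card S) :
    (∀ a ∈ Subgroup.normalizer (S : Set G), (∀ b ∈ Y, a * b = b * a) → a ∉ S → a * a ∈ S →
      ∀ a' ∈ Subgroup.normalizer (S : Set G), (∀ b ∈ Y, a' * b = b * a') → a' ∉ S → a' * a' ∈ S →
      ∃ n ∈ Subgroup.normalizer (S : Set G), (∀ b ∈ Y, n * b = b * n) ∧ n * a * n⁻¹ * a'⁻¹ ∈ S) ∧
    (∀ x y, x ∈ Fix H S → y ∈ Fix H S →
      ∃ n ∈ Subgroup.normalizer (S : Set G), (∀ b ∈ Y, n * b = b * n) ∧ n • x = y) ∧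
    Odd (Nat.card {x : G ⧸ H // x ∈ Fix H S}) := by
  classical
  let N : Subgroup G := Subgroup.normalizer (S : Set G) ⊓ Subgroup.centralizer (Y : Set G)
  have hNN : ∀ n : N, (n : G) ∈ Subgroup.normalizer (S : Set G) := fun n => n.2.1
  have hNC : ∀ n : G, n ∈ Subgroup.centralizer (Y : Set G) ↔ ∀ b ∈ Y, n * b = b * n := by
    intro n
    rw [Subgroup.mem_centralizer_iff]
    exact ⟨fun h b hb => (h b hb).symm, fun h b hb => (h b hb).symm⟩
  let S' : Subgroup N := S.subgroupOf N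
  have hnormal : S'.Normal := by
    constructor
    intro n hn g
    rw [Subgroup.mem_subgroupOf] at hn ⊢
    exact (Subgroup.mem_normalizer_iff.1 (hNN g) _).1 hn
  let act : N →* Equiv.Perm {x : G ⧸ H // x ∈ Fix H S} :=
    (actHom H S).comp (Subgroup.inclusion inf_le_left)
  have hact : ∀ (n : N) (x : {x : G ⧸ H // x ∈ Fix H S}), (act n x).1 = (n : G) • x.1 :=
    fun n x => rfl
  have hker : ∀ n ∈ S', act n = 1 := by
    intro n hn
    apply Equiv.ext
    intro x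
    apply Subtype.ext
    rw [hact]
    exact x.2 _ (Subgroup.mem_subgroupOf.1 hn)
  let φ : N ⧸ S' →* Equiv.Perm {x : G ⧸ H // x ∈ Fix H S} := QuotientGroup.lift S' act hker
  have hφ : ∀ (n : N) (x : {x : G ⧸ H // x ∈ Fix H S}),
      (φ (QuotientGroup.mk n) x).1 = (n : G) • x.1 := fun n x => rfl
  have hmk1 : ∀ n : N, (QuotientGroup.mk n : N ⧸ S') = 1 ↔ (n : G) ∈ S := by
    intro n
    rw [QuotientGroup.eq_one_iff, Subgroup.mem_subgroupOf]
  have key := perm_lemma φ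
    (by
      intro k hk1 hk2 d e hd he
      induction k using QuotientGroup.induction_on with
      | H n =>
        have h1 : (n : G) ∉ S := fun h => hk1 ((hmk1 n).2 h)
        have h2 : (n : G) * n ∈ S := (hmk1 (n * n)).1 hk2
        by_contra hde
        obtain ⟨R, hR2, hSR, hRc, hR⟩ := exists_larger_ge S hS n (hNN n) h1 h2
        have := hmax R hR2 (hYS.trans hSR) ?_ ⟨d.1, e.1, ?_, ?_, fun h => hde (Subtype.ext h)⟩
        · omega
        · intro r hr b hb
          rcases hR r hr with h | ⟨s, hs, rfl⟩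
          · exact hSC r h b hb
          · rw [mul_assoc, hSC s hs b hb, ← mul_assoc, (hNC n).1 n.2.2 b hb, mul_assoc]
        · intro r hr
          rcases hR r hr with h | ⟨s, hs, rfl⟩
          · exact d.2 r h
          · have := congrArg Subtype.val hd
            rw [hφ] at this
            rw [mul_smul, d.2 s hs, this]
        · intro r hr
          rcases hR r hr with h | ⟨s, hs, rfl⟩
          · exact e.2 r h
          · have := congrArg Subtype.val he
            rw [hφ] at this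
            rw [mul_smul, e.2 s hs, this])
    (by
      rintro ⟨d, hd⟩
      induction d using QuotientGroup.induction_on with
      | H g =>
        obtain ⟨k, hkg, hkY, hkS⟩ := h.move S hS hSC hYS g hd
        let X : Subgroup G := S.map (MulAut.conj k⁻¹).toMonoidHom
        have hXmem : ∀ x, x ∈ X ↔ k * x * k⁻¹ ∈ S := by
          intro x
          constructor
          · rintro ⟨s, hs, rfl⟩
            have : k * (MulAut.conj k⁻¹).toMonoidHom s * k⁻¹ = s := by simp; group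
            rw [this]
            exact hs
          · intro hx
            exact ⟨_, hx, by simp; group⟩
        have hXP : X ≤ P := by
          rintro _ ⟨s, hs, rfl⟩
          have := hkS s hs
          simpa using this
        have hX2 : Two H X := hS2.conj k⁻¹ (by
          intro r hr
          have := (hXmem r).1 hr
          simpa using this)
        have hXne : X ≠ P := by
          intro hXP'
          obtain ⟨d, hdP, hdD⟩ := h.meet
          exact h.free_of_two hX2 d (hXP' ▸ hdP) hdD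
        obtain ⟨a, haP, haN, haX, haa⟩ := exists_inv_mod X P h.two hXP hXne
        have hN : k * a * k⁻¹ ∈ N := by
          refine ⟨?_, ?_⟩
          · show k * a * k⁻¹ ∈ Subgroup.normalizer (S : Set G)
            rw [Subgroup.mem_normalizer_iff] at haN ⊢
            intro s
            have h1 := haN (k⁻¹ * s * k)
            rw [hXmem, hXmem] at h1
            have e1 : k * (k⁻¹ * s * k) * k⁻¹ = s := by group
            have e2 : k * (a * (k⁻¹ * s * k) * a⁻¹) * k⁻¹ = k * a * k⁻¹ * s * (k * a * k⁻¹)⁻¹ := by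
              group
            rw [e1, e2] at h1
            exact h1
          · show k * a * k⁻¹ ∈ Subgroup.centralizer (Y : Set G)
            rw [hNC]
            intro b hb
            have hb' : k⁻¹ * b * k ∈ Y := by
              have := (Subgroup.mem_normalizer_iff.1 (Subgroup.inv_mem _ hkY) b).1 hb
              rwa [inv_inv] at this
            have h1 := h.PC a haP _ hb'
            calc k * a * k⁻¹ * b = k * (a * (k⁻¹ * b * k)) * k⁻¹ := by group
              _ = b * (k * a * k⁻¹) := by rw [h1]; group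
        refine ⟨QuotientGroup.mk ⟨k * a * k⁻¹, hN⟩, ?_, ?_, ?_⟩
        · intro h1
          exact haX ((hXmem a).2 ((hmk1 _).1 h1))
        · rw [← QuotientGroup.mk_mul, hmk1]
          show k * a * k⁻¹ * (k * a * k⁻¹) ∈ S
          have h1 := (hXmem _).1 haa
          have e : k * a * k⁻¹ * (k * a * k⁻¹) = k * (a * a) * k⁻¹ := by group
          rw [e]
          exact h1
        · apply Subtype.ext
          rw [hφ]
          show (k * a * k⁻¹) • (QuotientGroup.mk g : G ⧸ H) = QuotientGroup.mk g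
          rw [← hkg, smul_mk_eq_iff]
          have e : k⁻¹ * (k * a * k⁻¹) * k = a := by group
          rw [e]
          exact h.PH haP)
    (by
      obtain ⟨x, y, hx, hy, hxy⟩ := hS2
      exact ⟨⟨x, hx⟩, ⟨y, hy⟩, fun h => hxy (congrArg Subtype.val h)⟩)
  obtain ⟨k1, -, k3, k4⟩ := key
  refine ⟨?_, ?_, k4⟩
  · intro a haN haC haS haa b hbN hbC hbS hbb
    obtain ⟨k, hk⟩ := k3 (QuotientGroup.mk ⟨a, haN, (hNC a).2 haC⟩)
      (QuotientGroup.mk ⟨b, hbN, (hNC b).2 hbC⟩)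
      (fun h => haS ((hmk1 _).1 h)) (by rw [← QuotientGroup.mk_mul]; exact (hmk1 _).2 haa)
      (fun h => hbS ((hmk1 _).1 h)) (by rw [← QuotientGroup.mk_mul]; exact (hmk1 _).2 hbb)
    induction k using QuotientGroup.induction_on with
    | H n =>
      refine ⟨n, n.2.1, (hNC _).1 n.2.2, ?_⟩
      have h1 : (QuotientGroup.mk (n * ⟨a, haN, (hNC a).2 haC⟩ * n⁻¹ *
          (⟨b, hbN, (hNC b).2 hbC⟩)⁻¹) : N ⧸ S') = 1 := by
        rw [QuotientGroup.mk_mul, QuotientGroup.mk_mul, QuotientGroup.mk_mul, QuotientGroup.mk_inv,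
          QuotientGroup.mk_inv, hk, mul_inv_cancel]
      exact (hmk1 _).1 h1
  · intro x y hx hy
    obtain ⟨k, hk⟩ := k1 ⟨x, hx⟩ ⟨y, hy⟩
    induction k using QuotientGroup.induction_on with
    | H n =>
      refine ⟨n, n.2.1, (hNC _).1 n.2.2, ?_⟩
      have := congrArg Subtype.val hk
      rwa [hφ] at this

/-- **The step lemma.** -/
theorem Setup.exists_step [Finite G] {H : Subgroup G} {D : Set G} {Y P : Subgroup G}
    (h : Setup H D Y P) (h2 : Two H Y) : ∃ X : Subgroup G, IsStep H D Y P X := by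
  classical
  have hYp : IsPGroup 2 Y := h.two.to_le h.YP
  obtain ⟨S0, ⟨hp, hYS, hSC, hS2⟩, hm⟩ := Set.exists_max_image
    {S : Subgroup G | IsPGroup 2 S ∧ Y ≤ S ∧ (∀ a ∈ S, ∀ b ∈ Y, a * b = b * a) ∧ Two H S}
    (fun S => Nat.card S) (Set.toFinite _) ⟨Y, hYp, le_rfl, h.comm, h2⟩
  obtain ⟨x, hx⟩ : ∃ x : G ⧸ H, x ∈ Fix H S0 := by
    obtain ⟨x, -, hx, -, -⟩ := hS2
    exact ⟨x, hx⟩
  induction x using QuotientGroup.induction_on with
  | H g =>
    obtain ⟨k, hkg, hkY, hkS⟩ := h.move S0 hp hSC hYS g hx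
    let X : Subgroup G := S0.map (MulAut.conj k⁻¹).toMonoidHom
    have hXmem : ∀ x, x ∈ X ↔ k * x * k⁻¹ ∈ S0 := by
      intro x
      constructor
      · rintro ⟨s, hs, rfl⟩
        have : k * (MulAut.conj k⁻¹).toMonoidHom s * k⁻¹ = s := by simp; group
        rw [this]
        exact hs
      · intro hx
        exact ⟨_, hx, by simp; group⟩
    have hXP : X ≤ P := by
      rintro _ ⟨s, hs, rfl⟩
      have := hkS s hs
      simpa using this
    have hX2 : Two H X := hS2.conj k⁻¹ (by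
      intro r hr
      have := (hXmem r).1 hr
      simpa using this)
    have hXp : IsPGroup 2 X := h.two.to_le hXP
    have hYX : Y ≤ X := by
      intro y hy
      rw [hXmem]
      exact hYS ((Subgroup.mem_normalizer_iff.1 hkY y).1 hy)
    have hXC : ∀ a ∈ X, ∀ b ∈ Y, a * b = b * a := fun a ha => h.PC a (hXP ha)
    have hcard : Nat.card X = Nat.card S0 :=
      Nat.card_congr (S0.equivMapOfInjective _ (MulAut.conj k⁻¹).injective).symm.toEquiv
    have hmax : ∀ R : Subgroup G, IsPGroup 2 R → Y ≤ R → (∀ a ∈ R, ∀ b ∈ Y, a * b = b * a) →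
        Two H R → Nat.card R ≤ Nat.card X := by
      intro R h1 h2 h3 h4
      rw [hcard]
      exact hm R ⟨h1, h2, h3, h4⟩
    obtain ⟨c1, c2, c3⟩ := h.core X hXp hXC hYX hX2 hmax
    exact ⟨X, hYX, hXP, h.free_of_two hX2, hX2, c1, c2, c3, hmax⟩

/-- conclusion of a step -/
theorem Setup.not_two [Finite G] {H : Subgroup G} {D : Set G} {Y P : Subgroup G}
    (h : Setup H D Y P) (hall : ∀ X : Subgroup G, IsStep H D Y P X → False) : ¬ Two H Y := by
  intro h2
  obtain ⟨X, hX⟩ := h.exists_step h2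
  exact hall X hX

/-- `X` contains no conjugate of a subgroup fixing at most one point -/
theorem IsStep.not_conj {H : Subgroup G} {D : Set G} {Y P X : Subgroup G}
    (h : IsStep H D Y P X) {Z : Subgroup G} (hZ : ¬ Two H Z) (g : G)
    (hg : ∀ z ∈ Z, g⁻¹ * z * g ∈ X) : False :=
  hZ (h.two.conj g hg)

/-- counting `D`-elements in the cosets of involutions -/
theorem IsStep.card_le [Finite G] {H : Subgroup G} {D : Set G} {Y P X : Subgroup G}
    (h : IsStep H D Y P X) (hD : ∀ d ∈ D, ∀ g : G, g * d * g⁻¹ ∈ D)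
    {a a' : G} (haN : a ∈ Subgroup.normalizer (X : Set G)) (haC : ∀ b ∈ Y, a * b = b * a)
    (haX : a ∉ X) (haa : a * a ∈ X)
    (haN' : a' ∈ Subgroup.normalizer (X : Set G)) (haC' : ∀ b ∈ Y, a' * b = b * a')
    (haX' : a' ∉ X) (haa' : a' * a' ∈ X) :
    Nat.card {x : G // x ∈ X ∧ a * x ∈ D} ≤ Nat.card {x : G // x ∈ X ∧ a' * x ∈ D} := by
  obtain ⟨n, hn, -, hs⟩ := h.conj a haN haC haX haa a' haN' haC' haX' haa'
  have hs' : a'⁻¹ * (n * a * n⁻¹ * a'⁻¹) * a' ∈ X := by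
    have := (Subgroup.mem_normalizer_iff.1 (Subgroup.inv_mem _ haN') _).1 hs
    rwa [inv_inv] at this
  apply Nat.card_le_card_of_injective
    (fun x : {x : G // x ∈ X ∧ a * x ∈ D} =>
      (⟨(a'⁻¹ * (n * a * n⁻¹ * a'⁻¹) * a') * (n * x.1 * n⁻¹), by
        refine ⟨X.mul_mem hs' ((Subgroup.mem_normalizer_iff.1 hn _).1 x.2.1), ?_⟩
        have h1 := hD _ x.2.2 n
        have e : a' * ((a'⁻¹ * (n * a * n⁻¹ * a'⁻¹) * a') * (n * x.1 * n⁻¹)) =
            n * (a * x.1) * n⁻¹ := by group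
        rw [e]
        exact h1⟩ : {x : G // x ∈ X ∧ a' * x ∈ D}))
  intro x y hxy
  have h1 := congrArg Subtype.val hxy
  apply Subtype.ext
  have h2 : n * x.1 * n⁻¹ = n * y.1 * n⁻¹ := mul_left_cancel h1
  exact mul_left_cancel (mul_right_cancel h2)

/-- if the coset `aX` meets `D`, so does `a'X` -/
theorem IsStep.exists_of [Finite G] {H : Subgroup G} {D : Set G} {Y P X : Subgroup G}
    (h : IsStep H D Y P X) (hD : ∀ d ∈ D, ∀ g : G, g * d * g⁻¹ ∈ D)
    {a a' : G} (haN : a ∈ Subgroup.normalizer (X : Set G)) (haC : ∀ b ∈ Y, a * b = b * a)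
    (haX : a ∉ X) (haa : a * a ∈ X)
    (haN' : a' ∈ Subgroup.normalizer (X : Set G)) (haC' : ∀ b ∈ Y, a' * b = b * a')
    (haX' : a' ∉ X) (haa' : a' * a' ∈ X) (hx : ∃ x ∈ X, a * x ∈ D) : ∃ x ∈ X, a' * x ∈ D := by
  have h1 := h.card_le hD haN haC haX haa haN' haC' haX' haa'
  obtain ⟨x, hx, hxD⟩ := hx
  have h2 : 0 < Nat.card {x : G // x ∈ X ∧ a * x ∈ D} :=
    Nat.card_pos_iff.2 ⟨⟨⟨x, hx, hxD⟩⟩, inferInstance⟩
  have h3 : 0 < Nat.card {x : G // x ∈ X ∧ a' * x ∈ D} := lt_of_lt_of_le h2 h1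
  obtain ⟨⟨⟨y, hy, hyD⟩⟩, -⟩ := Nat.card_pos_iff.1 h3
  exact ⟨y, hy, hyD⟩

/-- every coset of an involution of `N_C(X)/X` contains an element of `D` centralising `Y` as soon
as one does -/
theorem IsStep.exists_inv_mod [Finite G] {H : Subgroup G} {D : Set G} {Y P X : Subgroup G}
    (h : IsStep H D Y P X) (hP : IsPGroup 2 P) (hne : X ≠ P) :
    ∃ a ∈ P, a ∈ Subgroup.normalizer (X : Set G) ∧ a ∉ X ∧ a * a ∈ X :=
  Step.exists_inv_mod X P hP h.le' hne

/-- If `T` is a Sylow 2-subgroup of `H` normalising `Y`, then `C_T(Y)` is a Sylow 2-subgroup of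
`C_H(Y)`. -/
theorem syl_of_normal [Finite G] (H T Y : Subgroup G) (hT : IsPGroup 2 T) (hTH : T ≤ H)
    (hTY : T ≤ Subgroup.normalizer (Y : Set G))
    (hsyl : ∀ R : Subgroup G, IsPGroup 2 R → R ≤ H → ∃ c ∈ H, ∀ r ∈ R, c⁻¹ * r * c ∈ T)
    (R : Subgroup G) (hR : IsPGroup 2 R) (hRH : R ≤ H) (hRC : ∀ a ∈ R, ∀ b ∈ Y, a * b = b * a) :
    ∃ c ∈ H, (∀ b ∈ Y, c * b = b * c) ∧
      ∀ r ∈ R, c⁻¹ * r * c ∈ T ⊓ Subgroup.centralizer (Y : Set G) := by
  classical
  have hcard : ∀ R : Subgroup G, IsPGroup 2 R → R ≤ H → Nat.card R ≤ Nat.card T := by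
    intro R hR hRH
    obtain ⟨c, -, hc⟩ := hsyl R hR hRH
    apply Nat.card_le_card_of_injective (fun r : R => (⟨c⁻¹ * r * c, hc r r.2⟩ : T))
    intro a b hab
    have h1 : c⁻¹ * (a : G) * c = c⁻¹ * b * c := congrArg Subtype.val hab
    exact Subtype.ext (mul_left_cancel (mul_right_cancel h1))
  have hCC : ∀ n : G, n ∈ Subgroup.centralizer (Y : Set G) ↔ ∀ b ∈ Y, n * b = b * n := by
    intro n
    rw [Subgroup.mem_centralizer_iff]
    exact ⟨fun h b hb => (h b hb).symm, fun h b hb => (h b hb).symm⟩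
  let N : Subgroup G := H ⊓ Subgroup.normalizer (Y : Set G)
  let C : Subgroup G := H ⊓ Subgroup.centralizer (Y : Set G)
  have hCN : C ≤ N := inf_le_inf_left _ (Subgroup.centralizer_le_normalizer _)
  have hTN : T ≤ N := le_inf hTH hTY
  -- `T` as a Sylow subgroup of `N`
  let TN : Sylow 2 N :=
    { T.subgroupOf N with
      isPGroup' := hT.comap_of_injective _ (Subgroup.subtype_injective N)
      is_maximal' := by
        intro Q hQ hle
        apply le_antisymm _ hle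
        have h1 : Nat.card (Q.map N.subtype) ≤ Nat.card T :=
          hcard _ (hQ.map _) (by
            rintro _ ⟨q, -, rfl⟩
            exact q.2.1)
        have h2 : T ≤ Q.map N.subtype := by
          intro t ht
          exact ⟨⟨t, hTN ht⟩, hle (Subgroup.mem_subgroupOf.2 ht), rfl⟩
        have h3 : T = Q.map N.subtype := Subgroup.eq_of_le_of_card_ge h2 h1
        intro q hq
        show (q : G) ∈ T
        rw [h3]
        exact ⟨q, hq, rfl⟩ }
  -- conjugation within `N`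
  have hN : ∀ Q : Subgroup G, IsPGroup 2 Q → Q ≤ N → ∃ n ∈ N, ∀ q ∈ Q, n⁻¹ * q * n ∈ T := by
    intro Q hQ hQN
    obtain ⟨Q1, hQ1⟩ := (hQ.comap_of_injective _ (Subgroup.subtype_injective N) :
      IsPGroup 2 (Q.subgroupOf N)).exists_le_sylow
    obtain ⟨n, hn⟩ := MulAction.exists_smul_eq N Q1 TN
    refine ⟨(n⁻¹ : N), (n⁻¹ : N).2, ?_⟩
    intro q hq
    have h1 : (⟨q, hQN hq⟩ : N) ∈ Q1 := hQ1 (Subgroup.mem_subgroupOf.2 hq)
    have h2 : n * ⟨q, hQN hq⟩ * n⁻¹ ∈ (TN : Subgroup N) := by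
      rw [← hn]
      exact ⟨_, h1, by simp [MulAut.conj_apply]⟩
    have h3 : ((n * ⟨q, hQN hq⟩ * n⁻¹ : N) : G) ∈ T := h2
    simpa using h3
  -- `T ∩ C` is a Sylow subgroup of `C`
  have hCcard : ∀ Q : Subgroup G, IsPGroup 2 Q → Q ≤ C → Nat.card Q ≤ Nat.card (T ⊓ C : Subgroup G) := by
    intro Q hQ hQC
    obtain ⟨n, hn, hnQ⟩ := hN Q hQ (hQC.trans hCN)
    apply Nat.card_le_card_of_injective (fun r : Q => (⟨n⁻¹ * r * n, hnQ r r.2, ?_, ?_⟩ :
      (T ⊓ C : Subgroup G)))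
    · intro a b hab
      have h1 : n⁻¹ * (a : G) * n = n⁻¹ * b * n := congrArg Subtype.val hab
      exact Subtype.ext (mul_left_cancel (mul_right_cancel h1))
    · exact H.mul_mem (H.mul_mem (H.inv_mem hn.1) (hQC r.2).1) hn.1
    · show n⁻¹ * (r : G) * n ∈ Subgroup.centralizer (Y : Set G)
      rw [hCC]
      intro b hb
      have hb' : n * b * n⁻¹ ∈ Y := (Subgroup.mem_normalizer_iff.1 hn.2 b).1 hb
      have h1 := (hCC _).1 (hQC r.2).2 _ hb'
      calc n⁻¹ * (r : G) * n * b = n⁻¹ * (r * (n * b * n⁻¹)) * n := by group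
        _ = b * (n⁻¹ * r * n) := by rw [h1]; group
  have hTCp : IsPGroup 2 (T ⊓ C : Subgroup G) := hT.to_le inf_le_left
  let TC : Sylow 2 C :=
    { (T ⊓ C).subgroupOf C with
      isPGroup' := hTCp.comap_of_injective _ (Subgroup.subtype_injective C)
      is_maximal' := by
        intro Q hQ hle
        apply le_antisymm _ hle
        have h1 : Nat.card (Q.map C.subtype) ≤ Nat.card (T ⊓ C : Subgroup G) :=
          hCcard _ (hQ.map _) (by
            rintro _ ⟨q, -, rfl⟩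
            exact q.2)
        have h2 : T ⊓ C ≤ Q.map C.subtype := by
          intro t ht
          exact ⟨⟨t, ht.2⟩, hle (Subgroup.mem_subgroupOf.2 ht), rfl⟩
        have h3 : T ⊓ C = Q.map C.subtype := Subgroup.eq_of_le_of_card_ge h2 h1
        intro q hq
        show (q : G) ∈ T ⊓ C
        rw [h3]
        exact ⟨q, hq, rfl⟩ }
  have hRC' : R ≤ C := fun r hr => ⟨hRH hr, (hCC r).2 (hRC r hr)⟩
  obtain ⟨Q1, hQ1⟩ := (hR.comap_of_injective _ (Subgroup.subtype_injective C) :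
    IsPGroup 2 (R.subgroupOf C)).exists_le_sylow
  obtain ⟨n, hn⟩ := MulAction.exists_smul_eq C Q1 TC
  refine ⟨(n⁻¹ : C), (n⁻¹ : C).2.1, (hCC _).1 (n⁻¹ : C).2.2, ?_⟩
  intro q hq
  have h1 : (⟨q, hRC' hq⟩ : C) ∈ Q1 := hQ1 (Subgroup.mem_subgroupOf.2 hq)
  have h2 : n * ⟨q, hRC' hq⟩ * n⁻¹ ∈ (TC : Subgroup C) := by
    rw [← hn]
    exact ⟨_, h1, by simp [MulAut.conj_apply]⟩
  have h3 : ((n * ⟨q, hRC' hq⟩ * n⁻¹ : C) : G) ∈ T ⊓ C := h2
  have h4 : ((n⁻¹ : C) : G)⁻¹ * q * ((n⁻¹ : C) : G) ∈ T ⊓ C := by simpa using h3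
  exact ⟨h4.1, h4.2.2⟩

end Cfsg.Agent.CoThreeStd.Step
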