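import Cfsg.Agent.Lib.CosetPartial

/-!
Coset certificates with pointers (S1750, pattern `Suz:2`): every word of the word table points to a relator,
a rotation and a direction, so the check of the word table is linear. Subgroup words likewise.
-/

set_option autoImplicit false
set_option linter.unusedSectionVars false
set_option linter.unusedVariables false

namespace Cfsg.Agent.CoThreeStd.SuzLib

open Cfsg.Agent.SporadicRecognition.CosetCert Cfsg.Agent.SporadicRecognition.CosetCertHyp
  Cfsg.Agent.SporadicRecognition.CosetChain Cfsg.Agent.Lib.CosetPartial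

/-- pointers: relator, rotation, direction -/
inductive PT where
  | L : Nat → Nat → Bool → PT
  | N : PT → PT → PT

/-- the relator `i` (inverted if `b`) rotated by `m` -/
def rot (inv : Nat → Nat) (rels : List (List Nat)) (i m : Nat) (b : Bool) : List Nat :=
  (bif b then invw inv (rels.getD i []) else rels.getD i []).drop m ++
    (bif b then invw inv (rels.getD i []) else rels.getD i []).take m

def okL (inv : Nat → Nat) (k : Nat) (rels : List (List Nat)) (x : Nat) (w : List Nat) (i m : Nat)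
    (b : Bool) : Bool :=
  Nat.ble x k && (w.all fun y => Nat.blt y k) &&
    (rot inv rels i m b == (bif Nat.beq x k then w else w ++ [inv x]))

def okT (inv : Nat → Nat) (k : Nat) (rels : List (List Nat)) : WT → PT → Bool
  | .L x w, .L i m b => okL inv k rels x w i m b
  | .N _ l r, .N l' r' => okT inv k rels l l' && okT inv k rels r r'
  | _, _ => false

def checkPtr (C : Cert) (rels subw : List (List Nat)) (pt : PT) : Bool :=
  okLetters C.k C.inv rels && okLetters C.k C.inv subw && okT C.inv C.k rels C.words pt &&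
    ST.allB (okSub C.inv C.k subw) C.subs && Nat.blt 0 C.N

section
variable {G : Type*} [Group G] (g : Nat → G)

theorem ev_rot {inv : Nat → Nat} {k : Nat} (hinv : ∀ x, x < k → inv x < k ∧ g x * g (inv x) = 1)
    {rels : List (List Nat)} (hlt : ∀ r ∈ rels, ∀ y ∈ r, y < k) (hrel : ∀ r ∈ rels, ev g r = 1)
    (i m : Nat) (b : Bool) : ev g (rot inv rels i m b) = 1 := by
  have h0 : (∀ y ∈ rels.getD i [], y < k) ∧ ev g (rels.getD i []) = 1 := by
    rw [List.getD_eq_getElem?_getD]
    rcases h : rels[i]? with _ | r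
    · exact ⟨by simp, rfl⟩
    · have := List.mem_of_getElem? h
      exact ⟨hlt r this, hrel r this⟩
  have h1 : ev g (bif b then invw inv (rels.getD i []) else rels.getD i []) = 1 := by
    cases b
    · exact h0.2
    · show ev g (invw inv (rels.getD i [])) = 1
      rw [ev_invw g inv k hinv _ h0.1, h0.2, inv_one]
  unfold rot
  rw [ev_append]
  have h2 : ev g ((bif b then invw inv (rels.getD i []) else rels.getD i []).take m) *
      ev g ((bif b then invw inv (rels.getD i []) else rels.getD i []).drop m) = 1 := by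
    rw [← ev_append, List.take_append_drop, h1]
  exact mul_eq_one_comm.mp h2

theorem okL_sound {inv : Nat → Nat} {k : Nat} (hk : g k = 1)
    (hinv : ∀ x, x < k → inv x < k ∧ g x * g (inv x) = 1)
    {rels : List (List Nat)} (hlt : ∀ r ∈ rels, ∀ y ∈ r, y < k) (hrel : ∀ r ∈ rels, ev g r = 1)
    {x : Nat} {w : List Nat} {i m : Nat} {b : Bool} (h : okL inv k rels x w i m b = true) :
    x ≤ k ∧ (∀ y ∈ w, y ≤ k) ∧ g x = ev g w := by
  unfold okL at h
  rw [Bool.and_eq_true, Bool.and_eq_true] at h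
  obtain ⟨⟨h4, h5⟩, h6⟩ := h
  have h4 : x ≤ k := Nat.le_of_ble_eq_true h4
  have h5 := all_lt h5
  have h7 := ev_rot g hinv hlt hrel i m b
  have h6 := eq_of_beq h6
  refine ⟨h4, fun y hy => (h5 y hy).le, ?_⟩
  rw [h6] at h7
  by_cases hx : Nat.beq x k = true
  · rw [hx] at h7
    have hx' : x = k := Nat.eq_of_beq_eq_true hx
    rw [hx', hk]
    exact h7.symm
  · have hx1 : Nat.beq x k = false := Bool.eq_false_iff.mpr hx
    rw [hx1] at h7
    have hx' : x < k := lt_of_le_of_ne h4 (fun h => hx (by rw [h]; exact Nat.beq_refl _))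
    have h7 : ev g (w ++ [inv x]) = 1 := h7
    rw [ev_append, ev_cons, ev_nil, mul_one] at h7
    have h8 := (hinv x hx').2
    have h9 : g (inv x) = (g x)⁻¹ := (inv_eq_of_mul_eq_one_right h8).symm
    rw [h9] at h7
    exact (mul_inv_eq_one.mp h7).symm

theorem okT_sound {inv : Nat → Nat} {k : Nat} (hk : g k = 1)
    (hinv : ∀ x, x < k → inv x < k ∧ g x * g (inv x) = 1)
    {rels : List (List Nat)} (hlt : ∀ r ∈ rels, ∀ y ∈ r, y < k) (hrel : ∀ r ∈ rels, ev g r = 1) :
    ∀ (T : WT) (pt : PT), okT inv k rels T pt = true →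
      T.All fun x w => x ≤ k ∧ (∀ y ∈ w, y ≤ k) ∧ g x = ev g w
  | .L x w, .L i m b, h => okL_sound g hk hinv hlt hrel (i := i) (m := m) (b := b) h
  | .N m l r, .N l' r', h => by
    have h' : (okT inv k rels l l' && okT inv k rels r r') = true := h
    rw [Bool.and_eq_true] at h'
    exact ⟨okT_sound hk hinv hlt hrel l l' h'.1, okT_sound hk hinv hlt hrel r r' h'.2⟩
  | .L _ _, .N _ _, h => absurd h (by simp [okT])
  | .N _ _ _, .L _ _ _, h => absurd h (by simp [okT])

variable (C : Cert) (H : Subgroup G)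

theorem key {L : List (List Nat)} (hL : okLetters C.k C.inv L = true) :
    (∀ w ∈ L, ∀ y ∈ w, y < C.k) ∧ ∀ x, x < C.k → C.inv x < C.k := by
  unfold okLetters at hL
  rw [Bool.and_eq_true] at hL
  refine ⟨fun w hw y hy => ?_, fun x hx => ?_⟩
  · have := List.all_eq_true.mp hL.1 w hw
    exact Nat.le_of_ble_eq_true (List.all_eq_true.mp this y hy)
  · exact Nat.le_of_ble_eq_true (List.all_eq_true.mp hL.2 x (List.mem_range.mpr hx))

theorem hyp_ptr (rels subw : List (List Nat)) (pt : PT) (h0 : checkPtr C rels subw pt = true)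
    (hinv : ∀ x, x < C.k → g x * g (C.inv x) = 1)
    (hrel : ∀ r ∈ rels, ev g r = 1) (hsub : ∀ s ∈ subw, ev g s ∈ H) : Hyp C H (ext C.k g) := by
  unfold checkPtr at h0
  rw [Bool.and_eq_true, Bool.and_eq_true, Bool.and_eq_true, Bool.and_eq_true] at h0
  obtain ⟨⟨⟨⟨ha, hb⟩, hc⟩, hd⟩, he⟩ := h0
  obtain ⟨ha, hi⟩ := key C ha
  obtain ⟨hb, _⟩ := key C hb
  have hk : ext C.k g C.k = 1 := by simp [ext]
  have hinv' : ∀ x, x < C.k → C.inv x < C.k ∧ ext C.k g x * ext C.k g (C.inv x) = 1 := by
    intro x hx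
    exact ⟨hi x hx, by simpa [ext, hx, hi x hx] using hinv x hx⟩
  have hrel' : ∀ r ∈ rels, ev (ext C.k g) r = 1 := by
    intro r hr
    rw [ev_ext g C.k r (ha r hr)]
    exact hrel r hr
  have hsub' : ∀ s ∈ subw, ev (ext C.k g) s ∈ H := by
    intro s hs
    rw [ev_ext g C.k s (hb s hs)]
    exact hsub s hs
  refine ⟨hk, hinv', okT_sound (ext C.k g) hk hinv' ha hrel' _ pt hc, ?_, Nat.le_of_ble_eq_true he⟩
  refine ST_all_of_allB ?_ hd
  intro x u v h
  unfold okSub at h
  rw [Bool.and_eq_true, Bool.and_eq_true, Bool.and_eq_true] at h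
  obtain ⟨⟨⟨h4, h5⟩, h6⟩, h7⟩ := h
  have h4 : x ≤ C.k := Nat.le_of_ble_eq_true h4
  have h5 := all_lt h5
  have h6 := all_lt h6
  refine ⟨h4, fun y hy => (h5 y hy).le, fun y hy => (h6 y hy).le, ?_⟩
  obtain ⟨s, hs, h8⟩ := List.any_eq_true.mp h7
  have h8 := eq_of_beq h8
  have hs1 : ev (ext C.k g) s ∈ H := by
    rcases List.mem_cons.mp hs with h | h
    · rw [h, ev_nil]; exact H.one_mem
    · exact hsub' s h
  by_cases hx : Nat.beq x C.k = true
  · rw [if_pos hx] at h8
    have hx' : x = C.k := Nat.eq_of_beq_eq_true hx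
    rw [h8, ev_append, ev_invw (ext C.k g) C.inv C.k hinv' v h6] at hs1
    rw [hx', hk, mul_one]
    exact hs1
  · rw [if_neg hx] at h8
    rw [h8, ev_append, ev_cons, ev_invw (ext C.k g) C.inv C.k hinv' v h6] at hs1
    rwa [mul_assoc]

theorem mem_ptr (rels subw targets : List (List Nat)) (pt : PT) (h0 : checkPtr C rels subw pt = true)
    (hinv : ∀ x, x < C.k → g x * g (C.inv x) = 1)
    (hrel : ∀ r ∈ rels, ev g r = 1) (hsub : ∀ s ∈ subw, ev g s ∈ H)
    (hP : PartP C 0 C.N) (ht : okLetters C.k C.inv targets = true)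
    (h1 : okTargets C targets = true) : ∀ w ∈ targets, ev g w ∈ H := by
  obtain ⟨hc, _⟩ := key C ht
  have hyp := hyp_ptr g C H rels subw pt h0 hinv hrel hsub
  intro w hw
  unfold okTargets at h1
  rw [Bool.and_eq_true] at h1
  have h2 := List.all_eq_true.mp h1.2 w hw
  rw [Bool.and_eq_true] at h2
  have h3 := mem_of_walk C H (ext C.k g) hyp hP (Nat.le_of_ble_eq_true h1.1)
    (fun x hx => (hc w hw x hx).le) (Nat.eq_of_beq_eq_true h2.2)
  rwa [ev_ext g C.k w (hc w hw)] at h3

theorem card_ptr (rels subw : List (List Nat)) (pt : PT) (h0 : checkPtr C rels subw pt = true)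
    (hinv : ∀ x, x < C.k → g x * g (C.inv x) = 1)
    (hrel : ∀ r ∈ rels, ev g r = 1) (hsub : ∀ s ∈ subw, ev g s ∈ H)
    {n : Nat} (hP : Part C 0 C.N n) (hfin : Finite H) :
    Finite (Subgroup.closure (g '' {x | x < C.k})) ∧
      Nat.card (Subgroup.closure (g '' {x | x < C.k})) ≤ n * Nat.card H := by
  have := card_closure_le C H (ext C.k g) (hyp_ptr g C H rels subw pt h0 hinv hrel hsub) hP
  have h2 : ext C.k g '' {x | x < C.k} = g '' {x | x < C.k} :=
    Set.image_congr fun x hx => by
      show ext C.k g x = g x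
      unfold ext
      exact if_pos hx
  rwa [h2] at this

end

end Cfsg.Agent.CoThreeStd.SuzLib
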