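import Cfsg.Agent.CoThreeStd.SylTabs
import Cfsg.Agent.CoThreeStd.SylLem
import Cfsg.Agent.CoThreeStd.HFacts

/-!
# The Sylow 2-subgroup `S` of `G3` and its normal subgroups `W`, `Y3`, `K3`
-/

set_option autoImplicit false

namespace Cfsg.Agent.CoThreeStd.SylGrp

open Cfsg.Agent.LeechPack.X552 Cfsg.Agent.CoThreeStd.Model Cfsg.Agent.CoThreeStd.SylData
  Cfsg.Agent.CoThreeStd.SylTabs Cfsg.Agent.CoThreeStd.HFacts

/-! ### Conjugation -/

section conj

variable {K : Type*} [Group K]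

theorem cc (h k x : K) : (h * k)⁻¹ * x * (h * k) = k⁻¹ * (h⁻¹ * x * h) * k := by group

theorem c_mul (h a b : K) : h⁻¹ * (a * b) * h = (h⁻¹ * a * h) * (h⁻¹ * b * h) := by group

theorem c_inj {h a b : K} (e : h⁻¹ * a * h = h⁻¹ * b * h) : a = b :=
  mul_left_cancel (mul_right_cancel e)

theorem c_one (h : K) : h⁻¹ * 1 * h = 1 := by group

theorem c_eq_one {h a : K} : h⁻¹ * a * h = 1 ↔ a = 1 :=
  ⟨fun e => c_inj (e.trans (c_one h).symm), fun e => by rw [e, c_one]⟩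

theorem c_comm {a b : K} (h : K) (e : a * b = b * a) :
    (h⁻¹ * a * h) * (h⁻¹ * b * h) = (h⁻¹ * b * h) * (h⁻¹ * a * h) := by
  rw [← c_mul, ← c_mul, e]

theorem c_comm_iff {a b : K} (h : K) :
    (h⁻¹ * a * h) * (h⁻¹ * b * h) = (h⁻¹ * b * h) * (h⁻¹ * a * h) ↔ a * b = b * a := by
  rw [← c_mul, ← c_mul]
  exact ⟨fun e => c_inj e, fun e => by rw [e]⟩

theorem c_back (h x : K) : h⁻¹ * (h * x * h⁻¹) * h = x := by group

theorem isConj_c {t x : K} (h : K) : IsConj t (h⁻¹ * x * h) ↔ IsConj t x := by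
  have h1 : IsConj x (h⁻¹ * x * h) := by
    rw [isConj_iff]
    exact ⟨h⁻¹, by rw [inv_inv]⟩
  exact ⟨fun h2 => h2.trans h1.symm, fun h2 => h2.trans h1⟩

theorem nd_c {t x : K} (h : K) : Nd t (h⁻¹ * x * h) ↔ Nd t x := by
  unfold Nd
  rw [isConj_c, ← c_mul, c_eq_one, Ne, c_eq_one]

end conj

/-! ### Indices -/

theorem Φ_sq {i : ℕ} (hi : i < 1024) : Φ i * Φ i = Φ (lk SQ i) := by
  rw [Φ_mul i i hi, Nat.eq_of_beq_eq_true (allB_spec SQ_chk i hi)]

theorem Φ_eq_one {i : ℕ} (hi : i < 1024) (h : Φ i = 1) : i = 0 :=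
  Φ_inj hi (by norm_num) (h.trans Φ_zero.symm)

theorem com_iff {i j : ℕ} (hi : i < 1024) (hj : j < 1024) :
    com i j = true ↔ Φ i * Φ j = Φ j * Φ i := by
  rw [Φ_mul i j hj, Φ_mul j i hi]
  constructor
  · intro h
    rw [Nat.eq_of_beq_eq_true h]
  · intro h
    have := Φ_inj (mulS_lt i j hj) (mulS_lt j i hi) h
    unfold com
    rw [this]
    exact Nat.beq_refl _

theorem cjc_spec {i j : ℕ} {w : List ℕ} (h : cjc i w j = true) : (wd w)⁻¹ * Φ i * wd w = Φ j := by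
  have key : ∀ b : Fin 552, Nat.beq (fr (evW w b) (appX i)) (evW w (appX j b)) = true →
      ψ (Φ i * wd w) b = ψ (wd w * Φ j) b := by
    intro b hb
    rw [fr_eq] at hb
    apply Fin.ext
    rw [map_mul, map_mul, Equiv.Perm.mul_apply, Equiv.Perm.mul_apply, ψ_Φ, ψ_wd, ψ_wd, ψ_Φ]
    exact Nat.eq_of_beq_eq_true hb
  have h1 := faL_spec h
  have h2 : Φ i * wd w = wd w * Φ j := by
    apply BaseSix.eq_of_base
    · exact key 120 (h1 120 (by simp))
    · exact key 462 (h1 462 (by simp))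
    · exact key 5 (h1 5 (by simp))
    · exact key 183 (h1 183 (by simp))
    · exact key 387 (h1 387 (by simp))
    · exact key 0 (h1 0 (by simp))
  rw [mul_assoc, h2]
  group

/-! ### Subgroups of `S` -/

/-- The products `Φ i` with `P i`. -/
def smOf (P : ℕ → Prop) (h0 : P 0) (hm : ∀ i j, i < 1024 → j < 1024 → P i → P j → P (mulS i j)) :
    Submonoid G3 where
  carrier := {g | ∃ i, i < 1024 ∧ P i ∧ g = Φ i}
  one_mem' := ⟨0, by norm_num, h0, Φ_zero.symm⟩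
  mul_mem' := by
    rintro _ _ ⟨i, hi, hi', rfl⟩ ⟨j, hj, hj', rfl⟩
    exact ⟨mulS i j, mulS_lt i j hj, hm i j hi hj hi' hj', Φ_mul i j hj⟩

/-- The subgroup of the products `Φ i` with `P i`. -/
def subOf (P : ℕ → Prop) (h0 : P 0) (hm : ∀ i j, i < 1024 → j < 1024 → P i → P j → P (mulS i j)) :
    Subgroup G3 :=
  { smOf P h0 hm with
    inv_mem' := by
      intro g hg
      have h1 : g⁻¹ ∈ Submonoid.powers g := by
        rw [(isOfFinOrder_of_finite g).mem_powers_iff_mem_zpowers]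
        exact Subgroup.inv_mem _ (Subgroup.mem_zpowers g)
      exact (Submonoid.powers_le (P := smOf P h0 hm)).2 hg h1 }

theorem mem_subOf {P : ℕ → Prop} {h0 : P 0}
    {hm : ∀ i j, i < 1024 → j < 1024 → P i → P j → P (mulS i j)} {g : G3} :
    g ∈ subOf P h0 hm ↔ ∃ i, i < 1024 ∧ P i ∧ g = Φ i := Iff.rfl

/-- The Sylow 2-subgroup. -/
def S : Subgroup G3 := subOf (fun _ => True) trivial fun _ _ _ _ _ _ => trivial

theorem mem_S {g : G3} : g ∈ S ↔ ∃ i, i < 1024 ∧ g = Φ i := by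
  constructor
  · rintro ⟨i, hi, -, rfl⟩
    exact ⟨i, hi, rfl⟩
  · rintro ⟨i, hi, rfl⟩
    exact ⟨i, hi, trivial, rfl⟩

theorem Φ_S {i : ℕ} (hi : i < 1024) : Φ i ∈ S := ⟨i, hi, trivial, rfl⟩

theorem card_S : Nat.card S = 2 ^ 10 := by
  have e : Fin 1024 ≃ S := Equiv.ofBijective (fun i => ⟨Φ i, Φ_S i.2⟩) (by
    constructor
    · intro i j h
      exact Fin.ext (Φ_inj i.2 j.2 (congrArg Subtype.val h))
    · rintro ⟨g, hg⟩
      obtain ⟨i, hi, rfl⟩ := mem_S.1 hg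
      exact ⟨⟨i, hi⟩, rfl⟩)
  rw [← Nat.card_congr e, Nat.card_eq_fintype_card, Fintype.card_fin]
  norm_num

theorem syl' : IsPGroup 2 S ∧ ∀ R : Subgroup G3, IsPGroup 2 R → ∃ c : G3, ∀ r ∈ R, c⁻¹ * r * c ∈ S :=
  SylLem.syl_of_card (n := 10) (m := 484147125) card_S (by rw [card_G3]; norm_num) (by norm_num)

theorem two_S : IsPGroup 2 S := syl'.1

theorem conj_rep {i : ℕ} (hi : i < 1024) : ∃ s ∈ S, s⁻¹ * Φ i * s = Φ (lk RH i) := by
  have h1 := allB_spec RH_chk i hi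
  rw [fr_eq, fr_eq] at h1
  have h2 : Φ (lk RH i) * Φ (lk CO i) = Φ (lk CO i) * Φ i := by
    rw [Φ_mul _ _ (lk_lt _ _), Φ_mul _ _ hi, Nat.eq_of_beq_eq_true h1]
  refine ⟨(Φ (lk CO i))⁻¹, S.inv_mem (Φ_S (lk_lt _ _)), ?_⟩
  rw [inv_inv, ← h2]
  group

theorem clo_spec {n c : ℕ} (h : clo n c = true) (hn : n * c = 1024) {i j : ℕ} (hi : i < 1024)
    (hj : j < 1024) (hi' : i % n = 0) (hj' : j % n = 0) : mulS i j % n = 0 := by
  have hn0 : 0 < n := by
    rcases Nat.eq_zero_or_pos n with h0 | h0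
    · subst h0; omega
    · exact h0
  obtain ⟨a, rfl⟩ := Nat.dvd_of_mod_eq_zero hi'
  obtain ⟨b, rfl⟩ := Nat.dvd_of_mod_eq_zero hj'
  have ha : a < c := by
    by_contra h1
    have := Nat.mul_le_mul_left n (Nat.le_of_not_lt h1)
    omega
  have hb : b < c := by
    by_contra h1
    have := Nat.mul_le_mul_left n (Nat.le_of_not_lt h1)
    omega
  exact Nat.eq_of_beq_eq_true (allB_spec (allB_spec h a ha) b hb)

/-- The subgroup of the multiples of `n`. -/
def sub (n c : ℕ) (h : clo n c = true) (hn : n * c = 1024) : Subgroup G3 :=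
  subOf (fun i => i % n = 0) (Nat.zero_mod n) fun _ _ hi hj hi' hj' => clo_spec h hn hi hj hi' hj'

theorem Φ_mem_sub {n c : ℕ} {h : clo n c = true} {hn : n * c = 1024} {i : ℕ} (hi : i < 1024) :
    Φ i ∈ sub n c h hn ↔ i % n = 0 := by
  constructor
  · rintro ⟨j, hj, hj', e⟩
    rw [Φ_inj hi hj e]
    exact hj'
  · intro h'
    exact ⟨i, hi, h', rfl⟩

theorem card_sub_le {n c : ℕ} {h : clo n c = true} {hn : n * c = 1024} (hc : 0 < c) :
    Nat.card (sub n c h hn) ≤ c := by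
  have h1 : Function.Surjective (fun a : Fin c => (⟨Φ (n * a), by
      have ha := a.2
      have : n * a < n * c := by
        apply Nat.mul_lt_mul_of_pos_left ha
        rcases Nat.eq_zero_or_pos n with h0 | h0
        · subst h0; omega
        · exact h0
      exact (Φ_mem_sub (by omega)).2 (Nat.mul_mod_right n a)⟩ : sub n c h hn)) := by
    rintro ⟨g, i, hi, hi', rfl⟩
    obtain ⟨a, rfl⟩ := Nat.dvd_of_mod_eq_zero hi'
    have ha : a < c := by
      by_contra h1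
      have := Nat.mul_le_mul_left n (Nat.le_of_not_lt h1)
      omega
    exact ⟨⟨a, ha⟩, rfl⟩
  have h2 := Nat.card_le_card_of_surjective _ h1
  rwa [Nat.card_fin] at h2

/-- `W` -/
def W : Subgroup G3 := sub 256 4 clo_W rfl

/-- `Y3` -/
def Y3 : Subgroup G3 := sub 128 8 clo_Y3 rfl

/-- `K3` -/
def K3 : Subgroup G3 := sub 16 64 clo_K3 rfl

theorem Φ_W {i : ℕ} (hi : i < 1024) : Φ i ∈ W ↔ i % 256 = 0 := Φ_mem_sub hi
theorem Φ_Y3 {i : ℕ} (hi : i < 1024) : Φ i ∈ Y3 ↔ i % 128 = 0 := Φ_mem_sub hi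
theorem Φ_K3 {i : ℕ} (hi : i < 1024) : Φ i ∈ K3 ↔ i % 16 = 0 := Φ_mem_sub hi

theorem mem_W' {g : G3} : g ∈ W ↔ ∃ i, i < 1024 ∧ i % 256 = 0 ∧ g = Φ i := Iff.rfl
theorem mem_Y3' {g : G3} : g ∈ Y3 ↔ ∃ i, i < 1024 ∧ i % 128 = 0 ∧ g = Φ i := Iff.rfl
theorem mem_K3' {g : G3} : g ∈ K3 ↔ ∃ i, i < 1024 ∧ i % 16 = 0 ∧ g = Φ i := Iff.rfl

theorem card_W : Nat.card W ≤ 4 := card_sub_le (by norm_num)
theorem card_Y3 : Nat.card Y3 ≤ 8 := card_sub_le (by norm_num)

theorem W_S : W ≤ S := by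
  rintro _ ⟨i, hi, -, rfl⟩
  exact Φ_S hi

theorem Y3_S : Y3 ≤ S := by
  rintro _ ⟨i, hi, -, rfl⟩
  exact Φ_S hi

theorem K3_S : K3 ≤ S := by
  rintro _ ⟨i, hi, -, rfl⟩
  exact Φ_S hi

theorem W_Y3 : W ≤ Y3 := by
  rintro _ ⟨i, hi, hi', rfl⟩
  exact (Φ_Y3 hi).2 (by omega)

theorem Y3_K3 : Y3 ≤ K3 := by
  rintro _ ⟨i, hi, hi', rfl⟩
  exact (Φ_K3 hi).2 (by omega)

theorem sub_W : W = sub 256 4 clo_W rfl := rfl

/-- Products of elements of `N` lie in `N`. -/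
theorem Φ_mem {N : Subgroup G3} (h0 : wd w0 ∈ N) (h1 : wd w1 ∈ N) (h2 : wd w2 ∈ N) (h3 : wd w3 ∈ N)
    (h4 : wd w4 ∈ N) (h5 : wd w5 ∈ N) (h6 : wd w6 ∈ N) (h7 : wd w7 ∈ N) (h8 : wd w8 ∈ N)
    (h9 : wd w9 ∈ N) (i : ℕ) : Φ i ∈ N := by
  have hp : ∀ (k : ℕ) (g : G3), g ∈ N → pw i k g ∈ N := by
    intro k g hg
    unfold pw
    cases Nat.land (Nat.shiftRight i k) 1 with
    | zero => exact N.one_mem
    | succ n => exact hg
  unfold Φ
  exact N.mul_mem (hp _ _ h0) (N.mul_mem (hp _ _ h1) (N.mul_mem (hp _ _ h2) (N.mul_mem (hp _ _ h3)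
    (N.mul_mem (hp _ _ h4) (N.mul_mem (hp _ _ h5) (N.mul_mem (hp _ _ h6) (N.mul_mem (hp _ _ h7)
    (N.mul_mem (hp _ _ h8) (N.mul_mem (hp _ _ h9) N.one_mem)))))))))

theorem gen_eq {w : List ℕ} {t L x : ℕ} (hw : allB (fun x => Nat.beq (evW w x) (lk t x)) 552 = true)
    (hL : lChk t L = true) (hx : Nat.beq (lk L 0) x = true) : wd w = Φ x := by
  have h1 := mul_Φ_of (of_chk hw) hL 0 (by norm_num)
  rw [Φ_zero, mul_one] at h1
  rw [h1, Nat.eq_of_beq_eq_true hx]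

theorem nor_spec {n c : ℕ} {hc : clo n c = true} {hn : n * c = 1024} {w : List ℕ} {t L x y : ℕ}
    (hw : allB (fun x => Nat.beq (evW w x) (lk t x)) 552 = true) (hL : lChk t L = true)
    (hx : Nat.beq (lk L 0) x = true) (hy : y < 1024) (h : nor n c L x y = true) :
    wd w ∈ Subgroup.normalizer ((sub n c hc hn : Subgroup G3) : Set G3) := by
  obtain ⟨h1, h2⟩ := an_spec h
  have h3 : Φ x * Φ y = 1 := by
    rw [Φ_mul x y hy, Nat.eq_of_beq_eq_true h1, Φ_zero]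
  have h4 : (wd w)⁻¹ = Φ y := by
    rw [gen_eq hw hL hx]
    exact inv_eq_of_mul_eq_one_right h3
  apply Subgroup.mem_normalizer_fintype
  rintro _ ⟨i, hi, hi', rfl⟩
  obtain ⟨a, rfl⟩ := Nat.dvd_of_mod_eq_zero hi'
  have ha : a < c := by
    by_contra h1
    have := Nat.mul_le_mul_left n (Nat.le_of_not_lt h1)
    omega
  have h5 : mulS (lk L (n * a)) y % n = 0 := Nat.eq_of_beq_eq_true (allB_spec h2 a ha)
  rw [mul_Φ_of (of_chk hw) hL _ hi, h4, Φ_mul _ _ hy]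
  exact ⟨_, mulS_lt _ _ hy, h5, rfl⟩

theorem S_W : S ≤ Subgroup.normalizer (W : Set G3) := by
  intro g hg
  obtain ⟨i, hi, rfl⟩ := mem_S.1 hg
  apply Φ_mem
  · exact nor_spec xt0_chk L0_chk (x := 1) (by decide +kernel) (by norm_num) nor_W_0
  · exact nor_spec xt1_chk L1_chk (x := 2) (by decide +kernel) (by norm_num) nor_W_1
  · exact nor_spec xt2_chk L2_chk (x := 4) (by decide +kernel) (by norm_num) nor_W_2
  · exact nor_spec xt3_chk L3_chk (x := 8) (by decide +kernel) (by norm_num) nor_W_3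
  · exact nor_spec xt4_chk L4_chk (x := 16) (by decide +kernel) (by norm_num) nor_W_4
  · exact nor_spec xt5_chk L5_chk (x := 32) (by decide +kernel) (by norm_num) nor_W_5
  · exact nor_spec xt6_chk L6_chk (x := 64) (by decide +kernel) (by norm_num) nor_W_6
  · exact nor_spec xt7_chk L7_chk (x := 128) (by decide +kernel) (by norm_num) nor_W_7
  · exact nor_spec xt8_chk L8_chk (x := 256) (by decide +kernel) (by norm_num) nor_W_8
  · exact nor_spec xt9_chk L9_chk (x := 512) (by decide +kernel) (by norm_num) nor_W_9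

theorem S_Y3 : S ≤ Subgroup.normalizer (Y3 : Set G3) := by
  intro g hg
  obtain ⟨i, hi, rfl⟩ := mem_S.1 hg
  apply Φ_mem
  · exact nor_spec xt0_chk L0_chk (x := 1) (by decide +kernel) (by norm_num) nor_Y3_0
  · exact nor_spec xt1_chk L1_chk (x := 2) (by decide +kernel) (by norm_num) nor_Y3_1
  · exact nor_spec xt2_chk L2_chk (x := 4) (by decide +kernel) (by norm_num) nor_Y3_2
  · exact nor_spec xt3_chk L3_chk (x := 8) (by decide +kernel) (by norm_num) nor_Y3_3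
  · exact nor_spec xt4_chk L4_chk (x := 16) (by decide +kernel) (by norm_num) nor_Y3_4
  · exact nor_spec xt5_chk L5_chk (x := 32) (by decide +kernel) (by norm_num) nor_Y3_5
  · exact nor_spec xt6_chk L6_chk (x := 64) (by decide +kernel) (by norm_num) nor_Y3_6
  · exact nor_spec xt7_chk L7_chk (x := 128) (by decide +kernel) (by norm_num) nor_Y3_7
  · exact nor_spec xt8_chk L8_chk (x := 256) (by decide +kernel) (by norm_num) nor_Y3_8
  · exact nor_spec xt9_chk L9_chk (x := 512) (by decide +kernel) (by norm_num) nor_Y3_9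

theorem S_K3 : S ≤ Subgroup.normalizer (K3 : Set G3) := by
  intro g hg
  obtain ⟨i, hi, rfl⟩ := mem_S.1 hg
  apply Φ_mem
  · exact nor_spec xt0_chk L0_chk (x := 1) (by decide +kernel) (by norm_num) nor_K3_0
  · exact nor_spec xt1_chk L1_chk (x := 2) (by decide +kernel) (by norm_num) nor_K3_1
  · exact nor_spec xt2_chk L2_chk (x := 4) (by decide +kernel) (by norm_num) nor_K3_2
  · exact nor_spec xt3_chk L3_chk (x := 8) (by decide +kernel) (by norm_num) nor_K3_3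
  · exact nor_spec xt4_chk L4_chk (x := 16) (by decide +kernel) (by norm_num) nor_K3_4
  · exact nor_spec xt5_chk L5_chk (x := 32) (by decide +kernel) (by norm_num) nor_K3_5
  · exact nor_spec xt6_chk L6_chk (x := 64) (by decide +kernel) (by norm_num) nor_K3_6
  · exact nor_spec xt7_chk L7_chk (x := 128) (by decide +kernel) (by norm_num) nor_K3_7
  · exact nor_spec xt8_chk L8_chk (x := 256) (by decide +kernel) (by norm_num) nor_K3_8
  · exact nor_spec xt9_chk L9_chk (x := 512) (by decide +kernel) (by norm_num) nor_K3_9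

/-- `t` is the letter `m 0`. -/
theorem t_eq : Φ 8 = m 0 := by
  rw [← gen_eq (w := w3) xt3_chk L3_chk (x := 8) (by decide +kernel)]
  simp [wd, w3, mm]

/-- `y` is the letter `m 1`. -/
theorem y_eq : Φ 4 = m 1 := by
  rw [← gen_eq (w := w2) xt2_chk L2_chk (x := 4) (by decide +kernel)]
  simp [wd, w2, mm]

/-- `v` is the word `p r`. -/
theorem v_eq : Φ 512 = m 2 * m 4 := by
  rw [← gen_eq (w := w9) xt9_chk L9_chk (x := 512) (by decide +kernel)]
  simp [wd, w9, mm]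

end Cfsg.Agent.CoThreeStd.SylGrp
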