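import Cfsg.Agent.CoThreeStd.SylData

/-!
# A Sylow 2-subgroup of `G3`: conjugacy classes and the tables behind the facts

Kernel checks on the index model `mulS` of the Sylow 2-subgroup; `HInst.lean` turns them into `HFacts.Facts G3`.
-/

set_option autoImplicit false
set_option maxRecDepth 20000

namespace Cfsg.Agent.CoThreeStd.SylTabs

open Cfsg.Agent.SporadicStructure.PermChain Cfsg.Agent.LeechPack.X552 Cfsg.Agent.CoThreeStd.Gens
  Cfsg.Agent.CoThreeStd.Model Cfsg.Agent.CoThreeStd.SylData

/-- Boolean implication. -/
noncomputable def imp (a b : Bool) : Bool := Bool.rec (motive := fun _ => Bool) true b a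

theorem imp_spec {a b : Bool} (h : imp a b = true) (ha : a = true) : b = true := by
  rw [ha] at h; exact h

/-- Boolean conjunction, lazy. -/
noncomputable def an (a b : Bool) : Bool := Bool.rec (motive := fun _ => Bool) false b a

theorem an_spec {a b : Bool} (h : an a b = true) : a = true ∧ b = true := by
  cases a with
  | false => exact absurd (show false = true from h) Bool.false_ne_true
  | true => exact ⟨rfl, h⟩

theorem an_intro {a b : Bool} (ha : a = true) (hb : b = true) : an a b = true := by
  rw [ha]; exact hb

/-- Boolean disjunction, lazy. -/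
noncomputable def or2 (a b : Bool) : Bool := Bool.rec (motive := fun _ => Bool) b true a

theorem or2_spec {a b : Bool} (h : or2 a b = true) : a = true ∨ b = true := by
  cases a with
  | false => exact Or.inr h
  | true => exact Or.inl rfl

/-- Boolean negation. -/
noncomputable def nt (a : Bool) : Bool := Bool.rec (motive := fun _ => Bool) true false a

theorem nt_spec {a : Bool} (h : nt a = true) : a = false := by
  cases a with
  | false => rfl
  | true => exact absurd (show false = true from h) Bool.false_ne_true

theorem nt_intro {a : Bool} (h : a = false) : nt a = true := by rw [h]; rfl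

/-- some element of the list satisfies `p` -/
noncomputable def exL {α : Type} (p : α → Bool) (l : List α) : Bool :=
  List.rec (motive := fun _ => Bool) false (fun a _ ih => or2 (p a) ih) l

theorem exL_spec {α : Type} {p : α → Bool} : ∀ {l : List α}, exL p l = true → ∃ a ∈ l, p a = true
  | [], h => absurd (show false = true from h) Bool.false_ne_true
  | a :: l, h => by
    rcases or2_spec (show or2 (p a) (exL p l) = true from h) with h1 | h1
    · exact ⟨a, List.mem_cons_self, h1⟩
    · obtain ⟨b, hb, h2⟩ := exL_spec h1
      exact ⟨b, List.mem_cons_of_mem _ hb, h2⟩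

/-- all elements of the list satisfy `p` -/
noncomputable def faL {α : Type} (p : α → Bool) (l : List α) : Bool :=
  List.rec (motive := fun _ => Bool) true (fun a _ ih => an (p a) ih) l

theorem faL_spec {α : Type} {p : α → Bool} : ∀ {l : List α}, faL p l = true → ∀ a ∈ l, p a = true
  | [], _, a, ha => absurd ha List.not_mem_nil
  | b :: l, h, a, ha => by
    obtain ⟨h1, h2⟩ := an_spec (show an (p b) (faL p l) = true from h)
    rcases List.mem_cons.1 ha with rfl | h3
    · exact h1
    · exact faL_spec h2 a h3

/-! ### Basic tables -/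

/-- Squares. -/
def SQ : ℕ := 0xd92a0e01c0a916010000f902000040091e07038091200703009100030000d110030000d130070300292a0900c01906020000c9120b0040791e0802806120080200a110000000e1000000002130080200d90a0601c0a9360900007902000240891e07018091000f030091200b000051100302005130070100290a0100c019260a000049120b0240f91e0800806100000200a1300800006100000200a130080000993a0603c06926010000b912080240c92e070380d1300f0100513003000091000b02001100070300693a0102c0d9360200008902030240b92e08028021300000006120000000a110080200e100080200991a0e03c069060900003912080040492e070180d11007010051100b000011000b00009100070100691a0902c0d9160a00000902030040392e0800802110080000610008000021100800006100080000592a0601c029160900007902080040891e0f038011200f030011000b000051100b000051300f0300a92a0100c099060a00004912030040f91e000280e12000020021100800006100080000a130000200590a0e01c02936010000f902080240091e0f018011000703001120030000d1100b0200d1300f0100a90a0900c09926020000c912030240791e000080e1000802002130000000e1000802002130000000193a0e03c0e9260900003912000240492e0f03805130070100d1300b0000110003020091000f0300e93a090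2c059360a000009020b0240392e000280a130080000e12008000021100002006100000200191a0603c0e906010000b912000040c92e0f018051100f0100d110030000910003000011000f0100e91a0102c0591602000089020b0040b92e000080a110000000e100000000a110000000e100000000d92a0e01c0a916010000f902000040091e07038091200703009100030000d110030000d130070300292a0900c01906020000c9120b0040791e0802806120080200a110000000e1000000002130080200d90a0601c0a9360900007902000240891e07018091000f030091200b000051100302005130070100290a0100c019260a000049120b0240f91e0800806100000200a1300800006100000200a130080000993a0603c06926010000b912080240c92e070380d1300f0100513003000091000b02001100070300693a0102c0d9360200008902030240b92e08028021300000006120000000a110080200e100080200991a0e03c069060900003912080040492e070180d11007010051100b000011000b00009100070100691a0902c0d9160a00000902030040392e0800802110080000610008000021100800006100080000592a0601c029160900007902080040891e0f038011200f030011000b000051100b000051300f0300a92a0100c099060a00004912030040f91e000280e12000020021100800006100080000a130000200590a0e01c02936010000f902080240091e0f018011000703001120030000d1100b0200d1300f0100a90a0900c09926020000c912030240791e000080e1000802002130000000e1000802002130000000193a0e03c0e9260900003912000240492e0f03805130070100d1300b0000110003020091000f0300e93a0902c059360a000009020b0240392e000280a130080000e12008000021100002006100000200191a0603c0e906010000b912000040c92e0f018051100f0100d110030000910003000011000f0100e91a0102c0591602000089020b0040b92e000080a110000000e100000000a110000000e100000000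
theorem SQ_chk : allB (fun i => Nat.beq (mulS i i) (lk SQ i)) 1024 = true := by decide +kernel

/-- Representatives of the classes. -/
def RH : ℕ := 0x6c3a0643c06c3a0e41804c120441404c120545002c4a0b42c03c0a0a42801c460842400c06084e006c3a0e43c06c3a0641804c120541404c122d4b003c4a1258c02c2a0244801c220040400c46214c006c3a0643c06c1a0e41804c120441404c120545003c0a0a42c02c4a0b42800c060846401c460846006c3a0e43c06c1a0641804c120541404c122d4b002c0a0258c03c0e1240800c020044401c062148006c1a0641c06c3a0741804c122d41404c12054b003c2a0a42c02c6a0b42800c220846401c020846006c1a0e43c06c1a0641804c120541404c122d4b002c2a0240c03c4a0344800c462144401c222154006c3a0641c06c3a0741804c122d41404c12054b002c6a0b42c03c2a0a42801c020842400c22084e006c3a0e43c06c1a0641804c120541404c122d4b003c6a1240c02c0a1340801c062140400c022150006c3a0641c06c1a0741804c122d41404c12054b002c4a0b42c03c0a0a42801c460842400c060842006c3a0741c06c1a0641804c120541404c120445003c4a0348c02c2a1344801c222140400c46004c006c3a0641c06c3a0741804c122d41404c12054b003c0a0a42c02c4a0b42800c060846401c460846006c3a0741c06c3a0641804c120541404c120445002c0a1348c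03c6a0340800c022144401c060048006c1a0643c06c1a0e41804c120441404c120541003c2a0a42c02c0e0b42800c220846401c020846006c1a0741c06c3a0641804c120541404c120441002c2a1340c03c4a1244800c460044401c220044006c3a0643c06c1a0e41804c120441404c120545002c6a0b42c03c2a0a42801c020842400c22084e006c3a0741c06c3a0641804c120541404c120445003c6a0340c02c0a0240801c060040400c020060006c1a0643c06c1a0e41804c120441404c120541002c4a0b42c03c0a0a42801c460842400c060842006c1a0e43c06c1a0641804c120541404c122d4b003c4a1258c02c2a0244801c220040400c46214c006c1a0643c06c3a0e41804c120441404c120541003c0a0a42c02c4a0b42800c060846401c460846006c1a0e43c06c3a0641804c120541404c122d4b002c0a0258c03c6a1240800c020044401c062148006c3a0641c06c1a0741804c122d41404c12054b003c2a0a42c02c0e0b42800c220846401c020846006c3a0e43c06c3a0641804c120541404c122d4b002c2a0240c03c4a0344800c462144401c222154006c1a0641c06c1a0741804c122d41404c12054b002c0e0b42c03c2a0a42801c020842400c220842006c1a0e43c06c3a0641804c120541404c122d4b003c0e1240c02c0a1340801c062140400c022150006c1a0641c06c3a0741804c122d41404c12054b002c4a0b42c03c0a0a42801c460842400c06084e006c1a0741c0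6c3a0641804c120541404c120441003c4a0348c02c2a1344801c222140400c46004c006c1a0641c06c1a0741804c122d41404c12054b003c0a0a42c02c4a0b42800c060846401c460846006c1a0741c06c1a0641804c120541404c120441002c0a1348c03c0e0340800c022144401c060048006c3a0643c06c3a0e41804c120441404c120545003c2a0a42c02c6a0b42800c220846401c020846006c3a0741c06c1a0641804c120541404c120445002c2a1340c03c4a1244800c460044401c220044006c1a0643c06c3a0e41804c120441404c120541002c0e0b42c03c2a0a42801c020842400c220842006c1a0741c06c1a0641804c120541404c120441003c0e0340c02c0a0240801c060040400c0200400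
/-- Conjugating elements. -/
def CO : ℕ := 0x8012084410c84080430084b1091740c4a098069c8910500304814080219cc12068030503149004184112098708010080640481308030410440298f4900100c110801008273080910481249009088031467341c1435186084464a85104812070d408c0365c15028157cc90408d405672028090c413350091240300d8622012096e142449096e1220880180310403008010040108672404030081200401048023542365c021400c40c22e2883010026602210c049cc0120c981400201cd59c8014880844450354024a673028020300c08425ba48d084250300c1080a4881108a724888008821b840208002084900c802018050898741c80018d6018590158708c9c0180514401210440c480084424401304c842e080110031040b08a72200804906040441490a02008000c0b61c11089872008008ae161c429c1872008000801208210584326010008122081d004830409800801dd8110040104410004010c018048010401100401b8491040442108441044084451101021084110014a02104012090120081109011050104a005b84010381304d860501201cd703b67102724e0149c80d35013008919cc1201a72354d4008019c811140019c8232044112186404417eae9104814204810404014050800200812018d4014050101100821350041280300c0124002004024280300c2206002048029c02108a722609100c11dd88102c022467204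40604813014059cc02014050340d014054a02c01405b8491004914a40200401084084880108a729c001218254184048cd4401c7088d9419a73525c4880205409200400c8824004065c1565c803d04010001094d520040100d4400409cae110080400401000510091200401008440040400400c88040040100001080b0080400c0a010034080b0082300c0a04c030c4150140524498014056dc14058052609101405084250080a010044802421485180240100461c0209009008104a098492724a01965d9709001488020458761c0863c08020062641161c2663c2648c0605091018130d014008122441201803bc891050050240920c063200649421024090c0210b0284180e0040161c0010410080300040161c304044165d870c42969c420408200c1322895024822601000c090d00300c140401161c15dc80300c0404410054040a58761c424a0824a0342689b4a2e54304c009870841304812088044882009404090204a4129c800088910481201c14419a741819020070500e418080441001004dd80201002040119c8040d00201002004010180330014090200040109020490209c80601002048020100448820010020c0020100461c00e08d509803e0c0440823e088b040034402a1080c2c41908041354d4404417cc1014881350d50800001405010042800a01004014050100408024010040800508010490d400c10490130409108003080002440708c060c00661d9706491000062700661c0004011208110c0100281004410108102c41904003224290040102008004012248900401020080040120421040000140300810204810001001403040000280920c10340d6404420284310cd64604269d870c00961c1005000488517e80961c00048140c000148070841065cd6414144a41b040910a08c08400494190001008400000004880008800b84100c000618110180061c0000187044990181361c1c0898724412000009c800000000509145c000c00000000204210000000000000002048100000000000000000000000000000000000000009c8000000000000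
/-- `Φ (RH i) * Φ (CO i) = Φ (CO i) * Φ i` -/
theorem RH_chk : allB (fun i => fr (lk RH i) fun r => fr (lk CO i) fun c => Nat.beq (mulS r c) (mulS c i)) 1024
    = true := by decide +kernel

/-- The indices commute. -/
noncomputable def com (i j : ℕ) : Bool := Nat.beq (mulS i j) (mulS j i)

/-- The involutions conjugate to `t`. -/
def DM : ℕ := 0x100050001000270010041000100612001000140010032040100010401001510010005000100205201004100010043020100014001001026010001040100373201000500010002700100410001006120010001400100320401000104010015100100050001002052010041000100430201000140010010260100010401003732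
/-- The other involutions. -/
def NM : ℕ := 0x20001000000100002000000000004100000004000001000000005000000005000000100002010000000000000200410020000400020100002000500002000500200010000001000020000000000041000000040000010000000050000000050000001000020100000000000002004100200004000201000020005000020004

theorem inv_chk : allB (fun i => imp (Nat.beq (lk SQ i) 0) (or2 (Nat.beq i 0) (or2 (tb DM i) (tb NM i)))) 1024
    = true := by decide +kernel

theorem NM_sq_chk : allB (fun i => imp (tb NM i) (an (Nat.beq (lk SQ i) 0) (nt (Nat.beq i 0)))) 1024 = true := by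
  decide +kernel

/-- `t` fixes no vector. -/
theorem t_free_chk : allB (fun x => nt (Nat.beq (appX 8 x) x)) 552 = true := by decide +kernel

/-- `v` fixes a vector. -/
theorem v_fix_chk : Nat.beq (appX 512 21) 21 = true := by decide +kernel

/-- `Φ i * wd w = wd w * Φ j`, checked on the six base points. -/
noncomputable def cjc (i : ℕ) (w : List ℕ) (j : ℕ) : Bool :=
  faL (fun b => Nat.beq (fr (evW w b) (appX i)) (evW w (appX j b))) [120, 462, 5, 183, 387, 0]

/-- Words conjugating the representatives in `DM` to `t`. -/
def DL : List (ℕ × List ℕ) := [(1, [7,6,3,6,3,2,6,4,3,6,3,2,5,4,6,4,5,7]), (4, [7,7]), (8, []), (9, [3,4,5,4,6,4,3,5,1,3,2,6,4,3,6,3,2,5,4,6,4,5,7]), (10, [2,5,4,6,4,5,3,1,6,3,6,7,7,2,5,4,6,4,5,7]), (12, [7]), (13, [6,3,6,3,2,6,4,3,6,3,2,5,4,6,4,5,7]), (24, [3,4,5,4,6,4,3,5,6,3,6,0,7,3,2,6,4,3,6,3,2,5,4,6,4,5,7,7]), (34, [2,5,4,6,4,5,7,7,3,6,3,6,7,7,2,5,4,6,4,5,7]), (40, [7,2,5,4,6,4,5,3,1,6,3,6,7,7,2,5,4,6,4,5,7])]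
/-- Words conjugating the representatives in `NM` to `v`. -/
def NL : List (ℕ × List ℕ) := [(2, [3,6,1,4,6]), (17, [1,6,4,6,7,6,4,6]), (36, [3,7,5,6,4,6]), (72, [5,7,7,6,4,6]), (128, [5,6,4,6]), (256, [3]), (512, [])]

theorem DL_chk : faL (fun e => an (Nat.ble (Nat.succ e.1) 1024) (cjc e.1 e.2 8)) DL = true := by decide +kernel
theorem NL_chk : faL (fun e => an (Nat.ble (Nat.succ e.1) 1024) (cjc e.1 e.2 512)) NL = true := by decide +kernel
theorem DM_chk : allB (fun i => imp (tb DM i) (exL (fun e => Nat.beq e.1 (lk RH i)) DL)) 1024 = true := by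
  decide +kernel
theorem NM_chk : allB (fun i => imp (tb NM i) (exL (fun e => Nat.beq e.1 (lk RH i)) NL)) 1024 = true := by
  decide +kernel

/-- `v` is central, products with `v`. -/
theorem Fc_chk : allB (fun i => an (com 512 i) (imp (tb NM i) (or2 (Nat.beq i 512) (tb NM (mulS 512 i))))) 1024
    = true := by decide +kernel

/-- Words centralising `v` and conjugating the representatives in `NM` (not `v`) to `w`. -/
def F1L : List (ℕ × List ℕ) := [(2, [4,3,4,5,4,6,4,3,5,6,3,6,3,2,4,3,6,3,6,7,3,2,5,4,6,4,3,5,7,7,1,6,3,6,3,2,4,3,5,3,4,6,4,5,4,3,5,6,4,3,6,3,7,7,5,4,6,4,5,7,7,4,7,7,3,6,1,4,6]), (17, [3,4,5,4,6,4,3,5,1,3,2,4,3,6,3,6,3,7,7,5,4,6,4,5,7,7,4,7,7,3,6,1,4,6,7,7,6,3,6,3,4,2,3,6,3,6]), (36, [1,2,5,4,6,4,5,7,7,6,3,6,5,3,4,6,4,5,4,3,5,6,4,3,6,3,7,7,5,4,6,4,5,7,7,4,7,7,3,6,1,4,6]), (72, [4,7,7,6,3,6,3,4,2,3,6,3,6]), (128, [6,3,6,3,4,2,3,6,3,6]), (256, [])]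

theorem F1L_chk : faL (fun e => an (Nat.ble (Nat.succ e.1) 1024) (an (cjc 512 e.2 512) (cjc e.1 e.2 256))) F1L
    = true := by decide +kernel
theorem F1_chk : allB (fun i => imp (tb NM i) (or2 (Nat.beq i 512) (exL (fun e => Nat.beq e.1 (lk RH i)) F1L))) 1024
    = true := by decide +kernel

/-- Representatives `c` in `C_S(W) - W` with words conjugating `v, w, c` to `Y3`. -/
def F2L : List (ℕ × List ℕ × ℕ × ℕ × ℕ) := [(2, [3], 256, 512, 640), (36, [3,7], 256, 512, 128), (72, [7,7], 512, 256, 640), (128, [], 512, 256, 128)]

/-- `i < 1024` is a multiple of `n`. -/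
noncomputable def mul0 (n i : ℕ) : Bool := an (Nat.ble (Nat.succ i) 1024) (Nat.beq (Nat.mod i n) 0)

theorem F2L_chk : faL (fun e => an (Nat.ble (Nat.succ e.1) 1024) (an (cjc 512 e.2.1 e.2.2.1)
    (an (cjc 256 e.2.1 e.2.2.2.1) (an (cjc e.1 e.2.1 e.2.2.2.2)
    (an (mul0 128 e.2.2.1) (an (mul0 128 e.2.2.2.1) (mul0 128 e.2.2.2.2))))))) F2L = true := by decide +kernel
theorem F2_chk : allB (fun i => imp (tb NM i) (imp (Nat.beq (Nat.mod i 2) 0) (imp (nt (Nat.beq (Nat.mod i 256) 0))
    (exL (fun e => Nat.beq e.1 (lk RH i)) F2L)))) 1024 = true := by decide +kernel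

/-- `C_S(W)` consists of the even indices, `C_S(Y3)` of the multiples of 8. -/
theorem even_chk : allB (fun i => an (imp (com i 256) (Nat.beq (Nat.mod i 2) 0))
    (an (imp (Nat.beq (Nat.mod i 2) 0) (com i 256))
    (an (imp (Nat.beq (Nat.mod i 8) 0) (com i 128))
    (imp (an (com i 256) (com i 128)) (Nat.beq (Nat.mod i 8) 0))))) 1024 = true := by decide +kernel

/-! ### Elements of order 4 -/

/-- representatives `r` of order 4 with `a` in `DM`, `b` in `NM` commuting with `r` -/
def FDL : List (ℕ × ℕ × ℕ) := [(6, 8, 512), (14, 8, 512), (16, 9, 256), (25, 9, 512), (32, 10, 128), (42, 4, 512), (44, 12, 2), (64, 4, 128), (68, 4, 256), (70, 104, 512), (73, 4, 128), (74, 10, 256), (77, 4, 384), (80, 9, 128), (96, 10, 128), (100, 168, 256), (106, 4, 256), (133, 1, 384), (140, 1, 256), (181, 56, 17), (192, 5, 128), (224, 12, 2), (320, 1, 128), (396, 8, 256)]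
/-- the other representatives, conjugate to elements of the classes in `FDL` -/
def BDL : List (ℕ × List ℕ × ℕ) := [(176, [3,4,2,3,5,4,6,4,5,2,1,5,3,4,6,4,5,4,3,4,5,6,4,3,6,3,2,4,3,6,3,6], 586), (19, [4,3,7,5,6,4,6,1,6,4,1,6,3,7,4,7,5,4,6,4,5,7,3,6,3,6,7,7], 821)]

theorem FDL_chk : faL (fun e => an (mul0 1 e.1) (an (mul0 1 e.2.1) (an (mul0 1 e.2.2)
    (an (tb DM e.2.1) (an (com e.2.1 e.1) (an (tb NM e.2.2) (an (com e.2.2 e.1)
    (an (nt (Nat.beq e.2.2 (lk SQ e.1))) (tb NM (lk SQ e.1)))))))))) FDL = true := by decide +kernel
theorem BDL_chk : faL (fun e => an (mul0 1 e.1) (an (mul0 1 e.2.2) (an (cjc e.1 e.2.1 e.2.2)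
    (exL (fun f => Nat.beq f.1 (lk RH e.2.2)) FDL)))) BDL = true := by decide +kernel
theorem FD_chk : allB (fun i => imp (an (nt (Nat.beq (lk SQ i) 0)) (Nat.beq (lk SQ (lk SQ i)) 0))
    (or2 (exL (fun f => Nat.beq f.1 (lk RH i)) FDL) (exL (fun f => Nat.beq f.1 (lk RH i)) BDL))) 1024 = true := by
  decide +kernel

/-! ### Elements of `C_S(W)` with square in `W` -/

/-- representatives with commuting `a` in `DM`, `b` in `NM`, in `C_S(W)` -/
def GBL : List (ℕ × ℕ × ℕ) := [(6, 8, 38), (14, 8, 36), (32, 10, 128), (42, 4, 36), (44, 12, 2), (64, 4, 128), (68, 4, 200), (70, 104, 72), (74, 10, 134), (96, 10, 128), (100, 168, 36), (106, 4, 36), (140, 8, 38), (192, 12, 128), (224, 12, 2), (320, 4, 128), (396, 8, 38)]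

theorem GBL_chk : faL (fun e => an (mul0 2 e.1) (an (mul0 2 e.2.1) (an (mul0 2 e.2.2)
    (an (tb DM e.2.1) (an (com e.2.1 e.1) (an (tb NM e.2.2) (an (com e.2.2 e.1)
    (nt (Nat.beq (Nat.mod e.2.2 256) 0))))))))) GBL = true := by decide +kernel

/-- `i` is in `C_S(W)`, its square is in `W - 1`. -/
noncomputable def isG (i : ℕ) : Bool :=
  an (Nat.beq (Nat.mod i 2) 0) (fr (lk SQ i) fun s => an (nt (Nat.beq s 0)) (Nat.beq (Nat.mod s 256) 0))

theorem GB_chk : allB (fun i => imp (isG i) (exL (fun e => Nat.beq e.1 (lk RH i)) GBL)) 1024 = true := by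
  decide +kernel

/-- pairs `(a, b)` and involutions for each representative -/
def GCL : List (ℕ × List (ℕ × ℕ) × List ℕ) := [
  (6, [(8, 38)], [8,38,40,264,294,296,520,550,552,776,806,808]),
  (14, [(8, 72), (8, 98), (34, 72), (34, 98), (168, 36), (196, 36)], [8,34,36,72,98,168,174,196,232,264,290,292,328,354,424,430,452,488,520,546,548,584,610,680,686,708,744,776,802,804,840,866,936,942,964,1000]),
  (32, [(10, 128), (12, 128), (10, 134), (12, 134), (76, 38), (102, 38)], [10,12,38,76,102,128,134,198,234,266,268,294,332,358,384,390,454,490,522,524,550,588,614,640,646,710,746,778,780,806,844,870,896,902,966,1002]),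
  (42, [(4, 36)], [4,10,36,260,266,292,516,522,548,772,778,804]),
  (44, [(12, 2)], [2,12,34,258,268,290,514,524,546,770,780,802]),
  (64, [(4, 36), (10, 128), (4, 228), (142, 128), (196, 36), (196, 228)], [4,10,36,128,142,174,196,228,234,260,266,292,384,398,430,452,484,490,516,522,548,640,654,686,708,740,746,772,778,804,896,910,942,964,996,1002]),
  (68, [(4, 200)], [4,136,200,260,392,456,516,648,712,772,904,968]),
  (70, [(104, 72)], [72,102,104,328,358,360,584,614,616,840,870,872]),
  (74, [(10, 134)], [10,134,198,266,390,454,522,646,710,778,902,966]),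
  (96, [(10, 128)], [10,128,234,266,384,490,522,640,746,778,896,1002]),
  (100, [(168, 36)], [36,168,232,292,424,488,548,680,744,804,936,1000]),
  (106, [(4, 36), (4, 200), (10, 134), (136, 134), (168, 36), (198, 200)], [4,10,36,134,136,168,198,200,232,260,266,292,390,392,424,454,456,488,516,522,548,646,648,680,710,712,744,772,778,804,902,904,936,966,968,1000]),
  (140, [(8, 38), (8, 98), (40, 200), (66, 98), (76, 38), (198, 200)], [8,38,40,66,76,98,198,200,232,264,294,296,322,332,354,454,456,488,520,550,552,578,588,610,710,712,744,776,806,808,834,844,866,966,968,1000]),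
  (192, [(12, 128)], [12,76,128,268,332,384,524,588,640,780,844,896]),
  (224, [(12, 2), (12, 128), (66, 2), (34, 98), (66, 98), (142, 128)], [2,12,34,66,76,98,128,142,174,258,268,290,322,332,354,384,398,430,514,524,546,578,588,610,640,654,686,770,780,802,834,844,866,896,910,942]),
  (320, [(4, 36), (10, 128), (4, 228), (142, 128), (196, 36), (196, 228)], [4,10,36,128,142,174,196,228,234,260,266,292,384,398,430,452,484,490,516,522,548,640,654,686,708,740,746,772,778,804,896,910,942,964,996,1002]),
  (396, [(8, 38), (8, 98), (40, 200), (66, 98), (76, 38), (198, 200)], [8,38,40,66,76,98,198,200,232,264,294,296,322,332,354,454,456,488,520,550,552,578,588,610,710,712,744,776,806,808,834,844,866,966,968,1000])]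

/-- the pairs are correct -/
noncomputable def gc1 (r : ℕ) (P : List (ℕ × ℕ)) : Bool :=
  faL (fun e => an (mul0 2 e.1) (an (mul0 2 e.2) (an (tb DM e.1) (an (com e.1 r) (an (tb NM e.2) (an (com e.2 r)
    (nt (Nat.beq (Nat.mod e.2 256) 0)))))))) P

/-- the list of involutions is complete -/
noncomputable def gc2 (r : ℕ) (I : List ℕ) : Bool :=
  allB (fun k => imp (Nat.beq (lk SQ k) 0) (imp (Nat.beq (Nat.mod k 2) 0) (imp (nt (Nat.beq (Nat.mod k 256) 0))
    (imp (com k r) (exL (fun e => Nat.beq e k) I))))) 1024

/-- the second element -/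
noncomputable def gc3 (r : ℕ) (P : List (ℕ × ℕ)) (I : List ℕ) : Bool :=
  allB (fun j => imp (isG j) (imp (nt (Nat.beq (lk SQ j) (lk SQ r))) (imp (com r j)
    (or2 (exL (fun e => an (com e.1 j) (com e.2 j)) P)
      (faL (fun k => nt (Nat.beq (lk SQ (mulS k j)) 0)) I))))) 1024

theorem GCL_chk1 : faL (fun e => an (mul0 2 e.1) (gc1 e.1 e.2.1)) GCL = true := by decide +kernel
theorem GCL_chk2 : faL (fun e => gc2 e.1 e.2.2) GCL = true := by decide +kernel
theorem GCL_chk3 : faL (fun e => gc3 e.1 e.2.1 e.2.2) GCL = true := by decide +kernel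
theorem GC_chk : allB (fun i => imp (isG i) (exL (fun e => Nat.beq e.1 (lk RH i)) GCL)) 1024 = true := by
  decide +kernel

/-! ### The subgroups `W`, `Y3`, `K3` -/

/-- the multiples of `n` are closed under multiplication -/
noncomputable def clo (n c : ℕ) : Bool :=
  allB (fun a => allB (fun b => Nat.beq (Nat.mod (mulS (Nat.mul n a) (Nat.mul n b)) n) 0) c) c

theorem clo_W : clo 256 4 = true := by decide +kernel
theorem clo_Y3 : clo 128 8 = true := by decide +kernel
theorem clo_K3 : clo 16 64 = true := by decide +kernel

/-- the element with left multiplication table `L`, index `x` and inverse `y` normalises the multiples of `n` -/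
noncomputable def nor (n c L x y : ℕ) : Bool :=
  an (Nat.beq (mulS x y) 0) (allB (fun a => Nat.beq (Nat.mod (mulS (lk L (Nat.mul n a)) y) n) 0) c)

theorem nor_W_0 : nor 256 4 L0 1 1 = true := by decide +kernel
theorem nor_W_1 : nor 256 4 L1 2 2 = true := by decide +kernel
theorem nor_W_2 : nor 256 4 L2 4 4 = true := by decide +kernel
theorem nor_W_3 : nor 256 4 L3 8 8 = true := by decide +kernel
theorem nor_W_4 : nor 256 4 L4 16 144 = true := by decide +kernel
theorem nor_W_5 : nor 256 4 L5 32 288 = true := by decide +kernel
theorem nor_W_6 : nor 256 4 L6 64 576 = true := by decide +kernel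
theorem nor_W_7 : nor 256 4 L7 128 128 = true := by decide +kernel
theorem nor_W_8 : nor 256 4 L8 256 256 = true := by decide +kernel
theorem nor_W_9 : nor 256 4 L9 512 512 = true := by decide +kernel
theorem nor_Y3_0 : nor 128 8 L0 1 1 = true := by decide +kernel
theorem nor_Y3_1 : nor 128 8 L1 2 2 = true := by decide +kernel
theorem nor_Y3_2 : nor 128 8 L2 4 4 = true := by decide +kernel
theorem nor_Y3_3 : nor 128 8 L3 8 8 = true := by decide +kernel
theorem nor_Y3_4 : nor 128 8 L4 16 144 = true := by decide +kernel
theorem nor_Y3_5 : nor 128 8 L5 32 288 = true := by decide +kernel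
theorem nor_Y3_6 : nor 128 8 L6 64 576 = true := by decide +kernel
theorem nor_Y3_7 : nor 128 8 L7 128 128 = true := by decide +kernel
theorem nor_Y3_8 : nor 128 8 L8 256 256 = true := by decide +kernel
theorem nor_Y3_9 : nor 128 8 L9 512 512 = true := by decide +kernel
theorem nor_K3_0 : nor 16 64 L0 1 1 = true := by decide +kernel
theorem nor_K3_1 : nor 16 64 L1 2 2 = true := by decide +kernel
theorem nor_K3_2 : nor 16 64 L2 4 4 = true := by decide +kernel
theorem nor_K3_3 : nor 16 64 L3 8 8 = true := by decide +kernel
theorem nor_K3_4 : nor 16 64 L4 16 144 = true := by decide +kernel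
theorem nor_K3_5 : nor 16 64 L5 32 288 = true := by decide +kernel
theorem nor_K3_6 : nor 16 64 L6 64 576 = true := by decide +kernel
theorem nor_K3_7 : nor 16 64 L7 128 128 = true := by decide +kernel
theorem nor_K3_8 : nor 16 64 L8 256 256 = true := by decide +kernel
theorem nor_K3_9 : nor 16 64 L9 512 512 = true := by decide +kernel

theorem W_chk : an (Nat.beq (mulS 512 256) 768) (an (Nat.beq (mulS 256 512) 768) (an (Nat.beq (mulS 512 128) (mulS 128 512))
    (Nat.beq (mulS 256 128) (mulS 128 256)))) = true := by decide +kernel
theorem Y3_chk : allB (fun a => fr (Nat.mul 128 a) fun i => an (or2 (Nat.beq (Nat.mod i 256) 0)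
    (Nat.beq (Nat.mod (mulS 128 i) 256) 0)) (or2 (Nat.beq i 0) (tb NM i))) 8 = true := by decide +kernel
theorem Y3_comm_chk : allB (fun a => allB (fun b => com (Nat.mul 128 a) (Nat.mul 128 b)) 8) 8 = true := by
  decide +kernel
theorem K3_comm_chk : allB (fun a => allB (fun b => com (Nat.mul 16 a) (Nat.mul 16 b)) 64) 64 = true := by
  decide +kernel
theorem K3_chk : allB (fun a => fr (Nat.mul 16 a) fun i => an (Nat.beq (Nat.mod (lk SQ i) 128) 0)
    (an (imp (Nat.beq (lk SQ i) 0) (Nat.beq (Nat.mod i 128) 0)) (Nat.beq (lk SQ (mulS 8 i)) 0))) 64 = true := by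
  decide +kernel
theorem P3_chk : allB (fun a => fr (Nat.mul 8 a) fun i => an (Nat.beq (Nat.mod (lk SQ i) 128) 0)
    (or2 (Nat.beq (Nat.mod i 16) 0) (or2 (tb DM i) (Nat.beq (Nat.mod (mulS 72 i) 128) 0)))) 128 = true := by
  decide +kernel
theorem e0_chk : allB (fun a => fr (Nat.mul 128 a) fun i => an (com 72 i) (tb NM (mulS 72 i))) 8 = true := by
  decide +kernel
theorem misc_chk : an (Nat.beq (lk SQ 72) 0) (an (nt (Nat.beq (lk SQ 16) 0)) (an (tb DM 4) (an (tb DM (mulS 8 4))
    (an (com 8 4) (an (tb DM 8) (an (Nat.beq (lk SQ 24) 0) (nt (Nat.beq (mulS 24 (mulS 72 24)) (mulS 8 (mulS 72 8)))))))))) = true := by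
  decide +kernel
theorem d_chk : an (nt (Nat.beq (Nat.mod (mulS 72 24) 128) 0)) (nt (Nat.beq (Nat.mod 24 128) 0)) = true := by
  decide +kernel

end Cfsg.Agent.CoThreeStd.SylTabs
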